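import Cfsg.Agent.H13.CF2
/-! Elementary abelian 2-groups enumerated by bit masks, and their automorphisms given by columns. -/
set_option autoImplicit false
namespace H13
noncomputable section
open MulAction Cfsg H27

/-- additive automorphisms -/
abbrev AL (V : Type*) [AddCommGroup V] := V ≃ₗ[ℤ] V
instance finite_AL {V : Type*} [AddCommGroup V] [Finite V] : Finite (AL V) :=
  Finite.of_injective (fun g : AL V => (g : V → V)) DFunLike.coe_injective

theorem bit_ind (P : Nat → Prop) (h0 : P 0) (hx : ∀ a b, P a → P b → P (a ^^^ b)) {d : Nat} (hk : ∀ k < d, P (2 ^ k)) :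
    ∀ a < 2 ^ d, P a := by
  induction d with
  | zero => intro a ha; rwa [Nat.lt_one_iff.1 ha]
  | succ d ih =>
    intro a ha
    have ih := ih fun k h => hk k (by omega)
    have lt : ∀ b < 2 ^ (d + 1), b.testBit d = false → b < 2 ^ d := fun b hb h => Nat.lt_pow_two_of_testBit b fun i hi => by
      rcases hi.eq_or_lt with rfl | hi
      exacts [h, Nat.testBit_lt_two_pow (hb.trans_le (Nat.pow_le_pow_right two_pos hi))]
    cases h : a.testBit d
    · exact ih a (lt a ha h)
    · have := hx _ _ (ih (a ^^^ 2 ^ d) (lt _ (Nat.xor_lt_two_pow ha (Nat.pow_lt_pow_right one_lt_two d.lt_succ_self))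
        (by simp [h]))) (hk d d.lt_succ_self)
      rwa [Nat.xor_xor_cancel_right] at this
theorem xsum_zero (l : List Nat) : xsum l 0 = 0 := by
  have := xsum_xor l 0 0; rwa [Nat.xor_self, Nat.xor_self] at this
theorem xsum_pow (l : List Nat) (k : Nat) : xsum l (2 ^ k) = nth 0 l k := by
  rw [nth_eq]
  induction l generalizing k with
  | nil => rfl
  | cons b l ih =>
    cases k with
    | zero => simp [xsum_cons, xsum_zero]
    | succ k =>
      rw [xsum_cons, pow_succ, Nat.mul_mod_left, Nat.shiftRight_one, Nat.mul_div_cancel _ two_pos, ih]; simp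

structure BE (V : Type*) [AddCommGroup V] (d : Nat) where
  e : Nat → V
  xor : ∀ a b, e (a ^^^ b) = e a + e b
  surj : ∀ v, ∃ a < 2 ^ d, e a = v
  inj : ∀ a < 2 ^ d, e a = 0 → a = 0

def linChk (d n T : Nat) (A : List Nat) (N : Net) : Bool := and' (N.valid n) (forceL A fun A =>
  allN n fun i => Nat.beq (xsum A (ent d T i)) (ent d T (N.fn i)))
def fulChk (d : Nat) (A : List Nat) (N : Net) : Bool := force (Nat.shiftLeft 1 d) fun n => and' (N.valid n) (forceL A fun A =>
  allN n fun i => Nat.beq (xsum A i) (N.fn i))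
def spChk (d T : Nat) (Bs C : List Nat) : Bool := forceL (mapL (ent d T) Bs) fun L =>
  allN d fun k => Nat.beq (xsum L (nth 0 C k)) (Nat.shiftLeft 1 k)

namespace BE
variable {V : Type*} [AddCommGroup V] {d : Nat} (E : BE V d) {G : Type*} [Group G] [DistribMulAction G V]
theorem zero : E.e 0 = 0 := by have := E.xor 0 0; rw [Nat.xor_self] at this; exact left_eq_add.1 this
include E in
theorem two (v : V) : v + v = 0 := by obtain ⟨a, -, rfl⟩ := E.surj v; rw [← E.xor, Nat.xor_self, E.zero]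
theorem eq_iff {a b : Nat} (ha : a < 2 ^ d) (hb : b < 2 ^ d) : E.e a = E.e b ↔ a = b :=
  ⟨fun h => Nat.xor_eq_zero_iff.1 (E.inj _ (Nat.xor_lt_two_pow ha hb) (by rw [E.xor, h, E.two])), fun h => h ▸ rfl⟩
theorem injOn : Set.InjOn E.e {j | j < 2 ^ d} := fun _ ha _ hb => (E.eq_iff ha hb).1
theorem tabU : Tab Set.univ (2 ^ d) E.e := ⟨E.injOn, fun _ _ => trivial, fun v _ => E.surj v⟩
include E in
theorem card : Nat.card V = 2 ^ d := by rw [← E.tabU.ncard, Set.ncard_univ]
include E in
theorem finite : Finite V := Nat.finite_of_card_ne_zero (by rw [E.card]; positivity)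
theorem forall_iff {P : V → Prop} : (∀ v, P v) ↔ ∀ a < 2 ^ d, P (E.e a) :=
  ⟨fun h _ _ => h _, fun h v => by obtain ⟨a, ha, rfl⟩ := E.surj v; exact h a ha⟩
theorem top_of {K : AddSubgroup V} (h : ∀ k < d, E.e (2 ^ k) ∈ K) (v : V) : v ∈ K :=
  E.forall_iff.2 (bit_ind (fun a => E.e a ∈ K) (E.zero ▸ K.zero_mem) (fun _ _ a b => E.xor _ _ ▸ K.add_mem a b) h) v
theorem xsum_mem {K : AddSubgroup V} {l : List Nat} (h : ∀ b ∈ l, E.e b ∈ K) (a : Nat) : E.e (xsum l a) ∈ K :=
  xsum_ind (fun a => E.e a ∈ K) (E.zero ▸ K.zero_mem) (fun _ _ a b => E.xor _ _ ▸ K.add_mem a b) l h a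

/-- `g` has the columns `A` -/
def Cols (g : G) (A : List Nat) : Prop := ∀ a < 2 ^ d, g • E.e a = E.e (xsum A a)
theorem cols_of {g : G} {A : List Nat} (h : ∀ k < d, g • E.e (2 ^ k) = E.e (nth 0 A k)) : E.Cols g A :=
  bit_ind (fun a => g • E.e a = E.e (xsum A a)) (by rw [xsum_zero, E.zero, smul_zero])
    (fun a b u v => by rw [xsum_xor, E.xor, E.xor, smul_add, u, v]) fun k hk => by rw [xsum_pow, h k hk]
def tab (T i : Nat) : V := E.e (ent d T i)
variable {E}
theorem Cols.acts {g : G} {A : List Nat} (h : E.Cols g A) {n T : Nat} {N : Net} (c : linChk d n T A N = true) :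
    Acts n (E.tab T) g N := by
  simp only [linChk, and'_eq, Bool.and_eq_true, forceL_eq, allN_iff, beq_iff] at c
  exact ⟨Net.ok_of_valid c.1, fun i hi => by rw [tab, h _ (ent_lt _ _ _), c.2 i hi, tab]⟩
theorem Cols.ful {g : G} {A : List Nat} (h : E.Cols g A) {N : Net} (c : fulChk d A N = true) : Acts (2 ^ d) E.e g N := by
  simp only [fulChk, force_eq, and'_eq, Bool.and_eq_true, forceL_eq, allN_iff, beq_iff] at c
  rw [show Nat.shiftLeft 1 d = 2 ^ d from Nat.one_shiftLeft d] at c
  exact ⟨Net.ok_of_valid c.1, fun i hi => by rw [h _ hi, c.2 i hi]⟩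
theorem actsL_cols {gs : List G} {As : List (List Nat)} (h : List.Forall₂ E.Cols gs As) {n T : Nat} {Ns : List Net}
    (c : all2 (linChk d n T) As Ns = true) : ActsL n (E.tab T) gs Ns := by
  rw [all2_iff] at c
  induction h generalizing Ns with
  | nil => cases c; exact .nil
  | cons a _ ih => cases c with | cons u v => exact .cons (a.acts u) (ih v)
theorem actsL_ful {gs : List G} {As : List (List Nat)} (h : List.Forall₂ E.Cols gs As) {Ns : List Net}
    (c : all2 (fulChk d) As Ns = true) : ActsL (2 ^ d) E.e gs Ns := by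
  rw [all2_iff] at c
  induction h generalizing Ns with
  | nil => cases c; exact .nil
  | cons a _ ih => cases c with | cons u v => exact .cons (a.ful u) (ih v)
variable (E)
/-- the table entries with indices in `Bs` generate -/
def Sp (T : Nat) (Bs : List Nat) : Prop := ∀ K : AddSubgroup V, (∀ i ∈ Bs, E.tab T i ∈ K) → ∀ v, v ∈ K
theorem sp_of {T : Nat} {Bs : List Nat} (C : List Nat) (c : spChk d T Bs C = true) : E.Sp T Bs := fun K h => by
  simp only [spChk, forceL_eq, allN_iff, beq_iff, mapL_eq] at c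
  refine E.top_of fun k hk => ?_
  rw [← Nat.one_shiftLeft, ← show _ = 1 <<< k from c k hk]
  exact E.xsum_mem (List.forall_mem_map.2 h) _
theorem tab_inj {n T : Nat} (J : Nat) (h : (allN n fun j => Nat.beq (ent d J (ent d T j)) j) = true) :
    Set.InjOn (E.tab T) {j | j < n} := fun i hi j hj u => by
  simp only [allN_iff, beq_iff] at h
  rw [← h i hi, (E.eq_iff (ent_lt _ _ _) (ent_lt _ _ _)).1 u, h j hj]
variable {E}
theorem Sp.fix {T : Nat} {Bs : List Nat} (h : E.Sp T Bs) {g : G} (a : ∀ i ∈ Bs, g • E.tab T i = E.tab T i) (v : V) :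
    g • v = v := h ((DistribSMul.toAddMonoidHom V g).eqLocus (AddMonoidHom.id V)) a v
theorem Sp.faith {T : Nat} {Bs : List Nat} (h : E.Sp T Bs) (g : AL V) (a : ∀ i ∈ Bs, g • E.tab T i = E.tab T i) :
    g = 1 := LinearEquiv.ext (h.fix a)
theorem Sp.mono {T : Nat} {Bs Cs : List Nat} (h : E.Sp T Bs) (a : ∀ i ∈ Bs, i ∈ Cs) : E.Sp T Cs :=
  fun K b => h K fun i hi => b i (a i hi)
theorem Sp.faith' {T n : Nat} {Bs : List Nat} (h : E.Sp T Bs) (hn : ∀ i ∈ Bs, i < n) (g : AL V)
    (a : ∀ i < n, g • E.tab T i = E.tab T i) : g = 1 := h.faith g fun i hi => a i (hn i hi)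

variable (E)
def ix (v : V) : Nat := (E.surj v).choose
theorem ix_lt (v : V) : E.ix v < 2 ^ d := (E.surj v).choose_spec.1
theorem e_ix (v : V) : E.e (E.ix v) = v := (E.surj v).choose_spec.2
theorem ix_e {a : Nat} (h : a < 2 ^ d) : E.ix (E.e a) = a := (E.eq_iff (E.ix_lt _) h).1 (E.e_ix _)
def lin (A : List Nat) : V →+ V := AddMonoidHom.mk' (fun v => E.e (xsum A (E.ix v))) fun v w => by
  rw [← E.xor, ← xsum_xor, ← (E.eq_iff (Nat.xor_lt_two_pow (E.ix_lt v) (E.ix_lt w)) (E.ix_lt _)).1
    (by rw [E.xor, E.e_ix, E.e_ix, E.e_ix])]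
theorem lin_e (A : List Nat) {a : Nat} (h : a < 2 ^ d) : E.lin A (E.e a) = E.e (xsum A a) := by
  change E.e (xsum A (E.ix _)) = _; rw [E.ix_e h]
open Classical in
/-- the automorphism with the columns `A` -/
def el (A : List Nat) : AL V :=
  if h : Function.Bijective (E.lin A) then (AddEquiv.ofBijective _ h).toIntLinearEquiv else 1
variable {E}
theorem el_cols {A : List Nat} (h : Function.Surjective (E.lin A)) : E.Cols (E.el A) A := fun a ha => by
  have := E.finite
  rw [el, dif_pos (Finite.surjective_iff_bijective.1 h)]; exact E.lin_e A ha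
theorem Sp.cols {T n : Nat} {Bs : List Nat} (h : E.Sp T Bs) (hn : ∀ i ∈ Bs, i < n) {A : List Nat} {N : Net}
    (c : linChk d n T A N = true) : E.Cols (E.el A) A := by
  simp only [linChk, and'_eq, Bool.and_eq_true, forceL_eq, allN_iff, beq_iff] at c
  have ok := Net.ok_of_valid c.1
  refine el_cols (h (E.lin A).range fun i hi => ⟨E.tab T (N.rev.fn i), ?_⟩)
  rw [tab, E.lin_e _ (ent_lt _ _ _), c.2 _ (Net.fn_lt (Net.ok_rev ok) (hn i hi)), Net.fn_fn_rev ok, tab]
theorem Sp.colsL {T n : Nat} {Bs : List Nat} (h : E.Sp T Bs) (hn : ∀ i ∈ Bs, i < n) {As : List (List Nat)}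
    {Ns : List Net} (c : all2 (linChk d n T) As Ns = true) : List.Forall₂ E.Cols (As.map E.el) As := by
  rw [all2_iff] at c
  induction c with
  | nil => exact .nil
  | cons a _ ih => exact .cons (h.cols hn a) ih
theorem Sp.actsL {T n : Nat} {Bs : List Nat} (h : E.Sp T Bs) (hn : ∀ i ∈ Bs, i < n) {As : List (List Nat)}
    {Ns : List Net} (c : all2 (linChk d n T) As Ns = true) : ActsL n (E.tab T) (As.map E.el) Ns :=
  actsL_cols (h.colsL hn c) c
theorem Cols.ext {g k : AL V} {A : List Nat} (a : E.Cols g A) (b : E.Cols k A) : g = k :=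
  LinearEquiv.ext (E.forall_iff.2 fun i hi => (a i hi).trans (b i hi).symm)
end BE

end
end H13
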