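import Cfsg.Agent.H13.Syl

/-! Bartels' theorem for elements of prime power order: the elements strongly conjugate to `x`
generate a subnormal subgroup. -/

set_option autoImplicit false

namespace H13.Bart

universe u

section Basic

variable {G H : Type*} [Group G] [Group H]

/-- The subgroup generated by the elements conjugate to `x` inside `⟨x, y⟩`. -/
def SC (x : G) : Subgroup G :=
  Subgroup.closure {y | ∃ g ∈ Subgroup.closure ({x, y} : Set G), y = g * x * g⁻¹}

theorem mem_SC {x y g : G} (hg : g ∈ Subgroup.closure ({x, y} : Set G)) (h : y = g * x * g⁻¹) :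
    y ∈ SC x := Subgroup.subset_closure ⟨g, hg, h⟩

theorem self_mem (x : G) : x ∈ SC x := mem_SC (Subgroup.one_mem _) (by simp)

theorem SC_le {x : G} {K : Subgroup G}
    (h : ∀ y g, g ∈ Subgroup.closure ({x, y} : Set G) → y = g * x * g⁻¹ → y ∈ K) : SC x ≤ K := by
  rw [SC, Subgroup.closure_le]
  rintro y ⟨g, hg, e⟩
  exact h y g hg e

theorem map_pair (f : G →* H) (x y : G) :
    (Subgroup.closure ({x, y} : Set G)).map f = Subgroup.closure ({f x, f y} : Set H) := by
  rw [MonoidHom.map_closure, Set.image_pair]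

theorem map_le (f : G →* H) (x : G) : (SC x).map f ≤ SC (f x) := by
  rw [Subgroup.map_le_iff_le_comap]
  refine SC_le fun y g hg e => ?_
  refine mem_SC (g := f g) ?_ (by rw [e]; simp)
  rw [← map_pair]
  exact ⟨g, hg, rfl⟩

theorem map_eq [Finite G] (f : G →* H) (hf : Function.Surjective f) (x : G) :
    (SC x).map f = SC (f x) := by
  refine le_antisymm (map_le f x) (SC_le fun w h hh e => ?_)
  have hex : ∃ n, ∃ y, f y = w ∧ Nat.card (Subgroup.closure ({x, y} : Set G)) = n := by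
    obtain ⟨y, hy⟩ := hf w
    exact ⟨_, y, hy, rfl⟩
  classical
  obtain ⟨y, hy, hn⟩ := Nat.find_spec hex
  rw [← hy, ← map_pair] at hh
  obtain ⟨g, hg, rfl⟩ := hh
  have h1 : f (g * x * g⁻¹) = w := by rw [e]; simp
  have h2 : Subgroup.closure ({x, g * x * g⁻¹} : Set G) ≤ Subgroup.closure ({x, y} : Set G) := by
    have hx : x ∈ Subgroup.closure ({x, y} : Set G) := Subgroup.subset_closure (by simp)
    rw [Subgroup.closure_le]
    rintro z (rfl | rfl)
    · exact hx
    · exact Subgroup.mul_mem _ (Subgroup.mul_mem _ hg hx) (Subgroup.inv_mem _ hg)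
  have h3 : Nat.find hex ≤ Nat.card (Subgroup.closure ({x, g * x * g⁻¹} : Set G)) :=
    Nat.find_min' hex ⟨_, h1, rfl⟩
  have h4 := Subgroup.eq_of_le_of_card_ge h2 (by omega)
  exact ⟨g * x * g⁻¹, mem_SC (by rw [h4]; exact hg) rfl, h1⟩

theorem mem_conj [Finite G] (g x y : G) : g * y * g⁻¹ ∈ SC (g * x * g⁻¹) ↔ y ∈ SC x := by
  have := map_eq (MulAut.conj g).toMonoidHom (MulAut.conj g).surjective x
  have e : (MulAut.conj g).toMonoidHom x = g * x * g⁻¹ := rfl
  rw [e] at this
  rw [← this]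
  constructor
  · rintro ⟨z, hz, e⟩
    have e' : g * z * g⁻¹ = g * y * g⁻¹ := e
    have : z = y := by simpa using e'
    exact this ▸ hz
  · intro h
    exact ⟨y, h, rfl⟩

theorem conj_congr [Finite G] (g : G) {x y : G} (h : SC x = SC y) :
    SC (g * x * g⁻¹) = SC (g * y * g⁻¹) := by
  ext z
  have e : z = g * (g⁻¹ * z * g) * g⁻¹ := by group
  rw [e, mem_conj, mem_conj, h]

theorem conj_eq_iff [Finite G] {g x : G} :
    SC (g * x * g⁻¹) = SC x ↔ g ∈ Subgroup.normalizer (SC x : Set G) := by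
  rw [Subgroup.mem_normalizer_iff]
  constructor
  · intro h y
    rw [← mem_conj g x y, h]
  · intro h
    ext z
    have e : z = g * (g⁻¹ * z * g) * g⁻¹ := by group
    rw [e, mem_conj, ← h]

theorem conj_of_mem [Finite G] {x y : G} (hy : y ∈ SC x) : SC (y * x * y⁻¹) = SC x :=
  conj_eq_iff.2 (Subgroup.le_normalizer hy)

theorem map_subtype {X : Subgroup G} {x : G} (hx : x ∈ X) (h : SC x ≤ X) :
    (SC (⟨x, hx⟩ : X)).map X.subtype = SC x := by
  refine le_antisymm (map_le _ _) (SC_le fun y g hg e => ?_)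
  have hy : y ∈ X := h (mem_SC hg e)
  have := map_pair X.subtype ⟨x, hx⟩ ⟨y, hy⟩
  rw [show X.subtype ⟨x, hx⟩ = x from rfl, show X.subtype ⟨y, hy⟩ = y from rfl] at this
  rw [← this] at hg
  obtain ⟨g', hg', rfl⟩ := hg
  exact ⟨⟨y, hy⟩, mem_SC hg' (Subtype.ext e), rfl⟩

theorem sylIn_subnormal [Finite G] {p : ℕ} [Fact p.Prime] {P A : Subgroup G} (hP : SylIn p P ⊤)
    (hA : A.IsSubnormal) : SylIn p (P ⊓ A) A := by
  induction hA with
  | top => simpa using hP
  | step H K hle _ hN ih =>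
    have := ih.inf_normal hle ((normal_subgroupOf_iff hle).1 hN)
    rwa [inf_assoc, inf_eq_right.2 hle] at this

/-- The conjugates of `x` with the same `SC` as a conjugate of `x` in `P`. -/
def Psi (x : G) (P : Subgroup G) : Set G :=
  {s | IsConj x s ∧ ∃ s' ∈ P, IsConj x s' ∧ SC s = SC s'}

theorem isConj_conj {x s : G} (h : IsConj x s) (g : G) : IsConj x (g * s * g⁻¹) :=
  h.trans (isConj_iff.2 ⟨g, rfl⟩)

theorem normalizer_le_St [Finite G] (x : G) (P : Subgroup G) :
    Subgroup.normalizer (P : Set G) ≤ Subgroup.normalizer (Psi x P) := by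
  have key : ∀ g ∈ Subgroup.normalizer (P : Set G), ∀ s ∈ Psi x P, g * s * g⁻¹ ∈ Psi x P := by
    rintro g hg s ⟨h1, s', h2, h3, h4⟩
    exact ⟨isConj_conj h1 g, g * s' * g⁻¹, conj_mem_of_normalizer hg h2, isConj_conj h3 g,
      conj_congr g h4⟩
  intro g hg
  rw [Subgroup.mem_set_normalizer_iff]
  refine fun s => ⟨key g hg s, fun h => ?_⟩
  have := key g⁻¹ (Subgroup.inv_mem _ hg) _ h
  simpa [mul_assoc] using this

theorem pow_of_isConj {x s : G} (h : IsConj x s) {n : ℕ} (hx : x ^ n = 1) : s ^ n = 1 := by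
  obtain ⟨g, rfl⟩ := isConj_iff.1 h
  rw [conj_pow, hx]; simp

end Basic

/-- The statement proved by induction on the order. -/
def Stmt (p : ℕ) (G : Type u) [Group G] : Prop :=
  ∀ (x : G) (k : ℕ), x ^ p ^ k = 1 → (SC x).IsSubnormal

section Step

variable {p : ℕ} [Fact p.Prime] {G : Type u} [Group G] [Finite G]
  (IH : ∀ (H : Type u) [Group H] [Finite H], Nat.card H < Nat.card G → Stmt p H)
  {x : G} {k : ℕ} (hx : x ^ p ^ k = 1)

theorem card_lt_of_ne_top {X : Subgroup G} (hX : X ≠ ⊤) : Nat.card X < Nat.card G := by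
  refine lt_of_le_of_ne (Subgroup.card_le_card_group X) fun h => hX ?_
  exact Subgroup.eq_top_of_card_eq X h

include IH hx in
theorem psi_eq {X P : Subgroup G} (hX : X ≠ ⊤) (hP : SylIn p P X) : Psi x P = Psi x X := by
  refine Set.Subset.antisymm ?_ ?_
  · rintro s ⟨h1, s', h2, h3, h4⟩
    exact ⟨h1, s', hP.le h2, h3, h4⟩
  · rintro s ⟨h1, s', h2, h3, h4⟩
    have hk : (⟨s', h2⟩ : X) ^ p ^ k = 1 := Subtype.ext (pow_of_isConj h3 hx)
    have hsn := IH X (card_lt_of_ne_top hX) ⟨s', h2⟩ k hk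
    obtain ⟨Q, hQ⟩ := (sylIn_iff hP.le).1 hP
    have h5 := sylIn_subnormal (sylIn_top Q) hsn
    obtain ⟨g, hg, hg2⟩ := h5.exists_conj_mem (self_mem _) hk
    have hg' : (g : G) ∈ SC s' :=
      map_le X.subtype ⟨s', h2⟩ (Subgroup.mem_map_of_mem X.subtype hg)
    refine ⟨h1, g * s' * (g : G)⁻¹, ?_, isConj_conj h3 _, by rw [conj_of_mem hg', h4]⟩
    have := hg2.1
    rw [hQ] at this
    exact this

include IH hx in
theorem le_St {X P : Subgroup G} (hX : X ≠ ⊤) (hP : SylIn p P X) :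
    X ≤ Subgroup.normalizer (Psi x P) := by
  rw [psi_eq IH hx hX hP]
  exact Subgroup.le_normalizer.trans (normalizer_le_St x X)

include IH hx in
theorem St_ne_top (hns : ¬ (SC x).IsSubnormal) {P : Subgroup G} (hP : IsPGroup p P) {s : G}
    (hs : s ∈ P) (hxs : IsConj x s) : Subgroup.normalizer (Psi x P) ≠ ⊤ := by
  intro htop
  have hx1 : x ≠ 1 := by
    rintro rfl
    apply hns
    have : SC (1 : G) = ⊥ := by
      rw [eq_bot_iff]
      exact SC_le fun y g _ e => by simp [e]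
    rw [this]
    exact Subgroup.IsSubnormal.bot
  have hs1 : s ≠ 1 := by
    rintro rfl
    exact hx1 (isConj_one_left.1 hxs)
  have hnt : Nontrivial P := ⟨⟨⟨s, hs⟩, 1, fun h => hs1 (congrArg Subtype.val h)⟩⟩
  obtain ⟨z, hz, hz1⟩ := SetLike.exists_of_lt (hP.bot_lt_center)
  have hz1' : (z : G) ≠ 1 := fun h => hz1 (Subgroup.mem_bot.2 (Subtype.ext h))
  have hall : ∀ s', IsConj x s' → s' ∈ Psi x P := by
    intro s' h'
    obtain ⟨g, rfl⟩ := isConj_iff.1 (hxs.symm.trans h')
    have hg : g ∈ Subgroup.normalizer (Psi x P) := by rw [htop]; trivial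
    exact ((Subgroup.mem_set_normalizer_iff).1 hg s).1 ⟨hxs, s, hs, hxs, rfl⟩
  have hzn : ∀ s', IsConj x s' → SC ((z : G) * s' * (z : G)⁻¹) = SC s' := by
    intro s' h'
    obtain ⟨_, s'', h2, _, h4⟩ := hall s' h'
    rw [conj_congr _ h4, h4]
    have : (⟨s'', h2⟩ : P) * z = z * ⟨s'', h2⟩ := Subgroup.mem_center_iff.1 hz _
    have e : s'' * z = z * s'' := congrArg Subtype.val this
    rw [← e]; simp
  set N := Subgroup.normalClosure ({(z : G)} : Set G) with hN
  have hNle : N ≤ Subgroup.normalizer (SC x : Set G) := by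
    rw [hN, Subgroup.normalClosure, Subgroup.closure_le]
    intro w hw
    obtain ⟨a, ha, hw⟩ := Group.mem_conjugatesOfSet_iff.1 hw
    rw [Set.mem_singleton_iff.1 ha] at hw
    obtain ⟨g, rfl⟩ := isConj_iff.1 hw
    have h1 := hzn (g⁻¹ * x * g⁻¹⁻¹) (isConj_conj (IsConj.refl x) _)
    have h2 := conj_congr g h1
    refine conj_eq_iff.1 ?_
    have e1 : g * (z : G) * g⁻¹ * x * (g * (z : G) * g⁻¹)⁻¹
        = g * ((z : G) * (g⁻¹ * x * g⁻¹⁻¹) * (z : G)⁻¹) * g⁻¹ := by group
    have e2 : g * (g⁻¹ * x * g⁻¹⁻¹) * g⁻¹ = x := by group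
    rw [e1, h2, e2]
  have hNb : N ≠ ⊥ := fun h => hz1' (by
    have : (z : G) ∈ N := Subgroup.subset_normalClosure rfl
    rw [h] at this
    exact Subgroup.mem_bot.1 this)
  have hlt : Nat.card (G ⧸ N) < Nat.card G := by
    rw [Subgroup.card_eq_card_quotient_mul_card_subgroup N]
    have h1 : 1 < Nat.card N := (Subgroup.one_lt_card_iff_ne_bot N).2 hNb
    have h2 : 0 < Nat.card (G ⧸ N) := Nat.card_pos
    nlinarith
  have hq := IH (G ⧸ N) hlt (QuotientGroup.mk' N x) k (by rw [← map_pow, hx, map_one])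
  rw [← map_eq _ (QuotientGroup.mk'_surjective N)] at hq
  have hq2 := hq.comap (QuotientGroup.mk' N)
  rw [Subgroup.comap_map_eq, QuotientGroup.ker_mk'] at hq2
  refine hns (Subgroup.IsSubnormal.step _ _ le_sup_left hq2 ?_)
  exact (normal_subgroupOf_iff le_sup_left).2 (sup_le Subgroup.le_normalizer hNle)

include IH hx in
theorem over_le (hns : ¬ (SC x).IsSubnormal) {T : Subgroup G} (hT : SylIn p T ⊤) (hxT : x ∈ T)
    (n : ℕ) : ∀ P : Subgroup G, Nat.card G - Nat.card P ≤ n → IsPGroup p P →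
      P ≤ Subgroup.normalizer (Psi x T) → (∃ s ∈ P, IsConj x s) →
      ∀ X : Subgroup G, X ≠ ⊤ → P ≤ X → X ≤ Subgroup.normalizer (Psi x T) := by
  have hM : Subgroup.normalizer (Psi x T) ≠ ⊤ :=
    St_ne_top IH hx hns hT.isPGroup hxT (IsConj.refl x)
  set M := Subgroup.normalizer (Psi x T) with hMdef
  have hTM : T ≤ M := Subgroup.le_normalizer.trans (normalizer_le_St x T)
  induction n with
  | zero =>
    intro P hn _ _ _ X hX hPX
    exfalso
    have h1 := card_lt_of_ne_top hX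
    have h2 : Nat.card P ≤ Nat.card X := Subgroup.card_le_of_le hPX
    omega
  | succ n ih =>
    intro P hn hP hPM ⟨s, hs, hxs⟩ X hX hPX
    have big : ∀ R : Subgroup G, P < R → IsPGroup p R → R ≤ M →
        ∀ X : Subgroup G, X ≠ ⊤ → R ≤ X → X ≤ M := by
      intro R hR hRp hRM
      have h1 : Nat.card P < Nat.card R :=
        lt_of_le_of_ne (Subgroup.card_le_of_le hR.le) fun h =>
          hR.ne (Subgroup.eq_of_le_of_card_ge hR.le h.ge)
      have h2 := Subgroup.card_le_card_group R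
      exact ih R (by omega) hRp hRM ⟨s, hR.le hs, hxs⟩
    obtain ⟨P1, hP1, hPP1⟩ := exists_sylIn_ge hP (le_inf hPX hPM)
    rcases hPP1.lt_or_eq with hlt | rfl
    · exact big P1 hlt hP1.isPGroup (hP1.le.trans inf_le_right) X hX (hP1.le.trans inf_le_left)
    obtain ⟨T1, hT1, hPT1⟩ := exists_sylIn_ge hP hPM
    rcases hPT1.lt_or_eq with hlt | rfl
    · have h1 := lt_inf_normalizer hT1.isPGroup hlt
      have h2 : Subgroup.normalizer (Psi x P) ≤ M :=
        big _ h1 (hT1.isPGroup.to_le inf_le_left) (inf_le_left.trans hT1.le) _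
          (St_ne_top IH hx hns hP hs hxs) (inf_le_right.trans (normalizer_le_St x P))
      obtain ⟨Q, hQ, hPQ⟩ := exists_sylIn_ge hP hPX
      rcases hPQ.lt_or_eq with hlt2 | rfl
      · exfalso
        have h3 := lt_inf_normalizer hQ.isPGroup hlt2
        refine h3.ne' (hP1.eq_of_le (hQ.isPGroup.to_le inf_le_left) ?_ h3.le)
        exact le_inf (inf_le_left.trans hQ.le)
          (inf_le_right.trans ((normalizer_le_St x P).trans h2))
      · exact (le_St IH hx hX hQ).trans h2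
    · have hT' : SylIn p T M := hT.mono hTM le_top
      have hPG : SylIn p P ⊤ := hT.of_card_le hP le_top (hT'.card_eq_card hT1).le
      have h1 := le_St IH hx hX (hPG.mono hPX le_top)
      rw [psi_eq IH hx hM hT1, ← psi_eq IH hx hM hT'] at h1
      exact h1

include IH in
theorem step : Stmt p G := by
  intro x k hx
  by_contra hns
  have hP : IsPGroup p (Subgroup.zpowers x) := by
    rw [isPGroup_iff_mem]
    rintro _ ⟨i, rfl⟩
    exact ⟨k, by rw [← zpow_natCast, ← zpow_mul, mul_comm, zpow_mul, zpow_natCast, hx, one_zpow]⟩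
  obtain ⟨T, hT, hPT⟩ := exists_sylIn_ge hP le_top
  have hxT : x ∈ T := hPT (Subgroup.mem_zpowers x)
  have hM : Subgroup.normalizer (Psi x T) ≠ ⊤ :=
    St_ne_top IH hx hns hT.isPGroup hxT (IsConj.refl x)
  have key := over_le IH hx hns hT hxT _ (Subgroup.zpowers x) le_rfl hP
    (hPT.trans (Subgroup.le_normalizer.trans (normalizer_le_St x T)))
    ⟨x, Subgroup.mem_zpowers x, IsConj.refl x⟩
  set M := Subgroup.normalizer (Psi x T) with hMdef
  have hSC : SC x ≤ M := key _ (fun h => hns (h ▸ Subgroup.IsSubnormal.top))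
    ((Subgroup.zpowers_le).2 (self_mem x))
  have hD : ∀ g : G, g * x * g⁻¹ ∈ M := by
    intro g
    by_cases h : Subgroup.closure ({x, g * x * g⁻¹} : Set G) = ⊤
    · exact hSC (mem_SC (g := g) (by rw [h]; trivial) rfl)
    · exact key _ h ((Subgroup.zpowers_le).2 (Subgroup.subset_closure (by simp)))
        (Subgroup.subset_closure (by simp))
  set N := Subgroup.normalClosure ({x} : Set G) with hN
  have hNM : N ≤ M := by
    rw [hN, Subgroup.normalClosure, Subgroup.closure_le]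
    intro w hw
    obtain ⟨a, ha, hw⟩ := Group.mem_conjugatesOfSet_iff.1 hw
    rw [Set.mem_singleton_iff.1 ha] at hw
    obtain ⟨g, rfl⟩ := isConj_iff.1 hw
    exact hD g
  have hxN : x ∈ N := Subgroup.subset_normalClosure rfl
  have hNn : N.Normal := Subgroup.normalClosure_normal
  have hSN : SC x ≤ N := SC_le fun y g _ e => e ▸ hNn.conj_mem x hxN g
  have hNt : N ≠ ⊤ := fun h => hM (top_le_iff.1 (h ▸ hNM))
  have h1 := IH N (card_lt_of_ne_top hNt) ⟨x, hxN⟩ k (Subtype.ext hx)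
  have h2 := h1.trans' hNn.isSubnormal
  rw [map_subtype hxN hSN] at h2
  exact hns h2

end Step

theorem stmt (p : ℕ) [Fact p.Prime] (n : ℕ) :
    ∀ (G : Type u) [Group G] [Finite G], Nat.card G = n → Stmt p G := by
  induction n using Nat.strong_induction_on with
  | _ n ih =>
    intro G _ _ hn
    exact step fun H _ _ h => ih _ (hn ▸ h) H rfl

/-- Bartels' theorem for an element of prime power order. -/
theorem bartels {G : Type u} [Group G] [Finite G] {p : ℕ} [Fact p.Prime] {x : G} {k : ℕ}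
    (hx : x ^ p ^ k = 1) : (SC x).IsSubnormal := stmt p _ G rfl x k hx

/-- An involution strongly conjugate to `t` has odd product with `t`. -/
theorem odd_of_strong {G : Type*} [Group G] {t y g : G} (ht : t * t = 1)
    (hg : g ∈ Subgroup.closure ({t, y} : Set G)) (e : y = g * t * g⁻¹) :
    ∃ k : ℤ, (t * y) ^ (2 * k + 1) = 1 := by
  have hy : y * y = 1 := by
    rw [e]
    calc g * t * g⁻¹ * (g * t * g⁻¹) = g * (t * t) * g⁻¹ := by group
      _ = 1 := by rw [ht]; simp
  have ht' : t⁻¹ = t := inv_eq_of_mul_eq_one_right ht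
  have hy' : y⁻¹ = y := inv_eq_of_mul_eq_one_right hy
  set c := t * y with hc
  have hcinv : c⁻¹ = y * t := by rw [hc, mul_inv_rev, ht', hy']
  have h1 : t * c * t⁻¹ = c⁻¹ := by
    rw [hcinv, hc, ← mul_assoc, ht, one_mul, ht']
  have h2 : y * c * y⁻¹ = c⁻¹ := by
    rw [hcinv, hc, hy', mul_assoc, mul_assoc, hy, mul_one]
  have hyc : y = c⁻¹ * t := by rw [hcinv, mul_assoc, ht, mul_one]
  let S : Set G := {s | ∃ k : ℤ, s = c ^ (2 * k) * t}
  have hinv : ∀ u : G, u * u = 1 → (∀ s ∈ S, u * s * u⁻¹ ∈ S) → u ∈ Subgroup.normalizer S := by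
    intro u hu h
    rw [Subgroup.mem_set_normalizer_iff]
    refine fun s => ⟨h s, fun h' => ?_⟩
    have := h _ h'
    have e : u * (u * s * u⁻¹) * u⁻¹ = (u * u) * s * (u * u)⁻¹ := by group
    rw [e, hu] at this
    simpa using this
  have hle : Subgroup.closure ({t, y} : Set G) ≤ Subgroup.normalizer S := by
    rw [Subgroup.closure_le]
    rintro u (rfl | rfl)
    · refine hinv _ ht ?_
      rintro _ ⟨k, rfl⟩
      refine ⟨-k, ?_⟩
      calc u * (c ^ (2 * k) * u) * u⁻¹ = (u * c * u⁻¹) ^ (2 * k) * u := by rw [conj_zpow]; group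
        _ = c ^ (2 * -k) * u := by rw [h1]; group
    · refine hinv _ hy ?_
      rintro _ ⟨k, rfl⟩
      refine ⟨-k - 1, ?_⟩
      have e3 : u * t * u⁻¹ = c⁻¹ * c⁻¹ * t := by
        rw [hy', ← hcinv, mul_assoc c⁻¹, ← hyc]
      calc u * (c ^ (2 * k) * t) * u⁻¹ = (u * c * u⁻¹) ^ (2 * k) * (u * t * u⁻¹) := by
            rw [conj_zpow]; group
        _ = c ^ (2 * (-k - 1)) * t := by rw [h2, e3]; group
  obtain ⟨k, hk⟩ := ((Subgroup.mem_set_normalizer_iff).1 (hle hg) t).1 ⟨0, by simp⟩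
  rw [← e] at hk
  refine ⟨k, ?_⟩
  have h3 : c⁻¹ = c ^ (2 * k) := mul_right_cancel (hyc.symm.trans hk)
  rw [zpow_add, ← h3]; simp

theorem odd_orderOf {G : Type*} [Group G] {c : G} {k : ℤ} (h : c ^ (2 * k + 1) = 1) :
    Odd (orderOf c) := by
  have h1 := orderOf_dvd_iff_zpow_eq_one.2 h
  rw [← Nat.not_even_iff_odd]
  rintro ⟨m, hm⟩
  obtain ⟨j, hj⟩ := h1
  rw [hm] at hj
  push_cast at hj
  have : (2 : ℤ) * (k - m * j) = -1 := by linarith
  omega

end H13.Bart
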