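import Cfsg.Agent.H13.LMod
import Cfsg.Agent.H27.Br
import Cfsg.Agent.H27.LMat
import Cfsg.Agent.H27.Cen
/-! Tables of classes of the Leech lattice modulo two; centralisers of elements of odd order in `Co0`. -/
set_option autoImplicit false
namespace H13
noncomputable section
open MulAction Cfsg H27
open scoped Pointwise

def cgS : Setoid LL := ⟨Cg, Cg.refl, Cg.symm, Cg.trans⟩
/-- the lattice modulo two -/
def Kl : Type := Quotient cgS
def kl (v : LL) : Kl := Quotient.mk cgS v
theorem kl_eq {v w : LL} : kl v = kl w ↔ Cg v w := Quotient.eq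
theorem kl_surj (x : Kl) : ∃ v, kl v = x := Quotient.exists_rep x
instance : MulAction CC Kl where
  smul g := Quotient.map (g • ·) fun _ _ h => Cg.smul h g
  one_smul x := by obtain ⟨v, rfl⟩ := kl_surj x; exact congrArg kl (one_smul _ v)
  mul_smul g h x := by obtain ⟨v, rfl⟩ := kl_surj x; exact congrArg kl (mul_smul g h v)
theorem smul_kl (g : CC) (v : LL) : g • kl v = kl (g • v) := rfl
theorem neg1_kl (x : Kl) : neg1 • x = x := by
  obtain ⟨v, rfl⟩ := kl_surj x; rw [smul_kl, neg1_smul, kl_eq]; exact cg_neg v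
theorem stab_e8 : stabilizer CC (kl (e8 none)) = NN := Subgroup.ext fun _ => kl_eq.trans cg_e8_iff

open Classical in
/-- coordinates of a class -/
def ka (v : LL) : Nat := maskOf 24 fun k => decide (¬ 16 ∣ dt v (lv (nth 0 LB k)))
theorem testBit_ka (v : LL) (k : Nat) : (ka v).testBit k = true ↔ k < 24 ∧ ¬ 16 ∣ dt v (lv (nth 0 LB k)) := by
  rw [ka, testBit_maskOf, decide_eq_true_iff]
theorem ka_add (v w : LL) : ka (v + w) = ka v ^^^ ka w := Nat.eq_of_testBit_eq fun k => by
  have a := dt8 v (lv (nth 0 LB k))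
  have b := dt8 w (lv (nth 0 LB k))
  rw [Nat.testBit_xor, Bool.eq_iff_iff, Bool.xor_iff_ne, Ne, Bool.eq_iff_iff (a := (ka v).testBit k), testBit_ka,
    testBit_ka, testBit_ka, add_dt]
  omega
theorem ka_zero : ka 0 = 0 := by have := ka_add 0 0; rwa [add_zero, Nat.xor_self] at this
theorem ka_eq_zero {v : LL} (h : ka v = 0) : Cg v 0 := by
  by_contra c
  obtain ⟨w, c⟩ := exists_dt c
  let K : AddSubgroup VV :=
    { carrier := {x | 16 ∣ dotInt (v : VV) x}
      zero_mem' := by simp [dotInt]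
      add_mem' := fun a b => by rw [Set.mem_ofPred_eq, dot_add]; exact dvd_add a b
      neg_mem' := fun a => by rw [Set.mem_ofPred_eq, dot_neg]; exact (dvd_neg.2 a) }
  refine c (LL_le_LB (K := K) (fun X hX => ?_) w.2)
  obtain ⟨k, hk, rfl⟩ := List.getElem_of_mem hX
  have := mt (testBit_ka v k).2 (by simp [h])
  rw [not_and, not_not, nth_eq, List.getD_eq_getElem _ _ hk, dt, coe_lv ((allL_iff _ _).1 LB_inL _ hX)] at this
  exact this hk
theorem ka_eq_iff {v w : LL} : ka v = ka w ↔ kl v = kl w := by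
  rw [kl_eq]
  refine ⟨fun h => cg_iff_add.2 (ka_eq_zero (by rw [ka_add, h, Nat.xor_self])), ?_⟩
  rintro ⟨u, rfl⟩
  rw [ka_add, ka_add, Nat.xor_self, Nat.xor_zero]
def kN (X : Nat) : Nat := force (sN X) fun s => maskOf 24 fun k => force (nth 0 LB k) fun L =>
  tb (Nat.add (Nat.add (Nat.shiftRight (dotN X L) 3) s) (sN L)) 0
theorem coe_lv' {X : Nat} (h : vc X ∈ leechLattice) : (lv X : VV) = vc X := by rw [lv, dif_pos h]
theorem ka_lv {X : Nat} (h : vc X ∈ leechLattice) : ka (lv X) = kN X := Nat.eq_of_testBit_eq fun k => by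
  rw [Bool.eq_iff_iff, testBit_ka, kN, force_eq, testBit_maskOf, force_eq, tb_eq]
  refine and_congr_right fun hk => ?_
  have b : (lv (nth 0 LB k) : VV) = vc (nth 0 LB k) := coe_lv ((allL_iff _ _).1 LB_inL _ (by
    rw [nth_eq, List.getD_eq_getElem _ _ hk]; exact List.getElem_mem _))
  have a := dt8 (lv X) (lv (nth 0 LB k))
  rw [dt, coe_lv' h, b, dot_vc] at a ⊢
  change _ ↔ (dotN X (nth 0 LB k) >>> 3 + sN X + sN (nth 0 LB k)).testBit 0 = true
  rw [Nat.testBit_zero, decide_eq_true_iff, Nat.shiftRight_eq_div_pow]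
  omega
theorem cm_lv {M X Y : Nat} (hM : cochk M = true) (hX : vc X ∈ leechLattice) (h : mvChk M X Y = true) :
    vc Y ∈ leechLattice ∧ cm M • lv X = lv Y := by
  have a := (cm_mv hM (lv X)).unique (coe_lv' hX ▸ mv_of_chk h)
  have b : vc Y ∈ leechLattice := a ▸ (cm M • lv X).2
  exact ⟨b, Subtype.ext (a.trans (coe_lv' b).symm)⟩

/-- the sum of the members of `l` selected by the bits of `a` -/
def cmb : List LL → Nat → LL
  | [], _ => 0
  | b :: l, a => (a % 2) • b + cmb l (a >>> 1)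
theorem ka_cmb (l : List LL) (a : Nat) : ka (cmb l a) = xsum (l.map ka) a := by
  induction l generalizing a with
  | nil => exact ka_zero
  | cons b l ih =>
    rw [cmb, List.map_cons, xsum_cons, ka_add, ih]
    rcases Nat.mod_two_eq_zero_or_one a with h | h <;> simp [h, ka_zero]
theorem smul_cmb (g : CC) (l : List LL) (a : Nat) : g • cmb l a = cmb (l.map (g • ·)) a := by
  induction l generalizing a with
  | nil => exact smul_zero g
  | cons b l ih => rw [cmb, List.map_cons, cmb, smul_add, ih, co_nsmul]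
theorem cmb_congr {l m : List LL} (h : l.map ka = m.map ka) (a : Nat) : kl (cmb l a) = kl (cmb m a) := by
  rw [← ka_eq_iff, ka_cmb, ka_cmb, h]

/-- the table of classes spanned by the vectors with codes `Bs` -/
def tK (Bs : List Nat) (i : Nat) : Kl := kl (cmb (Bs.map lv) i)
theorem map_ka {Bs : List Nat} (hB : allL Bs inL = true) : (Bs.map lv).map ka = mapL kN Bs := by
  rw [List.map_map, mapL_eq]
  exact List.map_congr_left fun X hX => ka_lv (vc_mem ((allL_iff _ _).1 hB X hX))
theorem kl_eq_tK {Bs : List Nat} (hB : allL Bs inL = true) {v : LL} {i : Nat} :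
    kl v = tK Bs i ↔ ka v = xsum (mapL kN Bs) i := by rw [tK, ← ka_eq_iff, ka_cmb, map_ka hB]
def actChk (n : Nat) (Bs : List Nat) (M : Nat) (N : Net) : Bool :=
  and' (and' (cochk M) (N.valid n)) (and' (allL Bs fun X => mvChk M X (mvN M X))
    (forceL (mapL (fun X => kN (mvN M X)) Bs) fun A => forceL (mapL kN Bs) fun B =>
      allN n fun i => Nat.beq (xsum A i) (xsum B (N.fn i))))
theorem acts_tK {n M : Nat} {Bs : List Nat} {N : Net} (hB : allL Bs inL = true) (h : actChk n Bs M N = true) :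
    Acts n (tK Bs) (cm M) N := by
  simp only [actChk, and'_eq, Bool.and_eq_true, allL_iff, forceL_eq, allN_iff, beq_iff] at h
  refine ⟨Net.ok_of_valid h.1.2, fun i hi => ?_⟩
  rw [tK, smul_kl, kl_eq_tK hB, smul_cmb, ka_cmb, ← h.2.2 i hi, mapL_eq, List.map_map, List.map_map]
  congr 1
  refine List.map_congr_left fun X hX => ?_
  have := cm_lv h.1.1 (vc_mem ((allL_iff _ _).1 hB X hX)) (h.2.1 X hX)
  exact (congrArg ka this.2).trans (ka_lv this.1)
theorem actsL_tK {n : Nat} {Bs Ms : List Nat} {Ns : List Net} (hB : allL Bs inL = true)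
    (h : all2 (actChk n Bs) Ms Ns = true) : ActsL n (tK Bs) (Ms.map cm) Ns := by
  rw [all2_iff] at h
  induction h with
  | nil => exact .nil
  | cons a _ ih => exact .cons (acts_tK hB a) ih
def injChk (d : Nat) (Bs : List Nat) : Bool := forceL (mapL kN Bs) fun B =>
  allN (Nat.shiftLeft 1 d) fun i => or' (Nat.beq i 0) (not' (Nat.beq (xsum B i) 0))
theorem tK_inj {d : Nat} {Bs : List Nat} (hB : allL Bs inL = true) (h : injChk d Bs = true) :
    Set.InjOn (tK Bs) {j | j < 2 ^ d} := fun i hi j hj c => by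
  simp only [injChk, forceL_eq, allN_iff, or'_eq, Bool.or_eq_true, beq_iff, not'_eq, Bool.not_eq_true'] at h
  rw [tK, kl_eq_tK hB, ka_cmb, map_ka hB] at c
  rcases h (i ^^^ j) (by
    change _ < 1 <<< d
    rw [Nat.one_shiftLeft]; exact Nat.xor_lt_two_pow hi hj) with a | a
  · exact Nat.xor_eq_zero_iff.1 a
  · rw [xsum_xor, c, Nat.xor_self] at a; cases a
theorem fix_tK {Bs : List Nat} {g : CC} (h : ∀ X ∈ Bs, g • kl (lv X) = kl (lv X)) (i : Nat) : g • tK Bs i = tK Bs i := by
  rw [tK, smul_kl, smul_cmb]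
  refine cmb_congr ?_ i
  rw [List.map_map, List.map_map, List.map_map]
  exact List.map_congr_left fun X hX => ka_eq_iff.2 (h X hX)
theorem tK_pow {Bs : List Nat} {j : Nat} (hj : j < Bs.length) : tK Bs (2 ^ j) = kl (lv Bs[j]) := by
  have z : ∀ l : List LL, cmb l 0 = 0 := fun l => by
    induction l with
    | nil => rfl
    | cons b l ih => simp [cmb, ih]
  rw [tK]
  induction Bs generalizing j with
  | nil => cases hj
  | cons b l ih =>
    cases j with
    | zero => simp [cmb, z]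
    | succ j =>
      rw [List.map_cons, cmb, pow_succ, Nat.mul_mod_left, zero_smul, zero_add, Nat.shiftRight_one,
        Nat.mul_div_cancel _ two_pos]
      exact ih (Nat.lt_of_succ_lt_succ hj)
theorem lv_cE : lv cE = e8 none := Subtype.ext ((coe_lv (by decide +kernel)).trans coe_e8_none.symm)

/-- the sum over the first `p` images -/
def nrmv (g : CC) : Nat → LL → LL
  | 0, _ => 0
  | p + 1, v => v + nrmv g p (g • v)
theorem nrmv_add (g : CC) (p : Nat) (v w : LL) : nrmv g p (v + w) = nrmv g p v + nrmv g p w := by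
  induction p generalizing v w with
  | zero => simp [nrmv]
  | succ p ih => rw [nrmv, nrmv, nrmv, smul_add, ih]; abel
theorem ka_nrmv {g : CC} {v : LL} (h : g • kl v = kl v) (p : Nat) {w : LL} (hw : ka w = ka v) :
    ka (nrmv g p w) = ka v * (p % 2) := by
  induction p generalizing w with
  | zero => exact ka_zero
  | succ p ih =>
    rw [nrmv, ka_add, hw, ih (ka_eq_iff.2 (by rw [← smul_kl, ka_eq_iff.1 hw, h])), Nat.add_mod]
    rcases Nat.mod_two_eq_zero_or_one p with h | h <;> simp [h]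
def itK (M p : Nat) : Nat → Nat → (Nat → Bool) → Bool :=
  Nat.rec (motive := fun _ => Nat → Nat → (Nat → Bool) → Bool) (fun _ a k => k a)
    (fun _ ih X a k => force (mvN M X) fun Y => and' (mvChk M X Y) (force (Nat.xor a (kN X)) fun b => ih Y b k)) p
theorem itK_spec {M : Nat} (hM : cochk M = true) (p : Nat) {X a : Nat} (hX : vc X ∈ leechLattice) {k : Nat → Bool}
    (h : itK M p X a k = true) : k (a ^^^ ka (nrmv (cm M) p (lv X))) = true := by
  induction p generalizing X a with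
  | zero => rw [nrmv, ka_zero, Nat.xor_zero]; exact h
  | succ p ih =>
    change force _ (fun Y => and' (mvChk M X Y) (force (Nat.xor a (kN X)) fun b => itK M p Y b k)) = true at h
    rw [force_eq, and'_eq, Bool.and_eq_true, force_eq] at h
    have := cm_lv hM hX h.1
    rw [nrmv, ka_add, this.2, ka_lv hX, ← Nat.xor_assoc]
    exact ih this.1 h.2
def spanChk (d M p : Nat) (Bs I : List Nat) : Bool := forceL (mapL kN Bs) fun B =>
  all2 (fun X i => and' (Nat.ble (Nat.succ i) (Nat.shiftLeft 1 d)) (itK M p X 0 fun a => Nat.beq a (xsum B i))) LB I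
theorem span_tK {d M p : Nat} {Bs : List Nat} (hB : allL Bs inL = true) (hM : cochk M = true) (hp : p % 2 = 1)
    (I : List Nat) (h : spanChk d M p Bs I = true) {x : Kl} (hx : cm M • x = x) : ∃ i < 2 ^ d, x = tK Bs i := by
  obtain ⟨v, rfl⟩ := kl_surj x
  let K : AddSubgroup LL :=
    { carrier := {w | ∃ i < 2 ^ d, ka (nrmv (cm M) p w) = xsum (mapL kN Bs) i}
      zero_mem' := ⟨0, by positivity, by
        have := xsum_xor (mapL kN Bs) 0 0
        rw [Nat.xor_self, Nat.xor_self] at this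
        rw [ka_nrmv (v := 0) (by rw [smul_kl, smul_zero]) p rfl, ka_zero, zero_mul, this]⟩
      add_mem' := fun ⟨i, a, b⟩ ⟨j, c, e⟩ => ⟨_, Nat.xor_lt_two_pow a c, by rw [nrmv_add, ka_add, xsum_xor, b, e]⟩
      neg_mem' := fun {w} ⟨i, a, b⟩ => ⟨i, a, by
        have := ka_add (nrmv (cm M) p (-w)) (nrmv (cm M) p w)
        rw [← nrmv_add, neg_add_cancel, ka_nrmv (v := 0) (by rw [smul_kl, smul_zero]) p rfl, ka_zero, zero_mul] at this
        rw [← b]; exact Nat.xor_eq_zero_iff.1 this.symm⟩ }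
  obtain ⟨w, ⟨i, a, b⟩, c⟩ := LL_le_LB (K := K.map leechLattice.subtype) (fun X hX => by
    rw [spanChk, forceL_eq, all2_iff] at h
    obtain ⟨k, hk, rfl⟩ := List.getElem_of_mem hX
    have u := h.get hk (h.length_eq ▸ hk)
    rw [and'_eq, Bool.and_eq_true, Nat.ble_eq] at u
    have m := vc_mem ((allL_iff _ _).1 LB_inL _ hX)
    have t := itK_spec hM p m u.2
    rw [beq_iff, Nat.zero_xor] at t
    exact ⟨lv LB[k], ⟨_, lt_of_lt_of_eq u.1 (Nat.one_shiftLeft d), t⟩, coe_lv' m⟩) v.2
  rw [show w = v from Subtype.ext c, ka_nrmv hx p rfl, hp, mul_one] at b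
  exact ⟨i, a, (kl_eq_tK hB).2 b⟩

/-- classes containing a vector of squared length below `64` -/
def Sh (x : Kl) : Prop := ∃ w, nm w < 64 ∧ kl w = x
theorem Sh.smul {x : Kl} (h : Sh x) (g : CC) : Sh (g • x) := by
  obtain ⟨w, a, rfl⟩ := h; exact ⟨g • w, by rwa [nm_smul], rfl⟩
theorem not_sh {v : LL} (h : nm v = 64) : ¬ Sh (kl v) := fun ⟨w, a, b⟩ => by
  have := (kl_eq.1 b).nm_eq a.le h.le; omega
theorem exists_of_not_sh {x : Kl} (h : ¬ Sh x) : ∃ v, nm v = 64 ∧ kl v = x := by
  obtain ⟨v, rfl⟩ := kl_surj x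
  obtain ⟨u, a, b⟩ := exists_short v
  rcases b with rfl | b | b | b
  exacts [(h ⟨0, by rw [nm_zero]; norm_num, kl_eq.2 a.symm⟩).elim, (h ⟨u, by omega, kl_eq.2 a.symm⟩).elim,
    (h ⟨u, by omega, kl_eq.2 a.symm⟩).elim, ⟨u, b, kl_eq.2 a.symm⟩]
def shChk (n : Nat) (Bs : List Nat) (S : List (Nat × Nat)) : Bool := forceL (mapL kN Bs) fun B => allL S fun s =>
  and' (and' (Nat.ble (Nat.succ s.1) n) (inL s.2)) (and' (Nat.beq (kN s.2) (xsum B s.1))
    (Nat.ble (Nat.add (dotN s.2 s.2) 1473) (Nat.mul 16 (sN s.2))))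
theorem sh_orb {n : Nat} {Bs : List Nat} (hB : allL Bs inL = true) {gs : List CC} {Ns : List Net}
    (a : ActsL n (tK Bs) gs Ns) {S : List (Nat × Nat)} (h : shChk n Bs S = true) (k : Nat) {j : Nat}
    (hj : (orb Ns k (orL (mapL Prod.fst S))).testBit j = true) : Sh (tK Bs j) := by
  refine (a.orb_mem (H := ⊤) (fun _ _ => trivial) Sh (fun g _ _ b => b.smul g) k (fun j hj => ?_) j hj).2
  rw [testBit_orL, mapL_eq, List.mem_map] at hj
  obtain ⟨s, hs, rfl⟩ := hj
  simp only [shChk, forceL_eq, allL_iff, and'_eq, Bool.and_eq_true, Nat.ble_eq, beq_iff] at h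
  obtain ⟨⟨b, c⟩, d, e⟩ := h s hs
  refine ⟨b, lv s.2, ?_, (kl_eq_tK hB).2 ((ka_lv (vc_mem c)).trans d)⟩
  change dotN s.2 s.2 + 1473 ≤ 16 * sN s.2 at e
  rw [nm, sqNorm_eq_dot, coe_lv c, dot_vc]; omega

end
end H13
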