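import Cfsg.Agent.H13.CF
import Cfsg.Agent.H13.XS2
import Cfsg.Agent.H27.MTab
/-! Order bounds for centralisers; quotients identified from order bounds. -/
set_option autoImplicit false
namespace H13
noncomputable section
open MulAction Cfsg H27
open scoped Pointwise

section
variable {G Ω : Type*} [Group G] [MulAction G Ω]

def cenOk2 (d n : Nat) (s : CenStep) (I : List Nat) : Bool :=
  ite' (Nat.beq s.1 2) (and' (and' (Nat.ble (Nat.succ s.2.1) n) (tb s.2.2.1 s.2.1))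
    (and' (elemL s.2.2.1 I) (Nat.beq (pop d n s.2.2.1) s.2.2.2.2))) (cenOk n s [] I)
def cenRun2 (d n R : Nat) (B : List Nat) (Ts : List Net) (S : List CenStep) : List Nat → Bool :=
  List.rec (motive := fun _ => List Nat → Bool)
    (fun I => allL B fun i => and' (Nat.ble (Nat.succ i) n) (force (Nat.shiftLeft 1 i) fun x => elemL x I))
    (fun s _ ih I => and' (cenOk2 d n s I) (force (cenNew d n R Ts s) fun X => splitK X I ih)) S
def cenOrd (S : List CenStep) : Nat :=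
  List.rec (motive := fun _ => Nat) 1 (fun s _ ih => ite' (Nat.beq s.1 2) (Nat.mul s.2.2.2.2 ih) ih) S

theorem cent_card {d n R : Nat} {e : Nat → Ω} (he : Set.InjOn e {j | j < n}) (hn : n ≤ 2 ^ d) {H : Subgroup G}
    (hcl : ∀ g ∈ H, ∀ i < n, ∃ j < n, g • e i = e j) {B : List Nat} (hf : ∀ g ∈ H, (∀ i ∈ B, g • e i = e i) → g = 1)
    (hR : RInv H n e R) {ts : List G} {Ts : List Net} (a : ActsL n e ts Ts) (S : List CenStep)
    {Q : Subgroup G} (hQ : Q ≤ H) (hcm : ∀ x ∈ Q, ∀ t ∈ ts, x * t = t * x)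
    {I : List Nat} (hI : ∀ X ∈ I, QInv Q n e X) (hc : cenRun2 d n R B Ts S I = true) : Nat.card Q ≤ cenOrd S := by
  induction S generalizing Q I with
  | nil =>
    simp only [cenRun2, allL_iff, force_eq, elemL_iff, and'_eq, Bool.and_eq_true, Nat.ble_eq] at hc
    rw [(Subgroup.eq_bot_iff_forall _).2 fun x hx =>
      hf x (hQ hx) fun i hi => (hI _ (hc i hi).2).fix (hc i hi).1 hx (hcl x (hQ hx)), Subgroup.card_bot]
    exact le_rfl
  | cons s S ih =>
    change and' _ (force _ fun X => splitK X I (cenRun2 d n R B Ts S)) = true at hc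
    rw [and'_eq, Bool.and_eq_true, force_eq] at hc
    obtain ⟨c1, c2⟩ := hc
    have fin : ∀ {Q' : Subgroup G}, Q' ≤ Q → QInv Q' n e (cenNew d n R Ts s) → Nat.card Q' ≤ cenOrd S := by
      intro Q' u v
      obtain ⟨J, p, q⟩ := splitK_spec (QInv Q' n e) (fun C h => h.and v) (fun C A h h' => h.xor h')
        (fun C h => (hI C h).mono u) (cenRun2 d n R B Ts S)
      exact ih (u.trans hQ) (fun x hx => hcm x (u hx)) p (by rw [← q, c2])
    obtain ⟨k, p, q, l, v⟩ := s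
    change _ ≤ ite' (Nat.beq k 2) (v * cenOrd S) (cenOrd S)
    simp only [cenOk2, cenOk, cenNew, ite'_eq, beq_iff] at c1 fin ⊢
    split_ifs at c1 fin ⊢ with k0 k1 k2 k3 k4
    all_goals simp only [and'_eq, or'_eq, Bool.and_eq_true, Bool.or_eq_true, elemL_iff, beq_iff, Nat.ble_eq,
      tb_eq] at c1
    · omega
    · omega
    · refine card_le_step Q (e p) (mset n e q) (mset_finite _ _ _) (fun x hx => ?_)
        (by rw [ncard_mset_pop he hn, c1.2.2]) (fin inf_le_left fun x hx i hi j hj u w => ?_)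
      · obtain ⟨j, hj, u⟩ := hcl x (hQ hx) p c1.1.1
        exact ⟨j, ⟨hj, hI _ c1.2.1 x hx p c1.1.1 j hj u c1.1.2⟩, u.symm⟩
      · rw [testBit_one_shiftLeft] at w ⊢
        subst w
        exact he hj hi (u.symm.trans hx.2)
    · refine fin le_rfl (fun x hx i hi j hj u w => ?_)
      rw [testBit_maskOf, and'_eq, Bool.and_eq_true, tb_eq, beq_iff] at w ⊢
      have hY : QInv Q n e q := c1.2.elim (fun z => z ▸ QInv.ones Q n e) (hI _)
      refine ⟨hj, hI _ c1.1 x hx i hi j hj u w.2.1, ?_⟩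
      rw [← w.2.2]
      exact ((mi_atoms he hR a (hQ hx) (hcm x hx) hi hj u (fun i hi j hj u => Bool.eq_iff_iff.2 (hY.iff hx hi hj u)) l).pop
        he hn (hcl x (hQ hx)) (hcl _ (H.inv_mem (hQ hx)))).symm
    · refine fin le_rfl (fun x hx i hi j hj u w => ?_)
      have f := (hI _ c1.2).fix c1.1 hx (hcl x (hQ hx))
      rw [testBit_ent] at w ⊢
      rw [← hR x (hQ hx) p c1.1 p c1.1 f i hi j hj u]
      simpa [hi, hj] using w
    · refine fin le_rfl (fun x hx i hi j hj u w => ?_)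
      have t := a.getD q
      have m : x * ts.getD q 1 = ts.getD q 1 * x := by
        rcases lt_or_ge q ts.length with w | w
        · rw [List.getD_eq_getElem _ _ w]; exact hcm x hx _ (List.getElem_mem w)
        · rw [List.getD_eq_default _ _ w]; simp
      rw [nth_eq, Net.testBit_app t.ok] at w ⊢
      exact hI _ c1 x hx _ (Net.fn_lt t.ok hi) _ (Net.fn_lt t.ok hj)
        (by rw [← t.act i hi, ← t.act j hj, ← mul_smul, m, mul_smul, u]) w

theorem quot_of_bound {m c k : Nat} [NeZero m] {e : Nat → Ω} (he : Set.InjOn e {j | j < m}) {gs : List G}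
    {Ms : List Net} (h : ActsL m e gs Ms) {H K : Subgroup G} [Finite H] (hH : ∀ g ∈ gs, g ∈ H) (hK : K ≤ cl gs)
    (hf : ∀ g ∈ K, ∀ i < m, g • e i = e i) (hk : k ≤ Nat.card K) (hc : c ≤ Nat.card (netGrp m Ms))
    (hb : Nat.card H ≤ k * c) : cl gs = H ∧ Nat.card H = k * c ∧ Nat.card (netGrp m Ms) = c ∧
      ∃ φ : H →* netGrp m Ms, Function.Surjective φ ∧ (∀ g, φ g = 1 ↔ (g : G) ∈ K) ∧
        ∀ (g : H) (i : Fin m), (g : G) • e i = e ((φ g).1 i) := by
  have le := cl_le hH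
  have := finite_of_le le
  have := finite_of_le hK
  have key : ∀ {H : Subgroup G} [Finite H], cl gs = H → ∃ φ : H →* Equiv.Perm (Fin m),
      (∀ (g : H) (i : Fin m), (g : G) • e i = e (φ g i)) ∧ φ.range = netGrp m Ms ∧ K.subgroupOf H ≤ φ.ker ∧
      Nat.card H = Nat.card φ.ker * Nat.card (netGrp m Ms) := fun {H} _ a => by
    obtain ⟨φ, b, d⟩ := h.exists_hom he a
    refine ⟨φ, b, d, fun g hg => Equiv.ext fun i => Fin.ext (he (φ g i).2 i.2 ((b g i).symm.trans (hf g hg i i.2))), ?_⟩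
    rw [← d, ← Subgroup.index_ker, Subgroup.card_mul_index]
  have k1 : ∀ {H : Subgroup G} [Finite H], K ≤ H → ∀ {A : Subgroup H}, K.subgroupOf H ≤ A → k ≤ Nat.card A :=
    fun a _ b => hk.trans ((Nat.card_congr (Subgroup.subgroupOfEquivOfLe a).toEquiv).ge.trans (Subgroup.card_le_of_le b))
  obtain ⟨φ, -, -, a, b⟩ := key rfl
  have e1 : cl gs = H := Subgroup.eq_of_le_of_card_ge le (hb.trans (b ▸ Nat.mul_le_mul (k1 hK a) hc))
  obtain ⟨φ, a, b, d, f⟩ := key e1
  have u := k1 (hK.trans le) d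
  have p1 : 0 < Nat.card φ.ker := Nat.card_pos
  have p2 : 0 < Nat.card (netGrp m Ms) := Nat.card_pos
  have v : Nat.card (netGrp m Ms) = c := le_antisymm (Nat.le_of_mul_le_mul_left
    ((f.ge.trans hb).trans (Nat.mul_le_mul_right _ u)) p1) hc
  have w : Nat.card φ.ker = k := le_antisymm (Nat.le_of_mul_le_mul_right ((f.ge.trans hb).trans (by rw [v])) p2) u
  have x : K.subgroupOf H = φ.ker := Subgroup.eq_of_le_of_card_ge d (w.le.trans (k1 (hK.trans le) le_rfl))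
  refine ⟨e1, by rw [f, v, w], v, φ.codRestrict _ fun g => b.le ⟨g, rfl⟩, fun y => ?_, fun g => ?_, a⟩
  · obtain ⟨g, hg⟩ : y.1 ∈ φ.range := b.ge y.2
    exact ⟨g, Subtype.ext hg⟩
  · rw [← Subgroup.mem_subgroupOf, x, Subtype.ext_iff]; rfl

theorem pCore_bot {H : Subgroup G} {L : Type*} [Group L] [Finite L] (φ : H →* L) (hφ : Function.Surjective φ) (x : Ω)
    (ho : Odd (orbit H x).ncard) (hk : ∀ g, φ g = 1 ↔ ∀ y ∈ orbit H x, (g : G) • y = y) : pCore 2 L = ⊥ := by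
  let ψ := φ.liftOfSurjective hφ ⟨toPermHom H (orbit H x), fun g hg => Equiv.ext fun y => Subtype.ext ((hk g).1 hg y y.2)⟩
  have hψ : ∀ g y, (ψ (φ g) y : Ω) = (g : G) • (y : Ω) := fun g y => by
    rw [φ.liftOfRightInverse_comp_apply]; rfl
  let _ := MulAction.compHom (orbit H x) ψ
  have : Finite (orbit H x) := Set.finite_of_ncard_ne_zero ho.pos.ne'
  have : (pCore 2 L).Normal := inferInstance
  obtain ⟨y, hy⟩ := (H1.isPGroup_pCore (G := L) 2).nonempty_fixed_point_of_prime_not_dvd_card (orbit H x)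
    (by rw [Nat.card_coe_set_eq]; exact ho.not_two_dvd_nat)
  refine (Subgroup.eq_bot_iff_forall _).2 fun l hl => ?_
  obtain ⟨g, rfl⟩ := hφ l
  refine (hk g).2 fun w hw => ?_
  obtain ⟨k, rfl⟩ : ∃ k : H, (k : G) • (y : Ω) = w := by
    obtain ⟨k, a, b⟩ := exists_smul_of_orbit y.2 hw
    exact ⟨⟨k, a⟩, b⟩
  have := congrArg Subtype.val (hy ⟨_, this.conj_mem' _ hl (φ k)⟩)
  change (ψ ((φ k)⁻¹ * φ g * φ k) y : Ω) = y at this
  rw [← map_inv, ← map_mul, ← map_mul, hψ, Subgroup.coe_mul, Subgroup.coe_mul, mul_smul, mul_smul, Subgroup.coe_inv,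
    inv_smul_eq_iff] at this
  exact this
end

theorem card_le_cls {H : Subgroup CC} {γ : CC} (hγ : γ ∈ NN) (hH : ∀ g ∈ H, g⁻¹ * γ * g ∈ Subgroup.zpowers γ)
    {d X m c : Nat} {e : Nat → Kl} (he : Set.InjOn e {j | j < 2 ^ d}) (hs : ∀ x, γ • x = x → ∃ i < 2 ^ d, x = e i)
    (hX : ∀ j, X.testBit j = true → Sh (e j)) (hm : pop d (2 ^ d) (Nat.xor X (ones (2 ^ d))) = m)
    (hc : Nat.card ↥(H ⊓ NN) ≤ c) : Nat.card H ≤ m * c := by
  refine card_le_step H (kl (e8 none)) _ (mset_finite _ _ _) (fun g hg => ?_)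
    ((ncard_mset_pop he le_rfl _).trans hm).le (by rwa [stab_e8])
  obtain ⟨i, a, b⟩ := hs (g • kl (e8 none)) (by
    have := mem_stabilizer_iff.1 (stab_e8.ge (Subgroup.zpowers_le.2 hγ (hH g hg)))
    rwa [mul_smul, mul_smul, inv_smul_eq_iff] at this)
  refine ⟨i, ⟨a, ?_⟩, b.symm⟩
  have := mt (hX i) (b ▸ not_sh ((nm_smul _ _).trans (e8_norm _)))
  change (X ^^^ _).testBit i = true
  rw [Nat.testBit_xor, (testBit_ones _ _).2 a]; simpa using this

theorem mono_conj {σ τ ρ : MM} {c : GC} (h : mono σ c * pm τ * (mono σ c)⁻¹ = pm ρ) :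
    σ * τ * σ⁻¹ = ρ ∧ ρ • (c : Finset GolayPt) = c := by
  rw [mul_inv_eq_iff_eq_mul] at h
  obtain ⟨a, b⟩ := mono_inj (((mono_mul σ τ c gc0).symm.trans h).trans (mono_mul ρ σ gc0 c))
  refine ⟨mul_inv_eq_iff_eq_mul.2 a, ?_⟩
  have := congrArg Subtype.val b
  simp only [gcAdd, gcSmul, gc0, Finset.smul_finset_empty] at this
  simpa [← Finset.bot_eq_empty] using this.symm

theorem card_inf_NN {H : Subgroup CC} {σ : MM} {N : Net} (a : Acts 24 GE.e σ N) {T : Subgroup MM}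
    (hH : ∀ g ∈ H, ∃ ρ, g * pm σ * g⁻¹ = pm ρ ∧ ∀ τ, τ * σ * τ⁻¹ = ρ → τ ∈ T) {k c : Nat} (hT : Nat.card T ≤ c)
    (hk : (cnt 4096 fun a => force (enc a) fun x => Nat.beq (N.rev.app x) x) = k) : Nat.card ↥(H ⊓ NN) ≤ k * c := by
  refine card_le_of_NN (Z := {s | s ∈ GC ∧ σ • s = s}) inf_le_right (fun τ c h => ?_) (fun c h => ⟨c.2, ?_⟩) ?_ hT
  · obtain ⟨ρ, u, v⟩ := hH _ h.1
    exact v τ (mono_conj u).1
  · obtain ⟨ρ, u, -⟩ := hH _ h.1
    obtain ⟨v, w⟩ := mono_conj u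
    rwa [← v, one_mul, inv_one, mul_one] at w
  · rw [ncard_GC _ (fun x => Nat.beq (N.rev.app x) x) (fun _ h => h.1) fun x hx => ?_, hk]
    rw [Set.mem_ofPred_eq, and_iff_right (fs_mem_GC_of hx), a.smul_gfs', beq_iff]
    exact GE.fs_eq_iff (Net.app_lt (Net.ok_rev a.ok) (lt_of_inC hx)) (lt_of_inC hx)

end
end H13
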