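import Cfsg.Agent.H13.CF3
import Cfsg.Agent.S5604
import Cfsg.Agent.H22.Linear
/-! The centraliser and normaliser in `Co0` of a permutation of order seven. -/
set_option autoImplicit false
namespace H13
noncomputable section
open MulAction Cfsg H27 Subgroup
open scoped Pointwise

theorem idx_six {G : Type*} [Group G] [Finite G] {b k : G} (o : orderOf b = 7) (h : k * b = b * b * b * k) :
    (Cz b).relIndex (normalizer (zpowers b : Set G)) = 6 := by
  have c : ∀ n : ℕ, k ^ n * b * (k ^ n)⁻¹ = b ^ 3 ^ n := fun n => by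
    induction n with
    | zero => simp
    | succ n ih =>
      rw [pow_succ k, pow_succ 3, pow_mul, ← ih, conj_pow, show b ^ 3 = k * b * k⁻¹ by rw [h, pow_three]; group]; group
  have m : k ∈ normalizer (zpowers b : Set G) := mem_normalizer_fintype fun x ⟨i, e⟩ => by
    rw [← e, ← conj_zpow, h, mul_inv_cancel_right]
    exact zpow_mem (mul_mem (mul_mem (mem_zpowers b) (mem_zpowers b)) (mem_zpowers b)) i
  let φ := (zpowers b).normalizerMonoidHom
  have e : (Cz b).relIndex (normalizer (zpowers b : Set G)) = Nat.card φ.range := by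
    rw [← index_ker, normalizerMonoidHom_ker, relIndex, show centralizer (zpowers b : Set G) = Cz b from
      Subgroup.ext fun _ => mem_cent_zpowers]
  have d := card_subgroup_dvd_card φ.range
  rw [IsCyclic.card_mulAut, Nat.card_zpowers, o, show Nat.totient 7 = 6 by decide] at d
  have u : b ^ 3 ^ Nat.card φ.range = b ^ 1 := by
    have := congrArg (fun x : φ.range => ((x.1 ⟨b, mem_zpowers b⟩ : zpowers b) : G))
      (pow_card_eq_one' (x := φ.rangeRestrict ⟨k, m⟩))
    rw [← map_pow] at this
    exact (c _).symm.trans (this.trans (pow_one b).symm)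
  rw [pow_eq_pow_iff_modEq, o] at u
  rw [e]
  have := Nat.le_of_dvd (by norm_num) d
  generalize Nat.card φ.range = n at *
  interval_cases n <;> revert d u <;> decide

def x7N : Net := (.cons 1 0x15451 (.cons 2 0x200101 (.cons 4 0x70a03 (.cons 8 0x6b (.cons 16 0xdb (.cons 8 0x9 (.cons 4 0xf0900 (.cons 2 0x3220 (.cons 1 0x55050 .nil)))))))))
def x7 : MM := mm x7N
theorem x7_acts : Acts 24 GE.e x7 x7N := acts_mm (by decide +kernel)
theorem ord_x7 : orderOf x7 = 7 := x7_acts.mm_order (by norm_num) (by decide +kernel)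
def heB : List Nat := cE :: [0x419465190632146318c65290a42108, 0x2a52949d274a4e929ceb39ca94a525, 0x528c6321483290632108421463294a, 0x3a52949ce729ce929ce759ce539d67, 0x4210842902421484294a5290842108]
def heM : List Nat := [0x32108421486190842088421483194a4194a529065214a5294a5290a42108418ca3190652146329463190a421084194632906520ca319465190642108418c6329063214a518ca3190a4210832108421482190842188421483194a52188420c842908421082214831946511084214c4290842108421485294a419465190632146318c65290a421085210c42148419084110842148328c652108431484290442108420c8318ca4194a31906320c6528ca5190642108418ca52906320ca328c6329064210852108420c84198842108420c43294a3210842148429082210c420c83294652088420c84290842108621483194632108220c8429084210843148328ca5210442148419084310842148328c652108420c84188842108420cc3294a418c651906520c65194a329064210853108421444290842108421485294a52108411484290c42108420c8318ca32108620c8429084210841148328ca32108421484290862104420c832946,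
  0x42946521085210631108420864210832108428c6419484294a528c8518c652108418c6428c8428ca518c8528ca3210842946418c8428c6328c85294a521084194641948418c652948518ca4294652108521063310842186421082294a3110832106321084210a42108418c63210c321063210842106621083210842946428c84194651948528c6428ca320885210a32104421064210842946321083310a52108431064210832108428c642948418ca319485194a52108418c6418c84194a3294852946428c63210852106521086210a42188428ca52108321865210842106431086294a3310832106321084210a42108428c6521083210a321884210a4210c428ca321885210a3210c4210642108428c63210852106521082210a4208852108419464294842946318c851946418c6321043210632108421062210842946321083110a521084110642108428c6521083210a320884210a42104428ca5210832086521084210641108]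
def heN : List Net := [(.cons 1 0x5500550055005500
 (.cons 2 0x2222222222222222
 (.cons 4 0xf0f0f0f0000
 (.cons 8 0x66006600660066
 (.cons 16 0xf0f0000f0f0
 (.cons 32 0xf0f0f0f0
 (.cons 1 0x4444444444444444
 .nil))))))),
 (.cons 1 0x5500550055005500
 (.cons 2 0x2222222222222222
 (.cons 4 0xf0f0f0f0000
 (.cons 8 0xaa00aa00aa00aa
 (.cons 16 0xf0f0000f0f0
 .nil)))))]
def heX : Nat := orb heN 5 (orL (mapL Prod.fst [(0, 0x421084210842108421084210842108), (5, 0x4952949d2b4a4e949ce739d292a529), (6, 0x49ce73a5293a5273a5294a5272a529)]))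
theorem heT : TB (pm x7) 6 64 heB (heM.map cm) heN heX := tb_of x7_acts (p := 7)
  0x421084210842108421084210842208441084210842108421084210842108421084210842108421084211042108421084210882108421084210842108421084210842110421084210842108421084210842108421088210842108421084210842108421084220842108421084211042108421084210842108421088210842108421084210842108821084210842108421084210842108421084210842108421104210842108422084210842108421084210842108421104210842108421084210842108421084210842108422084210842108421084210842108421084410842108421084210842108441084210842108421084210842208421084210842108421084410842108421084210842108421084210842108421084210842110421084210842108821084210842108421084210842108421084210882108421084220842108421084210842108421084210842108421084210844108421084210844108421084210842108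
  [51, 43, 10, 31, 30, 23, 10, 63, 33, 43, 30, 43, 41, 62, 1, 41, 62, 1, 62, 41, 41, 41, 41, 1] _ _ rfl (by decide +kernel)
def heS : List Net := [.nil,
  .nil,
  (.cons 1 0x11 (.cons 2 0x3 (.cons 4 0x7 (.cons 2 0x2 .nil)))),
  (.cons 1 0x14 (.cons 2 0x2 (.cons 4 0x3 (.cons 2 0x12 (.cons 1 0x10 .nil)))))]
def he6 : Nat := 0x4a5254a5294a5294a4a9294a94a5294b5294a5254a5294a5294a5292a5294a5252a5294a4a92a5294a529495294a5254a4a92a5254a5254a5294a5294a4a94a529495252a529495294a52939ceb39ce73ace73ace739ce739d6b4a529495292a4a94a529495294a5253ace739ceb39ce739ce739ce719ce74a5294a5292a5292a5292a5254a4a94a52929529495294a5252a5294a52939ce73ace739ceb39ce739d673ad674a4a92a5292a529495294a4a94a5294a5292a5294a5254a4a94a5254a52559ce739ce739ce759ceb39d6739ceb39d6739d6739ce739ce759ce73aceb59ce739ce75ace739d6739ce73ace739ce739d673ad6739ce739d6b39ce759ce759d6739ce739ce73ace739d674a529494a94a529294a94a5294a5292a4a5495294a5294a5294a5254a529495294a52d4a5294a5294a5292a5292a5294a5294a4a5495292a5294a5294a5294a5294a5294952549525495294a4a94a5294a4a94a4a54a5294a4a9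
theorem he6_acts : Acts 64 (tK heB) (cm he6) (.cons 1 0x1414414141411414 (.cons 2 0x1221211212212112 (.cons 4 0x909060609090606 (.cons 8 0xff000000ff0000 (.cons 16 0xff000000ff00 (.cons 32 0x3c3c3c3c (.cons 8 0xff000000ff0000 (.cons 4 0xf0f0f0f00000000 (.cons 2 0x3030303030303030 (.cons 1 0x5555555500000000 .nil)))))))))) :=
  acts_tK heT.inL (by decide +kernel)
theorem he6_cj : cm he6 * pm x7 = pm x7 * pm x7 * pm x7 * cm he6 := cj_of_chk (by decide +kernel) (by
  rw [mat_mul, mat_mul, x7_acts.mat_pm]; decide +kernel)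
theorem card_he : Nat.card (Cz (pm x7)) ≤ 2 * 7 * 168 := by
  have a := idx_six ((ord_pm _).trans ord_x7) he6_cj
  have b := heT.card_le (H := normalizer (zpowers (pm x7) : Set CC)) (m := 14) (c := 8 * 126) (pm_mem _)
    (fun g hg => (mem_normalizer_iff''.1 hg _).1 (mem_zpowers _)) (by decide +kernel)
    (card_inf_NN x7_acts (T := normalizer (zpowers x7 : Set MM)) (fun g hg => by
      obtain ⟨i, e⟩ := (mem_normalizer_iff.1 hg _).1 (mem_zpowers (pm x7))
      refine ⟨x7 ^ i, e.symm.trans (map_zpow _ _ _).symm, fun τ u => mem_normalizer_fintype fun x ⟨j, v⟩ => ?_⟩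
      rw [← v, ← conj_zpow, u]
      exact zpow_mem (zpow_mem (mem_zpowers _) i) j)
      (Cfsg.Agent.S5604.result _ ((Nat.card_zpowers _).trans ord_x7)).1.le (by decide +kernel))
  have c := ((Cz (pm x7)).subgroupOf (normalizer (zpowers (pm x7) : Set CC))).card_mul_index
  rw [H1.card_subgroupOf_of_le ((Subgroup.ext fun _ => mem_cent_zpowers :
    centralizer (zpowers (pm x7) : Set CC) = Cz _).ge.trans (centralizer_le_normalizer _)), ← relIndex, a] at c
  omega
theorem he_facts : cl (neg1 :: pm x7 :: heM.map cm) = Cz (pm x7) ∧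
    (∃ (L : Type) (_ : Group L) (φ : Cz (pm x7) →* L), CD (pm x7) 3 φ ∧
      Nonempty (L ≃* Matrix.SpecialLinearGroup (Fin 3) (ZMod 2))) ∧ {x : Kl | pm x7 • x = x ∧ ¬ Sh x}.ncard = 14 := by
  have o : orderOf (pm x7) = 7 := (ord_pm _).trans ord_x7
  have a := heT.acts.subE (m := 7) (w := 4) (I := 0xba98321) (Ms := heS) (by decide +kernel)
  have j := subE_inj (m := 7) (w := 4) (I := 0xba98321) heT.inj (by decide +kernel)
  have l : ∀ i < 7, ent 4 0xba98321 i < 64 ∧ Nat.testBit 0xf0e (ent 4 0xba98321 i) = true := by decide +kernel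
  have c : 168 ≤ Nat.card (netGrp 7 heS) := (le_card_netGrp (K := 3) (by norm_num) (fun _ => a.ok) [([6, 6, 3, 0, 4], (.cons 1 0x11 (.cons 2 0x11 (.cons 4 0x5 (.cons 1 0x11 .nil))))),
  ([7, 7, 7, 2, 7, 9, 6, 6, 5], (.cons 1 0x14 (.cons 2 0x12 (.cons 4 0x2 (.cons 1 0x10 .nil))))),
  ([0, 2, 1], (.cons 1 0x14 (.cons 4 0x4 (.cons 1 0x4 .nil)))),
  ([2, 5, 5, 2, 4, 3, 4], (.cons 2 0x12 (.cons 4 0x2 (.cons 2 0x2 .nil))))]
  [4, 5, 6, 7, 3, 2, 1, 0] [(0, 2, 4), (1, 2, 2), (3, 1, 2)] (by decide +kernel))
  obtain ⟨h1, -, -, φ, h3, h4, h5, h6⟩ := heT.cd (w := 3) (by rw [o]; decide) j a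
    (fun _ h i hi => h _ (l i hi).1) c (by rw [o]; exact card_he) rfl
  refine ⟨h1, ⟨_, _, φ, h6 (heT.core h1 h4 h5 (k := 3) (Y := 0xf0e) (m := 7) (by decide) (by norm_num) (by decide +kernel)
    fun g hg => Subtype.ext (Equiv.ext fun i => Fin.ext (j ((φ g).1 i).2 i.2
      ((h3 g i).symm.trans (hg _ (l i i.2).1 (l i i.2).2))))), ?_⟩, ?_⟩
  · let e : Nat → Fin 3 → ZMod 2 := fun i => [![1, 0, 0], ![0, 1, 0], ![1, 1, 0], ![0, 0, 1], ![1, 0, 1], ![0, 1, 1], ![1, 1, 1]].getD i 0
    exact (ActsL.iso_of_hom (G := Matrix.SpecialLinearGroup (Fin 3) (ZMod 2)) (e := e)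
      (fun i a j b => (by decide +kernel : ∀ i < 7, ∀ j < 7, e i = e j → i = j) i a j b) (gs := [1, 1, ⟨!![0, 1, 1; 1, 0, 0; 1, 0, 1], by decide⟩, ⟨!![0, 0, 1; 1, 1, 0; 1, 0, 1], by decide⟩])
      (by refine .cons ?_ (.cons ?_ (.cons ?_ (.cons ?_ .nil))) <;>
        exact ⟨Net.ok_of_valid (by decide +kernel), by decide +kernel⟩)
      (MonoidHom.id _) (fun g h i _ => by rw [show g = 1 from h, one_smul]) (by
        have := H22.card_SL (F := ZMod 2) 3 (by norm_num)
        simp only [ZMod.card, Fin.prod_univ_three] at this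
        exact (one_mul _).ge.trans this.le) c).map MulEquiv.symm
  · refine (heT.tab.ncard_eq_pop (S := {x : Kl | pm x7 • x = x ∧ ¬ Sh x}) (x := 0x11001100110f1e) (d := 6) (fun _ h => h.1) (by norm_num)
      fun i hi => ⟨fun h => ?_, fun h => ⟨heT.fix i hi, ?_⟩⟩).trans (by decide +kernel)
    · exact ((by decide +kernel : ∀ i < 64, heX.testBit i = true ∨ Nat.testBit 0x11001100110f1e i = true) i hi).resolve_left
        fun u => h.2 (heT.sh i u)
    · obtain ⟨-, g, -, u⟩ := ActsL.orb_orbit (.cons he6_acts heT.acts) (H := ⊤) (fun _ _ => trivial) 3 (b := 1) (by norm_num)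
        (j := i) ((congrArg (Nat.testBit · i) (by decide +kernel)).trans h)
      rw [← u, heB, tK_one]
      exact not_sh ((nm_smul _ _).trans (e8_norm _))
theorem he_inv : ∃ (τ h : CC) (c : GC), τ * h = h * mono 1 c ∧ pm x7 * τ * pm x7 = τ ∧
    ¬ 16 ∣ dt (e8 none) (τ • e8 none) ∧ ∀ g ∈ Cz (pm x7), g • kl (e8 none) ≠ τ • kl (e8 none) := by
  let M := 0x29ce759ca73a4e739ce73ad274a4a93b5294a4e549d294a5294a4e959ce73a5292a4e949d254a4a94a4e539ceb3a5252a4e949ca92a5294a4e93ace75a4a5494e949d294a5294a4e539ce73a529294e94ad294a5252a4e939ce729ce739d273a4e759ceb39ca74a525395294a4ed49d294a5294a4e959ce73a5294a4e929d292a5292a4e539d6749ce73ad273a4eb39ce739ca7494a93a5254a4e949d294a4a92956939ce73a4a94a4e94ad252a529494e939ce73a5254a56929d254a5254a4e939ce73a5294a4e949d2949525494e53ace73a4a94a4e949ca94a4a54a4e939d673a5294956949d29294a94a4e939ce73a529494e929ca94a529494e939ceb5a5294a4e949ca5495292a4e939ce749ce739ca73956739ce739cab4a5293a4a92a4e929d29495294a56939ce74ace739d2b3a4e739ce739d276a52949ceb39d27394e73ace739d274a4a529ce739d27594e739d6739d274952949d6739ca73a4e739ce759d2749525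
  let H := 0x39ce949ca7494a7495674a4e74a4e72a5273a4e539ce939d2939d2939da939ce94aca74a5272a4e74a56b4a4e7495275a56939ce939d293ad2959d2939ce549d272a4a74a4e74a5672a4e74a5273a56959ce539d2959d293ad29495273a4e939d6939d2939d253ad256a5273a4e539ce939d2939d2939ca9494a73a4e93ace939d2959ca939d294a5273a4e95ace959d293ad2939d2539ce94ad274a5274a5672a4e72a4eb4952b3a4e939ce559ca939d2939d2939d6949d274a527294e74a4e7294e74a5273a4e939ce939ca53aca93ad294a52b594e93ace939d2939d293ad293ace94ad272a527494eb4a4e74a4e739d6929d272a5274a5674a4eb4a4e739ce929d274a4a72a4eb2a4e74a4e739ce929d274a52b494e74a5674a4eb39d6549ca74a5274a4eb4a4e74a4eb59ce949d234a5274a4e74a4e74a5674a5273a4e93ace539d2539d2559d294a4a7394e939d6539d293ad2939d2939ce549d274a527494e7294eb4a4e7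
  have a : Acts 64 (tK heB) (cm M) (.cons 1 0x4141414114141414 (.cons 2 0x2211221111221122 (.cons 4 0x30c030c030c030c (.cons 8 0x3c00c300c3003c (.cons 16 0xcc33000033cc (.cons 32 0x99996666 (.cons 4 0xf0f0f0f00000000 (.cons 2 0x3333000033330000 (.cons 1 0x5555555500000000 .nil))))))))) := acts_tK heT.inL (by decide +kernel)
  have m : cochk M = true := by decide +kernel
  refine ⟨cm M, cm H, ⟨GE.fs 0x5a56e4, fs_mem_GC_of (by decide +kernel)⟩, mat_inj ?_, mat_inj ?_, ?_, fun g hg u => ?_⟩
  · rw [mat_mul, mat_mul, mat_mono (fun j hj => ⟨hj, one_smul _ _⟩) rfl, mat_cm m, mat_cm (by decide +kernel)]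
    decide +kernel
  · rw [mat_mul, mat_mul, mat_cm m, x7_acts.mat_pm]; decide +kernel
  · have := cm_lv (X := cE) (Y := mvN M cE) m (vc_mem (by decide +kernel)) (by decide +kernel)
    rw [← lv_cE, this.2, dt, coe_lv' this.1, coe_lv' (vc_mem (by decide +kernel)), dot_vc]; decide +kernel
  · have b := (heT.acts.orbit_ncard he_facts.1 heT.inj (d := 6) (k := 3) (b := 1) (X := 0xf0e) (c := 7) (by norm_num)
      (by norm_num) (by decide +kernel)).1
    rw [← tK_one, ← heB, a.act 1 (by norm_num)] at u
    exact absurd ((mem_mset heT.inj (Net.fn_lt a.ok (by norm_num))).1 (b.le ⟨⟨g, hg⟩, u⟩)) (by decide +kernel)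

end
end H13
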