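import Mathlib

/-! Counting lemmas: conjugates in a subgroup, fixed points in an orbit, centralizer bound. -/

set_option autoImplicit false

namespace H13.Cnt

open Subgroup MulAction

theorem fib {K Y : Type*} [Finite K] (f : K → Y) (m : ℕ) (h : ∀ k, Nat.card {k' // f k' = f k} = m)
    (T : Set Y) : Nat.card {k // f k ∈ T} = {y | y ∈ Set.range f ∧ y ∈ T}.ncard * m := by
  classical
  have fin : {y | y ∈ Set.range f ∧ y ∈ T}.Finite := (Set.finite_range f).subset fun _ h => h.1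
  haveI := fin.fintype
  let e : {k // f k ∈ T} ≃ Σ y : {y | y ∈ Set.range f ∧ y ∈ T}, {k // f k = y} :=
    { toFun := fun k => ⟨⟨f k, ⟨k, rfl⟩, k.2⟩, ⟨k, rfl⟩⟩
      invFun := fun z => ⟨z.2.1, by rw [z.2.2]; exact z.1.2.2⟩
      left_inv := fun _ => rfl
      right_inv := by rintro ⟨⟨y, hy⟩, ⟨k, hk⟩⟩; dsimp only at hk; subst hk; rfl }
  rw [Nat.card_congr e, Nat.card_sigma, Finset.sum_congr rfl (g := fun _ => m), Finset.sum_const,
    Finset.card_univ, ← Nat.card_eq_fintype_card, Nat.card_coe_set_eq, smul_eq_mul]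
  rintro ⟨y, ⟨k, rfl⟩, hy⟩ -
  exact h k

theorem n_conj {K : Type*} [Group K] [Finite K] (S : Subgroup K) (t : K) :
    Nat.card {k : K // k⁻¹ * t * k ∈ S} = Nat.card (centralizer ({t} : Set K)) * {s : K | s ∈ S ∧ IsConj t s}.ncard := by
  have := fib (fun k : K => k⁻¹ * t * k) (Nat.card (centralizer ({t} : Set K))) (fun k => ?_) (S : Set K)
  · rw [mul_comm]
    refine this.trans ?_
    congr 2
    ext s
    simp only [Set.mem_range, SetLike.mem_coe, isConj_iff]
    constructor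
    · rintro ⟨⟨k, rfl⟩, h⟩; exact ⟨h, k⁻¹, by rw [inv_inv]⟩
    · rintro ⟨h, k, rfl⟩; exact ⟨⟨k⁻¹, by rw [inv_inv]⟩, h⟩
  · refine Nat.card_congr ⟨fun z => ⟨z.1 * k⁻¹, ?_⟩, fun z => ⟨z.1 * k, ?_⟩, fun z => by simp, fun z => by simp⟩
    · rw [mem_centralizer_singleton_iff]
      have h : z.1⁻¹ * t * z.1 = k⁻¹ * t * k := z.2
      calc z.1 * k⁻¹ * t = z.1 * (k⁻¹ * t * k) * k⁻¹ := by group
        _ = z.1 * (z.1⁻¹ * t * z.1) * k⁻¹ := congrArg (fun w => z.1 * w * k⁻¹) h.symm
        _ = t * (z.1 * k⁻¹) := by group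
    · have h := mem_centralizer_singleton_iff.1 z.2
      show (z.1 * k)⁻¹ * t * (z.1 * k) = k⁻¹ * t * k
      calc (z.1 * k)⁻¹ * t * (z.1 * k) = k⁻¹ * z.1⁻¹ * (t * z.1) * k := by group
        _ = k⁻¹ * t * k := by rw [← h]; group

theorem fib_smul {K X : Type*} [Group K] [MulAction K X] (x : X) (k : K) :
    Nat.card {k' : K // k' • x = k • x} = Nat.card (stabilizer K x) := by
  refine Nat.card_congr ⟨fun z => ⟨k⁻¹ * z.1, ?_⟩, fun z => ⟨k * z.1, ?_⟩, fun z => by simp, fun z => by simp⟩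
  · rw [mem_stabilizer_iff, mul_smul, z.2, inv_smul_smul]
  · rw [mul_smul, mem_stabilizer_iff.1 z.2]

theorem n_fix {K X : Type*} [Group K] [Finite K] [MulAction K X] (x : X) (t : K) :
    Nat.card {k : K // k⁻¹ * t * k ∈ stabilizer K x} = {y : X | y ∈ orbit K x ∧ t • y = y}.ncard * Nat.card (stabilizer K x) := by
  have := fib (fun k : K => k • x) _ (fib_smul x) {y | t • y = y}
  refine Eq.trans (Nat.card_congr (Equiv.subtypeEquivRight fun k => ?_)) this
  simp only [mem_stabilizer_iff, mul_smul, inv_smul_eq_iff, Set.mem_ofPred_eq]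

theorem cover {X ι : Type*} [Finite X] (ω : X) (B : ι → Set X) (L : List ι) :
    {y | y = ω ∨ ∃ r ∈ L, y ∈ B r}.ncard ≤ (L.map fun r => (B r).ncard).sum + 1 := by
  induction L with
  | nil => simp
  | cons r s ih =>
    have : {y | y = ω ∨ ∃ r' ∈ r :: s, y ∈ B r'} = B r ∪ {y | y = ω ∨ ∃ r ∈ s, y ∈ B r} := by
      ext y; simp [or_left_comm]
    rw [this, List.map_cons, List.sum_cons, Nat.add_assoc]
    exact (Set.ncard_union_le _ _).trans (Nat.add_le_add_left ih _)

theorem sum_le {ι : Type*} (a b : ι → ℕ) (L : List ι) (h : ∀ r ∈ L, a r ≤ b r) :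
    (L.map a).sum ≤ (L.map b).sum := by
  induction L with
  | nil => simp
  | cons r s ih =>
    simp only [List.map_cons, List.sum_cons]
    exact Nat.add_le_add (h r List.mem_cons_self) (ih fun x hx => h x (List.mem_cons_of_mem _ hx))

theorem eq_of_sum {ι : Type*} (a b : ι → ℕ) (L : List ι) (h : ∀ r ∈ L, a r ≤ b r)
    (hs : (L.map b).sum ≤ (L.map a).sum) : ∀ r ∈ L, a r = b r := by
  induction L with
  | nil => simp
  | cons r s ih =>
    simp only [List.map_cons, List.sum_cons] at hs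
    have h1 := h r List.mem_cons_self
    have h2 := sum_le a b s fun x hx => h x (List.mem_cons_of_mem _ hx)
    intro x hx
    rcases List.mem_cons.1 hx with rfl | hx
    · omega
    · exact ih (fun x hx => h x (List.mem_cons_of_mem _ hx)) (by omega) x hx

theorem cent_cover {G K ι : Type*} [Group G] [Finite G] [Group K] [Finite K] {H : Subgroup G} (π : K →* G)
    (hr : π.range = H) (inj : Function.Injective π) (L : List ι) (x : ι → G ⧸ H) (S : ι → Subgroup K) (c f : ι → ℕ)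
    (hS : ∀ r ∈ L, (∀ s ∈ S r, π s • x r = x r) ∧ 0 < c r ∧ c r ≤ Nat.card (S r) ∧ c r ∣ Nat.card K)
    (cov : ∀ g : G, g • ((1 : G) : G ⧸ H) = ((1 : G) : G ⧸ H) ∨ ∃ r ∈ L, ∃ k, g • ((1 : G) : G ⧸ H) = π k • x r)
    (hn : H.index = (L.map fun r => Nat.card K / c r).sum + 1) (t : K)
    (hf : ∀ r ∈ L, Nat.card (S r) = c r → Nat.card {k : K // k⁻¹ * t * k ∈ S r} ≤ f r * c r) :
    Nat.card (centralizer ({π t} : Set G)) ≤ ((L.map f).sum + 1) * Nat.card (centralizer ({t} : Set K)) := by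
  letI : MulAction K (G ⧸ H) := MulAction.compHom _ π
  have sm : ∀ (k : K) (y : G ⧸ H), k • y = π k • y := fun _ _ => rfl
  set ω : G ⧸ H := ((1 : G) : G ⧸ H) with hω
  have cov' : ∀ y : G ⧸ H, y = ω ∨ ∃ r ∈ L, y ∈ orbit K (x r) := fun y => by
    obtain ⟨g, rfl⟩ := exists_smul_eq G ω y
    rcases cov g with h | ⟨r, hr, k, h⟩
    · exact Or.inl h
    · exact Or.inr ⟨r, hr, k, h.symm⟩
  have le : ∀ r ∈ L, S r ≤ stabilizer K (x r) := fun r hr s hs => (hS r hr).1 s hs
  have os : ∀ r, (orbit K (x r)).ncard * Nat.card (stabilizer K (x r)) = Nat.card K := fun r => by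
    rw [← index_stabilizer, index_mul_card]
  have cl : ∀ r ∈ L, c r ≤ Nat.card (stabilizer K (x r)) := fun r hr =>
    (hS r hr).2.2.1.trans (card_le_of_le (le r hr))
  have a1 : ∀ r ∈ L, (orbit K (x r)).ncard ≤ Nat.card K / c r := fun r hr => by
    rw [Nat.le_div_iff_mul_le (hS r hr).2.1, ← os r]
    exact Nat.mul_le_mul_left _ (cl r hr)
  have a2 := cover ω (fun r => orbit K (x r)) L
  rw [Set.eq_univ_of_forall (s := {y | y = ω ∨ ∃ r ∈ L, y ∈ orbit K (x r)}) cov', Set.ncard_univ] at a2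
  have a3 := eq_of_sum _ _ L a1 (by rw [index] at hn; omega)
  have a4 : ∀ r ∈ L, Nat.card (stabilizer K (x r)) = c r := fun r hr => by
    have e := os r
    rw [a3 r hr] at e
    have e2 := Nat.div_mul_cancel (hS r hr).2.2.2
    have e3 : 0 < Nat.card K / c r := by
      rcases Nat.eq_zero_or_pos (Nat.card K / c r) with z | z
      · rw [z, zero_mul] at e2; exact absurd e2.symm Nat.card_pos.ne'
      · exact z
    exact Nat.eq_of_mul_eq_mul_left e3 (e.trans e2.symm)
  have a5 : ∀ r ∈ L, S r = stabilizer K (x r) := fun r hr =>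
    eq_of_le_of_card_ge (le r hr) (by rw [a4 r hr]; exact (hS r hr).2.2.1)
  have a6 : ∀ r ∈ L, {y | y ∈ orbit K (x r) ∧ t • y = y}.ncard ≤ f r := fun r hr => by
    have e := hf r hr (by rw [a5 r hr, a4 r hr])
    rw [a5 r hr, n_fix, a4 r hr] at e
    exact Nat.le_of_mul_le_mul_right e (hS r hr).2.1
  have a7 := (cover ω (fun r => {y | y ∈ orbit K (x r) ∧ t • y = y}) L).trans
    (Nat.add_le_add_right (sum_le _ _ L a6) 1)
  set C := centralizer ({π t} : Set G) with hC
  have hH : ∀ g : G, g • ω = ω ↔ g ∈ H := fun g => by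
    rw [← mem_stabilizer_iff, hω, stabilizer_quotient]
  have b1 : (orbit C ω).ncard ≤ (L.map f).sum + 1 := by
    refine le_trans (Set.ncard_le_ncard ?_) a7
    rintro _ ⟨g, rfl⟩
    rcases cov' (g • ω) with h | ⟨r, hr', h⟩
    · exact Or.inl h
    · refine Or.inr ⟨r, hr', h, ?_⟩
      have e := mem_centralizer_singleton_iff.1 g.2
      have e2 : π t • ω = ω := (hH _).2 (hr ▸ ⟨t, rfl⟩)
      show π t • ((g : G) • ω) = (g : G) • ω
      rw [← mul_smul, ← e, mul_smul, e2]
  have b2 : Nat.card (stabilizer C ω) ≤ Nat.card (centralizer ({t} : Set K)) := by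
    let φ : centralizer ({t} : Set K) → stabilizer C ω := fun k =>
      ⟨⟨π k, by
        rw [hC, mem_centralizer_singleton_iff, ← map_mul, ← map_mul,
          mem_centralizer_singleton_iff.1 k.2]⟩, (hH (π k)).2 (hr ▸ (⟨k, rfl⟩ : π k ∈ π.range))⟩
    refine Nat.card_le_card_of_surjective φ ?_
    rintro ⟨⟨g, hg⟩, hg'⟩
    have : g ∈ π.range := hr ▸ (hH g).1 hg'
    obtain ⟨k, rfl⟩ := this
    refine ⟨⟨k, ?_⟩, rfl⟩
    rw [mem_centralizer_singleton_iff]
    apply inj
    rw [map_mul, map_mul]; exact mem_centralizer_singleton_iff.1 hg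
  rw [← (stabilizer C ω).index_mul_card, index_stabilizer]
  exact Nat.mul_le_mul b1 b2

end H13.Cnt
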