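import Cfsg.Agent.H13.Syl

/-! No simple group of order 47520 with a Sylow 11-centraliser of order 33. -/

set_option autoImplicit false

namespace H13Dc

open Subgroup

theorem no33 (σ : Equiv.Perm (Fin 12)) : orderOf σ ≠ 33 := by
  intro h
  have h1 := Equiv.Perm.sum_cycleType_le σ
  have h2 := Equiv.Perm.lcm_cycleType σ
  rw [h] at h2
  rw [Fintype.card_fin] at h1
  have key : ∀ p : ℕ, p.Prime → p ∣ 33 → ∃ n ∈ σ.cycleType, p ∣ n ∧ n ∣ 33 := by
    intro p hp hd
    rw [← h2] at hd
    by_contra hc
    push Not at hc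
    have h3 : ∀ n ∈ σ.cycleType, Nat.Coprime p n := fun n hn =>
      (Nat.Prime.coprime_iff_not_dvd hp).2 fun e => hc n hn e (h2 ▸ Multiset.dvd_lcm hn)
    have h4 : ∀ s : Multiset ℕ, (∀ n ∈ s, Nat.Coprime p n) → Nat.Coprime p s.lcm := by
      intro s
      induction s using Multiset.induction_on with
      | empty => simp
      | cons a s ih =>
        intro hs
        rw [Multiset.lcm_cons]
        exact Nat.Coprime.coprime_dvd_right (lcm_dvd (Dvd.intro _ rfl) (Dvd.intro_left _ rfl))
          (Nat.Coprime.mul_right (hs a (Multiset.mem_cons_self _ _))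
            (ih fun n hn => hs n (Multiset.mem_cons_of_mem hn)))
    exact (Nat.Prime.coprime_iff_not_dvd hp).1 (h4 _ h3) hd
  obtain ⟨a, ha, ha1, ha2⟩ := key 3 (by norm_num) (by norm_num)
  obtain ⟨b, hb, hb1, hb2⟩ := key 11 (by norm_num) (by norm_num)
  have ha3 := Multiset.single_le_sum (fun _ _ => Nat.zero_le _) a ha
  have hb3 := Multiset.single_le_sum (fun _ _ => Nat.zero_le _) b hb
  have ha4 : a = 3 := by
    have : a ≤ 12 := by omega
    interval_cases a <;> omega
  have hb4 : b = 11 := by
    have : b ≤ 12 := by omega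
    interval_cases b <;> omega
  subst ha4 hb4
  obtain ⟨s, hs⟩ := Multiset.exists_cons_of_mem ha
  rw [hs] at hb h1
  have hb5 : 11 ∈ s := (Multiset.mem_cons.1 hb).resolve_left (by norm_num)
  have := Multiset.single_le_sum (fun _ _ => Nat.zero_le _) 11 hb5
  rw [Multiset.sum_cons] at h1
  omega

theorem no47520 {S : Type*} [Group S] [Finite S] [IsSimpleGroup S] (h : Nat.card S = 47520)
    (P : Sylow 11 S) (hC : Nat.card (centralizer ((P : Subgroup S) : Set S)) = 33)
    (hN : Nat.card (normalizer ((P : Subgroup S) : Set S)) = 330) : False := by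
  classical
  haveI : Fact (Nat.Prime 3) := ⟨Nat.prime_three⟩
  haveI : Fact (Nat.Prime 11) := ⟨by norm_num⟩
  set C := centralizer ((P : Subgroup S) : Set S) with hCd
  set N := normalizer ((P : Subgroup S) : Set S) with hNd
  obtain ⟨d0, hd0⟩ := exists_prime_orderOf_dvd_card' (G := C) 3 (by rw [hC]; norm_num)
  have hd : orderOf (d0 : S) = 3 := by rwa [Subgroup.orderOf_coe]
  set d : S := d0.1 with hdd
  have hP : Nat.card P = 11 := by
    rw [Sylow.card_eq_multiplicity, h, show 47520 = 11 * 4320 from rfl,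
      Nat.factorization_mul (by norm_num) (by norm_num), Finsupp.add_apply,
      Nat.Prime.factorization_self (by norm_num), Nat.factorization_eq_zero_of_not_dvd (by norm_num)]
    rfl
  obtain ⟨x0, hx0⟩ := exists_prime_orderOf_dvd_card' (G := (P : Subgroup S)) 11 (by rw [hP])
  have hx : orderOf (x0 : S) = 11 := by rwa [Subgroup.orderOf_coe]
  have hdx : Commute (x0 : S) d := d0.2 _ x0.2
  have ho : orderOf ((x0 : S) * d) = 33 := by
    rw [hdx.orderOf_mul_eq_mul_orderOf_of_coprime (by rw [hx, hd]; norm_num), hx, hd]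
  have hPx : zpowers (x0 : S) = P :=
    eq_of_le_of_card_ge (zpowers_le.2 x0.2) (by rw [Nat.card_zpowers, hx, hP])
  have hxC : (x0 : S) ∈ C := fun y hy => by
    have hy' : y ∈ zpowers (x0 : S) := by rw [hPx]; exact hy
    obtain ⟨i, rfl⟩ := mem_zpowers_iff.1 hy'
    exact ((Commute.refl (x0 : S)).zpow_left i).eq
  have hCz : zpowers ((x0 : S) * d) = C :=
    eq_of_le_of_card_ge (zpowers_le.2 (mul_mem hxC d0.2)) (by rw [Nat.card_zpowers, ho, hC])
  have hD3 : IsPGroup 3 (zpowers d) :=
    IsPGroup.of_card (n := 1) (by rw [Nat.card_zpowers, hd, pow_one])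
  have hDC : zpowers d ≤ C := zpowers_le.2 d0.2
  have hDS : H13.SylIn 3 (zpowers d) C := H13.sylIn_of_card_mul (m := 11) hDC hD3 (by norm_num)
    (by rw [hC, Nat.card_zpowers, hd])
  set H := normalizer (zpowers d : Set S) with hH
  have hCH : C ≤ H := by
    rw [← hCz, zpowers_le]
    refine H13.normalizer_of_finite fun v hv => ?_
    obtain ⟨i, rfl⟩ := mem_zpowers_iff.1 hv
    rw [((hdx.mul_left (Commute.refl d)).zpow_right i).eq, mul_inv_cancel_right]; exact hv
  have hNH : N ≤ H := fun g hg => by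
    obtain ⟨n, hn, h1⟩ := hDS.frattini (H13.normalizer_centralizer hg)
    have := mul_mem (inv_mem (hCH hn)) h1
    rwa [inv_mul_cancel_left] at this
  have hHt : H ≠ ⊤ := fun e => by
    rcases (normalizer_eq_top_iff.1 e).eq_bot_or_eq_top with e1 | e1
    · have := Nat.card_zpowers d
      rw [e1, card_bot, hd] at this; omega
    · have := Nat.card_zpowers d
      rw [e1, card_top, hd, h] at this; omega
  have h9 : 9 ∣ Nat.card H := by
    obtain ⟨R, hR, hdR⟩ := H13.exists_sylIn_ge (p := 3) (H := H) hD3 le_normalizer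
    obtain ⟨T, hT, hRT⟩ := H13.exists_sylIn_ge (p := 3) (H := ⊤) hR.isPGroup le_top
    have hTc : Nat.card T = 27 := by
      rw [hT.card_eq, card_top, h, show 47520 = 3 ^ 3 * 1760 from rfl,
        Nat.factorization_mul (by norm_num) (by norm_num), Finsupp.add_apply,
        Nat.Prime.factorization_pow Nat.prime_three, Finsupp.single_eq_same,
        Nat.factorization_eq_zero_of_not_dvd (by norm_num)]
      rfl
    obtain ⟨k, hk⟩ := hR.isPGroup.exists_card_eq
    have h1 : Nat.card (zpowers d) ∣ Nat.card R := card_dvd_of_le hdR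
    by_contra h2
    have h3 : Nat.card R = 3 := by
      rw [Nat.card_zpowers, hd, hk] at h1
      rcases k with _ | _ | k
      · simp at h1
      · simpa using hk
      · exact absurd (Dvd.dvd.trans ⟨3 ^ k, by rw [hk]; ring⟩ (card_dvd_of_le hR.le)) h2
    have h4 : zpowers d = R := eq_of_le_of_card_ge hdR (by rw [h3, Nat.card_zpowers, hd])
    haveI := hT.isPGroup.isNilpotent
    have h5 : R.subgroupOf T ≠ ⊤ := fun e => by
      have := card_le_of_le (subgroupOf_eq_top.1 e)
      omega
    obtain ⟨g, hg1, hg2⟩ := SetLike.exists_of_lt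
      (Group.normalizerCondition_of_isNilpotent _ (lt_top_iff_ne_top.2 h5))
    have h6 : (g : S) ∈ H := by
      rw [hH, h4]
      exact H13.normalizer_of_finite fun v hv =>
        H13.conj_mem_of_normalizer (P := R.subgroupOf T) (x := ⟨v, hRT hv⟩) hg1 hv
    have h7 := hR.le_of_le_normalizer (T := T ⊓ H) (hT.isPGroup.to_inf_left) inf_le_right
      (by rw [← h4]; exact inf_le_right)
    exact hg2 (h7 ⟨g.2, h6⟩)
  have hPH : (P : Subgroup S) ≤ H := le_normalizer.trans hNH
  obtain ⟨Q, hQ⟩ := (H13.sylIn_iff hPH).1 ((H13.sylIn_top P).mono hPH le_top)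
  have h1 := card_sylow_modEq_one 11 H
  rw [Q.card_eq_index_normalizer] at h1
  have h2 : normalizer (Q : Set H) = N.subgroupOf H := by
    rw [hNd, subgroupOf_normalizer_eq hPH, ← hQ]; rfl
  rw [h2] at h1
  have h3 := H13.card_mul_relIndex hNH
  have h4 := H.index_mul_card
  rw [← h3, hN, h] at h4
  rw [← h3, hN] at h9
  have h5 : H.index ≠ 1 := fun e => hHt (index_eq_one.1 e)
  have h6 : H.index = 12 := by
    change N.relIndex H ≡ 1 [MOD 11] at h1
    have h7 : N.relIndex H ∣ 144 := ⟨H.index, by nlinarith⟩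
    have h8 := Nat.le_of_dvd (by norm_num) h7
    unfold Nat.ModEq at h1
    generalize N.relIndex H = n at *
    interval_cases n <;> omega
  haveI : Finite (S ⧸ H) := inferInstance
  let e : (S ⧸ H) ≃ Fin 12 := Finite.equivFinOfCardEq h6
  let f : S →* Equiv.Perm (Fin 12) := e.permCongrHom.toMonoidHom.comp (MulAction.toPermHom S (S ⧸ H))
  have hf : Function.Injective f := by
    refine e.permCongrHom.injective.comp ?_
    rw [← MonoidHom.ker_eq_bot_iff, ← normalCore_eq_ker]
    exact (normalCore_normal H).eq_bot_or_eq_top.resolve_right fun e1 =>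
      hHt (top_le_iff.1 (e1 ▸ normalCore_le H))
  exact no33 (f (x0 * d)) (by rw [orderOf_injective f hf, ho])

end H13Dc
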