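import Mathlib

/-! Arithmetic for simple groups of order `9 * 2 ^ a * q ^ b`. -/

set_option autoImplicit false

namespace H13.End

theorem d9 {d : ℕ} (h : d ∣ 9) : d = 1 ∨ d = 3 ∨ d = 9 := by
  have := Nat.le_of_dvd (by norm_num) h
  interval_cases d <;> omega

theorem cop' {u v m k : ℕ} (hm : m.Prime) (hc : u.Coprime v) (h : u * v = 9 * m ^ k) (hu : ¬ m ∣ u) :
    u = 9 ∨ u = 1 := by
  have a : u.Coprime (m ^ k) := ((Nat.Prime.coprime_iff_not_dvd hm).2 hu).symm.pow_right k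
  have b : u ∣ 9 := a.dvd_of_dvd_mul_right ⟨v, h.symm⟩
  rcases d9 b with e | e | e
  · exact Or.inr e
  · subst e
    have c : 3 ∣ v := ⟨m ^ k, by omega⟩
    have := Nat.dvd_gcd (dvd_refl 3) c
    rw [hc] at this; omega
  · exact Or.inl e

theorem cop {u v m k : ℕ} (hm : m.Prime) (hc : u.Coprime v) (h : u * v = 9 * m ^ k) :
    u = 9 ∨ v = 9 ∨ u = 1 ∨ v = 1 := by
  by_cases hu : m ∣ u
  · have hv : ¬ m ∣ v := fun hv => hm.one_lt.ne' (Nat.eq_one_of_dvd_one (hc ▸ Nat.dvd_gcd hu hv))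
    rcases cop' hm hc.symm (by rw [mul_comm]; exact h) hv with e | e <;> simp [e]
  · rcases cop' hm hc h hu with e | e <;> simp [e]

theorem prime_dvd {p q a b : ℕ} (hp : p.Prime) (hq : q.Prime) (h : p ∣ 6 * (9 * 2 ^ a * q ^ b)) :
    p = 2 ∨ p = 3 ∨ p = q := by
  have e : 6 * (9 * 2 ^ a * q ^ b) = 2 ^ (a + 1) * (3 ^ 3 * q ^ b) := by ring
  rw [e] at h
  rcases (Nat.Prime.dvd_mul hp).1 h with h | h
  · exact Or.inl ((Nat.prime_dvd_prime_iff_eq hp Nat.prime_two).1 (hp.dvd_of_dvd_pow h))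
  rcases (Nat.Prime.dvd_mul hp).1 h with h | h
  · exact Or.inr (Or.inl ((Nat.prime_dvd_prime_iff_eq hp Nat.prime_three).1 (hp.dvd_of_dvd_pow h)))
  · exact Or.inr (Or.inr ((Nat.prime_dvd_prime_iff_eq hp hq).1 (hp.dvd_of_dvd_pow h)))

theorem one {u q a b : ℕ} (hq : q.Prime) (h1 : u ≠ 1) (h2 : ¬ 2 ∣ u) (h3 : ¬ 3 ∣ u)
    (h : u ∣ 6 * (9 * 2 ^ a * q ^ b)) : q ∣ u := by
  have hp := Nat.minFac_prime h1
  have hd := Nat.minFac_dvd u
  rcases prime_dvd hp hq (hd.trans h) with e | e | e <;> rw [e] at hd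
  · exact absurd hd h2
  · exact absurd hd h3
  · exact hd

theorem two {u v q a b : ℕ} (hq : q.Prime) (hc : u.Coprime v) (h1 : u ≠ 1) (h2 : ¬ 2 ∣ u) (h3 : ¬ 3 ∣ u)
    (k1 : v ≠ 1) (k2 : ¬ 2 ∣ v) (k3 : ¬ 3 ∣ v)
    (h : u ∣ 6 * (9 * 2 ^ a * q ^ b)) (k : v ∣ 6 * (9 * 2 ^ a * q ^ b)) : False :=
  hq.one_lt.ne' (Nat.eq_one_of_dvd_one (hc ▸ Nat.dvd_gcd (one hq h1 h2 h3 h) (one hq k1 k2 k3 k)))

theorem not_ten {k : ℕ} : 2 ^ k ≠ 10 := fun h => by
  have : 5 ∣ 2 ^ k := by rw [h]; norm_num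
  have := (Nat.prime_five.dvd_of_dvd_pow this); omega

theorem psl {r p c q a b N : ℕ} (hp : p.Prime) (hc : c ≠ 0) (hr : r = p ^ c) (hq : q.Prime) (q2 : q ≠ 2)
    (q3 : q ≠ 3) (hN : N = 9 * 2 ^ a * q ^ b) (h : Nat.gcd 2 (r - 1) * N = r * (r ^ 2 - 1)) :
    N = 360 ∨ N = 504 ∨ N = 2448 := by
  have hpr : p ∣ r := hr ▸ dvd_pow_self p hc
  have r0 : 0 < r := hr ▸ pow_pos hp.pos c
  obtain ⟨s, rfl⟩ : ∃ s, r = s + 1 := ⟨r - 1, by omega⟩
  have e1 : (s + 1) ^ 2 - 1 = s * (s + 2) := by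
    have : (s + 1) ^ 2 = s * (s + 2) + 1 := by ring
    omega
  rw [e1, Nat.add_sub_cancel] at h
  have c2q : Nat.Coprime 2 q := (Nat.coprime_primes Nat.prime_two hq).2 q2.symm
  have c3q : Nat.Coprime 3 q := (Nat.coprime_primes Nat.prime_three hq).2 q3.symm
  have hps : Nat.Coprime p (s * (s + 2)) := by
    rw [Nat.Prime.coprime_iff_not_dvd hp]
    intro hd
    have a1 : p ∣ s * (s + 2) + 1 := by
      have : s * (s + 2) + 1 = (s + 1) * (s + 1) := by ring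
      rw [this]; exact hpr.mul_left _
    exact hp.one_lt.ne' (Nat.eq_one_of_dvd_one ((Nat.dvd_add_right hd).1 a1))
  by_cases p2 : p = 2
  · subst p2
    have s1 : s % 2 = 1 := by omega
    have g : Nat.gcd 2 s = 1 := by rw [Nat.gcd_rec, s1]; rfl
    rw [g, one_mul] at h
    have k : s * (s + 2) = 9 * q ^ b := by
      apply Nat.dvd_antisymm
      · refine (hps.symm.pow_right a).dvd_of_dvd_mul_left ⟨s + 1, ?_⟩
        rw [mul_comm (s * (s + 2)), ← h, hN]; ring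
      · have : Nat.Coprime (9 * q ^ b) (2 ^ c) :=
          Nat.Coprime.pow_right c (Nat.Coprime.mul_left (by norm_num) (c2q.symm.pow_left b))
        refine this.dvd_of_dvd_mul_left ⟨2 ^ a, ?_⟩
        rw [← hr, ← h, hN]; ring
    have cs : Nat.Coprime s (s + 2) := by
      rw [Nat.coprime_self_add_right]; exact Nat.Coprime.symm g
    rcases cop hq cs k with e | e | e | e
    · subst e; exact absurd hr.symm not_ten
    · obtain rfl : s = 7 := by omega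
      omega
    · subst e; omega
    · omega
  have hodd : (s + 1) % 2 = 1 := by
    rw [hr]; exact Nat.odd_iff.1 ((hp.odd_of_ne_two p2).pow)
  obtain ⟨x, rfl⟩ : ∃ x, s = 2 * x := ⟨s / 2, by omega⟩
  rw [Nat.gcd_mul_right_right] at h
  by_cases p3 : p = 3
  · subst p3
    have k : 3 ^ c = 9 := by
      apply Nat.dvd_antisymm
      · have : Nat.Coprime (3 ^ c) (2 ^ (a + 1) * q ^ b) :=
          Nat.Coprime.pow_left c (Nat.Coprime.mul_right (Nat.Coprime.pow_right _ (by norm_num)) (c3q.pow_right b))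
        refine this.dvd_of_dvd_mul_right ⟨2 * x * (2 * x + 2), ?_⟩
        rw [← hr, ← h, hN]; ring
      · refine (hps.pow_left 2).dvd_of_dvd_mul_right ⟨2 * 2 ^ a * q ^ b, ?_⟩
        rw [← hr, ← h, hN]; ring
    obtain rfl : x = 4 := by omega
    omega
  have pq : p = q := by
    have : p ∣ 6 * (9 * 2 ^ a * q ^ b) := by
      have e : 6 * (9 * 2 ^ a * q ^ b) = 3 * (2 * N) := by rw [hN]; ring
      rw [e, h]; exact (hpr.mul_right _).mul_left _
    rcases prime_dvd hp hq this with e | e | e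
    · exact absurd e p2
    · exact absurd e p3
    · exact e
  subst pq
  have k : 2 * x * (2 * x + 2) = 9 * 2 ^ (a + 1) := by
    apply Nat.dvd_antisymm
    · refine (hps.symm.pow_right b).dvd_of_dvd_mul_right ⟨2 * x + 1, ?_⟩
      rw [mul_comm (2 * x * (2 * x + 2)), ← h, hN]; ring
    · have : Nat.Coprime (9 * 2 ^ (a + 1)) (p ^ c) :=
        Nat.Coprime.pow_right c (Nat.Coprime.mul_left (c3q.pow_left 2) (c2q.pow_left _))
      refine this.dvd_of_dvd_mul_left ⟨p ^ b, ?_⟩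
      rw [← hr, ← h, hN]; ring
  obtain ⟨a, rfl⟩ : ∃ a', a = a' + 1 := by
    rcases a with _ | a
    · exfalso
      have : 2 * x * (2 * x + 2) = 4 * (x * (x + 1)) := by ring
      omega
    · exact ⟨a, rfl⟩
  have k' : x * (x + 1) = 9 * 2 ^ a := by
    have e1 : 2 * x * (2 * x + 2) = 4 * (x * (x + 1)) := by ring
    have e2 : 9 * 2 ^ (a + 1 + 1) = 4 * (9 * 2 ^ a) := by ring
    omega
  rcases cop Nat.prime_two (by simp : Nat.Coprime x (x + 1)) k' with e | e | e | e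
  · subst e; exact absurd (by omega) (not_ten (k := a))
  · obtain rfl : x = 8 := by omega
    omega
  · subst e; omega
  · obtain rfl : x = 0 := by omega
    have := Nat.pos_of_ne_zero (pow_ne_zero a two_ne_zero); omega

theorem psu {Q q a b N : ℕ} (h4 : 4 ≤ Q) (h2 : 2 ∣ Q) (h3 : ¬ 3 ∣ Q) (hq : q.Prime)
    (hN : N = 9 * 2 ^ a * q ^ b)
    (h : Nat.gcd 3 (Q + 1) * N = Q ^ 3 * ((Q ^ 2 - 1) * (Q ^ 3 + 1))) : False := by
  obtain ⟨s, rfl⟩ : ∃ s, Q = s + 1 := ⟨Q - 1, by omega⟩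
  have e1 : (s + 1) ^ 2 - 1 = s * (s + 2) := by
    have : (s + 1) ^ 2 = s * (s + 2) + 1 := by ring
    omega
  have e2 : (s + 1) ^ 3 + 1 = (s + 2) * (s * (s + 1) + 1) := by ring
  rw [e1, e2] at h
  have hd : Nat.gcd 3 (s + 1 + 1) * N ∣ 6 * (9 * 2 ^ a * q ^ b) := by
    rw [← hN]; exact Nat.mul_dvd_mul_right ((Nat.gcd_dvd_left _ _).trans (by norm_num)) _
  rw [h] at hd
  have d1 : s ∣ 6 * (9 * 2 ^ a * q ^ b) := (((dvd_mul_right _ _).mul_right _).mul_left _).trans hd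
  have d2 : s + 2 ∣ 6 * (9 * 2 ^ a * q ^ b) := (((dvd_mul_left _ _).mul_right _).mul_left _).trans hd
  have d3 : s * (s + 1) + 1 ∣ 6 * (9 * 2 ^ a * q ^ b) :=
    (((dvd_mul_left _ _).mul_left _).mul_left _).trans hd
  have ev : 2 ∣ s * (s + 1) := h2.mul_left _
  rcases (by omega : s % 3 = 0 ∨ s % 3 = 1) with m | m
  · have t : 3 ∣ s * (s + 1) := Dvd.dvd.mul_right (by omega) _
    refine two hq ?_ (by omega) (by omega) (by omega) (by nlinarith) (by omega) (by omega) d2 d3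
    obtain ⟨y, rfl⟩ : ∃ y, s = y + 1 := ⟨s - 1, by omega⟩
    have : (y + 1) * (y + 1 + 1) + 1 = 3 + (y + 1 + 2) * y := by ring
    rw [this, Nat.coprime_add_mul_left_right]
    exact ((Nat.Prime.coprime_iff_not_dvd Nat.prime_three).2 (by omega)).symm
  · obtain ⟨k, rfl⟩ : ∃ k, s = 3 * k + 1 := ⟨s / 3, by omega⟩
    have e3 : (3 * k + 1) * (3 * k + 1 + 1) + 1 = 3 * (3 * (k * (k + 1)) + 1) := by ring
    have ek : 2 ∣ k * (k + 1) := (Nat.even_mul_succ_self k).two_dvd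
    have k1 : 1 ≤ k := by omega
    have k2 : 1 ≤ k * (k + 1) := Nat.mul_pos k1 (by omega)
    have cc : Nat.Coprime (3 * k + 1) ((3 * k + 1) * (3 * k + 1 + 1) + 1) := by simp
    rw [e3] at cc d3
    exact two hq (cc.coprime_dvd_right (dvd_mul_left _ _)) (by omega) (by omega) (by omega) (by omega)
      (by omega) (by omega) d1 ((dvd_mul_left _ _).trans d3)

theorem sz {m N : ℕ} (h3 : 3 ∣ N)
    (h : N = (2 ^ (2 * m + 1)) ^ 2 * ((2 ^ (2 * m + 1)) ^ 2 + 1) * (2 ^ (2 * m + 1) - 1)) : False := by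
  have e : 2 ^ (2 * m + 1) % 3 = 2 := by
    rw [pow_succ, pow_mul]; simp [Nat.mul_mod, Nat.pow_mod]
  generalize 2 ^ (2 * m + 1) = Q at h e
  obtain ⟨k, rfl⟩ : ∃ k, Q = 3 * k + 2 := ⟨Q / 3, by omega⟩
  rw [h] at h3
  have e1 : (3 * k + 2) ^ 2 = 3 * (3 * k ^ 2 + 4 * k + 1) + 1 := by ring
  rcases (Nat.Prime.dvd_mul Nat.prime_three).1 h3 with h3 | h3
  · rcases (Nat.Prime.dvd_mul Nat.prime_three).1 h3 with h3 | h3 <;> omega
  · omega

end H13.End
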