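import Cfsg.Agent.H13.Wt
/-! The hermitian space of dimension six over the field with four elements: monomial maps and reflections. -/
set_option autoImplicit false
namespace H13
noncomputable section
open MulAction Cfsg Subgroup H22 H27

def bz (b : Bool) : ZMod 2 := Bool.rec 0 1 b
theorem bz_xor (a b : Bool) : bz (a ^^ b) = bz a + bz b := by revert a b; decide
def v6 (n : Nat) : V6 := fun i => ⟨bz (tb n (2 * i)), bz (tb n (2 * i + 1))⟩
theorem v6_xor (a b : Nat) : v6 (a ^^^ b) = v6 a + v6 b := funext fun i => by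
  ext <;> simp [v6, tb_eq, bz_xor]
theorem v6_inj (a : Nat) (ha : a < 2 ^ 12) (h : v6 a = 0) : a = 0 := eq_of_testBit_lt ha (by norm_num) fun k hk => by
  have b : ∀ c, bz c = 0 → c = false := by decide
  have := congrFun h ⟨k / 2, by omega⟩
  rw [Nat.zero_testBit, ← tb_eq]
  rcases Nat.mod_two_eq_zero_or_one k with e | e
  · rw [← show 2 * (k / 2) = k by omega]; exact b _ (congrArg (·.re) this)
  · rw [← show 2 * (k / 2) + 1 = k by omega]; exact b _ (congrArg (·.im) this)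
theorem two6 (v : V6) : v + v = 0 := funext fun i => (by decide : ∀ c : GF4, c + c = 0) _
theorem card_V6 : Nat.card V6 = 4096 := by rw [Nat.card_fun, Nat.card_eq_fintype_card, card_GF4]; simp
def E6 : BE V6 12 where
  e := v6
  xor := v6_xor
  inj := v6_inj
  surj v := by
    obtain ⟨a, h⟩ := ((Nat.bijective_iff_injective_and_card fun a : Fin (2 ^ 12) => v6 a).2 ⟨fun a b h =>
      Fin.ext (Nat.xor_eq_zero_iff.1 (v6_inj _ (Nat.xor_lt_two_pow a.2 b.2) (by rw [v6_xor, show v6 a = v6 b from h, two6]))),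
      by rw [card_V6]; simp⟩).2 v
    exact ⟨a, a.2, h⟩
def pl4 (c d : GF4) : ZMod 2 := c.re * d.im + c.im * d.re
theorem pol_q6 (u v : V6) : pol q6 u v = ∑ i, pl4 (u i) (v i) := by
  rw [pol, q6, q6, q6, ← Finset.sum_add_distrib, ← Finset.sum_add_distrib]
  exact Finset.sum_congr rfl fun i _ => (by decide : ∀ c d : GF4, nm4 (c + d) + nm4 c + nm4 d = pl4 c d) _ _
theorem qf6 : QF q6 where
  two := two6
  add u v w := by
    rw [pol_q6, pol_q6, pol_q6, ← Finset.sum_add_distrib]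
    exact Finset.sum_congr rfl fun i _ => (by decide : ∀ c d e : GF4, pl4 (c + d) e = pl4 c e + pl4 d e) _ _ _
  nd v h := funext fun i => by
    have k : ∀ c, pl4 (v i) c = 0 := fun c => by
      have := h (Pi.single i c)
      rwa [pol_q6, Finset.sum_eq_single i (fun j _ a => by rw [Pi.single_eq_of_ne a]; simp [pl4]) (by simp),
        Pi.single_eq_same] at this
    exact (by decide : ∀ c : GF4, pl4 c 1 = 0 → pl4 c th = 0 → c = 0) _ (k 1) (k th)

/-- pointwise multiplication -/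
def dg6 (d : V6) (h : ∀ i, d i ≠ 0) : AL V6 := AddEquiv.toIntLinearEquiv
  { toFun := fun v => d * v
    invFun := fun v => d * d * v
    left_inv := fun v => funext fun i => (by decide : ∀ c x : GF4, c ≠ 0 → c * c * (c * x) = x) _ _ (h i)
    right_inv := fun v => funext fun i => (by decide : ∀ c x : GF4, c ≠ 0 → c * (c * c * x) = x) _ _ (h i)
    map_add' := mul_add d }
theorem dg6_apply (d : V6) (h : ∀ i, d i ≠ 0) (v : V6) : dg6 d h v = d * v := rfl
def thL : AL V6 := dg6 (fun _ => th) (by decide)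
theorem thL_apply (v : V6) : thL v = th • v := rfl
theorem q6_mul {d : V6} (h : ∀ i, d i ≠ 0) (v : V6) : q6 (d * v) = q6 v :=
  Finset.sum_congr rfl fun i _ => (by decide : ∀ c x : GF4, c ≠ 0 → nm4 (c * x) = nm4 x) _ _ (h i)
/-- permutations of the coordinates -/
def pm6 : Equiv.Perm (Fin 6) →* AL V6 := MonoidHom.mk' (fun σ => AddEquiv.toIntLinearEquiv
  { toFun := fun v => v ∘ σ.symm
    invFun := fun v => v ∘ σ
    left_inv := fun v => funext fun i => congrArg v (σ.symm_apply_apply i)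
    right_inv := fun v => funext fun i => congrArg v (σ.apply_symm_apply i)
    map_add' := fun _ _ => rfl }) fun _ _ => rfl
theorem pm6_single (σ : Equiv.Perm (Fin 6)) (i : Fin 6) (c : GF4) : pm6 σ (Pi.single i c) = Pi.single (σ i) c :=
  funext fun j => by
    change (Pi.single i c : V6) (σ.symm j) = _
    simp only [Pi.single_apply, Equiv.symm_apply_eq]
theorem map_z2 (g : AL V6) (a : ZMod 2) (u : V6) : g (a • u) = a • g u := by rcases z2_cases a with rfl | rfl <;> simp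
/-- transvections -/
def tv (u : V6) : AL V6 := AddEquiv.toIntLinearEquiv
  { toFun := fun v => v + pol q6 v u • u
    invFun := fun v => v + pol q6 v u • u
    left_inv := fun v => by
      rcases z2_cases (pol q6 v u) with a | a <;> simp only [a, zero_smul, add_zero, one_smul, qf6.add, qf6.self]
      rw [add_assoc, two6, add_zero]
    right_inv := fun v => by
      rcases z2_cases (pol q6 v u) with a | a <;> simp only [a, zero_smul, add_zero, one_smul, qf6.add, qf6.self]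
      rw [add_assoc, two6, add_zero]
    map_add' := fun v w => by rw [qf6.add, add_smul]; abel }
theorem tv_apply (u v : V6) : tv u v = v + pol q6 v u • u := rfl
/-- isometries -/
def O6 : Subgroup (AL V6) where
  carrier := {g | ∀ v, q6 (g v) = q6 v}
  one_mem' _ := rfl
  mul_mem' a b v := (a _).trans (b v)
  inv_mem' {g} a v := by rw [← a]; exact congrArg q6 (g.apply_symm_apply v)
theorem tv_conj {g : AL V6} (h : g ∈ O6) (u : V6) : g * tv u * g⁻¹ = tv (g u) := by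
  rw [mul_inv_eq_iff_eq_mul]
  refine LinearEquiv.ext fun v => ?_
  change g (v + _) = g v + pol q6 (g • v) (g • u) • g u
  rw [pol_smul (q := q6) (g := g) h, map_add, map_z2]
def rho2 (f f' : V6) : AL V6 := tv f * tv (th • f) * (tv (th • f') * tv f')
theorem lin_iff {g : AL V6} : g ∈ Cz thL ↔ ∀ v, g (th • v) = th • g v := mem_Cz.trans LinearEquiv.ext_iff
theorem rho2_conj {g : AL V6} (h : g ∈ O6) (l : g ∈ Cz thL) (f f' : V6) : g * rho2 f f' * g⁻¹ = rho2 (g f) (g f') := by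
  rw [rho2, rho2, ← lin_iff.1 l, ← lin_iff.1 l, ← tv_conj h, ← tv_conj h, ← tv_conj h, ← tv_conj h]; group
theorem lin_smul {g : AL V6} (h : g ∈ Cz thL) (c : GF4) (v : V6) : g (c • v) = c • g v := by
  rcases f4_cases c with rfl | rfl | rfl | rfl <;> simp [lin_iff.1 h, mul_smul]
theorem single_eq (i : Fin 6) (c : GF4) : (Pi.single i c : V6) = c • (Pi.single i 1 : V6) := by
  rw [← Pi.single_smul', smul_eq_mul, mul_one]
theorem lin_ext {g k : AL V6} (a : g ∈ Cz thL) (b : k ∈ Cz thL) (h : ∀ i, g (Pi.single i 1) = k (Pi.single i 1)) :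
    g = k := LinearEquiv.ext fun v => by
  rw [← Finset.univ_sum_single v, map_sum, map_sum]
  exact Finset.sum_congr rfl fun i _ => by rw [single_eq, lin_smul a, lin_smul b, h]
theorem dg6_lin (d : V6) (h : ∀ i, d i ≠ 0) : dg6 d h ∈ Cz thL := lin_iff.2 fun v => mul_smul_comm _ _ _
theorem pm6_lin (σ : Equiv.Perm (Fin 6)) : pm6 σ ∈ Cz thL := lin_iff.2 fun _ => rfl
theorem mul_single (d : V6) (i : Fin 6) (c : GF4) : d * Pi.single i c = Pi.single i (d i * c) := funext fun j => by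
  rcases eq_or_ne j i with rfl | a
  · simp
  · simp [Pi.single_eq_of_ne a]

/-- monomial maps -/
def Mn (g : AL V6) (σ : Equiv.Perm (Fin 6)) : Prop := g ∈ Cz thL ∧ ∀ i, ∃ c ≠ 0, g (Pi.single i 1) = Pi.single (σ i) c
theorem mn_iff {g : AL V6} {σ : Equiv.Perm (Fin 6)} : Mn g σ ↔ ∃ d h, g = pm6 σ * dg6 d h := by
  refine ⟨fun ⟨a, b⟩ => ?_, ?_⟩
  · choose d h e using b
    exact ⟨d, h, lin_ext a (mul_mem (pm6_lin _) (dg6_lin _ _)) fun i => by
      rw [e, LinearEquiv.mul_apply, dg6_apply, mul_single, mul_one, pm6_single]⟩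
  · rintro ⟨d, h, rfl⟩
    exact ⟨mul_mem (pm6_lin _) (dg6_lin _ _), fun i => ⟨d i, h i, by
      rw [LinearEquiv.mul_apply, dg6_apply, mul_single, mul_one, pm6_single]⟩⟩
theorem Mn.mul {g k : AL V6} {σ τ : Equiv.Perm (Fin 6)} (a : Mn g σ) (b : Mn k τ) : Mn (g * k) (σ * τ) :=
  ⟨mul_mem a.1 b.1, fun i => by
    obtain ⟨c, hc, e⟩ := b.2 i
    obtain ⟨c', hc', e'⟩ := a.2 (τ i)
    exact ⟨c * c', mul_ne_zero hc hc', by
      rw [LinearEquiv.mul_apply, e, single_eq, lin_smul a.1, e', ← Pi.single_smul']; rfl⟩⟩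
theorem Mn.inv {g : AL V6} {σ : Equiv.Perm (Fin 6)} (a : Mn g σ) : Mn g⁻¹ σ⁻¹ := ⟨inv_mem a.1, fun i => by
  obtain ⟨c, hc, e⟩ := a.2 (σ⁻¹ i)
  refine ⟨c⁻¹, inv_ne_zero hc, g.symm_apply_eq.2 ?_⟩
  rw [single_eq _ c⁻¹, lin_smul a.1, e, ← Pi.single_smul', smul_eq_mul, inv_mul_cancel₀ hc, Equiv.Perm.coe_inv,
    Equiv.apply_symm_apply]⟩
theorem mn_dg (d : V6) (h : ∀ i, d i ≠ 0) : Mn (dg6 d h) 1 := mn_iff.2 ⟨d, h, by rw [map_one, one_mul]⟩
theorem mn_pm (σ : Equiv.Perm (Fin 6)) : Mn (pm6 σ) σ := ⟨pm6_lin σ, fun i => ⟨1, one_ne_zero, pm6_single _ _ _⟩⟩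
theorem Mn.uniq {g : AL V6} {σ τ : Equiv.Perm (Fin 6)} (a : Mn g σ) (b : Mn g τ) : σ = τ := Equiv.ext fun i => by
  obtain ⟨c, hc, e⟩ := a.2 i
  obtain ⟨c', -, e'⟩ := b.2 i
  by_contra f
  have := congrFun (e.symm.trans e') (σ i)
  rw [Pi.single_eq_same, Pi.single_eq_of_ne f] at this
  exact hc this
def N1 : Subgroup (AL V6) where
  carrier := {g | ∃ σ ∈ alternatingGroup (Fin 6), Mn g σ}
  one_mem' := ⟨1, one_mem _, map_one pm6 ▸ mn_pm 1⟩
  mul_mem' := fun ⟨_, a, b⟩ ⟨_, c, d⟩ => ⟨_, mul_mem a c, b.mul d⟩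
  inv_mem' := fun ⟨_, a, b⟩ => ⟨_, inv_mem a, b.inv⟩
theorem card_N1 : Nat.card N1 ≤ 360 * 729 := by
  refine (Nat.card_le_card_of_surjective (fun x : alternatingGroup (Fin 6) × (Fin 6 → {c : GF4 // c ≠ 0}) =>
    (⟨_, x.1.1, x.1.2, mn_iff.2 ⟨_, fun i => (x.2 i).2, rfl⟩⟩ : N1)) fun ⟨g, σ, a, b⟩ => ?_).trans ?_
  · obtain ⟨d, h, rfl⟩ := mn_iff.1 b
    exact ⟨(⟨σ, a⟩, fun i => ⟨d i, h i⟩), rfl⟩
  · rw [Nat.card_prod, nat_card_alternatingGroup, Nat.card_fun, Nat.card_eq_fintype_card (α := {c : GF4 // c ≠ 0}),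
      show Fintype.card {c : GF4 // c ≠ 0} = 3 from rfl]
    simp [Nat.factorial]

def c61 : Equiv.Perm (Fin 6) := c[0, 1, 2, 3, 4]
def c62 : Equiv.Perm (Fin 6) := c[1, 2, 3, 4, 5]
def DL : AL V6 := rho2 (Pi.single 0 1) (Pi.single 1 1)
def DP : AL V6 := rho2 ![1, 1, 1, 0, 0, 0] ![0, 0, 0, 1, 1, 1]
def gM0 : List (AL V6) := [pm6 c61, pm6 c62, DL, DP]
/-- the triple cover of the unitary group -/
def M0 : Subgroup (AL V6) := cl gM0
theorem ext6 {g k : AL V6} (h : ∀ i : Fin 12, g (v6 (2 ^ i.1)) = k (v6 (2 ^ i.1))) : g = k := LinearEquiv.ext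
  (E6.top_of (K := g.toAddEquiv.toAddMonoidHom.eqLocus k.toAddEquiv.toAddMonoidHom) fun i hi => h ⟨i, hi⟩)
theorem DL_eq : DL = dg6 ![th, th * th, 1, 1, 1, 1] (by decide) := ext6 (by decide +kernel)
theorem cols6 {g : AL V6} {A : List Nat} (h : ∀ i : Fin 12, g (v6 (2 ^ i.1)) = v6 (nth 0 A i)) : E6.Cols g A :=
  E6.cols_of fun k hk => h ⟨k, hk⟩
theorem five_mem {P : Subgroup (AL V6)} (h : P ≤ N1) (hc : Nat.card P = 87480) {a : AL V6} (ha : a ∈ N1) (h5 : a ^ 5 = 1) :
    a ∈ P := by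
  have b := card_N1
  have c := (P.subgroupOf N1).card_mul_index
  rw [H1.card_subgroupOf_of_le h, hc] at c
  have := pow_mem_of_relIndex_ne_zero_of_dvd (H := P) (K := N1) (index_ne_zero_of_finite) ha (n := 6) fun m a d => by
    have : m ≤ 3 := by change m ≤ (P.subgroupOf N1).index at d; omega
    interval_cases m <;> norm_num
  rw [pow_succ, h5, one_mul] at this
  exact this.1
theorem n0_mem {P : Subgroup (AL V6)} (h : P ≤ N1) (hc : Nat.card P = 87480) : pm6 c61 ∈ P ∧ pm6 c62 ∈ P ∧ DL ∈ P := by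
  have a : c61 ∈ alternatingGroup (Fin 6) := Equiv.Perm.mem_alternatingGroup.2 (by decide +kernel)
  have b : pm6 c61 ^ 5 = 1 := by rw [← map_pow, show c61 ^ 5 = 1 by decide +kernel, map_one]
  have c := five_mem h hc ⟨_, a, mn_pm _⟩ b
  have d := mn_dg ![th, 1, 1, 1, 1, 1] (by decide)
  refine ⟨c, five_mem h hc ⟨_, Equiv.Perm.mem_alternatingGroup.2 (by decide +kernel), mn_pm c62⟩
    (by rw [← map_pow, show c62 ^ 5 = 1 by decide +kernel, map_one]), ?_⟩
  have := mul_mem (five_mem h hc ⟨_, by simpa using a, (d.mul (mn_pm c61)).mul d.inv⟩ (by rw [conj_pow, b]; simp)) (inv_mem c)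
  convert this using 1
  exact DL_eq.trans (ext6 (by decide +kernel))

end
end H13
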