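import Cfsg.Agent.H13.F6d
/-! Groups of large Fischer type: the action of the centraliser on its extraspecial subgroup. -/
set_option autoImplicit false
namespace H13
noncomputable section
open MulAction Cfsg H27 Subgroup
open scoped Pointwise
universe u

theorem lift_surj {A B C : Type*} [Group A] [Group B] [Group C] (a : A →* B) (ha : Function.Surjective a) (b : A →* C)
    (h : ∀ x, a x = 1 → b x = 1) : ∃ c : B →* C, ∀ x, c (a x) = b x :=
  ⟨a.liftOfSurjective ha ⟨b, h⟩, a.liftOfRightInverse_comp_apply _ _ ⟨b, h⟩⟩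
theorem quot_equiv_of {G Y : Type*} [Group G] [Group Y] {D C : Subgroup G} (ψ : D →* Y) (hs : Function.Surjective ψ)
    (hk : ∀ d : D, ψ d = 1 ↔ (d : G) ∈ C) : ∃ _ : (C.subgroupOf D).Normal, Nonempty ((D ⧸ C.subgroupOf D) ≃* Y) := by
  have : ψ.ker = C.subgroupOf D := Subgroup.ext hk
  have i : (C.subgroupOf D).Normal := this ▸ ψ.normal_ker
  exact ⟨i, ⟨(QuotientGroup.quotientMulEquivOfEq this.symm).trans
    (QuotientGroup.quotientKerEquivOfSurjective ψ hs)⟩⟩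
theorem card_ker_mul {A B : Type*} [Group A] [Group B] (a : A →* B) (ha : Function.Surjective a) :
    Nat.card a.ker * Nat.card B = Nat.card A := by
  rw [← a.ker.card_mul_index, index_ker, MonoidHom.range_eq_top.2 ha, card_top]

variable {G : Type u} [Group G] {z : G} {R : Subgroup G} {π : Cz z →* AL V6} {P : V6 → G → Prop}
/-- conjugating a representation -/
def cjA {V W : Type*} [AddCommGroup V] [AddCommGroup W] (ψ : W ≃+ V) : AL V →* AL W :=
  MonoidHom.mk' (fun k => ψ.toIntLinearEquiv ≪≫ₗ k ≪≫ₗ ψ.toIntLinearEquiv.symm) fun _ _ => by ext; simp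
theorem cjA_apply {V W : Type*} [AddCommGroup V] [AddCommGroup W] (ψ : W ≃+ V) (k : AL V) (v : W) :
    ψ (cjA ψ k v) = k (ψ v) := ψ.apply_symm_apply _

structure FT0 (z : G) (R : Subgroup G) (π : Cz z →* AL V6) (P : V6 → G → Prop) : Prop extends XQ z R 6 q6 π P where
  lo : M0 ≤ π.range
  hi : π.range ≤ LS
  crd : Nat.card π.range = 19595520
  exg : ∃ g, g * z * g⁻¹ ∈ R ∧ g * z * g⁻¹ ≠ z

theorem exists_ft0 [Finite G] {Q : Subgroup (Cz z)} [Q.Normal] (hF : IsOfLargeFischerTypeAt z Q) :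
    ∃ π P, FT0 z (Q.map (Cz z).subtype) π P := by
  obtain ⟨hS, N, M, _, hM, QN, NM, cN, ⟨K, _, _, cK, ⟨i⟩⟩, iM⟩ := hF
  obtain ⟨V, _, q, π, P, h, cV⟩ := (xs_of_setting hS).exists_xq
  have kr : ∀ k, π k = 1 ↔ k ∈ Q := fun k => (h.ker k).trans (mem_map_iff_mem (Cz z).subtype_injective)
  have k1 : ∀ x, π.subgroupMap M x = 1 ↔ x.1 ∈ Q := fun x => Subtype.ext_iff.trans (kr x)
  have k2 : ∀ x, (i.toMonoidHom.comp (QuotientGroup.mk' _)) x = 1 ↔ x.1 ∈ N := fun x =>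
    (map_eq_one_iff _ i.injective).trans (QuotientGroup.eq_one_iff x)
  have s2 := i.surjective.comp (QuotientGroup.mk'_surjective (N.subgroupOf M))
  obtain ⟨f, hf⟩ := lift_surj _ (π.subgroupMap_surjective M) _ fun x a => (k2 x).2 (QN ((k1 x).1 a))
  have s3 : Function.Surjective f := fun y => by obtain ⟨x, rfl⟩ := s2 y; exact ⟨_, hf x⟩
  have c1 := card_ker_mul _ (π.subgroupMap_surjective M)
  have c2 := card_ker_mul (i.toMonoidHom.comp (QuotientGroup.mk' _)) s2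
  have c3 := card_ker_mul f s3
  rw [show MonoidHom.ker _ = Q.subgroupOf M from Subgroup.ext k1, H1.card_subgroupOf_of_le (QN.trans NM)] at c1
  rw [show MonoidHom.ker _ = N.subgroupOf M from Subgroup.ext k2, H1.card_subgroupOf_of_le NM, cN, ← c1, ← c3] at c2
  have cU : Nat.card (PSU 4 K 3) = 3265920 := (Nat.card_congr (U6_iso K cK).some.toEquiv).symm.trans card_U6
  have p0 : 0 < Nat.card Q := Nat.card_pos
  have : Finite V := Nat.finite_of_card_ne_zero (by rw [cV]; norm_num)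
  have c4 : Nat.card f.ker = 3 := by
    rw [cU, mul_comm 3, mul_assoc] at c2
    have := Nat.eq_of_mul_eq_mul_left p0 c2
    omega
  obtain ⟨ψ, a, ρ, b, c, -⟩ := ident6 (M := M.map π) h.qf (by rintro ⟨_, g, -, rfl⟩ v; exact h.iso g v)
    (fun g a => Subtype.ext (LinearEquiv.ext a)) cV cK s3 c4
  have h' := h.twist ψ (π' := (cjA ψ).comp π) (fun k => cjA_apply ψ _) a qf6
  have e : M.map ((cjA ψ).comp π) = M0 := by
    have : ∀ g : M.map π, ρ g = cjA ψ g := fun g => LinearEquiv.ext fun v => ψ.injective ((b g v).trans (cjA_apply ..).symm)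
    rw [← c, ← map_map, show ρ = (cjA ψ).comp (M.map π).subtype from MonoidHom.ext this, MonoidHom.range_comp, range_subtype]
  obtain ⟨g, ⟨u, v⟩, w⟩ := hS.2.2.2.2
  refine ⟨_, _, { h' with
    lo := e ▸ map_le_range _ _
    hi := le_LS' (by rintro _ ⟨k, rfl⟩; exact h'.iso k) (by
      rw [← e, MonoidHom.range_eq_map, ← normalizer_eq_top M]; exact le_normalizer_map _)
    crd := ?_
    exg := ⟨g, mem_map_Cz.2 ⟨u, v⟩, w⟩ }⟩
  have c5 := card_ker_mul _ ((cjA ψ).comp π).rangeRestrict_surjective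
  rw [MonoidHom.ker_rangeRestrict, show MonoidHom.ker _ = Q from Subgroup.ext fun k => (h'.ker k).trans
    (mem_map_iff_mem (Cz z).subtype_injective), ← M.index_mul_card, iM, ← c1, ← c3, c4, cU, mul_left_comm] at c5
  exact Nat.eq_of_mul_eq_mul_left p0 c5

variable [Finite G]
theorem XQ.reb (h : XQ z R 6 q6 π P) {m : AL V6} (hm : m ∈ O6) :
    XQ z R 6 q6 ((MulAut.conj m⁻¹).toMonoidHom.comp π) fun v x => P (m v) x :=
  h.twist m.toAddEquiv (fun k v => by simp) hm qf6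
theorem XQ.card_E (h : XQ z R 6 q6 π P) {g : G} (a : g * z * g⁻¹ ∈ R) (b : g * z * g⁻¹ ≠ z) :
    32 ≤ Nat.card (XQ.im π (MulAut.conj g • R)) := by
  have c := h.card_E_mul (h.toXS.sym (by norm_num) a) b
  have d := Nat.mul_le_mul_left (Nat.card (XQ.im π (MulAut.conj g • R))) (h.card_D_le (h.toXS.sym (by norm_num) a) b)
  omega
theorem XQ.sing {V : Type*} [AddCommGroup V] {q : V → ZMod 2} {π : Cz z →* AL V} {P : V → G → Prop} {w : Nat}
    (h : XQ z R w q π P) {g : G} {v : V} (a : P v (g * z * g⁻¹)) (b : g * z * g⁻¹ ≠ z) : q v = 0 ∧ v ≠ 0 :=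
  ⟨(h.sq' a).1 (h.conj_sq g), fun e => ((h.iff a).2 e).elim (h.conj_ne_one g) b⟩
theorem FT0.mv (h : FT0 z R π P) {g : G} {u v : V6} (a : P v (g * z * g⁻¹)) (b : g * z * g⁻¹ ≠ z) (c : v ∈ orbit M0 u) :
    ∃ g, P u (g * z * g⁻¹) ∧ g * z * g⁻¹ ≠ z := by
  obtain ⟨m, rfl⟩ := c
  obtain ⟨k, e⟩ := h.lo (inv_mem m.2)
  have := h.act k a
  rw [e, show (m.1⁻¹ : AL V6) (m • u) = u from inv_smul_smul m u] at this
  refine ⟨k * g, by simpa [mul_assoc] using this, fun d => b ?_⟩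
  calc g * z * g⁻¹ = (k : G)⁻¹ * (k * g * z * (k * g)⁻¹) * (k : G)⁻¹⁻¹ := by group
    _ = z := by rw [d]; exact mem_Cz'.1 (inv_mem k.2)
theorem FT0.mem62 (h : FT0 z R π P) {g : G} {v : V6} (a : P v (g * z * g⁻¹)) (b : g * z * g⁻¹ ≠ z) : v ∈ S62 := by
  refine (sing6 (h.sing a b).1 (h.sing a b).2).resolve_left fun c => ?_
  obtain ⟨g, a, b⟩ := h.mv a b (orb61 ▸ c)
  have e := h.mem_X a (h.sing a b).2
  have := small61 (h.E_pg g) ((h.E_le g).trans (e.trans_le (inf_le_inf_right _ h.hi))) fun t ht f =>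
    h.E_conj g (e.ge (inf_le_inf_right _ h.lo ht))
  have := h.card_E (h.mem a) b
  omega
theorem FT0.E_eq (h : FT0 z R π P) {g : G} (a : P (v6 85) (g * z * g⁻¹)) (b : g * z * g⁻¹ ≠ z) :
    XQ.im π (MulAut.conj g • R) = Es6 :=
  have e := h.mem_X a (h.sing a b).2
  eq_of_le_of_card_ge (big62 (h.E_pg g) ((h.E_le g).trans (e.trans_le (inf_le_inf_right _ h.hi))) fun _ ht _ =>
    h.E_conj g (e.ge (inf_le_inf_right _ h.lo ht))) (card_Es ▸ h.card_E (h.mem a) b)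
theorem FT0.ex85 (h : FT0 z R π P) : ∃ g, P (v6 85) (g * z * g⁻¹) ∧ g * z * g⁻¹ ≠ z := by
  obtain ⟨g, a, b⟩ := h.exg
  obtain ⟨v, a⟩ := h.ex' _ a
  exact h.mv a b (orb62 ▸ h.mem62 a b)
theorem FT0.rng (h : FT0 z R π P) : π.range = L0 := by
  obtain ⟨g, a, b⟩ := h.ex85
  exact (eq_of_le_of_card_ge (cl_le (List.forall_mem_cons.2 ⟨map_le_range _ _ ((h.E_eq a b).ge (mem_cl List.mem_cons_self)),
    fun _ c => h.lo (mem_cl c)⟩)) (h.crd.trans card_L0.symm).le).symm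
theorem FT0.reb (h : FT0 z R π P) {m : AL V6} (hm : m ∈ L0) :
    FT0 z R ((MulAut.conj m⁻¹).toMonoidHom.comp π) fun v x => P (m v) x := by
  have : ((MulAut.conj m⁻¹).toMonoidHom.comp π).range = π.range := by
    rw [MonoidHom.range_comp, h.rng]; exact conj_smul_eq_self_of_mem (inv_mem hm)
  exact { h.toXQ.reb (LS_O6 (L0_LS hm)) with lo := this ▸ h.lo, hi := this ▸ h.hi, crd := this ▸ h.crd, exg := h.exg }
theorem FT0.at (h : FT0 z R π P) {u v : V6} {x : G} (a : P v x) (c : v ∈ orbit M0 u) : ∃ π P, FT0 z R π P ∧ P u x := by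
  obtain ⟨m, rfl⟩ := c
  exact ⟨_, _, h.reb (M0_L0 m.2), a⟩
theorem FT0.tr (h : FT0 z R π P) {w u v : V6} {x y : G} (a : P u x) (b : P v y) (c : u ∈ orbit M0 w) (d : v ∈ orbit M0 w)
    (hv : v ≠ 0) : ∃ k : Cz z, k * x * k⁻¹ = y := by
  obtain ⟨m, rfl⟩ : v ∈ orbit M0 u := by rwa [orbit_eq_iff.2 c]
  obtain ⟨k, e⟩ := h.lo m.2
  exact h.trans k a (e ▸ b) fun e => hv (by rw [e]; exact smul_zero m)
theorem FT0.conj62 (h : FT0 z R π P) {v : V6} {x : G} (a : P v x) (c : v ∈ S62) : ∃ g, g * z * g⁻¹ = x := by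
  obtain ⟨g, b, -⟩ := h.ex85
  obtain ⟨k, e⟩ := h.tr b a (mem_orbit_self _) (orb62 ▸ c) (ne62 c)
  exact ⟨k * g, by simpa [mul_assoc] using e⟩
theorem FT0.mem_LS (h : FT0 z R π P) (k : Cz z) : π k ∈ LS := h.hi ⟨k, rfl⟩
end
end H13
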