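import Cfsg.Agent.H13.F6e
import Cfsg.Agent.H13.FT
import Cfsg.Agent.H22.SpSu
/-! The triple cover of the unitary group is perfect, with centraliser the scalars. -/
set_option autoImplicit false
namespace H13
noncomputable section
open MulAction Cfsg H27 Subgroup H22
open scoped Pointwise commutatorElement

theorem M0_perf : ⁅M0, M0⁆ = M0 := by
  have c := fun i j => (((gM0_acts.getD i).mul (gM0_acts.getD j)).mul (gM0_acts.getD i).inv).mul (gM0_acts.getD j).inv
  have m : ∀ i < 4, gM0.getD i 1 ∈ M0 := fun i h => mem_cl (by rw [List.getD_eq_getElem _ _ h]; exact List.getElem_mem _)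
  refine le_antisymm (commutator_le.2 fun a u b v => mul_mem (mul_mem (mul_mem u v) (inv_mem u)) (inv_mem v))
    (cl_le (fa61.words 9 (.cons (c 0 1) (.cons (c 0 2) (.cons (c 0 3) (.cons (c 2 3) .nil)))) gM0_acts
      [[1, 7, 4, 3, 4, 7, 5, 0, 5], [5, 6, 5, 2, 0, 5, 2], [1, 2, 6, 0, 6, 0, 6], [5, 6, 4, 6, 4, 6, 5, 6]] (by decide +kernel) ?_))
  simp only [List.forall_mem_cons]
  refine ⟨?_, ?_, ?_, ?_, by simp⟩ <;> exact commutator_mem_commutator (m _ (by norm_num)) (m _ (by norm_num))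
theorem M0_sq {H : Subgroup (AL V6)} (h : ∀ g ∈ M0, g * g ∈ H) : M0 ≤ H := M0_perf.ge.trans (commutator_le.2 fun a u b v => by
  have := mul_mem (mul_mem (h _ (mul_mem u v)) (h _ (mul_mem (mul_mem (inv_mem v) (inv_mem u)) v))) (h _ (inv_mem v))
  rwa [show a * b * (a * b) * (b⁻¹ * a⁻¹ * b * (b⁻¹ * a⁻¹ * b)) * (b⁻¹ * b⁻¹) = ⁅a, b⁆ by rw [commutatorElement_def]; group] at this)
theorem thL3 : thL ^ 3 = 1 := LinearEquiv.ext th_cube
theorem thL_ne : thL ≠ 1 := fun e => ne61 (orb61 ▸ mem_orbit_self (v6 5)) (th_fix (by rw [e]; rfl))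
theorem ord_thL : orderOf thL = 3 := orderOf_eq_prime thL3 thL_ne
theorem cen_M0 {y : AL V6} (h : ∀ g ∈ M0, g * y = y * g) : y ∈ zpowers thL := by
  have k : ∀ y : AL V6, (∀ g ∈ M0, g * y = y * g) → y (v6 1024) = v6 1024 → y = 1 := fun y h a => ext6 fun i => by
    have b : v6 1024 ∈ orbit M0 (v6 1) := orb63 ▸ (mem63 _).2 (by decide +kernel)
    obtain ⟨m, c⟩ : v6 (2 ^ i.1) ∈ orbit M0 (v6 1024) := by
      rw [orbit_eq_iff.2 b, orb63, mem63]; revert i; decide +kernel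
    rw [← c]
    exact (LinearEquiv.congr_fun (h _ m.2) _).symm.trans (congrArg m.1 a)
  have f : ∀ g ∈ gM0, g (v6 1024) = v6 1024 → g (y (v6 1024)) = y (v6 1024) := fun g u v =>
    (LinearEquiv.congr_fun (h _ (mem_cl u)) _).trans (congrArg y v)
  have a := congrFun (f (pm6 c61) (by simp [gM0]) (by decide +kernel))
  have b := congrFun (f DL (by simp [gM0]) (by rw [DL_eq]; decide +kernel)) 0
  obtain ⟨n, c⟩ : ∃ n : ℕ, (thL ^ n) (v6 1024) = y (v6 1024) := by
    have d : y (v6 1024) ≠ 0 := (map_ne_zero_iff _ y.injective).2 (by decide +kernel)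
    generalize y (v6 1024) = v at a b d
    rw [DL_eq] at b
    replace b : v 0 = 0 := (by decide : ∀ c : GF4, th * c = c → c = 0) _ b
    have e : v = ![0, 0, 0, 0, 0, v 5] := by
      have a1 : v 0 = v 1 := a 1
      have a2 : v 1 = v 2 := a 2
      have a3 : v 2 = v 3 := a 3
      have a4 : v 3 = v 4 := a 4
      funext i; fin_cases i <;> simp [← a4, ← a3, ← a2, ← a1, b]
    rw [e] at d ⊢
    rcases f4_cases (v 5) with t | t | t | t <;> rw [t] at d ⊢
    exacts [absurd (by decide) d, ⟨0, by decide +kernel⟩, ⟨1, by decide +kernel⟩, ⟨2, by decide +kernel⟩]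
  refine ⟨n, (zpow_natCast ..).trans (inv_mul_eq_one.1 (k _ (fun g u => ?_) ?_))⟩
  · exact ((Commute.pow_right (mem_Cz.1 (M0_lin u)) n).inv_right.mul_right (h g u)).eq
  · rw [LinearEquiv.mul_apply, ← c]; exact (thL ^ n).symm_apply_apply _
theorem L0_lin {g : AL V6} (h : g ∈ L0) (a : g * thL = thL * g) : g ∈ M0 := by
  by_contra n
  have := fun v => (LinearEquiv.congr_fun a v).symm.trans (L0_semi h n v)
  exact absurd ((map_eq_zero_iff _ g.injective).1 ((map_eq_zero_iff _ thL.injective).1 (th_fix (this (v6 1)).symm)))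
    (by decide +kernel)
theorem nrm3 {y : AL V6} (o : orderOf y = 3) (h : ∀ g ∈ M0, g * y * g⁻¹ ∈ zpowers y) : zpowers y = zpowers thL := by
  have y3 : y ^ 3 = 1 := o ▸ pow_orderOf_eq_one y
  refine eq_of_le_of_card_ge (zpowers_le.2 (cen_M0 fun g a => mem_Cz.1 (M0_sq (H := Cz y) (fun g a => mem_Cz'.2 ?_) a)))
    (by rw [Nat.card_zpowers, Nat.card_zpowers, o, ord_thL])
  obtain ⟨n, l, e⟩ := (Finset.mem_image.1 (mem_zpowers_iff_mem_range_orderOf.1 (h g a)))
  rw [o, Finset.mem_range] at l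
  rw [show g * g * y * (g * g)⁻¹ = g * (g * y * g⁻¹) * g⁻¹ by group, ← e, ← conj_pow, ← e, ← pow_mul]
  interval_cases n
  · exact absurd (orderOf_eq_one_iff.2 (conj_eq_one_iff.1 e.symm)) (by omega)
  · simp
  · rw [pow_succ, y3, one_mul]
theorem M0_quot (F : Type*) [Field F] [Fintype F] (hF : Fintype.card F = 9) :
    ∃ f : M0 →* PSU 4 F 3, Function.Surjective f ∧ ∀ g, f g = 1 ↔ g.1 ∈ zpowers thL := by
  obtain ⟨φ, a, b⟩ := gM0_pts.exists_hom pts_inj (H := M0) rfl
  obtain ⟨i⟩ := U6_iso F hF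
  have s : Function.Surjective (φ.codRestrict U6 fun g => b.le ⟨g, rfl⟩) := fun g => by
    obtain ⟨k, e⟩ := b.ge g.2; exact ⟨k, Subtype.ext e⟩
  have c := card_ker_mul _ s
  rw [card_U6, card_M0, MonoidHom.ker_codRestrict] at c
  have t : φ ⟨thL, thL_M0⟩ = 1 := Equiv.ext fun j => Fin.ext (pts_inj (φ _ j).2 j.2 ((a _ j).symm.trans
    ((List.forall₂_cons.1 ((ActsL.setE (.cons thL_a .nil) (Ms := [.nil]) (by decide +kernel)))).1.act j j.2)))
  have e : (zpowers thL).subgroupOf M0 = φ.ker := eq_of_le_of_card_ge (fun g ⟨n, d⟩ => by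
    rw [show g = ⟨thL, thL_M0⟩ ^ n from Subtype.ext d.symm]; exact zpow_mem t n) (by
      rw [H1.card_subgroupOf_of_le (zpowers_le.2 thL_M0), Nat.card_zpowers, ord_thL]; omega)
  exact ⟨i.toMonoidHom.comp _, i.surjective.comp s, fun g => (map_eq_one_iff _ i.injective).trans
    (Subtype.ext_iff.trans (Subgroup.ext_iff.1 e g).symm)⟩

end
end H13
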