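import Cfsg.Agent.H13.F6g
import Cfsg.Agent.H13.XS2
import Cfsg.Agent.H22.Linear
/-! A singular point of the unitary space, and automorphisms of the group of order eight. -/
set_option autoImplicit false
namespace H13
noncomputable section
open MulAction Cfsg H27 Subgroup H22 Matrix
open scoped Pointwise MatrixGroups

def W6 : AddSubgroup V6 where
  carrier := {v | ∃ t : GF4, t • v6 85 = v}
  zero_mem' := ⟨0, zero_smul ..⟩
  add_mem' := by rintro _ _ ⟨s, rfl⟩ ⟨t, rfl⟩; exact ⟨_, add_smul ..⟩
  neg_mem' := by rintro _ ⟨s, rfl⟩; exact ⟨_, neg_smul ..⟩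
def sm4 : V6 →+ GF4 := AddMonoidHom.mk' (fun v => v 0 + v 1 + v 2 + v 3) fun u v => by simp only [Pi.add_apply]; ring
def Wp : AddSubgroup V6 := sm4.ker
instance decWp (v : V6) : Decidable (v ∈ Wp) := inferInstanceAs (Decidable (v 0 + v 1 + v 2 + v 3 = 0))
theorem W_U : W6 ≤ U6s := by rintro _ ⟨t, rfl⟩; exact ⟨rfl, rfl, rfl⟩
theorem pol_W (v : V6) (t : GF4) : pol q6 v (t • v6 85) = pl4 (sm4 v) t := by
  rw [show t • v6 85 = ![t, t, t, t, 0, 0] by revert t; decide, pol_q6, Fin.sum_univ_six]
  simp [pl4, sm4]; ring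
theorem mem_Wp {v : V6} : v ∈ Wp ↔ ∀ u ∈ W6, pol q6 v u = 0 :=
  ⟨by rintro a _ ⟨t, rfl⟩; rw [pol_W, show sm4 v = 0 from a]; simp [pl4], fun a =>
    (by decide : ∀ c : GF4, (∀ t, pl4 c t = 0) → c = 0) _ fun t => (pol_W v t).symm.trans (a _ ⟨t, rfl⟩)⟩
theorem W_perp {v : V6} (h : ∀ u ∈ Wp, pol q6 v u = 0) : v ∈ W6 := by
  have z : ∀ a, pl4 a 0 = 0 := by decide
  have k : ∀ a b : GF4, (∀ t, pl4 a t + pl4 b t = 0) → a = b := by decide
  have l : ∀ a : GF4, (∀ t, pl4 a t = 0) → a = 0 := by decide
  have a1 := k (v 0) (v 1) fun t => by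
    simpa [pol_q6, Fin.sum_univ_six, z] using h ![t, t, 0, 0, 0, 0] (by revert t; decide)
  have a2 := k (v 0) (v 2) fun t => by
    simpa [pol_q6, Fin.sum_univ_six, z] using h ![t, 0, t, 0, 0, 0] (by revert t; decide)
  have a3 := k (v 0) (v 3) fun t => by
    simpa [pol_q6, Fin.sum_univ_six, z] using h ![t, 0, 0, t, 0, 0] (by revert t; decide)
  have a4 := l (v 4) fun t => by simpa [pol_q6, Fin.sum_univ_six, z] using h ![0, 0, 0, 0, t, 0] (by revert t; decide)
  have a5 := l (v 5) fun t => by simpa [pol_q6, Fin.sum_univ_six, z] using h ![0, 0, 0, 0, 0, t] (by revert t; decide)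
  refine ⟨v 0, ((by decide : ∀ t : GF4, t • v6 85 = ![t, t, t, t, 0, 0]) _).trans (funext fun i => ?_)⟩
  fin_cases i
  exacts [rfl, a1, a2, a3, a4.symm, a5.symm]
theorem card_Wp : Nat.card Wp = 1024 := by
  have := Wp.card_mul_index
  rw [Wp, AddSubgroup.index_ker, AddMonoidHom.range_eq_top.2 fun t => ⟨![t, 0, 0, 0, 0, 0], by simp [sm4]⟩, AddSubgroup.card_top,
    card_V6, Nat.card_eq_fintype_card (α := GF4), card_GF4] at this
  rw [Wp]; omega
theorem card_W6 : Nat.card W6 = 4 := (Nat.card_eq_of_bijective (fun t : GF4 => (⟨_, t, rfl⟩ : W6)) ⟨fun s t e =>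
  (by decide : ∀ s t : GF4, s • v6 85 = t • v6 85 → s = t) s t (congrArg Subtype.val e), by
    rintro ⟨_, t, rfl⟩; exact ⟨t, rfl⟩⟩).symm.trans Nat.card_eq_fintype_card
def A06 : Subgroup (AL V6) := cl (gX0.drop 2)
theorem aA0 : ActsL 378 t61 (gX0.drop 2) (dropL nX0 2) := (List.forall₂_cons.1 aEs).2
theorem A0_Es : A06 ≤ Es6 := cl_le fun _ a => mem_cl (List.mem_cons_of_mem _ a)
theorem A0_M0 : A06 ≤ M0 ⊓ stabilizer (AL V6) (v6 85) := (cl_drop_le gX0 2).trans gX0_le
theorem card_A0 : Nat.card A06 = 16 := aA0.pc_card (K := 9) fa61 t61_inj (by norm_num) (C := [(2, [], [[0], [1], [2]]),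
    (2, [], [[0], [1]]),
    (2, [], [[0]]),
    (2, [], [])]) (by decide +kernel)
  [(161, 1, 1), (9, 1, 1), (0, 1, 1), (1, 1, 1)] (by decide +kernel)
theorem e06_not' : e06 ∉ M0 := fun a => absurd (card_le_of_le (P := L0) (cl_le (List.forall_mem_cons.2 ⟨a, fun _ => mem_cl⟩)))
  (by rw [card_L0, card_M0]; norm_num)
theorem Es_M0 {g : AL V6} (a : g ∈ Es6) (b : g ∈ M0) : g ∈ A06 := by
  have m : e06 ∈ Es6 := mem_cl List.mem_cons_self
  obtain ⟨e, he, k, hk, rfl⟩ := pc_step (K := A06) rfl two_pos (by rw [Es_sq _ m]; exact one_mem _)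
    (fun k hk => by rw [Es_comm _ m _ (A0_Es (mem_cl hk)), mul_inv_cancel_right]; exact mem_cl hk) a
  interval_cases e
  exacts [by simpa using hk, absurd (by simpa using (M0.mul_mem_cancel_left (A0_M0 hk).1).1 b) e06_not']
theorem A0_mv {g : AL V6} (a : g ∈ A06) : ∀ w ∈ Wp, g w + w ∈ W6 := by
  induction a using closure_induction with
  | mem g a =>
    obtain ⟨A, b, c⟩ : ∃ A ∈ cX0.drop 2, E6.Cols g A := by
      obtain ⟨i, l, rfl⟩ := List.getElem_of_mem a
      have := List.forall₂_drop 2 gX0_cols
      exact ⟨_, List.getElem_mem _, this.get l (this.length_eq ▸ l)⟩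
    refine all6 fun i hi d => ?_
    have e := (allN_iff _ _).1 (by decide +kernel : (allN 4096 fun i =>
      decide (v6 i ∈ Wp → (i ^^^ i / 4 ^^^ i / 16 ^^^ i / 64) % 4 = 0)) = true) i hi
    have f := (allN_iff _ _).1 ((allL_iff _ _).1 (by decide +kernel : (allL (cX0.drop 2) fun A => allN 4096 fun i =>
      decide ((i ^^^ i / 4 ^^^ i / 16 ^^^ i / 64) % 4 = 0 → xsum A i ^^^ i = 85 * ((xsum A i ^^^ i) % 4))) = true) A b) i hi
    rw [show g (v6 i) = v6 _ from c i hi, ← v6_xor, of_decide_eq_true f (of_decide_eq_true e d)]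
    exact (by decide : ∀ j < 4, ∃ t : GF4, t • v6 85 = v6 (85 * j)) _ (Nat.mod_lt _ (by norm_num))
  | one => exact fun w _ => (two6 w).symm ▸ zero_mem _
  | mul g k _ _ b c =>
    intro w d
    have e := c w d
    have := add_mem (b _ ((Wp.add_mem_cancel_right d).1 (mem_Wp.2 fun u f => U_pol (W_U e) (W_U f)))) e
    rwa [add_assoc, ← add_assoc (k w), two6, zero_add] at this
  | inv g a b => rwa [inv_eq_of_mul_eq_one_right ((pow_two g).symm.trans (Es_sq _ (A0_Es a)))]
theorem A0_fix {g : AL V6} (a : g ∈ A06) (h : ∀ w ∈ Wp, g w = w) : g = 1 := by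
  have c := ((aA0.slp (K := 9) [([3, 1, 7, 5, 0, 6, 6], (.cons 1 0x15410504450505050511140554414015114404101014455545545545541050505104555540005415541000045400040
 (.cons 2 0x3110233010020301010122020320000223000221000303300320110311033213322003020301102203021102021210
 (.cons 4 0xa030903040b080e0c0b000f0b030403090601020808040f03000404050c030f010000000d0c01020e090f030c0d08
 (.cons 8 0x1002e00ef0019004a00c1006300910031009d005b00aa008b0044006b005c00b100960015009600ef004400d900be
 (.cons 16 0x1a20000839c0000e4610000d8650000057e0000c9020000cb39000067e300002eb100000c7e00005c3600004dae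
 (.cons 32 0x1102dd30000000075ae118200000000538fb8b00000000066edff04000000006d2b5de2000000006d1b812e
 (.cons 64 0x3f6cfd7ff4bbdfb00000000000000009c4d18102cd448ca0000000000000000fcd4008000003302
 (.cons 128 0xcc0c7eeb1211c2960b4bb52c67fc42ed
 (.cons 256 0x3fe63e779de75bffed6cdd5d78db9e3
 (.cons 128 0x586221111240840a8401d5018529c3
 (.cons 64 0x322cf57ff4b8c7900000000000000008c09809004f4c0090000000000000000fc00000000000000
 (.cons 32 0x11344f30000000094bc109800000000538f30b000000000626d140400000000085010d000000000d0000000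
 (.cons 16 0x610000039c0000e01b000058540000011800008a180000ce040000704300002a81000080440000e83d0000a000
 (.cons 8 0x3006300d70071000a00c100230051003500980079009800ad00010034009400bd00960001001e005b001400d50098
 (.cons 4 0x40b0503040e080e0c0b08060b070802090609030808070f030a040008080f0b0d0000090804040002080f000d0d00
 (.cons 2 0x3320133001030300100122120120000323111220000301100222000323013313320002031201111002320100121210
 (.cons 1 0x144010450401040111140144404001010404101004040005544504014401005004415540005000000000044400040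
 .nil)))))))))))))))))),
  ([5, 3, 4, 4, 3, 7, 2, 2, 2], (.cons 1 0x15410505051045455455455544505050505111554105040551144041010144544140155545415540001000045400040
 (.cons 2 0x3110332133220003201102010100203013101031102332020230132210201202200003301102201303021102021210
 (.cons 4 0xe0f00030a0d0c03010c0f00070d060a0e010c0706050b010d01060d00080a0d030700030c08020a0300060e0c0501
 (.cons 8 0x1005900df00a200c8000e000a005200e500e600e100af002b00ef00ae00d80092001600e8002e00e000e30022008c
 (.cons 16 0x2b20000cace0000f78e0000e41600008c450000f93e0000d8b50000247f0000484a000091d80000bee50000cf8f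
 (.cons 32 0x3acdff70000000075a5939c000000008044633100000000824dc37100000000d923b67b0000000007f18225
 (.cons 64 0x2100000010000000000000000027b2ac4a0044413100000000000000000000004000002000
 (.cons 128 0x864660502eb1fea4c0c41f855c8a4430
 (.cons 256 0x3ccd77d5baf7efb1f1df2fda9eae3bf
 (.cons 128 0x244802109a812c3100002750088609a
 (.cons 64 0x410000200000000000000000004602a8800001601000000000000000000000000000000000
 (.cons 32 0x2a19b8500000000b8b5127200000000804561100000000082cc431500000000000620400000000000000000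
 (.cons 16 0x2120000dac4000060020000fcc1000008c000003f070000c070000024f900009844000004000000ac6c00000000
 (.cons 8 0x300dd005900a600c4000a000a008a00a100e2006900ea002b00af00e200c000d2001000e8002900a000e300ae0080
 (.cons 4 0xa0b08070e090c03030c0a000d000a020a050d030e010b0109050209040c0a0d07030303080b0306030c0608000101
 (.cons 2 0x3230133133200002220002010010303013101033201332120230132200201200200001101111001302320100121210
 (.cons 1 0x144010050044055445055544504010401111401440100150104041010040444040000005000000000000044400040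
 .nil)))))))))))))))))),
  ([8, 10, 9, 7, 11, 9], (.cons 1 0x10411440145041155545115541450411555451104114415555554511041144014504115555555555545040555000000
 (.cons 2 0x2001020220220013233213102202200132332020010213101323320200102022022013013013013011103320021222
 (.cons 4 0xf09040f0e03000f010e060c0f030c0e07090807010c060c0f09060f0e01080f030c060f09060f08070d0506090e04
 (.cons 8 0x2005a00f600c8000e0080000e00dc00f7006000960080000600e600dc0062001c000000f0004000bd003a00280000
 (.cons 16 0xec00002e0800007e0000000ce00000170200007e000000067800000e020000fc000000d000000015bf0000d600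
 (.cons 32 0x80000000000000000000000000000020000000000000208000000000000400000200000000029ff2800
 (.cons 64 0x20000000000000000000000000000004000002000000000
 (.cons 128 0x2000000000000000000000000000000
 (.cons 64 0x20000000000000000000000000000000000000000000000
 (.cons 32 0x200000000000000400000200000000000000000
 (.cons 16 0x8000000000000000000000000020000000000000008000002000000000000004000000001bf00000000
 (.cons 8 0xc0026000800680000000c0000001700000052000000060000000c000200d0000000900040003c00b800280000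
 (.cons 4 0xa0d000d0c00000106080000020d000e0600000205080000010e000d0e0000020d00000609000608070d0f02090000
 (.cons 2 0x2001020200200012232210202002000122322020010210201223220200102020020010310310310311121100003000
 (.cons 1 0x10000000145040045145100001450400451451100000000004514511000000014504000000000000005040555000000
 .nil)))))))))))))))),
  ([4, 4, 1, 2], (.cons 1 0x10141050400040504104041000505141411040101410500100101415105050151114040004040010540440000410040
 (.cons 2 0x2002031020000000100310312103212322101020020310002310100000010100110221032021011210021003101000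
 (.cons 4 0x9070701080202050e0b0d0d050906060f0b0c0907070e040f030103020d0001070f000a0000020b0001040c0d0000
 (.cons 8 0x1003c004300d7001900a200ab00820061006700f6008e009a00e600db007400a5000700ad003200f800a100400004
 (.cons 16 0x2280000874000001f850000df1c0000b09c0000fa690000e2d90000a47e00004310000014dd0000940e00000008
 (.cons 32 0x2fbf9e100000000b4e1198600000000411405000000000060564260000000007b4e619700000000c0341c80
 (.cons 64 0x400400100400000000000000000009cea98bf4000402000000000000000000040800000100420
 (.cons 128 0x455683f00ef3cec4618022489b0ee036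
 (.cons 256 0x36cffeff2d685f7abfdbdb3637e5cfc
 (.cons 128 0x10007e080c280a32234b40003024418
 (.cons 64 0x40a040011044200000000000000000042621a80000440000000000000000000000000000000000
 (.cons 32 0xbaf8e400000000a1d4001700000000411404100000000064904668000000005024801200000000c0000000
 (.cons 16 0x2680000674000001f950000de150000c12b0000ca200000d1ac0000a42600000210000025140000945e00000000
 (.cons 8 0x1000100b900d7001c00a300aa00830051000600f6008900aa009700df00740029008100840092007900a000400000
 (.cons 4 0x907070b060002050e0b0905050906060c0c0909070705030a00000302090006070d000201000a0c0001000c0d0000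
 (.cons 2 0x2000011001102000100211232002212231010020000132023221010000000302000021010021010310020003101000
 (.cons 1 0x10140011511140004104050540505140010141501400104054110401104050040004000000100001000440000410040
 .nil)))))))))))))))))),
  ([6, 4], (.cons 1 0x11050500401140400014140005111405041040501010501014111041004115005051400111004540100440000410040
 (.cons 2 0x121221112002100221030233120001003200020310113300232220203301132100022013000200021003101000
 (.cons 4 0xd020a0b0c0c0f080208090f0b030106010405050c0e000207000e0b030205050c0f09070606030400010800040000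
 (.cons 8 0x3001600cb008000c800c800fa0040001f0078004a00b5008f00a7008300a500c000d50063002900010010001000a4
 (.cons 16 0x1ae00000d1900008535000082510000ddb0000056e10000824c0000545b00009bb50000444f0000905d000084c0
 (.cons 32 0x3f0a9ae0000000064d56c2c00000000ba205c2700000000ca832da00000000072a52249000000003c441040
 (.cons 64 0x21d3fac9d5cdbbe000000000000000029816eaead2c3c500000000000000000bc478b5910e53ce6
 (.cons 128 0x6693411c4c38cd09ad17b0b380031980
 (.cons 256 0x12377d287de4c3efe9e923b2c7385ae
 (.cons 128 0x253100044001c9c12803b20230500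
 (.cons 64 0x20944008d138c180000000000000000c38032808002010c00000000000000001400000000000000
 (.cons 32 0x3f4e82e0000000040c22dac00000000c2200d2300000000a6806d8e000000003281328f000000001c000000
 (.cons 16 0x16e000007130000facb000088290000d9b00000145800000da20000146000000b7500003c410000005d00008000
 (.cons 8 0x30016003900a0005a00f800fa0042001f0078004000b500f600170030001600c000d50043007000010010001000a4
 (.cons 4 0xd020a09060e0c070006020d020b0206010401040e0c0602000208080b010605080f0b050600000400010800040000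
 (.cons 2 0x21023312033000322032211120001002222000113020010022000001300122100221010100000020003101000
 (.cons 1 0x11040500511140141110411004011400041040500401104540001415010001005051400100001000100440000410040
 .nil)))))))))))))))))),
  ([0, 2, 1, 1, 3], (.cons 1 0x11050500401140400014140005111405041040501010501014111041004115005051400111004540100440000410040
 (.cons 2 0x121221112002100221030233120001003200020310113300232220203301132100022013000200021003101000
 (.cons 4 0xd020a0b0c0c0f080208090f0b030106010405050c0e000207000e0b030205050c0f09070606030400010800040000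
 (.cons 8 0x3001600cb008000c800c800fa0040001f0078004a00b5008f00a7008300a500c000d50063002900010010001000a4
 (.cons 16 0x1ae00000d1900008535000082510000ddb0000056e10000824c0000545b00009bb50000444f0000905d000084c0
 (.cons 32 0x3f0a9ae0000000064d56c2c00000000ba205c2700000000ca832da00000000072a52249000000003c441040
 (.cons 64 0x21d3fac9d5cdbbe000000000000000029816eaead2c3c500000000000000000bc478b5910e53ce6
 (.cons 128 0x6693411c4c38cd09ad17b0b380031980
 (.cons 256 0x12377d287de4c3efe9e923b2c7385ae
 (.cons 128 0x253100044001c9c12803b20230500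
 (.cons 64 0x20944008d138c180000000000000000c38032808002010c00000000000000001400000000000000
 (.cons 32 0x3f4e82e0000000040c22dac00000000c2200d2300000000a6806d8e000000003281328f000000001c000000
 (.cons 16 0x16e000007130000facb000088290000d9b00000145800000da20000146000000b7500003c410000005d00008000
 (.cons 8 0x30016003900a0005a00f800fa0042001f0078004000b500f600170030001600c000d50043007000010010001000a4
 (.cons 4 0xd020a09060e0c070006020d020b0206010401040e0c0602000208080b010605080f0b050600000400010800040000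
 (.cons 2 0x21023312033000322032211120001002222000113020010022000001300122100221010100000020003101000
 (.cons 1 0x11040500511140141110411004011400041040500401104540001415010001005051400100001000100440000410040
 .nil))))))))))))))))))]
    (by decide +kernel)).word [6, 7, 8, 9, 5, 4, 3, 2, 1, 0]).card_fix_le (d := 9) (c := 1) (m := 16) t61_inj (by norm_num) [(0, 1, 4), (9, 1, 3), (102, 1, 2), (130, 1, 1)]
    (H := A06) (wordG_mem (slpG_mem _ fun _ => mem_cl) _) (by decide +kernel) (by norm_num) card_A0.le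
  exact (eq_bot_of_card_le _ c).le ⟨a, fun x hx => h x (List.forall_mem_map.2 (by decide +kernel) x hx)⟩
theorem A0_ex : ∃ g ∈ A06, ∃ w, g w + w = v6 85 ∧ ∀ t : GF4, t • w ∈ Wp := by
  have := List.forall₂_drop 2 gX0_cols
  obtain ⟨g, a, b⟩ : ∃ g ∈ gX0.drop 2, E6.Cols g (nth [] cX0 2) := ⟨_, List.mem_cons_self, (List.forall₂_cons.1 this).1⟩
  exact ⟨g, mem_cl a, v6 768, by rw [show g (v6 768) = v6 _ from b 768 (by norm_num), ← v6_xor]; rfl, by decide⟩
theorem quotA6 : ∃ f : ↥(M0 ⊓ stabilizer (AL V6) (v6 85)) →* alternatingGroup (Fin 6), Function.Surjective f ∧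
    ∀ g, f g = 1 ↔ g.1 ∈ A06 := by
  obtain ⟨-, φ, a, b⟩ := quot62
  refine ⟨φ.comp (inclusion (inf_le_inf_right _ M0_L0)), fun y => ?_, fun g => (b _).trans ⟨(Es_M0 · g.2.1), (A0_Es ·)⟩⟩
  obtain ⟨g, rfl⟩ := a y
  have e : e06 ∈ L0 ⊓ stabilizer (AL V6) (v6 85) := ⟨e06_L0, fix85 _ (by simp)⟩
  rcases L0_cases g.2.1 with c | ⟨k, c, d⟩
  · exact ⟨⟨g, c, g.2.2⟩, rfl⟩
  · have f := (mul_mem_cancel_right e).1 (d ▸ g.2)
    exact ⟨⟨k, c, f.2⟩, by
      rw [show g = ⟨k, f⟩ * ⟨_, e⟩ from Subtype.ext d, map_mul, (b ⟨_, e⟩).2 (mem_cl List.mem_cons_self), mul_one]; rfl⟩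

abbrev F8 : Type := Fin 3 → ZMod 2
def E3 : BE F8 3 where
  e n i := bz (tb n i)
  xor a b := funext fun i => by simp [tb_eq, bz_xor]
  surj := by decide
  inj := by decide
theorem card_sl32 : Nat.card SL(3, ZMod 2) = 168 := by rw [Nat.card_eq_fintype_card]; decide +kernel
theorem simple_sl32 : IsSimpleGroup SL(3, ZMod 2) := by
  have := H22.gcd_mul_card_PSL (F := ZMod 2) 3 (by norm_num)
  have s := PSL_isSimpleGroup_of_three_le (ι := Fin 3) (F := ZMod 2) le_rfl
  exact (MulEquiv.ofBijective (QuotientGroup.mk' (center _)) ((Nat.bijective_iff_surjective_and_card _).2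
    ⟨QuotientGroup.mk'_surjective _, by simpa using this.symm⟩)).isSimpleGroup
theorem al_sl32 : Nonempty (SL(3, ZMod 2) ≃* AL F8) := by
  refine ⟨MulEquiv.ofBijective (MonoidHom.mk' (fun A => (SpecialLinearGroup.toLin' A).toAddEquiv.toIntLinearEquiv)
    fun a b => by ext v : 1; simp) ⟨fun A B h => SpecialLinearGroup.toLin'_injective
      (LinearEquiv.ext fun v => (LinearEquiv.congr_fun h v :)), fun g => ?_⟩⟩
  let f := g.toAddEquiv.toAddMonoidHom.toZModLinearMap 2
  exact ⟨⟨LinearMap.toMatrix' f, (LinearMap.det_toMatrix' f).trans ((by decide : ∀ a : ZMod 2, a ≠ 0 → a = 1) _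
    (LinearMap.isUnit_det f ((Module.End.isUnit_iff f).2 g.bijective)).ne_zero)⟩,
    LinearEquiv.ext fun v => LinearMap.toMatrix'_mulVec f v⟩
theorem top_F8 {H : Subgroup (AL F8)} {a b c : AL F8} (m : ∀ g ∈ [a, b, c], g ∈ H) (u : E3.Cols a [1, 3, 4])
    (v : E3.Cols b [1, 4, 6]) (w : E3.Cols c [3, 2, 4] ∨ E3.Cols c [3, 2, 6]) : H = ⊤ := by
  refine eq_top_of_le_card _ (((Nat.card_congr al_sl32.some.toEquiv).symm.trans card_sl32).trans_le ?_)
  rcases w with w | w
  · exact (BE.actsL_ful (.cons u (.cons v (.cons w .nil))) (Ns := [(.cons 1 0x44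
      .nil),
      (.cons 2 0x30
      (.cons 4 0xc
      .nil)),
      (.cons 2 0x22
      .nil)]) (by decide +kernel)).le_card_slp (K := 3) E3.injOn le_rfl
      [([3, 5, 2, 1, 4, 4, 0], (.cons 2 0x22
      (.cons 4 0xa
      .nil))),
       ([3, 5, 7, 7, 5, 3, 5, 7], (.cons 1 0x50
      (.cons 2 0x22
      .nil))),
       ([1, 3, 1, 1, 1, 2, 0, 2], (.cons 2 0x30
      .nil)),
       ([3, 5, 2, 2, 4, 2, 2], (.cons 1 0x50
      (.cons 2 0x30
      .nil)))]
       [4, 5, 6, 3, 2, 1, 0] [(2, 1, 3), (1, 1, 2), (4, 1, 2)] m (by decide +kernel) (by decide +kernel)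
  · exact (BE.actsL_ful (.cons u (.cons v (.cons w .nil))) (Ns := [(.cons 1 0x44
      .nil),
      (.cons 2 0x30
      (.cons 4 0xc
      .nil)),
      (.cons 2 0x12
      .nil)]) (by decide +kernel)).le_card_slp (K := 3) E3.injOn le_rfl
      [([1, 5, 1, 4, 0, 3, 4, 3], (.cons 2 0x22
      (.cons 4 0xa
      .nil))),
       ([3, 7, 5, 6, 6, 5, 7, 2], (.cons 2 0x12
      (.cons 4 0xa
      (.cons 1 0x50
      .nil)))),
       ([0, 3, 3, 3, 1, 2, 2], (.cons 1 0x50
      .nil)),
       ([5, 3, 4, 3, 4, 4, 3, 5], (.cons 1 0x50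
      (.cons 2 0x30
      .nil)))]
       [4, 5, 6, 3, 2, 1, 0] [(2, 1, 3), (1, 1, 2), (4, 1, 2)] m (by decide +kernel) (by decide +kernel)

theorem prod_of {Γ A B : Type*} [Group Γ] [Group A] [Group B] [Finite Γ] [IsSimpleGroup A] [IsSimpleGroup B]
    (hA : pCore 2 A = ⊥) (hB : pCore 2 B = ⊥) (hZ : center B = ⊥) {φ : Γ →* A} (s : Function.Surjective φ) {f : φ.ker →* B}
    (t : Function.Surjective f) (p : IsPGroup 2 f.ker) {q : Γ} (q1 : φ q ≠ 1)
    (q2 : ∀ d : φ.ker, ∃ h, f ⟨q * d * q⁻¹ * d.1⁻¹, h⟩ = 1) : ∃ θ : Γ →* A × B, Function.Surjective θ ∧ θ.ker = pCore 2 Γ ∧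
      θ.ker = f.ker.map φ.ker.subtype := by
  have e := H1.comap_pCore_of_surjective 2 t p
  rw [hB, MonoidHom.comap_bot] at e
  have n : (f.ker.map φ.ker.subtype).Normal := e ▸ H1.normal_map_char φ.ker (pCore 2 φ.ker)
  let c := fun (g : Γ) (d : φ.ker) => (⟨g * d * g⁻¹, φ.normal_ker.conj_mem _ d.2 g⟩ : φ.ker)
  let K := (centralizer (SetLike.coe (φ.ker.map (QuotientGroup.mk' (f.ker.map φ.ker.subtype))))).comap (QuotientGroup.mk' _)
  have k0 : ∀ g (d : φ.ker), QuotientGroup.mk' (f.ker.map φ.ker.subtype) d * QuotientGroup.mk' _ g =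
      QuotientGroup.mk' _ g * QuotientGroup.mk' _ d.1 ↔ f (c g d) = f d := fun g d => by
    rw [← map_mul, ← map_mul, eq_comm, ← mul_inv_eq_one, ← map_inv, ← map_mul, ← mul_inv_eq_one (b := f d), ← map_inv, ← map_mul,
      show g * d * (d * g)⁻¹ = (c g d * d⁻¹).1 by simp [c, mul_assoc]]
    exact (QuotientGroup.eq_one_iff _).trans (mem_map_iff_mem (K := f.ker) (x := c g d * d⁻¹) φ.ker.subtype_injective)
  have k : ∀ g, g ∈ K ↔ ∀ d, f (c g d) = f d := fun g => ⟨fun a d => (k0 g d).1 (a _ ⟨d, d.2, rfl⟩), by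
    rintro a _ ⟨d, u, rfl⟩; exact (k0 g ⟨d, u⟩).2 (a _)⟩
  have := φ.normal_ker.map _ (QuotientGroup.mk'_surjective (f.ker.map φ.ker.subtype))
  have sK : ∀ a, ∃ g ∈ K, φ g = a := fun a => (((inferInstance : K.Normal).map φ s).eq_bot_or_eq_top.resolve_left fun b =>
    q1 (b.le ⟨q, (k q).2 fun d => by
      obtain ⟨h, u⟩ := q2 d
      rwa [← mul_inv_eq_one, ← map_inv, ← map_mul], rfl⟩)).ge (mem_top a)
  have uq : ∀ {b b' : B}, (∀ d, b * f d * b⁻¹ = b' * f d * b'⁻¹) → b = b' := fun {b b'} a => (inv_mul_eq_one.1 (hZ.le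
    (mem_center_iff.2 fun y => by
      obtain ⟨d, rfl⟩ := t y
      calc f d * (b'⁻¹ * b) = b'⁻¹ * (b' * f d * b'⁻¹) * b := by group
        _ = _ := by rw [← a]; group))).symm
  have cd : ∀ e d : φ.ker, f (c e d) = f e * f d * (f e)⁻¹ := fun e d => by rw [← map_inv, ← map_mul, ← map_mul]; rfl
  have cc : ∀ g l d, c (g * l) d = c g (c l d) := fun g l d => Subtype.ext (by simp [c, mul_assoc])
  have ex : ∀ g, ∃ b, ∀ d, f (c g d) = b * f d * b⁻¹ := fun g => by
    obtain ⟨l, a, b⟩ := sK (φ g)
    refine ⟨f ⟨l⁻¹ * g, by simp [b]⟩, fun d => ?_⟩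
    rw [← cd, ← (k l).1 a (c (l⁻¹ * g) d), ← cc, mul_inv_cancel_left]
  choose ψ hψ using ex
  have ψ1 : ∀ d : φ.ker, ψ d = f d := fun d => uq fun e => (hψ d e).symm.trans (cd d e)
  let θ := φ.prod (MonoidHom.mk' ψ fun g l => uq fun d => by rw [← hψ, cc, hψ, hψ]; group)
  have k2 : θ.ker = f.ker.map φ.ker.subtype := Subgroup.ext fun g => Prod.ext_iff.trans ⟨fun a =>
    ⟨⟨g, a.1⟩, (ψ1 ⟨g, a.1⟩).symm.trans a.2, rfl⟩, by rintro ⟨d, a, rfl⟩; exact ⟨d.2, (ψ1 d).trans a⟩⟩
  have s2 : Function.Surjective θ := fun ⟨a, b⟩ => by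
    obtain ⟨l, u, rfl⟩ := sK a
    obtain ⟨d, rfl⟩ := t b
    exact ⟨l * d, (map_mul ..).trans <| Prod.ext ((congrArg (φ l * ·) d.2).trans (mul_one _))
      ((congrArg₂ (· * ·) (uq (b := ψ l) (b' := 1) fun e => by rw [← hψ, (k l).1 u]; simp) (ψ1 d)).trans (one_mul _))⟩
  refine ⟨θ, s2, le_antisymm (H1.le_pCore (k2 ▸ p.map _)) fun g a => Prod.ext ?_ ?_, k2⟩
  · exact hA.le (H1.map_pCore_le 2 s ⟨g, a, rfl⟩)
  · exact hB.le (H1.map_pCore_le 2 (f := (MonoidHom.snd A B).comp θ) (Prod.snd_surjective.comp s2) ⟨g, a, rfl⟩)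

end
end H13
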