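import Cfsg.Agent.H13.FT
import Cfsg.Agent.H13.F6e
/-! Groups of large Fischer type: the elementary abelian subgroup of order `2 ^ 11`. -/
set_option autoImplicit false
namespace H13
noncomputable section
open MulAction Cfsg H27 Subgroup
open scoped Pointwise
universe u
variable {G : Type u} [Group G] [Finite G] {z : G} {R : Subgroup G}

namespace XQ
variable {w : ℕ} {V : Type*} [AddCommGroup V] {q : V → ZMod 2} {π : Cz z →* AL V} {P : V → G → Prop} (h : XQ z R w q π P)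
/-- the preimage of a subspace -/
def sub (U : AddSubgroup V) : Subgroup G where
  carrier := {x | ∃ u ∈ U, P u x}
  one_mem' := ⟨0, zero_mem _, h.zero.1⟩
  mul_mem' := fun ⟨_, a, b⟩ ⟨_, c, d⟩ => ⟨_, add_mem a c, h.mul b d⟩
  inv_mem' := fun ⟨_, a, b⟩ => ⟨_, a, h.inv' b⟩
/-- the image of `W ⊓ R` -/
def bar (W : Subgroup G) : AddSubgroup V where
  carrier := {v | ∃ x ∈ W, P v x}
  zero_mem' := ⟨1, one_mem _, h.zero.1⟩
  add_mem' := fun ⟨_, a, b⟩ ⟨_, c, d⟩ => ⟨_, mul_mem a c, h.mul b d⟩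
  neg_mem' := fun {v} a => (h.qf.neg v).symm ▸ a
include h
theorem sub_le (U : AddSubgroup V) : h.sub U ≤ R := fun _ ⟨_, _, b⟩ => h.mem b
theorem z_sub (U : AddSubgroup V) : z ∈ h.sub U := ⟨0, zero_mem _, h.zero.2⟩
theorem mem_sub {U : AddSubgroup V} {v : V} {x : G} (a : P v x) : x ∈ h.sub U ↔ v ∈ U :=
  ⟨fun ⟨_, b, c⟩ => (h.uniq c a).1 (Or.inl rfl) ▸ b, fun b => ⟨v, b, a⟩⟩
theorem sub_le_of {U : AddSubgroup V} {W : Subgroup G} (hz : z ∈ W) (a : U ≤ h.bar W) : h.sub U ≤ W := fun _ ⟨_, b, c⟩ => by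
  obtain ⟨y, d, e⟩ := a b
  rcases (h.uniq e c).2 rfl with rfl | rfl
  exacts [d, mul_mem d hz]
theorem inf_le_sub (W : Subgroup G) : W ⊓ R ≤ h.sub (h.bar W) := fun x a => by
  obtain ⟨v, b⟩ := h.ex' x a.2
  exact ⟨v, ⟨x, a.1, b⟩, b⟩
theorem card_sub (U : AddSubgroup V) : Nat.card (h.sub U) = Nat.card U * 2 := by
  choose s hs using h.ex
  have k : ∀ v b, P v (cond b (s v * z) (s v)) := fun v b => by cases b; exacts [hs v, h.mulz (hs v)]
  have : Function.Bijective fun y : U × Bool => (⟨cond y.2 (s y.1 * z) (s y.1), y.1, y.1.2, k _ _⟩ : h.sub U) := by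
    refine ⟨fun ⟨u, b⟩ ⟨v, c⟩ e => ?_, fun ⟨x, u, a, b⟩ => ?_⟩
    · replace e := congrArg Subtype.val e
      obtain rfl : u = v := Subtype.ext ((h.uniq (k u b) (k v c)).1 (Or.inl e.symm))
      cases b <;> cases c
      exacts [rfl, absurd e.symm (h.ne_mul _), absurd e (h.ne_mul _), rfl]
    · rcases (h.uniq (hs u) b).2 rfl with rfl | rfl
      exacts [⟨(⟨u, a⟩, false), rfl⟩, ⟨(⟨u, a⟩, true), rfl⟩]
  simpa using (Nat.card_eq_of_bijective _ this).symm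
theorem fix_of_comm {k : Cz z} {v : V} {x : G} (a : P v x) (b : k * x = x * k) : π k v = v :=
  (h.uniq (h.act k a) a).1 (Or.inl (by rw [b]; simp))
theorem adjust (k : Cz z) {ι : Type*} {u : ι → V} {x : ι → G} (hx : ∀ j, P (u j) (x j)) (hk : ∀ j, π k (u j) = u j)
    (hy : ∀ f : ι → ZMod 2, ∃ y, ∀ j, pol q y (u j) = f j) : ∃ r ∈ R, ∀ j, x j ∈ Cz (r * k) := by
  classical
  obtain ⟨y, hy⟩ := hy fun j => if k * x j = x j * k then 0 else 1
  obtain ⟨r, hr⟩ := h.ex y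
  refine ⟨r, h.mem hr, fun j => mem_Cz.2 ?_⟩
  have a := h.comm_iff hr (hx j)
  rw [hy] at a
  split_ifs at a with b
  · rw [← mul_assoc, ← a.2 rfl, mul_assoc, ← b, mul_assoc]
  · have c := ((h.uniq (hx j) (h.act k (hx j))).2 (hk j).symm).resolve_left fun c => b (mul_inv_eq_iff_eq_mul.1 c)
    have d := (h.com (h.mem hr) (h.mem (hx j))).resolve_left fun d => one_ne_zero (a.1 d)
    rw [coe_inv, mul_inv_eq_iff_eq_mul] at c
    rw [mul_assoc r, c, ← mul_assoc, ← mul_assoc r, ← mul_assoc r, d, mul_assoc _ z z, h.zz, mul_one]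
theorem pow_four {x : G} (a : x ∈ R) : x ^ 4 = 1 := by
  rw [show x ^ 4 = x * x * (x * x) by simp [pow_succ, mul_assoc]]
  rcases h.sq a with b | b <;> simp [b, h.zz]
theorem nrm_sub {U : AddSubgroup V} {k : Cz z} (a : ∀ u ∈ U, π k u ∈ U) : (k : G) ∈ normalizer (h.sub U : Set G) :=
  mem_normalizer_fintype fun _ ⟨u, b, c⟩ => ⟨_, a u b, h.act k c⟩
end XQ

variable {π : Cz z →* AL V6} {P : V6 → G → Prop}
namespace FT0
variable (h : FT0 z R π P)
/-- the subgroup of order `2 ^ 11` -/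
def A : Subgroup G := centralizer (h.sub U6s : Set G)
include h
theorem lift {m : AL V6} (a : m ∈ L0) : ∃ k, π k = m := h.rng.ge a
theorem mem_L0 (k : Cz z) : π k ∈ L0 := h.rng.le ⟨k, rfl⟩
theorem A_le : h.A ≤ Cz z := fun _ a => mem_Cz.2 (a z (h.z_sub _)).symm
theorem sub_A : h.sub U6s ≤ h.A := fun _ ⟨_, a, b⟩ _ ⟨_, c, d⟩ => (h.comm_iff d b).2 (U_pol c a)
theorem A_inf : h.A ⊓ R = h.sub U6s := le_antisymm (fun x a => by
    obtain ⟨v, b⟩ := h.ex' x a.2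
    refine ⟨v, U_perp fun u hu => ?_, b⟩
    obtain ⟨y, c⟩ := h.ex u
    exact (h.comm_iff b c).1 (a.1 y ⟨u, hu, c⟩).symm) (le_inf h.sub_A (h.sub_le _))
theorem A_B {k : Cz z} (a : k.1 ∈ h.A) : π k ∈ B06 := fixU (h.mem_L0 k) fun u hu => by
  obtain ⟨y, c⟩ := h.ex u
  exact h.fix_of_comm c (a y ⟨u, hu, c⟩).symm
theorem B_A {b : AL V6} (hb : b ∈ B06) : ∃ k : Cz z, k.1 ∈ h.A ∧ π k = b := by
  obtain ⟨k, rfl⟩ := h.lift (M0_L0 (T16_M0 (B06_T hb)))
  choose s hs using h.ex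
  obtain ⟨r, hr, a⟩ := h.adjust k (fun j : Fin 6 => hs (v6 (nth 0 uB j)))
    (fun j => B06_fix hb (by revert j; decide +kernel)) U_dual
  refine ⟨⟨r, h.le hr⟩ * k, fun x hx => mem_Cz.1 (h.sub_le_of (W := Cz (r * k)) (mem_Cz.2
    (mem_Cz.1 (mul_mem (h.le hr) k.2)).symm) (U_ind fun b hb => ?_) hx), by rw [map_mul, (h.ker _).2 hr, one_mul]⟩
  obtain ⟨j, rfl⟩ := (by decide : ∀ b ∈ uB, ∃ j : Fin 6, nth 0 uB j = b) b hb
  exact ⟨_, a j, hs _⟩
theorem im_A : XQ.im π h.A = B06 :=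
  le_antisymm (by rintro _ ⟨k, a, rfl⟩; exact h.A_B a) fun _ a => h.B_A a
theorem card_A : Nat.card h.A = 2 ^ 11 := by
  rw [← h.card_im h.A_le, h.im_A, h.A_inf, h.card_sub, card_U, card_B06]; rfl
theorem nrm_A {k : Cz z} (a : ∀ u ∈ U6s, π k u ∈ U6s) : (k : G) ∈ normalizer (h.A : Set G) :=
  H1.normalizer_le_normalizer_centralizer _ (h.nrm_sub a)
theorem exists_x : ∃ x : Cz z, π x = thL ∧ x ^ 3 = 1 := by
  obtain ⟨x, a⟩ := h.lift (M0_L0 thL_M0)
  have b : thL ^ 3 = 1 := LinearEquiv.ext th_cube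
  refine ⟨x ^ 4, by rw [map_pow, a, pow_succ, b, one_mul], Subtype.ext ?_⟩
  rw [← pow_mul, mul_comm, pow_mul]
  exact h.pow_four ((h.ker _).1 (by rw [map_pow, a, b]))
theorem cen_x {x : Cz z} (a : π x = thL) {y : G} (b : y ∈ R) (c : x * y = y * x) : y = 1 ∨ y = z := by
  obtain ⟨v, d⟩ := h.ex' y b
  exact (h.iff d).2 (th_fix (a ▸ h.fix_of_comm d c))
theorem A_mod {a b : Cz z} (x : a.1 ∈ h.A) (y : b.1 ∈ h.A) (e : π a = π b) : a.1⁻¹ * b ∈ h.sub U6s :=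
  h.A_inf.le ⟨h.A.mul_mem (h.A.inv_mem x) y, (h.ker (a⁻¹ * b)).1 (by rw [map_mul, map_inv, e, inv_mul_cancel])⟩
theorem sub_sq {x : G} (a : x ∈ h.sub U6s) : x * x = 1 := by obtain ⟨u, b, c⟩ := a; exact (h.sq' c).2 (U_q b)
theorem sq_eq {a b : Cz z} (x : a.1 ∈ h.A) (y : b.1 ∈ h.A) (e : π a = π b) : (b : G) * b = a * a := by
  have c := h.A_mod x y e
  calc (b : G) * b = a * (a.1⁻¹ * b * a) * (a.1⁻¹ * b) := by group
    _ = _ := by rw [x _ c, ← mul_assoc a.1 a, mul_assoc (a.1 * a), h.sub_sq c, mul_one]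
theorem A_sq {a : G} (ha : a ∈ h.A) : a * a = 1 := by
  obtain ⟨x, hx, -⟩ := h.exists_x
  have cj : ∀ {k a : Cz z}, (∀ u ∈ U6s, π k u ∈ U6s) → a.1 ∈ h.A → (k * a * k⁻¹).1 ∈ h.A := fun b c =>
    (mem_normalizer_iff.1 (h.nrm_A b) _).1 c
  have k1 : ∀ a : Cz z, a.1 ∈ h.A → a.1 * a = 1 ∨ a.1 * a = z := fun a b => by
    refine h.cen_x hx ((h.ker (a * a)).1 (by rw [map_mul, ← pow_two, B06_sq _ (h.A_B b)])) ?_
    have := h.sq_eq b (cj (k := x) (fun u c => hx ▸ U_th c) b) (by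
      rw [map_mul, map_mul, map_inv, hx, ← mem_Cz.1 (M0_lin (T16_M0 (B06_T (h.A_B b)))), mul_inv_cancel_right])
    exact mul_inv_eq_iff_eq_mul.1 (conj_mul.symm.trans this)
  obtain ⟨c, c1, c2⟩ := h.B_A (b := bb1) (mem_cl (by simp [gB6]))
  have k2 : ∀ a : Cz z, a.1 ∈ h.A → π a ≠ 1 → ∃ k : Cz z, k * (a.1 * a) * k.1⁻¹ = c.1 * c := fun a b d => by
    obtain ⟨n, hn, e⟩ := B06_tr (h.A_B b) d
    obtain ⟨k, rfl⟩ := h.lift (NU_L0 hn)
    exact ⟨k, by rw [h.sq_eq (cj (k := k) (fun u => NU_U hn) b) c1 (by simp [e, c2])]; simp [mul_assoc]⟩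
  rcases k1 c c1 with e | e
  · by_cases d : π ⟨a, h.A_le ha⟩ = 1
    · exact h.sub_sq (h.A_inf.le ⟨ha, (h.ker _).1 d⟩)
    · obtain ⟨k, f⟩ := k2 ⟨a, h.A_le ha⟩ ha d
      rwa [e, conj_eq_one_iff] at f
  have k3 : ∀ a : Cz z, a.1 ∈ h.A → π a ≠ 1 → a.1 * a = z := fun a b d => (k1 a b).resolve_left fun f => by
    obtain ⟨k, g⟩ := k2 a b d
    rw [f, e] at g
    exact h.z_ne (by simpa using g.symm)
  have k4 : ∀ a b : Cz z, a.1 ∈ h.A → b.1 ∈ h.A → π a ≠ 1 → π b ≠ 1 → π a * π b ≠ 1 → b.1 * a = a * b * z :=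
    fun a b u v s t r => by
      have e3 := k3 (a * b) (mul_mem u v) (by rwa [map_mul])
      have e1 := k3 a u s
      have e2 := k3 b v t
      calc b.1 * a = a.1⁻¹ * (a * b * (a * b)) * b.1⁻¹ := by group
        _ = a * (a.1 * a)⁻¹ * z * (b * (b.1 * b)⁻¹) := by rw [show (a * b * (a * b) : G) = z from e3]; group
        _ = _ := by rw [e1, e2, h.z_inv, mul_assoc _ z z, h.zz, mul_one, mul_assoc]
  obtain ⟨d, d1, d2⟩ := h.B_A (b := bb2) (mem_cl (by simp [gB6]))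
  obtain ⟨f, f1, f2⟩ := h.B_A (b := bb3) (mem_cl (by simp [gB6]))
  obtain ⟨n1, n2, n3, n4, n5, n6, n7⟩ := B06_ne
  rw [← c2] at n1 n4 n5 n7
  rw [← d2] at n2 n4 n6 n7
  rw [← f2] at n3 n5 n6 n7
  have e1 := k4 c (d * f) c1 (mul_mem d1 f1) n1 (by rwa [map_mul]) (by rwa [map_mul])
  rw [coe_mul, mul_assoc, k4 c f c1 f1 n1 n3 n5, ← mul_assoc, ← mul_assoc, k4 c d c1 d1 n1 n2 n4, mul_left_inj,
    mul_assoc _ z, ← mem_Cz.1 f.2, ← mul_assoc, ← mul_assoc] at e1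
  exact absurd e1 (h.ne_mul _)
theorem A_comm {a b : G} (x : a ∈ h.A) (y : b ∈ h.A) : a * b = b * a := by
  rw [← inv_eq_of_mul_eq_one_right (h.A_sq (mul_mem x y)), mul_inv_rev, inv_eq_of_mul_eq_one_right (h.A_sq x),
    inv_eq_of_mul_eq_one_right (h.A_sq y)]
theorem cen_A : centralizer (h.A : Set G) = h.A :=
  le_antisymm (centralizer_le h.sub_A) fun _ a _ b => h.A_comm b a

theorem uniqA {W : Subgroup G} (hW : W ≤ Cz z) (c : ∀ x ∈ W, ∀ y ∈ W, x * y = y * x) (hT : XQ.im π W ⊓ M0 ≤ T16)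
    (cW : 2 ^ 11 ≤ Nat.card W) : W = h.A := by
  have e1 := h.card_im hW
  have e2 := card_le_of_le (h.inf_le_sub W)
  have e3 := h.card_le_of_comm (h.sub_le (h.bar W)) (h.z_sub _) fun _ ⟨_, ⟨_, a, b⟩, d⟩ _ ⟨_, ⟨_, e, f⟩, g⟩ =>
    (h.comm_iff d g).2 ((h.comm_iff b f).1 (c _ a _ e))
  rw [h.card_sub] at e2 e3
  have fx : ∀ s ∈ XQ.im π W, ∀ v ∈ h.bar W, s v = v := by
    rintro _ ⟨k, a, rfl⟩ v ⟨x, b, d⟩
    exact h.fix_of_comm d (c _ a _ b)
  have cm : ∀ s ∈ XQ.im π W, ∀ t ∈ XQ.im π W, s * t = t * s := by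
    rintro _ ⟨k, a, rfl⟩ _ ⟨l, b, rfl⟩
    rw [← map_mul, ← map_mul, show k * l = l * k from Subtype.ext (c _ a _ b)]
  have lS : XQ.im π W ≤ L0 := (map_le_range _ _).trans h.rng.le
  have fin : U6s ≤ h.bar W → W = h.A := fun a => eq_of_le_of_card_ge (fun x hx y hy => mem_Cz.1 (h.sub_le_of (W := Cz x)
    (mem_Cz.2 (mem_Cz.1 (hW hx)).symm) (fun u hu => by
      obtain ⟨t, b, d⟩ := a hu
      exact ⟨t, mem_Cz.2 (c _ b _ hx), d⟩) hy)) (h.card_A ▸ cW)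
  generalize XQ.im π W = S at *
  generalize h.bar W = D at *
  have e4 := ab_T16 hT fun x a y b => cm x a.1 y b.1
  have e5 := (card_le_of_le (inf_le_right : S ⊓ M0 ⊓ B06 ≤ B06)).trans card_B06.le
  have e6 : 16 ≤ Nat.card ↥(S ⊓ M0 ⊓ B06) → Nat.card ↥(S ⊓ M0) ≤ 16 := fun a => by
    have := (eq_of_le_of_card_ge inf_le_right (card_B06.trans_le a)).ge
    exact (card_le_of_le fun g b => cen_B06 (hT b) fun t d => cm _ b.1 _ (this d).1.1).trans card_B06.le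
  have e7 : Nat.card S ≤ 2 * Nat.card ↥(S ⊓ M0) := by
    have a : M0.relIndex L0 = 2 := by
      have := (M0.subgroupOf L0).index_mul_card
      rw [H1.card_subgroupOf_of_le M0_L0, card_M0, card_L0] at this
      exact Nat.eq_of_mul_eq_mul_right (by norm_num : 0 < 9797760) this
    rw [← ((S ⊓ M0).subgroupOf S).index_mul_card, H1.card_subgroupOf_of_le inf_le_left]
    exact Nat.mul_le_mul_right _ ((inf_relIndex_left S M0).trans_le ((relIndex_le_of_le_right lS (by omega)).trans a.le))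
  have f2 : ∀ s ∈ S ⊓ M0, ∀ u ∈ D, ∀ v ∈ D, s (u + thL v) = u + thL v := fun s a u b v d => by
    rw [map_add, M0_th a.2, fx s a.1 u b, fx s a.1 v d]
  have e8 : 3 ≤ Nat.card ↥(S ⊓ M0 ⊓ B06) → ∀ u ∈ D, ∀ v ∈ D, u + thL v ∈ U6s := fun a u b v d => by
    have := Fintype.ofFinite ↥(S ⊓ M0 ⊓ B06)
    rw [Nat.card_eq_fintype_card] at a
    obtain ⟨s, t, s1, t1, n⟩ : ∃ s t : ↥(S ⊓ M0 ⊓ B06), s ≠ 1 ∧ t ≠ 1 ∧ s ≠ t := by
      obtain ⟨x, y, w, i, j, k⟩ := Fintype.two_lt_card_iff.1 a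
      exact ⟨x⁻¹ * y, x⁻¹ * w, by rwa [Ne, inv_mul_eq_one], by rwa [Ne, inv_mul_eq_one], by simpa using k⟩
    exact fix_two s.2.2 t.2.2 (by simpa using s1) (by simpa using t1) (Subtype.coe_injective.ne n)
      (f2 _ s.2.1 u b v d) (f2 _ t.2.1 u b v d)
  have e0 : 1024 ≤ Nat.card S * Nat.card D := by nlinarith
  have e9 : ∀ n m, Nat.card D ≤ n → n * m < 1024 → m < Nat.card S := fun n m a b => by
    by_contra d
    have := Nat.mul_le_mul (not_lt.1 d) a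
    rw [mul_comm m] at this
    omega
  have e10 := e9 64 15 (by omega) (by norm_num)
  by_cases hS : S ≤ M0
  · rw [inf_eq_left.2 hS] at e4 e5 e6 e8 f2
    have DU : D ≤ U6s := fun u b => by simpa using e8 (by omega) u b 0 (zero_mem _)
    have d := (D.addSubgroupOf U6s).index_mul_card
    rw [card_U, Nat.card_congr (AddSubgroup.addSubgroupOfEquivOfLe DU).toEquiv] at d
    by_cases b : Nat.card D ≤ 16
    · have := e9 16 63 b (by norm_num)
      omega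
    have i : (D.addSubgroupOf U6s).index ≤ 2 := by
      have : Nat.card D ∣ 2 ^ 6 := Dvd.intro_left _ d
      obtain ⟨j, hj, e⟩ := (Nat.dvd_prime_pow Nat.prime_two).1 this
      rw [e] at b d
      interval_cases j <;> omega
    have k : ∀ u ∈ U6s, u ∈ D ∨ thL u ∈ D ∨ thL (thL u) ∈ D := fun u hu => by
      rcases (by have := (D.addSubgroupOf U6s).index_ne_zero_of_finite; omega : (D.addSubgroupOf U6s).index = 1 ∨
        (D.addSubgroupOf U6s).index = 2) with j | j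
      · exact .inl ((AddSubgroup.index_eq_one.1 j).ge (AddSubgroup.mem_top (⟨u, hu⟩ : U6s)))
      · by_contra n
        rw [not_or, not_or] at n
        have := (AddSubgroup.add_mem_iff_of_index_two j (a := ⟨u, hu⟩) (b := ⟨_, U_th hu⟩)).2 (iff_of_false n.1 n.2.1)
        exact n.2.2 (qf6.eq_of (th3 u) ▸ this)
    have SB : Nat.card S ≤ 16 := (card_le_of_le fun s hs => fixU (lS hs) fun u hu => by
      rcases k u hu with l | l | l
      · exact fx s hs u l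
      · exact thL.injective ((M0_th (hS hs) u).symm.trans (fx s hs _ l))
      · exact thL.injective (thL.injective (by rw [← M0_th (hS hs), ← M0_th (hS hs), fx s hs _ l]))).trans card_B06.le
    exact fin (AddSubgroup.eq_of_le_of_card_ge DU (by rw [card_U]; nlinarith)).ge
  obtain ⟨s, hs, ns⟩ := Set.not_subset.1 hS
  have sq : ∀ X : Set V6, (∀ u ∈ D, ∀ v ∈ D, u + thL v ∈ X) → Nat.card D * Nat.card D ≤ X.ncard := fun X a => by
    rw [← Nat.card_prod, ← Nat.card_coe_set_eq]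
    refine Nat.card_le_card_of_injective (fun y : D × D => (⟨_, a _ y.1.2 _ y.2.2⟩ : X)) fun ⟨u, v⟩ ⟨u', v'⟩ e => ?_
    replace e : u.1 + thL v = u' + thL v' := congrArg Subtype.val e
    have b : thL (v.1 - v') = u' - u := by rw [map_sub]; linear_combination (norm := abel) e
    have d := L0_semi (lS hs) ns (v.1 - v')
    rw [fx s hs _ (sub_mem v.2 v'.2), b, fx s hs _ (sub_mem u'.2 u.2)] at d
    have f := th_fix d.symm
    rw [f, map_eq_zero_iff _ thL.injective] at b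
    exact Prod.ext (Subtype.ext (sub_eq_zero.1 f).symm) (Subtype.ext (sub_eq_zero.1 b))
  have a1 := Finite.one_lt_card_iff_nontrivial.1 (by omega : 1 < Nat.card ↥(S ⊓ M0 ⊓ B06))
  obtain ⟨b, hb⟩ := exists_ne (1 : ↥(S ⊓ M0 ⊓ B06))
  have a2 := (sq _ (f2 _ b.2.1)).trans (fix_card b.2.2 (by simpa using hb))
  have a3 : Nat.card D ≤ 16 := by nlinarith
  have a4 := e9 16 63 a3 (by norm_num)
  have a5 := sq _ (e8 (by omega))
  rw [← Nat.card_coe_set_eq, SetLike.coe_sort_coe, card_U] at a5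
  have a6 : Nat.card D ≤ 8 := by nlinarith
  have a7 := e9 8 127 a6 (by norm_num)
  omega
theorem syl (T : Sylow 2 (Cz z)) : ∃ π P, FT0 z R π P ∧ T16.comap π ≤ T := by
  have : IsPGroup 2 π.ker := by
    rw [show π.ker = R.subgroupOf (Cz z) from Subgroup.ext h.ker]; exact h.pg.comap_subtype
  obtain ⟨S, a⟩ := ((IsPGroup.of_card card_T16).comap_of_ker_isPGroup π this).exists_le_sylow
  obtain ⟨k, rfl⟩ := exists_smul_eq (Cz z) S T
  refine ⟨_, _, h.reb (h.mem_L0 k), fun x hx => ?_⟩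
  rw [Sylow.coe_subgroup_smul, mem_pointwise_smul_iff_inv_smul_mem]
  exact a (by simpa using hx)
theorem maxEA {Γ : Type u} [Group Γ] {ι : Γ →* G} (j : Function.Injective ι) (p : IsPGroup 2 Γ) (le : ι.range ≤ Cz z)
    (a : ∀ k, π k ∈ T16 → k.1 ∈ ι.range) : h.A ≤ ι.range ∧ maxElementaryAbelianSubgroups 2 Γ = {h.A.comap ι} := by
  have l : h.A ≤ ι.range := fun x b => a ⟨x, h.A_le b⟩ (B06_T (h.A_B b))
  have t : XQ.im π ι.range ⊓ M0 ≤ T16 := by
    have q : IsPGroup 2 ↥(XQ.im π ι.range ⊓ M0) := ((p.of_surjective _ ι.rangeRestrict_surjective).comap_subtype.map π).to_inf_left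
    obtain ⟨n, e⟩ := IsPGroup.iff_card.1 q
    have d := card_dvd_of_le (inf_le_right : XQ.im π ι.range ⊓ M0 ≤ M0)
    rw [e, card_M0] at d
    refine (eq_of_le_of_card_ge (le_inf (fun m b => ?_) T16_M0) ?_).ge
    · obtain ⟨k, rfl⟩ := h.lift (M0_L0 (T16_M0 b))
      exact ⟨k, a k b, rfl⟩
    · rw [e, card_T16]
      exact Nat.pow_le_pow_right two_pos (not_lt.1 fun c => absurd ((pow_dvd_pow 2 c).trans d) (by norm_num))
  have c : Nat.card (h.A.comap ι) = 2 ^ 11 := by rw [← card_map_of_injective j, map_comap_eq_self l, h.card_A]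
  have e : IsElementaryAbelian 2 (h.A.comap ι) := ⟨⟨⟨fun x y => Subtype.ext (j (by simpa using h.A_comm x.2 y.2))⟩⟩,
    fun x b => j (by rw [map_pow, pow_two, h.A_sq b, map_one])⟩
  have k : ∀ B : Subgroup Γ, IsElementaryAbelian 2 B → 2 ^ 11 ≤ Nat.card B → B = h.A.comap ι := fun B b d => by
    rw [← h.uniqA (W := B.map ι) ((map_le_range _ _).trans le) (by
      rintro _ ⟨x, u, rfl⟩ _ ⟨y, v, rfl⟩
      rw [← map_mul, ← map_mul]
      exact congrArg (ι ·.1) (b.1.1.1 ⟨x, u⟩ ⟨y, v⟩))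
      ((inf_le_inf_right _ (map_mono (subgroupOf_mono _ (map_le_range _ _)))).trans t) (by rwa [card_map_of_injective j]),
      comap_map_eq_self_of_injective j]
  have : Finite Γ := Finite.of_injective _ j
  refine ⟨l, Set.eq_singleton_iff_unique_mem.2 ⟨⟨e, fun B b => ?_⟩, fun B b => k B b.1 (c ▸ b.2 _ e)⟩⟩
  by_contra d
  rw [k B b (c ▸ (not_le.1 d).le)] at d
  exact d le_rfl
end FT0
end
end H13
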