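import Cfsg.Agent.H13.FM
import Cfsg.Agent.H13.F6h
/-! Groups of large Fischer type: the normaliser of a pure elementary abelian subgroup of order eight. -/
set_option autoImplicit false
namespace H13
noncomputable section
open MulAction Cfsg H27 Subgroup H22
open scoped Pointwise MatrixGroups commutatorElement
universe u
variable {G : Type u} [Group G] [Finite G] {z : G} {R : Subgroup G}

omit [Finite G] in
theorem exists_rho {F : Type*} [AddCommGroup F] {ε : F → G} (add : ∀ a b, ε (a + b) = ε a * ε b) (j : Function.Injective ε)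
    {V : Subgroup G} (hV : ∀ y, y ∈ V ↔ ∃ c, ε c = y) : ∃ ρ : normalizer (V : Set G) →* AL F,
      (∀ k c, ε (ρ k c) = k * ε c * k.1⁻¹) ∧ ∀ k, ρ k = 1 ↔ k.1 ∈ centralizer (V : Set G) := by
  choose f hf using fun (k : normalizer (V : Set G)) c => (hV _).1 ((mem_normalizer_iff.1 k.2 _).1 ((hV _).2 ⟨c, rfl⟩))
  let _ : DistribMulAction (normalizer (V : Set G)) F :=
    { smul := f
      one_smul := fun c => j ((hf 1 c).trans (by simp))
      mul_smul := fun k l c => j ((hf _ c).trans (Eq.trans (by rw [hf]; simp [mul_assoc]) (hf k (f l c)).symm))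
      smul_zero := fun k => j ((hf k 0).trans (by rw [left_eq_mul.1 ((congrArg ε (add_zero 0)).symm.trans (add 0 0))]; simp))
      smul_add := fun k a b => j ((hf k _).trans (by rw [add, add]; erw [hf, hf]; simp [mul_assoc])) }
  refine ⟨DistribMulAction.toModuleAut ℤ F, hf, fun k => ⟨fun a y b => ?_, fun a => LinearEquiv.ext fun c =>
    j ((hf k c).trans (mul_inv_eq_iff_eq_mul.2 (a _ ((hV _).2 ⟨c, rfl⟩)).symm))⟩⟩
  obtain ⟨c, rfl⟩ := (hV y).1 b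
  exact (mul_inv_eq_iff_eq_mul.1 ((hf k c).symm.trans (congrArg ε (LinearEquiv.congr_fun a c)))).symm

variable {π : Cz z →* AL V6} {P : V6 → G → Prop}
namespace FT0
variable (h : FT0 z R π P)
include h
theorem V_le : h.sub W6 ≤ h.A := fun _ ⟨u, a, b⟩ => h.sub_A ⟨u, W_U a, b⟩
theorem C_le : centralizer (h.sub W6 : Set G) ≤ Cz z := fun _ a => mem_Cz.2 (a z (h.z_sub _)).symm
theorem C_inf : centralizer (h.sub W6 : Set G) ⊓ R = h.sub Wp := le_antisymm (fun x a => by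
    obtain ⟨v, b⟩ := h.ex' x a.2
    refine ⟨v, mem_Wp.2 fun u hu => ?_, b⟩
    obtain ⟨y, c⟩ := h.ex u
    exact (h.comm_iff b c).1 (a.1 y ⟨u, hu, c⟩).symm)
  (le_inf (fun _ ⟨_, a, b⟩ _ ⟨_, c, d⟩ => ((h.comm_iff b d).2 (mem_Wp.1 a _ c)).symm) (h.sub_le _))
theorem C_X {k : Cz z} (a : k.1 ∈ centralizer (h.sub W6 : Set G)) : π k ∈ M0 ⊓ stabilizer (AL V6) (v6 85) := by
  have b : ∀ t : GF4, π k (t • v6 85) = t • v6 85 := fun t => by
    obtain ⟨y, c⟩ := h.ex (t • v6 85)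
    exact h.fix_of_comm c (a y ⟨_, ⟨t, rfl⟩, c⟩).symm
  have c : π k (v6 85) = v6 85 := by simpa using b 1
  refine ⟨by_contra fun n => ?_, c⟩
  have := L0_semi (h.mem_L0 k) n (v6 85)
  rw [c, thL_apply, b] at this
  exact absurd this (by decide +kernel)
variable {x : Cz z} (hx : π x = thL)
include hx
theorem mem_C {k : Cz z} (a : k * x = x * k) (b : π k ∈ M0 ⊓ stabilizer (AL V6) (v6 85)) :
    k.1 ∈ centralizer (h.sub W6 : Set G) := fun y hy =>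
  mem_Cz.1 (h.sub_le_of (W := Cz k.1) (mem_Cz.2 (mem_Cz.1 k.2).symm) (by
    rintro _ ⟨t, rfl⟩
    have := h.mu_cj hx a (t • v6 85)
    rw [lin_smul (M0_lin b.1), show π k (v6 85) = _ from b.2] at this
    exact ⟨_, mem_Cz.2 (mul_inv_eq_iff_eq_mul.1 this).symm, h.mu_P hx _⟩) hy)
theorem exists_phi : ∃ φ : normalizer (h.sub W6 : Set G) →* SL(3, ZMod 2), Function.Surjective φ ∧
    (∀ k, φ k = 1 ↔ k.1 ∈ centralizer (h.sub W6 : Set G)) ∧ R ≤ normalizer (h.sub W6 : Set G) := by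
  let ε : F8 → G := fun c => z ^ (c 0).val * h.mu x ((⟨c 1, c 2⟩ : GF4) • v6 85)
  have p : ∀ c : F8, P ((⟨c 1, c 2⟩ : GF4) • v6 85) (ε c) := fun c => by
    rcases z2_cases (c 0) with a | a <;> simp only [ε, a]
    exacts [by simpa using h.mu_P hx _, by simpa [ZMod.val_one] using h.mul h.zero.2 (h.mu_P hx _)]
  have add : ∀ a b, ε (a + b) = ε a * ε b := fun a b => by
    have : (⟨(a + b) 1, (a + b) 2⟩ : GF4) = ⟨a 1, a 2⟩ + ⟨b 1, b 2⟩ := rfl
    simp only [ε, this]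
    rw [add_smul, Pi.add_apply, h.zp_add, h.mu_U hx (W_U ⟨_, rfl⟩) (W_U ⟨_, rfl⟩)]
    exact ((Commute.pow_right (h.comm (h.mem (h.mu_P hx _))) _).symm.mul_mul_mul_comm ..)
  have j : Function.Injective ε := fun a b e => by
    have u := (by decide : ∀ s t : GF4, s • v6 85 = t • v6 85 → s = t) _ _ ((h.uniq (p a) (p b)).1 (.inl e.symm))
    simp only [ε, u, mul_left_inj] at e
    have v : a 0 = b 0 := by
      rcases z2_cases (a 0) with s | s <;> rcases z2_cases (b 0) with t | t <;> rw [s, t] at e ⊢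
      exacts [absurd (by simpa [ZMod.val_one] using e.symm) h.z_ne, absurd (by simpa [ZMod.val_one] using e) h.z_ne]
    funext i; fin_cases i
    exacts [v, congrArg (·.re) u, congrArg (·.im) u]
  obtain ⟨ρ, a, b⟩ := exists_rho add j (V := h.sub W6) fun y => ⟨by
    rintro ⟨_, ⟨t, rfl⟩, c⟩
    rcases (h.uniq (h.mu_P hx _) c).2 rfl with rfl | rfl
    exacts [⟨![0, t.re, t.im], by simp [ε]⟩, ⟨![1, t.re, t.im], by simp [ε, ZMod.val_one, h.comm (h.mem (h.mu_P hx _))]⟩],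
    by rintro ⟨c, rfl⟩; exact ⟨_, ⟨_, rfl⟩, p c⟩⟩
  have nR : R ≤ normalizer (h.sub W6 : Set G) := fun y c => h.nrm_sub (k := ⟨y, h.le c⟩) fun u d => by rwa [(h.ker _).2 c]
  obtain ⟨i⟩ := al_sl32
  refine ⟨i.symm.toMonoidHom.comp ρ, i.symm.surjective.comp (MonoidHom.range_eq_top.1 ?_),
    fun k => (map_eq_one_iff _ i.symm.injective).trans (b k), nR⟩
  have e1 : ε (E3.e 1) = z := by
    change z ^ (1 : ZMod 2).val * h.mu x ((0 : GF4) • _) = z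
    rw [zero_smul, h.mu_zero hx]; simp [ZMod.val_one]
  have e2 : ε (E3.e 2) = h.mu x (v6 85) := by
    change z ^ (0 : ZMod 2).val * h.mu x ((1 : GF4) • _) = _
    simp
  have e4 : ε (E3.e 4) = h.mu x (thL (v6 85)) := by
    change z ^ (0 : ZMod 2).val * h.mu x (th • _) = _
    simp [thL_apply]
  have e3 : ε (E3.e 3) = z * h.mu x (v6 85) := ((congrArg ε (E3.xor 1 2)).trans (add ..)).trans (congrArg₂ _ e1 e2)
  have e6 : ε (E3.e 6) = h.mu x (thL (v6 85)) * h.mu x (v6 85) := 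
    ((congrArg ε (E3.xor 4 2)).trans (add ..)).trans (congrArg₂ _ e4 e2)
  have cl : ∀ (k : normalizer (h.sub W6 : Set G)) {s t u}, k * z * k.1⁻¹ = ε (E3.e s) → k * h.mu x (v6 85) * k.1⁻¹ = ε (E3.e t) →
      k * h.mu x (thL (v6 85)) * k.1⁻¹ = ε (E3.e u) → E3.Cols (ρ k) [s, t, u] := fun k s t u b c d =>
    E3.cols_of fun i l => j ((a k _).trans (by interval_cases i; exacts [e1.symm ▸ b, e2.symm ▸ c, e4.symm ▸ d]))
  obtain ⟨r, r1⟩ := h.ex (v6 2)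
  have s1 := h.mu_P hx (v6 85)
  have s2 := h.mu_P hx (thL (v6 85))
  obtain ⟨g, e⟩ := h.conj62 s1 (orb62 ▸ mem_orbit_self _)
  have ne : g * z * g⁻¹ ≠ z := fun d => ne62 (orb62 ▸ mem_orbit_self _) ((h.iff s1).1 (.inr (e ▸ d)))
  have h' := h.toXS.smul g
  have zS : z ∈ MulAut.conj g • R := h.toXS.sym (by norm_num) (e ▸ h.mem s1)
  have l : h.sub W6 ≤ MulAut.conj g • R := h.sub_le_of zS (by
    rintro _ ⟨t, rfl⟩
    obtain ⟨m, c, w, d, f⟩ := A0_ex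
    obtain ⟨k, u, rfl⟩ := (h.E_eq (e ▸ s1) ne).ge (A0_Es c)
    obtain ⟨y, v⟩ := h.ex (t • w)
    have o : y⁻¹ ∈ Cz (g * z * g⁻¹) := inv_mem (mem_Cz.2 (e ▸ (h.comm_iff v s1).2 (mem_Wp.1 (f t) _ ⟨1, one_smul ..⟩)))
    refine ⟨_, ?_, by simpa [lin_smul (M0_lin (A0_M0 c).1), ← smul_add, d] using h.mul (h.act k v) (h.inv' v)⟩
    simpa [mul_assoc] using (MulAut.conj g • R).mul_mem u (h'.nrm' o ((MulAut.conj g • R).inv_mem u)))
  rw [e] at h' ne
  obtain ⟨q, q1, q2⟩ := h'.exists_nc zS h.z_ne ne.symm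
  refine top_F8 (a := ρ ⟨r, nR (h.mem r1)⟩) (b := ρ ⟨x, h.nrm_sub ?_⟩) (c := ρ ⟨q, mem_normalizer_fintype fun y c => ?_⟩)
    (by simp only [List.forall_mem_cons]; exact ⟨⟨_, rfl⟩, ⟨_, rfl⟩, ⟨_, rfl⟩, by simp⟩) (cl _ ((mem_Cz'.1 (h.le (h.mem r1))).trans e1.symm) ?_ ?_) (cl _ ((mem_Cz'.1 x.2).trans e1.symm) ?_ ?_) ?_
  · rintro _ ⟨t, rfl⟩
    exact ⟨th * t, by rw [hx, thL_apply, mul_smul]⟩
  · rcases h'.conj q1 (l c) with d | d <;> rw [d]
    exacts [c, mul_mem c ⟨_, ⟨1, one_smul ..⟩, s1⟩]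
  · rw [e3, h.cj_zp r1 s1, ← h.comm (h.mem s1), show pol q6 (v6 2) (v6 85) = 1 by decide +kernel, ZMod.val_one, pow_one]
  · rw [e4, h.cj_zp r1 s2, show pol q6 (v6 2) (thL (v6 85)) = 0 by decide +kernel]; simp
  · rw [e4, h.mu_cj hx rfl, hx]
  · rw [e6, h.mu_cj hx rfl, hx, ← h.mu_U hx (U_th (W_U ⟨1, one_smul ..⟩)) (W_U ⟨1, one_smul ..⟩)]
    exact congrArg _ (by decide +kernel)
  · have q3 := (mem_Cz'.1 (h'.le q1)).trans e2.symm
    exact (h'.conj q1 (l ⟨_, ⟨th, rfl⟩, s2⟩)).imp (fun d => cl _ (q2.trans e3.symm) q3 (d.trans e4.symm))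
      fun d => cl _ (q2.trans e3.symm) q3 (d.trans e6.symm)
theorem loc8 (x3 : x ^ 3 = 1) : ∃ θ : normalizer (h.sub W6 : Set G) →* SL(3, ZMod 2) × alternatingGroup (Fin 6),
    Function.Surjective θ ∧ θ.ker = pCore 2 _ ∧ ∀ y, y ∈ θ.ker.map (Subgroup.subtype _) ↔
      y ∈ centralizer (h.sub W6 : Set G) ∧ ∃ a, π ⟨y, a⟩ ∈ A06 := by
  obtain ⟨φ, s, k, nR⟩ := h.exists_phi hx
  obtain ⟨f, t, kf⟩ := quotA6
  let κ : φ.ker →* Cz z := ((Subgroup.subtype _).comp φ.ker.subtype).codRestrict _ fun d => h.C_le ((k _).1 d.2)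
  let ψ := (π.comp κ).codRestrict _ fun d => h.C_X ((k _).1 d.2)
  have := simple_sl32
  have := alternatingGroup.isSimpleGroup (α := Fin 6) (by simp)
  obtain ⟨r, r1⟩ := h.ex (v6 2)
  have kp : IsPGroup 2 π.ker := by
    rw [show π.ker = R.subgroupOf (Cz z) from Subgroup.ext h.ker]; exact h.pg.comap_subtype
  obtain ⟨θ, a, b, c⟩ := prod_of (pCore_eq_bot_of_simple (by rw [card_sl32]; norm_num))
    (pCore_eq_bot_of_simple (by rw [nat_card_alternatingGroup]; simp [Nat.factorial]))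
    (alternatingGroup.center_eq_bot (by simp)) s (f := f.comp ψ) (t.comp fun m => by
      obtain ⟨l, u, v⟩ := h.lift_x hx x3 m.2.1
      have w := h.mem_C hx v (u ▸ m.2)
      exact ⟨⟨⟨l, centralizer_le_normalizer _ w⟩, (k _).2 w⟩, Subtype.ext u⟩)
    ((((IsPGroup.of_card (G := A06) (n := 4) card_A0).comap_of_ker_isPGroup π kp).comap_of_injective κ fun a b e =>
      Subtype.ext (Subtype.ext (congrArg Subtype.val e :))).to_le fun d e => (kf _).1 e) (q := ⟨r, nR (h.mem r1)⟩)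
    (fun e => absurd ((h.comm_iff r1 (h.mu_P hx (v6 85))).1 ((k _).1 e _ ⟨_, ⟨1, one_smul ..⟩, h.mu_P hx _⟩).symm)
      (by decide +kernel)) fun d => ⟨mul_mem (φ.normal_ker.conj_mem _ d.2 _) (inv_mem d.2), (kf _).2 (by
        have : π (⟨r, h.le (h.mem r1)⟩ * κ d * ⟨r, h.le (h.mem r1)⟩⁻¹ * (κ d)⁻¹) = 1 := by
          simp [(h.ker ⟨r, h.le (h.mem r1)⟩).2 (h.mem r1)]
        exact Set.mem_of_eq_of_mem this (one_mem A06))⟩
  refine ⟨θ, a, b, fun y => c ▸ ⟨?_, fun ⟨u, v, w⟩ => ⟨⟨y, centralizer_le_normalizer _ u⟩, 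
    ⟨⟨_, (k _).2 u⟩, (kf (ψ ⟨⟨y, centralizer_le_normalizer _ u⟩, (k _).2 u⟩)).2 w, rfl⟩, rfl⟩⟩⟩
  rintro ⟨_, ⟨d, e, rfl⟩, rfl⟩
  exact ⟨(k _).1 d.2, _, (kf _).1 e⟩
theorem spec8 (x3 : x ^ 3 = 1) {S : Subgroup G} (m : ∀ y, y ∈ S ↔ y ∈ centralizer (h.sub W6 : Set G) ∧ ∃ a, π ⟨y, a⟩ ∈ A06) :
    IsSpecial 2 S ∧ Nat.card S = 2 ^ 15 ∧ (center S).map S.subtype = h.sub W6 := by
  have lf : ∀ g ∈ A06, ∃ k : Cz z, π k = g ∧ k * x = x * k ∧ k.1 ∈ S := fun g a => by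
    obtain ⟨k, u, v⟩ := h.lift_x hx x3 (A0_M0 a).1
    exact ⟨k, u, v, (m _).2 ⟨h.mem_C hx v (u ▸ A0_M0 a), k.2, u ▸ a⟩⟩
  have l : S ≤ Cz z := fun y a => h.C_le ((m y).1 a).1
  have i : S ⊓ R = h.sub Wp := h.C_inf ▸ le_antisymm (inf_le_inf_right _ fun y a => ((m y).1 a).1) fun y a =>
    ⟨(m y).2 ⟨a.1, h.le a.2, by rw [(h.ker _).2 a.2]; exact one_mem _⟩, a.2⟩
  have c : Nat.card S = 2 ^ 15 := by
    rw [← h.card_im l, i, h.card_sub, card_Wp, show XQ.im π S = A06 from le_antisymm (by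
      rintro _ ⟨k, a, rfl⟩; exact ((m _).1 a).2.2) fun g a => by obtain ⟨k, u, -, v⟩ := lf g a; exact ⟨k, v, u⟩, card_A0]
    rfl
  have pS : IsPGroup 2 S := .of_card c
  have lV : h.sub W6 ≤ S := fun y a => (i.ge (by
    obtain ⟨u, b, d⟩ := a; exact ⟨u, mem_Wp.2 fun v e => U_pol (W_U b) (W_U e), d⟩)).1
  have sq : ∀ y ∈ S, y * y ∈ h.sub W6 := fun y a => by
    obtain ⟨b, d, e⟩ := (m y).1 a
    obtain ⟨k, u, v, w⟩ := lf _ e
    obtain ⟨t, f, g⟩ := i.le (x := y * k.1⁻¹) ⟨S.mul_mem a (S.inv_mem w), (h.ker (⟨y, d⟩ * k⁻¹)).1 (by simp [u])⟩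
    have o : k.1 * k ∈ h.sub W6 := by
      rcases h.cen_x hx ((h.ker (k * k)).1 (by rw [map_mul, ← pow_two, u, Es_sq _ (A0_Es e)]))
        (congrArg Subtype.val (Commute.mul_left v v).symm) with o | o <;> rw [show k.1 * k = _ from o]
      exacts [one_mem _, h.z_sub _]
    have := mul_mem (show _ ∈ h.sub W6 from ⟨_, add_comm t _ ▸ A0_mv (u ▸ e) t f, h.mul g (h.act k g)⟩) o
    simpa [mul_assoc] using this
  have z1 : (center S).map S.subtype = h.sub W6 := by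
    refine le_antisymm ?_ fun y a => ⟨⟨y, lV a⟩, mem_center_iff.2 fun g => Subtype.ext (((m _).1 g.2).1 y a).symm, rfl⟩
    rintro _ ⟨y, a, rfl⟩
    obtain ⟨b, d, e⟩ := (m y).1 y.2
    have cm : ∀ w ∈ Wp, ∀ s, P w s → y * s = s * y := fun w u s v =>
      (congrArg Subtype.val (mem_center_iff.1 a ⟨s, (i.ge ⟨w, u, v⟩).1⟩)).symm
    obtain ⟨t, f⟩ := h.ex' _ ((h.ker ⟨y, d⟩).1 (A0_fix e fun w u => by
      obtain ⟨s, v⟩ := h.ex w; exact h.fix_of_comm v (cm w u s v)))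
    exact ⟨t, W_perp fun w u => by obtain ⟨s, v⟩ := h.ex w; exact (h.comm_iff f v).1 (cm w u s v), f⟩
  have c1 : ⁅S, S⁆ = h.sub W6 := by
    refine le_antisymm (commutator_le.2 fun a u b v => ?_) (h.sub_le_of ?_ ?_)
    · have := mul_mem (mul_mem (sq _ (mul_mem u v)) (sq _ (mul_mem (mul_mem (inv_mem v) (inv_mem u)) v))) (sq _ (inv_mem v))
      rwa [show a * b * (a * b) * (b⁻¹ * a⁻¹ * b * (b⁻¹ * a⁻¹ * b)) * (b⁻¹ * b⁻¹) = ⁅a, b⁆ by
        rw [commutatorElement_def]; group] at this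
    · obtain ⟨a, u⟩ := h.ex (v6 5)
      obtain ⟨b, v⟩ := h.ex (v6 34)
      have := commutator_mem_commutator (i.ge ⟨_, by decide +kernel, u⟩).1 (i.ge ⟨_, by decide +kernel, v⟩).1
      rwa [commutatorElement_def, h.cj_zp u v, show pol q6 (v6 5) (v6 34) = 1 by decide +kernel, ZMod.val_one, pow_one,
        h.comm (h.mem v), mul_inv_cancel_right] at this
    · rintro _ ⟨t, rfl⟩
      obtain ⟨g, a, w, d, f⟩ := A0_ex
      obtain ⟨k, rfl, -, u⟩ := lf g a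
      obtain ⟨y, v⟩ := h.ex (t • w)
      exact ⟨_, commutator_mem_commutator u (i.ge ⟨_, f t, v⟩).1, by
        simpa [commutatorElement_def, lin_smul (M0_lin (A0_M0 a).1), ← smul_add, d] using h.mul (h.act k v) (h.inv' v)⟩
  have c2 : commutator S = center S := map_injective S.subtype_injective (by rw [map_subtype_commutator, c1, z1])
  have := pS.isNilpotent
  exact ⟨⟨pS, le_antisymm (H3.frattini_le_of (p := 2) c2.le fun y => (mem_map_iff_mem S.subtype_injective).1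
    (z1 ▸ (pow_two y.1 ▸ sq _ y.2 :))) (c2 ▸ H3.commutator_le_frattini), c2⟩, c, z1⟩
end FT0
end
end H13
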