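import Cfsg.Agent.H13.F6
/-! Identification of a triple cover of the unitary group acting on a quadratic space of dimension twelve. -/
set_option autoImplicit false
namespace H13
noncomputable section
open MulAction Cfsg Subgroup H22 H27

structure UF {Γ : Type*} [Group Γ] (U P E : Subgroup Γ) : Prop where
  sq : ∀ H : Subgroup Γ, (∀ g ∈ U, g * g ∈ H) → U ≤ H
  cardP : Nat.card P = 29160
  le : P ≤ U
  phi : ∃ φ : P →* alternatingGroup (Fin 6), Function.Surjective φ ∧ ∀ p, φ p = 1 ↔ p.1 ∈ E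
  le' : E ≤ P
  ea : EA E
  a0 : ∃ p ∈ P, ∃ b ∈ E, (∀ K : Subgroup Γ, (∀ r ∈ P, r * (p * b * p⁻¹ * b⁻¹) * r⁻¹ ∈ K) → E ≤ K) ∧
    ∀ K : Subgroup Γ, p * b * p⁻¹ * b⁻¹ ∈ K → (∀ s ∈ P, s * (p * b * p⁻¹ * b⁻¹) = p * b * p⁻¹ * b⁻¹ * s →
      ∀ c ∈ E, s * c * s⁻¹ * c⁻¹ ∈ K) → E ≤ K
  nc : ∃ p ∈ P, ∃ y ∈ E, y * (p * p) ≠ p * p * y
  gt : ∀ Q ≤ P, IsPGroup 3 Q → ∃ g ∈ U, ∃ t ∈ E, t ≠ 1 ∧ g⁻¹ * t * g ∈ E ∧ (∀ s ∈ Q, s * t = t * s) ∧
    ∀ x ∈ E, (∀ a ∈ E, x * (g * a * g⁻¹) = g * a * g⁻¹ * x) → x ∈ zpowers t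

section
variable {M Γ : Type*} [Group M] [Group Γ] {U P E : Subgroup Γ} {f : M →* Γ} {ω : M}
structure K3 (f : M →* Γ) (ω : M) : Prop where
  ne : ω ≠ 1
  cube : ω * ω * ω = 1
  ker : ∀ x, f x = 1 ↔ x = 1 ∨ x = ω ∨ x = ω * ω
theorem exists_k3 [Finite M] (h : Nat.card f.ker = 3) : ∃ ω, K3 f ω := by
  classical
  have : Fact (Nat.Prime 3) := ⟨Nat.prime_three⟩
  obtain ⟨⟨ω, a⟩, b⟩ := exists_prime_orderOf_dvd_card' (G := f.ker) 3 h.symm.dvd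
  have o : orderOf ω = 3 := (orderOf_mk ω a).symm.trans b
  refine ⟨ω, fun e => by rw [e, orderOf_one] at o; omega, by rw [← pow_three', ← o, pow_orderOf_eq_one], fun x => ?_⟩
  rw [← MonoidHom.mem_ker, ← eq_of_le_of_card_ge (zpowers_le.2 a) (by rw [h, Nat.card_zpowers, o]),
    IsOfFinOrder.mem_zpowers_iff_mem_range_orderOf (isOfFinOrder_of_finite ω), o]
  simp [Finset.range_add_one, eq_comm, pow_two]; tauto
namespace K3
variable (h : K3 f ω)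
include h
theorem one : f ω = 1 := (h.ker ω).2 (Or.inr (Or.inl rfl))
theorem mem {K : Subgroup M} (a : ω ∈ K) {x : M} (b : f x = 1) : x ∈ K := by
  rcases (h.ker x).1 b with rfl | rfl | rfl
  exacts [one_mem _, a, mul_mem a a]
theorem lift {K : Subgroup M} (a : ω ∈ K) {S : Subgroup Γ} (b : S ≤ K.map f) : S.comap f ≤ K := fun x hx => by
  obtain ⟨y, c, d⟩ := b hx
  simpa using mul_mem c (h.mem a (x := y⁻¹ * x) (by rw [map_mul, map_inv, d, inv_mul_cancel]))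
theorem cen (hU : f.range = U) (sq : ∀ H : Subgroup Γ, (∀ g ∈ U, g * g ∈ H) → U ≤ H) (g : M) : g * ω = ω * g := by
  refine mem_Cz.1 (h.lift (self_mem_Cz ω) (sq _ ?_) (hU.le ⟨g, rfl⟩))
  rintro _ a
  obtain ⟨g, rfl⟩ := hU.ge a
  refine ⟨g * g, mem_Cz'.2 ?_, map_mul f g g⟩
  rw [show g * g * ω * (g * g)⁻¹ = g * (g * ω * g⁻¹) * g⁻¹ by group]
  rcases (h.ker (g * ω * g⁻¹)).1 (by simp [h.one]) with b | b | b
  · exact absurd (conj_eq_one_iff.1 b) h.ne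
  · rw [b, b]
  · rw [b, ← conj_mul, b, ← mul_assoc, h.cube, one_mul]
end K3
theorem UF.nrm (h : UF U P E) : P ≤ normalizer (E : Set Γ) := fun p hp => by
  obtain ⟨φ, -, a⟩ := h.phi
  have k : ∀ p ∈ P, ∀ y ∈ E, p * y * p⁻¹ ∈ E := fun p hp y hy => (a (⟨p, hp⟩ * ⟨y, h.le' hy⟩ * ⟨p, hp⟩⁻¹)).1 (by
    rw [map_mul, map_mul, (a ⟨y, _⟩).2 hy, mul_one, map_inv, mul_inv_cancel])
  exact mem_normalizer_iff.2 fun y => ⟨k p hp y, fun b => by simpa [mul_assoc] using k _ (inv_mem hp) _ b⟩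
theorem UF.nrm' (h : UF U P E) : P.comap f ≤ normalizer (E.comap f : Set M) := fun p hp => mem_normalizer_iff.2 fun y => by
  rw [mem_comap, mem_comap, map_mul, map_mul, map_inv]; exact mem_normalizer_iff.1 (h.nrm hp) _
theorem UF.ea' (h : UF U P E) (hU : f.range = U) (k : K3 f ω) : EA (E.comap f) := by
  have cen := k.cen hU h.sq
  have kc : ∀ x, f x = 1 → ∀ g, g * x = x * g := fun x a g => (k.mem (K := Cz g) (mem_Cz.2 (cen g).symm) a _ rfl)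
  have up : ∀ x ∈ P, ∃ y, f y = x := fun x a => hU.ge (h.le a)
  obtain ⟨_, hp, _, hb, h1, h2⟩ := h.a0
  obtain ⟨p, rfl⟩ := up _ hp
  obtain ⟨b, rfl⟩ := up _ (h.le' hb)
  have n := fun r (hr : r ∈ P.comap f) y => (mem_normalizer_iff.1 (h.nrm' hr) y).1
  have ha : p * b * p⁻¹ * b⁻¹ ∈ E.comap f := mul_mem (n p hp b hb) (inv_mem hb)
  have e : f p * f b * (f p)⁻¹ * (f b)⁻¹ = f (p * b * p⁻¹ * b⁻¹) := by simp
  rw [e] at h1 h2
  have gen : ∀ K : Subgroup M, ω ∈ K → (∀ r ∈ P.comap f, r * (p * b * p⁻¹ * b⁻¹) * r⁻¹ ∈ K) → E.comap f ≤ K :=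
    fun K a c => k.lift a (h1 _ fun r hr => by
      obtain ⟨r, rfl⟩ := up r hr
      exact ⟨_, c r hr, by simp⟩)
  have comm : E.comap f ≤ centralizer (E.comap f) := by
    generalize p * b * p⁻¹ * b⁻¹ = a at *
    have c : E.comap f ≤ Cz a := k.lift (mem_Cz.2 (cen a).symm) (h2 _ ⟨a, self_mem_Cz a, rfl⟩ fun s hs u c hc => by
      obtain ⟨s, rfl⟩ := up s hs
      obtain ⟨c, rfl⟩ := up c (h.le' hc)
      refine ⟨s * c * s⁻¹ * c⁻¹, mem_Cz.2 ?_, by simp⟩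
      have v := kc (s⁻¹ * a⁻¹ * s * a) (by simp [mul_assoc, u])
      have w := kc (c⁻¹ * a⁻¹ * c * a) (by simp [mul_assoc, h.ea.comm _ hc _ ha])
      have t : ∀ x y : M, (∀ g, g * x = x * g) → (∀ g, g * y = y * g) →
          s * x * (c * y) * (s * x)⁻¹ * (c * y)⁻¹ = s * c * s⁻¹ * c⁻¹ := fun x y hx hy => by
        calc _ = s * (x * (c * y)) * x⁻¹ * s⁻¹ * y⁻¹ * c⁻¹ := by group
          _ = s * c * (y * s⁻¹) * y⁻¹ * c⁻¹ := by rw [← hx]; group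
          _ = _ := by rw [← hy]; group
      conv_rhs => rw [← t _ _ v w]
      group)
    refine gen _ (fun y _ => cen y) fun r hr y hy => ?_
    have := mem_Cz.1 (c ((mem_normalizer_iff''.1 (h.nrm' hr) y).1 hy))
    calc y * (r * a * r⁻¹) = r * (r⁻¹ * y * r * a) * r⁻¹ := by group
      _ = _ := by rw [this]; group
  refine ⟨fun x hx y hy => comm hy x hx, ?_⟩
  let K : Subgroup M :=
    { carrier := {x | x ∈ E.comap f ∧ x ^ 3 = 1}
      one_mem' := ⟨one_mem _, one_pow 3⟩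
      mul_mem' := fun a b => ⟨mul_mem a.1 b.1, by rw [Commute.mul_pow (comm b.1 _ a.1), a.2, b.2, one_mul]⟩
      inv_mem' := fun a => ⟨inv_mem a.1, by rw [inv_pow, a.2, inv_one]⟩ }
  refine fun x hx => pow_three' x ▸ (gen K ⟨by rw [mem_comap, k.one]; exact one_mem _, (pow_three' ω).trans k.cube⟩
    (fun r hr => ⟨n r hr _ ha, ?_⟩) hx).2
  rw [conj_pow, Commute.mul_pow (comm (inv_mem hb) _ (n p hp b hb)), conj_pow,
    kc (b ^ 3) (by rw [map_pow, pow_three', h.ea.cube _ hb])]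
  simp
end

def s61 : Equiv.Perm (Fin 6) := c62 * c62 * c61⁻¹ * c62⁻¹
def s62 : Equiv.Perm (Fin 6) := c61⁻¹ * c62⁻¹ * c61 * c61
theorem dg6_O6 (d : V6) (h : ∀ i, d i ≠ 0) : dg6 d h ∈ O6 := q6_mul h
theorem dg6_comm (d e : V6) (h : ∀ i, d i ≠ 0) (k : ∀ i, e i ≠ 0) : dg6 d h * dg6 e k = dg6 e k * dg6 d h :=
  LinearEquiv.ext fun v => mul_left_comm d e v
theorem mn_one {g : AL V6} (a : Mn g 1) : ∃ d h, g = dg6 d h := by simpa using mn_iff.1 a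
theorem single_inj {i : Fin 6} {c d : GF4} (h : (Pi.single i c : V6) = Pi.single i d) : c = d := by
  simpa using congrFun h i
theorem tri_cases (a b c : GF4) (h : nm4 a + nm4 b + nm4 c = 1) :
    (a ≠ 0 ∧ b ≠ 0 ∧ c ≠ 0) ∨ ∃ k ≠ 0, th * a = k * a ∧ th * th * b = k * b ∧ 1 * c = k * c := by
  revert a b c; decide
theorem tri_v {v : V6} (b : q6 v = 1) (s : (v 3 = 0 ∧ v 4 = 0 ∧ v 5 = 0) ∨ (v 0 = 0 ∧ v 1 = 0 ∧ v 2 = 0)) :
    ((v 0 ≠ 0 ∧ v 1 ≠ 0 ∧ v 2 ≠ 0) ∨ ∃ c ≠ (0 : GF4), ![th, th * th, 1, 1, 1, 1] * v = c • v) ∧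
    ((v 3 ≠ 0 ∧ v 4 ≠ 0 ∧ v 5 ≠ 0) ∨ ∃ c ≠ (0 : GF4), ![1, 1, 1, th, th * th, 1] * v = c • v) := by
  rw [q6, Fin.sum_univ_six] at b
  rcases s with ⟨s, t, u⟩ | ⟨s, t, u⟩ <;> simp only [s, t, u, show nm4 0 = 0 from rfl, add_zero, zero_add] at b
  · exact ⟨(tri_cases _ _ _ b).imp_right fun ⟨c, a, x, y, z⟩ => ⟨c, a, funext fun i => by
      fin_cases i <;> simp [s, t, u, ← x, ← y, ← z]⟩, Or.inr ⟨1, one_ne_zero, funext fun i => by fin_cases i <;> simp [s, t, u]⟩⟩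
  · exact ⟨Or.inr ⟨1, one_ne_zero, funext fun i => by fin_cases i <;> simp [s, t, u]⟩, (tri_cases _ _ _ b).imp_right
      fun ⟨c, a, x, y, z⟩ => ⟨c, a, funext fun i => by fin_cases i <;> simp [s, t, u, ← x, ← y, ← z]⟩⟩

theorem ident_b {M Γ : Type*} [Group M] [Finite M] [Group Γ] {U P E : Subgroup Γ} {f : M →* Γ} {ω : M} (h : UF U P E)
    (hU : f.range = U) (k : K3 f ω) (hk : Nat.card f.ker = 3) {ρ : M →* AL V6} (inj : Function.Injective ρ) (hq : ∀ g, ρ g ∈ O6)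
    (hω : ρ ω = thL) (σ : P.comap f →* Equiv.Perm (Fin 6)) (hσ : σ.range = alternatingGroup (Fin 6))
    (h1 : ∀ p, σ p = 1 → p.1 ∈ E.comap f) (h2 : ∀ p, p.1 ∈ E.comap f → σ p = 1) (h3 : ∀ p : P.comap f, Mn (ρ p) (σ p)) :
    ∃ d hd, ∀ x ∈ gM0, ∃ g, (dg6 d hd)⁻¹ * ρ g * dg6 d hd = x := by
  have cen := k.cen hU h.sq
  have lin : ∀ g, ρ g ∈ Cz thL := fun g => mem_Cz.2 (by rw [← hω, ← map_mul, cen, map_mul])
  have cP : Nat.card (P.comap f) = 87480 := by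
    have := H1.card_map_mul_card_inf_ker (P.comap f) f
    rw [map_comap_eq_self (hU ▸ h.le), h.cardP, inf_eq_right.2 (ker_le_comap f P), hk] at this
    exact this.symm
  have hN : ∀ p ∈ P.comap f, ρ p ∈ N1 := fun p hp => ⟨_, hσ.le ⟨⟨p, hp⟩, rfl⟩, h3 ⟨p, hp⟩⟩
  have n0 := fun d hd => n0_mem (P := ((P.comap f).map ρ).map (MulAut.conj (dg6 d hd)⁻¹).toMonoidHom) (by
    rintro _ ⟨_, ⟨p, hp, rfl⟩, rfl⟩
    have : dg6 d hd ∈ N1 := ⟨1, one_mem _, mn_dg d hd⟩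
    exact mul_mem (mul_mem (inv_mem this) (hN p hp)) (inv_mem (inv_mem this))) (by
    rw [card_map_of_injective (MulAut.conj _).injective, card_map_of_injective inj, cP])
  obtain ⟨⟨x1, hx1, e1⟩, ⟨x2, hx2, e2⟩, y, hy, ey⟩ := n0_mem (P := (P.comap f).map ρ) (by
    rintro _ ⟨p, hp, rfl⟩; exact hN p hp) (by rw [card_map_of_injective inj, cP])
  have dE : ∀ x ∈ E.comap f, ∃ d hd, ρ x = dg6 d hd := fun x hx =>
    mn_one (h2 ⟨x, h.le' hx⟩ hx ▸ h3 ⟨x, h.le' hx⟩)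
  have Ed : ∀ x ∈ P.comap f, ∀ d hd, ρ x = dg6 d hd → x ∈ E.comap f := fun x hx d hd e =>
    h1 ⟨x, hx⟩ ((h3 ⟨x, hx⟩).uniq (e ▸ mn_dg d hd))
  have es1 : ρ (x2 * x2 * x1⁻¹ * x2⁻¹) = pm6 s61 := by simp [s61, e1, e2]
  have es2 : ρ (x1⁻¹ * x2⁻¹ * x1 * x1) = pm6 s62 := by simp [s62, e1, e2]
  have hs1 : x2 * x2 * x1⁻¹ * x2⁻¹ ∈ P.comap f := mul_mem (mul_mem (mul_mem hx2 hx2) (inv_mem hx1)) (inv_mem hx2)
  have hs2 : x1⁻¹ * x2⁻¹ * x1 * x1 ∈ P.comap f := mul_mem (mul_mem (mul_mem (inv_mem hx1) (inv_mem hx2)) hx1) hx1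
  generalize x2 * x2 * x1⁻¹ * x2⁻¹ = s1 at es1 hs1
  generalize x1⁻¹ * x2⁻¹ * x1 * x1 = s2 at es2 hs2
  have ea : EA (cl [s1, s2]) := EA.of_gens (by
    have : s1 * s2 = s2 * s1 := inj (by
      rw [map_mul, map_mul, es1, es2, ← map_mul, ← map_mul, show s61 * s62 = s62 * s61 by decide +kernel])
    simp [this]) (List.forall_mem_cons.2 ⟨inj (by
      rw [map_mul, map_mul, es1, ← map_mul, ← map_mul, show s61 * s61 * s61 = 1 by decide +kernel, map_one, map_one]),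
    List.forall_mem_singleton.2 (inj (by
      rw [map_mul, map_mul, es2, ← map_mul, ← map_mul, show s62 * s62 * s62 = 1 by decide +kernel, map_one, map_one]))⟩)
  obtain ⟨_, hg, _, ht, t1, tg, ts, hc⟩ := h.gt ((cl [s1, s2]).map f) (map_le_iff_le_comap.2 (cl_le (List.forall_mem_cons.2 ⟨hs1, List.forall_mem_singleton.2 hs2⟩)))
    ((H1.isPGroup_of_pow_eq_one fun x hx => (pow_three' x).trans (ea.cube x hx)).map f)
  obtain ⟨g, rfl⟩ := hU.ge hg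
  obtain ⟨t, rfl⟩ := hU.ge (h.le (h.le' ht))
  have sc : ∀ x, f x = 1 → ∃ c : GF4, ∀ v, ρ x v = c • v := fun x a => by
    rcases (k.ker x).1 a with rfl | rfl | rfl
    exacts [⟨1, by simp⟩, ⟨th, fun v => by rw [hω]; rfl⟩, ⟨th * th, fun v => by rw [map_mul, hω, mul_smul]; rfl⟩]
  have eqd : ∀ {x s d hd τ}, ρ x = dg6 d hd → ρ s = pm6 τ → f s * f x = f x * f s → ∀ j, τ j = j → ∀ i, d (τ i) = d i :=
    fun {x s d hd τ} a b c j hj i => by
      obtain ⟨c, e⟩ := sc (x⁻¹ * s⁻¹ * x * s) (by simp [mul_assoc, ← c])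
      have e' : ∀ i, d (τ i) = d i * c := fun i => by
        have := e (Pi.single i 1)
        rw [map_mul, map_mul, map_mul, map_inv, map_inv, ← mul_inv_rev, LinearEquiv.mul_apply, LinearEquiv.mul_apply,
          LinearEquiv.coe_inv, LinearEquiv.symm_apply_eq, LinearEquiv.mul_apply, a, b, ← single_eq, pm6_single, dg6_apply,
          dg6_apply, mul_single, mul_single, pm6_single, mul_one] at this
        exact single_inj this
      have := e' j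
      rw [hj, left_eq_mul₀ (hd j)] at this
      rw [e', this, mul_one]
  have m1 : f s1 ∈ (cl [s1, s2]).map f := ⟨s1, mem_cl (by simp), rfl⟩
  have m2 : f s2 ∈ (cl [s1, s2]).map f := ⟨s2, mem_cl (by simp), rfl⟩
  obtain ⟨d, hd, ed⟩ := dE t ht
  have d1 := eqd ed es1 (ts _ m1) 3 (by decide +kernel)
  have d2 := eqd ed es2 (ts _ m2) 0 (by decide +kernel)
  have d10 : d 1 = d 0 := d1 0
  have d21 : d 2 = d 1 := d1 1
  have d43 : d 4 = d 3 := d2 3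
  have d54 : d 5 = d 4 := d2 4
  have d03 : d 0 ≠ d 3 := fun e => t1 (by
    have a : ∀ i, d i = d 0 := fun i => by fin_cases i <;> simp [*]
    rcases (f4_cases (d 0)).resolve_left (hd 0) with b | b | b
    · rw [inj (ed.trans (LinearEquiv.ext fun v => funext fun i => by simp [dg6_apply, a, b]) : ρ t = ρ 1), map_one]
    · rw [inj (ed.trans (LinearEquiv.ext fun v => funext fun i => by simp [dg6_apply, a, b, hω, thL_apply]) : ρ t = ρ ω), k.one]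
    · rw [inj (ed.trans (LinearEquiv.ext fun v => funext fun i => by
        simp [dg6_apply, a, b, hω, thL_apply, mul_assoc]) : ρ t = ρ (ω * ω)), map_mul, k.one, mul_one])
  obtain ⟨d', hd', ed'⟩ := dE (g⁻¹ * t * g) (by simpa using tg)
  have ev : ∀ j i, ρ g (Pi.single j 1) i ≠ 0 → d i = d' j := fun j i a => by
    have : ρ t (ρ g (Pi.single j 1)) = ρ g (ρ (g⁻¹ * t * g) (Pi.single j 1)) := by
      rw [← LinearEquiv.mul_apply, ← LinearEquiv.mul_apply, ← map_mul, ← map_mul]; congr 2; group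
    rw [ed', ed, dg6_apply, dg6_apply, mul_single, mul_one, single_eq j (d' j), lin_smul (lin g)] at this
    exact mul_right_cancel₀ a (congrFun this i)
  have od : ∀ j, q6 (ρ g (Pi.single j 1)) = 1 := fun j => (hq g _).trans (by revert j; decide)
  have key : ∀ y ∈ P.comap f, ∀ {e he}, ρ y = dg6 e he → (∀ j, ∃ c ≠ (0 : GF4), e * ρ g (Pi.single j 1) = c • ρ g (Pi.single j 1)) →
      e 1 = e 0 ∧ e 4 = e 3 := fun y hy {e he} a b => by
    have u : Mn (ρ (g⁻¹ * y * g)) 1 := ⟨lin _, fun j => by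
      obtain ⟨c, hc, u⟩ := b j
      refine ⟨c, hc, ?_⟩
      rw [map_mul, map_mul, map_inv, LinearEquiv.mul_apply, LinearEquiv.mul_apply, LinearEquiv.coe_inv,
        LinearEquiv.symm_apply_eq, a, dg6_apply, u, ← lin_smul (lin g), ← single_eq]; rfl⟩
    obtain ⟨e', he', u⟩ := mn_one u
    have := hc (f y) (Ed y hy e he a) fun x hx => by
      obtain ⟨x, rfl⟩ := hU.ge (h.le (h.le' hx))
      obtain ⟨e'', he'', v⟩ := dE x hx
      have : g⁻¹ * y * g * x = x * (g⁻¹ * y * g) := inj (by rw [map_mul, map_mul ρ x, u, v, dg6_comm])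
      simp only [← map_inv, ← map_mul]
      congr 1
      calc y * (g * x * g⁻¹) = g * (g⁻¹ * y * g * x) * g⁻¹ := by group
        _ = _ := by rw [this]; group
    have c : ∀ s ∈ (cl [s1, s2]).map f, s * f y = f y * s := fun s hs =>
      (zpowers_le (H := Cz s)).2 (mem_Cz.2 (ts s hs).symm) this s rfl
    exact ⟨eqd a es1 (c _ m1) 3 (by decide +kernel) 0, eqd a es2 (c _ m2) 0 (by decide +kernel) 3⟩
  have sp : ∀ j, (ρ g (Pi.single j 1) 3 = 0 ∧ ρ g (Pi.single j 1) 4 = 0 ∧ ρ g (Pi.single j 1) 5 = 0) ∨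
      (ρ g (Pi.single j 1) 0 = 0 ∧ ρ g (Pi.single j 1) 1 = 0 ∧ ρ g (Pi.single j 1) 2 = 0) := fun j => by
    by_cases a : d 0 = d' j
    · exact Or.inl ⟨by_contra fun b => d03 (a.trans (ev j _ b).symm), by_contra fun b =>
        d03 (a.trans (d43 ▸ ev j _ b).symm), by_contra fun b => d03 (a.trans (d43 ▸ d54 ▸ ev j _ b).symm)⟩
    · exact Or.inr ⟨by_contra fun b => a (ev j _ b), by_contra fun b => a (d10 ▸ ev j _ b),
        by_contra fun b => a (d10 ▸ d21 ▸ ev j _ b)⟩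
  obtain ⟨j, a0, a1, a2⟩ : ∃ j, ρ g (Pi.single j 1) 0 ≠ 0 ∧ ρ g (Pi.single j 1) 1 ≠ 0 ∧ ρ g (Pi.single j 1) 2 ≠ 0 :=
    by_contra fun a => absurd (key y hy (ey.trans DL_eq) fun j => (tri_v (od j) (sp j)).1.resolve_left fun b => a ⟨j, b⟩).1
      (by decide)
  obtain ⟨j', a3, a4, a5⟩ : ∃ j, ρ g (Pi.single j 1) 3 ≠ 0 ∧ ρ g (Pi.single j 1) 4 ≠ 0 ∧ ρ g (Pi.single j 1) 5 ≠ 0 :=
    by_contra fun a => absurd (key (x1 ^ 3 * y * (x1 ^ 3)⁻¹) (mul_mem (mul_mem (pow_mem hx1 3) hy) (inv_mem (pow_mem hx1 3)))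
      (he := by decide) (by
        rw [map_mul, map_mul, map_inv, map_pow, e1, ey, DL_eq, ← map_pow, ← map_inv]; exact ext6 (by decide +kernel))
      fun j => (tri_v (od j) (sp j)).2.resolve_left fun b => a ⟨j, b⟩).2 (by decide)
  have b1 := (sp j).resolve_right fun b => a0 b.1
  have b2 := (sp j').resolve_left fun b => a3 b.1
  have := alternatingGroup.isMultiplyPretransitive (Fin 6)
  obtain ⟨⟨τ, hτ⟩, p0, p1⟩ := is_two_pretransitive_iff.1 (isMultiplyPretransitive_of_le (G := alternatingGroup (Fin 6))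
    (n := Nat.card (Fin 6) - 2) (m := 2) (by simp) (by simp)) (show (0 : Fin 6) ≠ 1 by decide)
    (show j ≠ j' from fun e => a0 (e ▸ b2.1))
  obtain ⟨p, rfl⟩ := hσ.ge hτ
  obtain ⟨c0, hc0, u0⟩ := (h3 p).2 0
  obtain ⟨c1, hc1, u1⟩ := (h3 p).2 1
  rw [show σ p 0 = j from p0] at u0
  rw [show σ p 1 = j' from p1] at u1
  have hD : ∀ i, (c0 • ρ g (Pi.single j 1) + c1 • ρ g (Pi.single j' 1)) i ≠ 0 := fun i => by
    fin_cases i <;> simp [*]
  refine ⟨_, hD, ?_⟩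
  obtain ⟨⟨_, ⟨y1, -, rfl⟩, v1⟩, ⟨_, ⟨y2, -, rfl⟩, v2⟩, _, ⟨y3, -, rfl⟩, v3⟩ := n0 _ hD
  refine List.forall_mem_cons.2 ⟨⟨y1, v1⟩, List.forall_mem_cons.2 ⟨⟨y2, v2⟩, List.forall_mem_cons.2 ⟨⟨y3, v3⟩,
    List.forall_mem_singleton.2 ⟨g * p * y * (g * p)⁻¹, ?_⟩⟩⟩⟩
  rw [map_mul, map_mul ρ _ y, map_inv, ey, DL, rho2_conj (hq _) (lin _), mul_assoc,
    inv_mul_eq_iff_eq_mul, ← eq_mul_inv_iff_mul_eq, DP, rho2_conj (dg6_O6 _ _) (dg6_lin _ _), map_mul, LinearEquiv.mul_apply,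
    LinearEquiv.mul_apply, u0, u1, single_eq j, single_eq j', lin_smul (lin g), lin_smul (lin g), dg6_apply, dg6_apply]
  congr 1 <;> funext i <;> fin_cases i <;> simp [*]

theorem ident_a {M V Γ : Type*} [Group M] [Finite M] [AddCommGroup V] [DistribMulAction M V] [Group Γ] {U P E : Subgroup Γ}
    (h : UF U P E) (hc : Nat.card U * 3 ≤ Nat.card M0) {q : V → ZMod 2} (Q : QF q) (hq : ∀ (g : M) v, q (g • v) = q v)
    (hf : ∀ g : M, (∀ v : V, g • v = v) → g = 1) (hV : Nat.card V = 4096) {f : M →* Γ} (hU : f.range = U)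
    (hk : Nat.card f.ker = 3) : ∃ ψ : V6 ≃+ V, (∀ v, q (ψ v) = q6 v) ∧ ∃ ρ : M →* AL V6, (∀ g v, ψ (ρ g v) = g • ψ v) ∧
      ρ.range = M0 ∧ ∀ g, f g = 1 ↔ ρ g ∈ zpowers thL := by
  obtain ⟨ω, k⟩ := exists_k3 hk
  obtain ⟨φ, hφ, kφ⟩ := h.phi
  obtain ⟨p, hp, y, hy, hn⟩ := h.nc
  obtain ⟨p, rfl⟩ := hU.ge (h.le hp)
  obtain ⟨y, rfl⟩ := hU.ge (h.le (h.le' hy))
  obtain ⟨ψ, a, b, σ, c, d, e, m⟩ := frame Q hq hf hV (h.ea' hU k) h.nrm' (φ.comp (f.subgroupComap P))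
    (hφ.comp fun x => (hU.ge (h.le x.2)).elim fun y t => ⟨⟨y, show f y ∈ P from t ▸ x.2⟩, Subtype.ext t⟩) (fun p => kφ _) ⟨p, hp, y, hy, fun e => hn (by
      simpa using congrArg f e)⟩ (ω := ω) (by rw [mem_comap, k.one]; exact one_mem _) k.ne fun p _ => k.cen hU h.sq p
  have mk : ∀ ψ : V6 ≃+ V, ∃ ρ : M →* AL V6, (∀ g v, ψ (ρ g v) = g • ψ v) ∧ Function.Injective ρ := fun ψ => by
    let ρ : M →* AL V6 := MonoidHom.mk' (fun g => ((ψ.trans (DistribMulAction.toAddEquiv V g)).trans ψ.symm).toIntLinearEquiv)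
      fun g k => LinearEquiv.ext fun v => by simp [mul_smul]
    have : ∀ g v, ψ (ρ g v) = g • ψ v := fun g v => ψ.apply_symm_apply _
    exact ⟨ρ, this, (injective_iff_map_eq_one ρ).2 fun g a => hf g fun v => by
      rw [← ψ.apply_symm_apply v, ← this, a]; rfl⟩
  obtain ⟨ρ, r, inj⟩ := mk ψ
  have hω : ρ ω = thL := LinearEquiv.ext fun v => ψ.injective (by rw [r, ← a]; rfl)
  obtain ⟨D, hD, u⟩ := ident_b h hU k hk inj (fun g v => by rw [← b, r, hq, b]) hω σ c d e fun p =>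
    ⟨mem_Cz.2 (by rw [← hω, ← map_mul, k.cen hU h.sq, map_mul]), fun i => (m p i).imp fun c t => ⟨t.1, ψ.injective (by rw [r, t.2])⟩⟩
  obtain ⟨ρ', r', inj'⟩ := mk ((dg6 D hD).toAddEquiv.trans ψ)
  have e' : ∀ g, ρ' g = (dg6 D hD)⁻¹ * ρ g * dg6 D hD := fun g => LinearEquiv.ext fun v =>
    (dg6 D hD).eq_symm_apply.2 (ψ.injective ((r' g v).trans (r g _).symm))
  have hω' : ρ' ω = thL := by rw [e', hω, mul_assoc, ← mem_Cz.1 (dg6_lin D hD), inv_mul_cancel_left]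
  refine ⟨(dg6 D hD).toAddEquiv.trans ψ, fun v => (b _).trans (q6_mul hD v), ρ', r', (eq_of_le_of_card_ge (cl_le fun x hx => (u x hx).imp fun g t =>
    (e' g).trans t) ?_).symm, fun g => ⟨fun t => k.mem (K := (zpowers thL).comap ρ') (by
      rw [mem_comap, hω']; exact mem_zpowers _) t, fun ⟨i, t⟩ => by
      rw [← inj' (show ρ' (ω ^ i) = ρ' g by rw [map_zpow, hω']; exact t), map_zpow, k.one, one_zpow]⟩⟩
  rw [← index_ker, (MonoidHom.ker_eq_bot_iff _).2 inj', index_bot, ← f.ker.card_mul_index, index_ker, hU, hk, mul_comm]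
  exact hc

end
end H13
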