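import Cfsg.Agent.H13.J24
import Cfsg.Agent.H13.F6h
/-! The exterior square of the natural module of `SL(5, 2)`. -/
set_option autoImplicit false
namespace H13
noncomputable section
open MulAction Cfsg H27 Subgroup Matrix
open scoped Pointwise MatrixGroups
abbrev M5 : Type := Matrix (Fin 5) (Fin 5) (ZMod 2)
def sy5 : M5 →+ M5 := AddMonoidHom.mk' (fun N => N + Nᵀ) fun a b => by rw [transpose_add]; abel
abbrev Alt5 : Type := sy5.range
def ix5 (i j : Fin 5) : ℕ := nth 10 [10, 0, 1, 2, 6, 10, 10, 3, 4, 7, 10, 10, 10, 5, 8, 10, 10, 10, 10, 9] (5 * i + j)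
def up5 (n : ℕ) : M5 := Matrix.of fun i j => bz (tb n (ix5 i j))
theorem up5_xor (a b : ℕ) : up5 (a ^^^ b) = up5 a + up5 b := by ext i j; simp [up5, tb_eq, bz_xor]
def E10 : BE Alt5 10 where
  e n := ⟨_, up5 n, rfl⟩
  xor a b := Subtype.ext (by rw [up5_xor]; exact map_add ..)
  surj := by
    rintro ⟨_, N, rfl⟩
    suffices ∃ a < 2 ^ 10, sy5 (up5 a) = sy5 N from this.imp fun a b => ⟨b.1, Subtype.ext b.2⟩
    induction N using Matrix.induction_on' with
    | h_zero => exact ⟨0, by decide⟩
    | h_add p q a b =>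
      obtain ⟨a, c, d⟩ := a
      obtain ⟨b, e, f⟩ := b
      exact ⟨_, Nat.xor_lt_two_pow c e, by rw [up5_xor, map_add, map_add, d, f]⟩
    | h_std_basis i j x => exact ⟨x.val * (2 ^ ix5 i j % 1024 + 2 ^ ix5 j i % 1024), by revert i j x; decide +kernel⟩
  inj a b c := (by decide +kernel : ∀ a < 2 ^ 10, sy5 (up5 a) = 0 → a = 0) a b (congrArg Subtype.val c)
instance : DistribMulAction SL(5, ZMod 2) Alt5 where
  smul g M := ⟨g.1 * M.1 * g.1ᵀ, by
    obtain ⟨_, N, rfl⟩ := M
    exact ⟨g.1 * N * g.1ᵀ, by simp [sy5, Matrix.mul_add, Matrix.add_mul, Matrix.mul_assoc]⟩⟩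
  one_smul M := Subtype.ext (show (1 : M5) * M.1 * (1 : M5)ᵀ = M.1 by simp)
  mul_smul g k M := Subtype.ext (show g.1 * k.1 * M.1 * (g.1 * k.1)ᵀ = g.1 * (k.1 * M.1 * k.1ᵀ) * g.1ᵀ by simp [Matrix.mul_assoc])
  smul_zero g := Subtype.ext (show g.1 * 0 * g.1ᵀ = 0 by simp)
  smul_add g M N := Subtype.ext (show g.1 * (M.1 + N.1) * g.1ᵀ = g.1 * M.1 * g.1ᵀ + g.1 * N.1 * g.1ᵀ by rw [Matrix.mul_add, Matrix.add_mul])
def lam5 : SL(5, ZMod 2) →* AL Alt5 := DistribMulAction.toModuleAut ℤ Alt5
theorem lam5_val (g : SL(5, ZMod 2)) (M : Alt5) : (lam5 g M).1 = g.1 * M.1 * g.1ᵀ := rfl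
theorem card_sl52 : Nat.card SL(5, ZMod 2) = 9999360 := by
  have := H22.card_SL (F := ZMod 2) 5 (by norm_num)
  rw [ZMod.card] at this
  exact (one_mul _).symm.trans (this.trans (by decide))
theorem simple_sl52 : IsSimpleGroup SL(5, ZMod 2) := by
  have := H22.gcd_mul_card_PSL (F := ZMod 2) 5 (by norm_num)
  have s := H22.PSL_isSimpleGroup_of_three_le (ι := Fin 5) (F := ZMod 2) (by simp)
  exact (MulEquiv.ofBijective (QuotientGroup.mk' (center _)) ((Nat.bijective_iff_surjective_and_card _).2
    ⟨QuotientGroup.mk'_surjective _, by rw [ZMod.card] at this; exact this.symm.trans (one_mul _)⟩)).isSimpleGroup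
def tv5 : SL(5, ZMod 2) := ⟨transvection 0 1 1, det_transvection_of_ne _ _ (by decide) _⟩
theorem tv5_ne : (tv5.1 * (E10.e 8).1 * tv5.1ᵀ) 0 2 ≠ (E10.e 8).1 0 2 := by decide +kernel
theorem lam5_inj : Function.Injective lam5 :=
  have := simple_sl52
  (MonoidHom.ker_eq_bot_iff _).1 (lam5.normal_ker.eq_bot_or_eq_top.resolve_right fun e => tv5_ne (by
    rw [← lam5_val, show lam5 tv5 = 1 from e.ge (mem_top tv5)]; rfl))
def X10 : ℕ := 0x182400420000810081810081000081280000148200004141000041410000414800840000120021210021000021002100880044002200110011001100110011609000000000060909090000000009090000a05000000a05000005050000050500000000c0300c03000000000303030300000000000000ff6999a555c3330ffe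
def T10 : ℕ := 0x2efb3c000000000000abc000028f00000000000000000000000000026f000000000093c0000000000000000000000000000000000000000008bc0000000000000020f00000000000000000000bb8000000000000002ceab80000000000000028e000000000000000000009b80000000000000024e00000000000000000000000000000000000000008b80000000000000020e00000bb400b340000000000000000000000000000000000000000000000000000002ad0028d000009b40000000000009340000000000000000000000000000000000000000000022d00000000000020d002ec0000000000002cc0000000000000000000000000000000000000000002ac00000000000028c0026c00000000000024c00000000000000000000000000000000000000000022c00000000000020c002eb00000b2c000000000000000000000000000aac00000000028b000000000000000000000000000000000000000000000000000026b0000092c0000000000000000000000000008ac00000000020b00000ba80000000002ca0000000000000000000000000aa800000000028a0000000000000000000000000000000000000000000009a800000000024a00000000000000000000000008a800000000020a00000000000000000000ba40000000b24000000000000000000000000000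002a900000002890000000000000000000000000000009a400000009240000000000000000000000000000022900000002090000000000000000000000000002e800000002c80000000000000000000000000002a800000002880000000000000000000000000002680000000248000000000000000000000000000228000000020800367d1c000000000000c9c000030700000000000000000000000000000000000000000000000000000000000000000000000000000000000000000000000000000026791c00000000000089c00002070000000000d9800003460000000000c9800003060000000000000000000000000000000000000000000000000000000000000000000000000000000000000000009980000246000000000089800002060000000000000000000000000000000000000000d9400d140000000000000032500305000000000000000000000000000000000000000000000000000000000000994009140000000000000022500205000000000000000000000000000000000000000000000000000036400344000000000000324003040000000000000000000000000000000000000000000000000000264002440000000000002240020400000000000000000000000000000000000000000000000000000000000000000000000000000000e8f8300000000000000000000c8f030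0000000000000000000a8e830000000000000000000088e0300000000000000000000000000000000000000000000000000000000000000000000000000000000000000000000000e8b82000000000000000c8b02000000000000000a8a8200000000000000088a0200000000000000000000000000000000000000000000000000000000000000000000000000000000000000000000000000000000000000000000000000000000000000000000f0781d0701b0681906010016751c00598000014649c00001074980000106594005140000164001440012500105001240010468d830000000000689820000048d030000048902000000000028c832888270581505013048110400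
def X11 : ℕ := Nat.xor X10 (Nat.xor 1 (ones 1024))
def St10 : Subgroup (AL Alt5) := stabilizer _ (mset (2 ^ 10) E10.e X10)
def wd5 (u v : Fin 5 → ZMod 2) : ℕ := ∑ i, ∑ j, (u i * v j + u j * v i).val * (2 ^ ix5 i j % 1024)
theorem mem_X10 {M : Alt5} : M ∈ mset (2 ^ 10) E10.e X10 ↔ M ≠ 0 ∧ ∃ u v, sy5 (vecMulVec u v) = M.1 := ⟨by
  rintro ⟨a, ⟨b, c⟩, rfl⟩
  have := of_decide_eq_true ((allN_iff _ _).1 (by decide +kernel : (allN 1024 fun a => decide (tb X10 a = true → a ≠ 0 ∧
    sy5 (vecMulVec (fun i => bz (tb (ent 10 T10 a) i)) fun i => bz (tb (ent 10 T10 a) (5 + i))) = sy5 (up5 a))) = true) a b) (by rwa [tb_eq])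
  exact ⟨mt (E10.inj a b) this.1, _, _, this.2⟩, fun ⟨a, u, v, b⟩ => by
  obtain ⟨c, d, e⟩ := (by decide +kernel : ∀ u v, wd5 u v < 2 ^ 10 ∧ sy5 (up5 (wd5 u v)) = sy5 (vecMulVec u v) ∧
    (wd5 u v = 0 ∨ X10.testBit (wd5 u v) = true)) u v
  have f : E10.e (wd5 u v) = M := Subtype.ext (d.trans b)
  exact ⟨_, ⟨c, e.resolve_left fun e => a (by rw [← f, e, E10.zero])⟩, f⟩⟩
theorem mem_X11 {M : Alt5} : M ∈ mset (2 ^ 10) E10.e X11 ↔ M ≠ 0 ∧ M ∉ mset (2 ^ 10) E10.e X10 := by
  obtain ⟨a, b, rfl⟩ := E10.surj M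
  rw [mem_mset E10.injOn b, mem_mset E10.injOn b, Ne, ← E10.zero, E10.eq_iff b (by norm_num), ← tb_eq, ← tb_eq]
  exact of_decide_eq_true ((allN_iff _ _).1 (by decide +kernel : (allN 1024 fun a =>
    decide (tb X11 a = true ↔ ¬ a = 0 ∧ ¬ tb X10 a = true)) = true) a b)
theorem St10_eq : lam5.range = St10 ∧ Nat.card St10 = 9999360 := by
  have := E10.finite
  have l : lam5.range ≤ St10 := by
    rintro _ ⟨g, rfl⟩
    refine Set.eq_of_subset_of_ncard_le ?_ (Set.ncard_smul_set _ _).ge
    rintro _ ⟨M, a, rfl⟩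
    obtain ⟨b, u, v, c⟩ := mem_X10.1 a
    refine mem_X10.2 ⟨(map_ne_zero_iff _ (lam5 g).injective).2 b, g.1 *ᵥ u, g.1 *ᵥ v, Eq.trans ?_ (congrArg (g.1 * · * g.1ᵀ) c)⟩
    simp [sy5, Matrix.mul_add, Matrix.add_mul, mul_vecMulVec, vecMulVec_mul, vecMul_transpose]
  have c : Nat.card St10 ≤ 9999360 := E10.lin_bound (Cs := [X10, 1]) (F := []) (H := St10) [512, 256, 8, 40, 128, 64, 16, 4, 2, 1]
    [(1, 155, [(0, 0, true)]), (2, 42, [(0, 0, true), (0, 1, true)]), (16, 24, [(0, 0, true), (0, 2, true), (0, 1, false), (1, 1, false)]), (32, 4, [(0, 0, true), (0, 7, true), (0, 3, false), (0, 1, true)]), (12, 1, [(0, 6, true), (0, 11, true), (0, 1, false), (0, 2, false), (0, 0, false)]), (64, 8, [(0, 0, true), (0, 8, true), (0, 16, true), (0, 1, false), (0, 3, false)]), (4, 1, [(0, 0, true), (0, 2, true), (0, 1, true), (0, 4, true), (0, 8, true)]), (128, 2, [(0, 0, true), (0, 19, true), (0, 5, true), (0, 1, false)]), (256, 1, [(0, 0, true), (0, 22, true), (0, 59, true), (0, 1, true)]), (512, 1, [(0, 0, true),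 (0, 54, true), (0, 133, true), (0, 2, true)])]
    (by simp only [List.forall_mem_cons]; exact ⟨qinv_st le_rfl, E10.qinv_one _, by simp⟩) (by simp) (by decide +kernel)
  have d : Nat.card lam5.range = 9999360 := (Nat.card_congr (MonoidHom.ofInjective lam5_inj).toEquiv).symm.trans card_sl52
  have e := eq_of_le_of_card_ge l (c.trans d.ge)
  exact ⟨e, e ▸ d⟩
theorem orb10 : orbit St10 (E10.e 1) = mset (2 ^ 10) E10.e X10 ∧ orbit St10 (E10.e 12) = mset (2 ^ 10) E10.e X11 := by
  have c : List.Forall₂ E10.Cols ([[8, 16, 128, 32, 256, 512, 1, 2, 4, 64], [1, 10, 20, 8, 16, 32, 192, 128, 256, 512]].map E10.el) [[8, 16, 128, 32, 256, 512, 1, 2, 4, 64], [1, 10, 20, 8, 16, 32, 192, 128, 256, 512]] :=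
    .cons (el_ok _ (by decide +kernel)) (.cons (el_ok _ (by decide +kernel)) .nil)
  have u := BE.actsL_ful c (Ns := mapL (lnet 10) [[0x8, 0x410, 0x880, 0xc21, 0x1102, 0x1608, 0x1a20, 0x1d14, 0x2090, 0x2460, 0x1d00, 0x1a00, 0x1440, 0x1080, 0xc40, 0x900, 0x480, 0x40], [0xc02, 0x1004, 0x1c40]]) (by decide +kernel)
  have l : cl _ ≤ St10 := cl_le (List.forall_mem_cons.2 ⟨cols_st (List.forall₂_cons.1 c).1 (by decide +kernel),
    List.forall_mem_singleton.2 (cols_st (List.forall₂_cons.1 (List.forall₂_cons.1 c).2).1 (by decide +kernel))⟩)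
  have k : ∀ {v : Alt5} {S : Set Alt5}, orbit (cl ([[8, 16, 128, 32, 256, 512, 1, 2, 4, 64], [1, 10, 20, 8, 16, 32, 192, 128, 256, 512]].map E10.el)) v = S → (∀ g ∈ St10, ∀ u ∈ S, g u ∈ S) → orbit St10 v = S :=
    fun {v S} h i => Set.Subset.antisymm (fun _ ⟨g, u⟩ => u ▸ i _ g.2 _ (h ▸ mem_orbit_self v)) (h ▸ fun _ ⟨g, u⟩ => ⟨⟨g, l g.2⟩, u⟩)
  exact ⟨k (u.orbit_eq (k := 20) (by norm_num) (by decide +kernel)) fun g a v => (mem_stabilizer_set.1 a v).2,
    k (u.orbit_eq (k := 21) (by norm_num) (by decide +kernel)) fun g a v b => mem_X11.2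
      ⟨(map_ne_zero_iff _ g.injective).2 (mem_X11.1 b).1, mt (mem_stabilizer_set.1 a v).1 (mem_X11.1 b).2⟩⟩
theorem card10 : (mset (2 ^ 10) E10.e X10).ncard = 155 ∧ (mset (2 ^ 10) E10.e X11).ncard = 868 :=
  ⟨(ncard_mset_pop (d := 10) E10.injOn le_rfl _).trans (by decide +kernel), (ncard_mset_pop (d := 10) E10.injOn le_rfl _).trans (by decide +kernel)⟩
theorem irr10 {K : AddSubgroup Alt5} (a : ∀ g ∈ St10, ∀ v ∈ K, g v ∈ K) {w : Alt5} (b : w ∈ K) (c : w ≠ 0) (v : Alt5) : v ∈ K := by
  have k : ∀ {x X}, orbit St10 x = mset (2 ^ 10) E10.e X → w ∈ mset (2 ^ 10) E10.e X → ∀ i < 2 ^ 10, X.testBit i = true → E10.e i ∈ K :=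
    fun e d i l m => by
      obtain ⟨g, f⟩ := (orbit_eq_iff.2 (e.ge d)).ge (e.ge ⟨i, ⟨l, m⟩, rfl⟩)
      exact f ▸ a g g.2 w b
  refine E10.top_of (fun i l => ?_) v
  by_cases d : w ∈ mset (2 ^ 10) E10.e X10
  · exact k orb10.1 d _ (by revert i; decide) (by revert i; decide +kernel)
  · obtain ⟨j, e, f⟩ := (by decide +kernel : ∀ i < 10, ∃ j < 2 ^ 10, X11.testBit j = true ∧ X11.testBit (2 ^ i ^^^ j) = true) i l
    exact (K.add_mem_cancel_right (k orb10.2 (mem_X11.2 ⟨c, d⟩) j e f.1)).1 (E10.xor _ _ ▸ k orb10.2 (mem_X11.2 ⟨c, d⟩) _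
      (Nat.xor_lt_two_pow (Nat.pow_lt_pow_right one_lt_two l) e) f.2)
end
end H13
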