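import Cfsg.Agent.H13.J24
/-! The stabiliser of an octad acting on the module of order `2 ^ 11`. -/
set_option autoImplicit false
namespace H13
noncomputable section
open MulAction Cfsg H27 Subgroup
open scoped Pointwise
variable {W : Type*} [AddCommGroup W] (E : BE W 11)
def c6 : List ℕ := [40, 112, 41, 169, 80, 144]
def cQ : List (List ℕ) := [[1, 2, 4, 8, 16, 32, 64, 128, 256, 512, 1024],
  [1, 2, 5, 8, 16, 32, 64, 128, 344, 627, 1027],
  [1, 42, 84, 8, 16, 32, 64, 128, 385, 1408, 769],
  [1, 42, 85, 8, 16, 32, 64, 128, 473, 1499, 810],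
  [1, 114, 61, 8, 16, 32, 64, 128, 473, 1155, 755],
  [1, 114, 60, 8, 16, 32, 64, 128, 385, 1152, 640],
  [1, 90, 109, 8, 16, 32, 64, 128, 344, 938, 1371],
  [1, 90, 108, 8, 16, 32, 64, 128, 256, 897, 1280],
  [1, 43, 84, 8, 16, 32, 64, 128, 489, 1517, 852],
  [1, 43, 85, 8, 16, 32, 64, 128, 433, 1463, 894],
  [1, 3, 4, 8, 16, 32, 64, 128, 360, 573, 1029],
  [1, 3, 5, 8, 16, 32, 64, 128, 304, 591, 1031],
  [1, 91, 109, 8, 16, 32, 64, 128, 304, 1022, 1335],
  [1, 91, 108, 8, 16, 32, 64, 128, 360, 980, 1389],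
  [1, 115, 61, 8, 16, 32, 64, 128, 433, 1159, 719],
  [1, 115, 60, 8, 16, 32, 64, 128, 489, 1157, 701]]
def cO : List (List ℕ) := [[249, 423, 1551, 96, 216, 9, 225, 145, 261, 1404, 1157],
  [88, 3, 347, 64, 168, 65, 193, 8, 1981, 665, 1297],
  [72, 1743, 1736, 65, 137, 240, 8, 161, 2029, 1188, 640],
  [41, 2, 1796, 225, 32, 145, 153, 168, 473, 1186, 803],
  [1, 2, 7, 96, 65, 17, 9, 248, 1833, 1396, 1250],
  [1, 2, 6, 25, 16, 65, 33, 240, 1834, 609, 1041],
  [1, 2, 4, 16, 24, 96, 32, 128, 1793, 1408, 1024],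
  [1, 2, 4, 65, 97, 24, 8, 161, 1834, 701, 1185],
  [1, 2, 4, 8, 17, 33, 64, 200, 311, 577, 1033],
  [1, 2, 4, 8, 16, 33, 65, 225, 365, 530, 1024],
  [1, 2, 4, 8, 16, 32, 65, 161, 311, 540, 1024]]
def XC6 : ℕ := 0x303030303030303030303030303030303030303030303030303030303030303
def XA0 : ℕ := 0xffffffffffffffffffffffffffffffffffffffffffffffffffffffffffffffffffffffffffffffffffffffffffffffffffffffffffffffffffffffffffffffff0000000000000000000000000000000000000000000000000000000000000000000000000000000000000000000000000000000000000000000000000000000000000000000000000000000000000000000000000000000000000000000000000000000000000000000000000000000000000000000000000000000000000000ffffffffffffffffffffffffffffffffffffffffffffffffffffffffffffffffffffffffffffffffffffffffffffffffffffffffffffffffffffffffffffffff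
def XIm : ℕ := 0xf00000f00000000000f000000000f
def fQ : List ℕ := [0, 12, 10, 6, 11, 7, 1, 13, 4, 8, 14, 2, 15, 3, 5, 9]
theorem okQ : List.Forall₂ E.Cols ((cQ ++ cO).map E.el) (cQ ++ cO) ∧ ∀ g ∈ (cQ ++ cO).map E.el, g ∈ G24 E := el24 E (by decide +kernel)
abbrev eQ (i : ℕ) : AL W := E.el (nth [] (cQ ++ cO) i)
theorem eQ_c {i : ℕ} (a : i < 27) : E.Cols (eQ E i) (nth [] (cQ ++ cO) i) ∧ eQ E i ∈ G24 E :=
  have a : nth [] (cQ ++ cO) i ∈ cQ ++ cO := by revert i; decide +kernel
  ⟨List.forall₂_same.1 (List.forall₂_map_left_iff.1 (okQ E).1) _ a, (okQ E).2 _ (List.mem_map_of_mem a)⟩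
theorem eQ_e {i a : ℕ} (b : i < 27) (c : a < 2 ^ 11) : eQ E i (E.e a) = E.e (xsum (nth [] (cQ ++ cO) i) a) := (eQ_c E b).1 a c
theorem eQ_rel {i j k l : ℕ} (a : i < 27 ∧ j < 27 ∧ k < 27 ∧ l < 27 ∧ ∀ n < 11,
    xsum (nth [] (cQ ++ cO) i) (xsum (nth [] (cQ ++ cO) j) (2 ^ n)) = xsum (nth [] (cQ ++ cO) k) (xsum (nth [] (cQ ++ cO) l) (2 ^ n))) :
    eQ E i * eQ E j = eQ E k * eQ E l :=
  have b : ∀ i < 27, ∀ a ∈ nth [] (cQ ++ cO) i, a < 2 ^ 11 := by decide +kernel
  LinearEquiv.ext (E.top_of (K := AddMonoidHom.eqLocus (eQ E i * eQ E j).toAddEquiv.toAddMonoidHom (eQ E k * eQ E l).toAddEquiv.toAddMonoidHom)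
    fun n m => show eQ E i (eQ E j _) = eQ E k (eQ E l _) by
      have m' := Nat.pow_lt_pow_right one_lt_two m
      rw [eQ_e E a.2.1 m', eQ_e E a.2.2.2.1 m', eQ_e E a.1 (xsum_lt (b _ a.2.1) _), eQ_e E a.2.2.1 (xsum_lt (b _ a.2.2.2.1) _), a.2.2.2.2 n m])
theorem eQ_zero : eQ E 0 = 1 := (eQ_c E (by norm_num)).1.ext (E.cols_of fun k l => congrArg E.e (show 2 ^ k = _ by revert k; decide))
theorem eQ_xor {i j : ℕ} (a : i < 16) (b : j < 16) : eQ E (i ^^^ j) = eQ E i * eQ E j := by
  rw [← mul_one (eQ E (i ^^^ j)), ← eQ_zero]; exact eQ_rel E (by revert j; revert i; decide +kernel)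
theorem mem_C6 {w : W} : w ∈ mset (2 ^ 11) E.e XC6 ↔ ∃ m < 64, E.e (xsum c6 m) = w := by
  obtain ⟨a, b, rfl⟩ := E.surj w
  rw [mem_mset E.injOn b, ← tb_eq, of_decide_eq_true ((allN_iff _ _).1 (by decide +kernel : (allN 2048 fun a =>
    decide (tb XC6 a = true ↔ xsum c6 (xsum [5, 0, 0, 19, 44, 18, 60, 12, 0, 0, 0] a) = a)) = true) a b)]
  refine ⟨fun c => ⟨_, xsum_lt (d := 6) (by decide) _, congrArg _ c⟩, fun ⟨m, c, d⟩ => ?_⟩
  rw [← (E.eq_iff (xsum_lt (by decide) _) b).1 d]; clear d; revert m; decide +kernel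
def Q4 : Subgroup (AL W) := G24 E ⊓ fixingSubgroup _ (mset (2 ^ 11) E.e XC6)
def O8 : Subgroup (AL W) := G24 E ⊓ stabilizer _ (mset (2 ^ 11) E.e XC6) ⊓ stabilizer _ (mset (2 ^ 11) E.e XA0)
theorem eQ_Q4 {i : ℕ} (a : i < 16) : eQ E i ∈ Q4 E := ⟨(eQ_c E (by omega)).2, (mem_fixingSubgroup_iff _).2 fun w b => by
  obtain ⟨m, c, rfl⟩ := (mem_C6 E).1 b
  exact (eQ_e E (by omega) (xsum_lt (by decide) _)).trans (congrArg _ (by clear b; revert i m; decide +kernel))⟩
theorem mem_Q4 {g : AL W} (a : g ∈ Q4 E) : ∃ i < 16, eQ E i = g := by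
  have := E.finite
  have c : Nat.card (Q4 E) ≤ 16 := E.lin_bound (Cs := [XD, 1]) (F := c6) (H := Q4 E) [160, 16, 8, 608, 1408, 576, 1920, 384, 4, 2, 1]
    [(2, 8, [(0, 0, true), (0, 1, true), (0, 2, true), (0, 4, true)]), (4, 2, [(0, 0, true), (0, 10, true), (0, 1, true), (0, 32, true)]), (256, 1, [(0, 0, true), (0, 12, true), (0, 22, true), (0, 105, true)]), (512, 1, [(0, 0, true), (0, 13, true), (0, 14, true), (0, 73, true)]), (1024, 1, [(0, 0, true), (0, 7, true), (0, 38, true), (0, 2, true)])]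
    (by simp only [List.forall_mem_cons]; exact ⟨qinv_st fun _ a => a.1, E.qinv_one _, by simp⟩)
    (fun b i => ⟨by revert b; decide, fun g c => (mem_fixingSubgroup_iff _).1 c.2 _ ⟨b, by clear c; revert b; decide +kernel, rfl⟩⟩)
    (by decide +kernel)
  obtain ⟨i, e⟩ := (show Function.Injective fun i : Fin 16 => (⟨_, eQ_Q4 E i.2⟩ : Q4 E) from fun i j e => by
    have := LinearEquiv.congr_fun (congrArg Subtype.val e) (E.e 512)
    rw [eQ_e E (by omega) (by norm_num), eQ_e E (by omega) (by norm_num), E.eq_iff (by clear e this; revert i; decide +kernel)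
      (by clear e this; revert j; decide +kernel)] at this
    clear e; revert i j; decide +kernel).bijective_of_nat_card_le (by simpa using c) |>.2 ⟨g, a⟩
  exact ⟨i, i.2, congrArg Subtype.val e⟩
theorem O8_nrm {g k : AL W} (a : g ∈ O8 E) (b : k ∈ Q4 E) : g * k * g⁻¹ ∈ Q4 E :=
  ⟨(G24 E).mul_mem ((G24 E).mul_mem a.1.1 b.1) ((G24 E).inv_mem a.1.1), (mem_fixingSubgroup_iff _).2 fun w c => by
    rw [mul_smul, mul_smul, (mem_fixingSubgroup_iff _).1 b.2 _ ((mem_stabilizer_set.1 ((stabilizer _ _).inv_mem a.1.2) w).2 c), smul_inv_smul]⟩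
theorem le_O8 : 322560 ≤ Nat.card (O8 E) :=
  have := E.finite
  have c := List.forall₂_drop 18 (okQ E).1
  (BE.actsL_ful c (Ns := mapL (lnet 11) [[0x8, 0x1080, 0x1803, 0x2206, 0x3023, 0x3a30, 0x49b6, 0x51b6, 0x3200, 0x2b80, 0x2180, 0x1990, 0x14b0, 0xcc],
    [0x1801, 0x2021, 0x2811, 0x3028, 0x3848, 0x4004, 0x4c00, 0x5204, 0x4c00, 0x4400, 0x3b00, 0x3480, 0x2940, 0x2280, 0x1ca0, 0xe00, 0x568],
    [0x1820, 0x2048, 0x2850, 0x3038, 0x4900, 0x5100, 0x4200, 0x3c00, 0x3180, 0x2b40, 0x2260, 0x1e40, 0x1200, 0xc04, 0x174],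
    [0x2008, 0x2840, 0x3020, 0x4900, 0x5100, 0x3380, 0x2940, 0x2580, 0x1900, 0x904, 0x668],
    [0x1810, 0x2008, 0x3020, 0x4900, 0x5100, 0x4200, 0x3a00, 0x2840, 0x100],
    [0x1840, 0x2020, 0x2810, 0x3028, 0x4900, 0x5100, 0x3e00, 0x3100, 0x2a00, 0x25a0, 0x1b70, 0x1200, 0x900, 0x698],
    [0x3280, 0x2900, 0x2100, 0x1c80, 0x1100, 0x900, 0x730],
    [0x3180, 0x2980, 0x2200, 0x1900, 0x1100, 0xa00, 0x1e0],
    [0x2980, 0x2300, 0x1a00, 0x1300, 0x900, 0x1c0]]) (by decide +kernel)).le_card
    (d := 11) E.injOn le_rfl [(2, 2, 1), (3, 1, 1), (4, 1, 2), (8, 2, 2), (16, 1, 1), (32, 1, 1), (64, 1, 1)] (fun g a => by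
      obtain ⟨i, l, rfl⟩ := List.getElem_of_mem a
      have d := c.get l (c.length_eq ▸ l)
      have k := (allL_iff _ _).1 (by decide +kernel : allL ((cQ ++ cO).drop 18) (fun A => and' (stL 11 XC6 A) (stL 11 XA0 A)) = true) _
        (List.get_mem _ ⟨i, c.length_eq ▸ l⟩)
      rw [and'_eq, Bool.and_eq_true] at k
      exact ⟨⟨(okQ E).2 _ (List.mem_of_mem_drop a), cols_st d k.1⟩, cols_st d k.2⟩) (by decide +kernel)
theorem A0_mvQ {g : AL W} (a : g ∈ O8 E) {k : AL W} (b : k ∈ Q4 E) :
    E.e 512 + g (E.e 512) + k (E.e 512 + g (E.e 512)) ∈ mset (2 ^ 11) E.e XC6 := by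
  obtain ⟨n, c, rfl⟩ := mem_Q4 E b
  obtain ⟨i, d, e⟩ := E.surj (g (E.e 512))
  have f := mt (mem_stabilizer_set.1 a.2 (E.e 512)).1 (by rw [mem_mset E.injOn (by norm_num)]; decide +kernel)
  have l := Nat.xor_lt_two_pow (by norm_num : 512 < 2 ^ 11) d
  have := of_decide_eq_true ((allN_iff _ _).1 ((allN_iff _ _).1 (by decide +kernel : (allN 16 fun n => forceL (nth [] (cQ ++ cO) n) fun A =>
    allN 2048 fun i => decide (tb XA0 i = false → (512 ^^^ i ^^^ xsum A (512 ^^^ i) < 2 ^ 11 ∧ tb XC6 (512 ^^^ i ^^^ xsum A (512 ^^^ i)) = true)))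
      = true) n c |> (forceL_eq ..).symm.trans) i d) (by
        rw [tb_eq, ← Bool.not_eq_true, ← mem_mset E.injOn d, e]; exact f)
  rw [← e, ← E.xor, eQ_e E (by omega) l, ← E.xor]
  exact ⟨_, ⟨this.1, tb_eq .. ▸ this.2⟩, rfl⟩
theorem a0_Q {i : ℕ} (a : i < 16) (b : E.e 512 + eQ E i (E.e 512) ∈ mset (2 ^ 11) E.e XC6) : i = 0 := by
  rw [eQ_e E (by omega) (by norm_num), ← E.xor, mem_mset E.injOn (by clear b; revert i; decide +kernel)] at b
  revert i; decide +kernel
theorem fx_Q4 {w : W} (a : ∀ i < 16, eQ E i w = w) : w ∈ mset (2 ^ 11) E.e XC6 := by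
  obtain ⟨i, b, rfl⟩ := E.surj w
  refine ⟨i, ⟨b, tb_eq .. ▸ of_decide_eq_true ((allN_iff _ _).1 (by decide +kernel : (allN 2048 fun i =>
    decide ((∀ n ∈ ([1, 2, 4, 8] : List ℕ), xsum (nth [] (cQ ++ cO) n) i = i) → tb XC6 i = true)) = true) i b) fun n c => ?_⟩, rfl⟩
  exact (E.eq_iff (xsum_lt (by revert n; decide +kernel) _) b).1 ((eQ_e E (by revert n; decide) b).symm.trans (a n (by revert n; decide)))
theorem base_Q {w : W} (a : eQ E 1 w = w) (b : ∃ r, r + eQ E 1 r = w + eQ E 17 w) : ∃ r, r + eQ E 1 r = w := by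
  obtain ⟨i, c, rfl⟩ := E.surj w
  obtain ⟨r, b⟩ := b
  obtain ⟨r, d, rfl⟩ := E.surj r
  have l : ∀ n < 27, ∀ a, xsum (nth [] (cQ ++ cO) n) a < 2 ^ 11 := fun n m => xsum_lt (by revert n; decide +kernel)
  rw [eQ_e E (by norm_num) c, E.eq_iff (l _ (by norm_num) _) c] at a
  rw [eQ_e E (by norm_num) c, eQ_e E (by norm_num) d, ← E.xor, ← E.xor, E.eq_iff (Nat.xor_lt_two_pow d (l _ (by norm_num) _))
    (Nat.xor_lt_two_pow c (l _ (by norm_num) _))] at b
  obtain ⟨s, e, f⟩ := of_decide_eq_true ((allN_iff _ _).1 (by decide +kernel : (allN 2048 fun i => decide (xsum (nth [] (cQ ++ cO) 1) i = i →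
    tb XIm (i ^^^ xsum (nth [] (cQ ++ cO) 17) i) = true → ∃ s ∈ ([0, 4, 256, 260, 512, 516, 768, 772, 1024, 1028, 1280, 1284, 1536, 1540, 1792, 1796] : List ℕ), s ^^^ xsum (nth [] (cQ ++ cO) 1) s = i)) = true) i c) a
    (b ▸ of_decide_eq_true ((allN_iff _ _).1 (by decide +kernel : (allN 2048 fun r =>
      decide (tb XIm (r ^^^ xsum (nth [] (cQ ++ cO) 1) r) = true)) = true) r d))
  exact ⟨E.e s, by rw [eQ_e E (by norm_num) (by clear f; revert s; decide), ← E.xor, f]⟩
theorem cm_Q : eQ E 17 * eQ E 1 = eQ E 1 * eQ E 17 := eQ_rel E (by decide +kernel)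
theorem tr_Q {P : ℕ → Prop} (a : P 1) (b : ∀ i < 16, ∀ j < 16, eQ E 16 * eQ E i = eQ E j * eQ E 16 → P i → P j) {i : ℕ} (c : i < 16)
    (d : i ≠ 0) : P i := by
  have k : ∀ n, (nth 0 fQ)^[n] 1 < 16 ∧ P ((nth 0 fQ)^[n] 1) := fun n => by
    induction n with
    | zero => exact ⟨by norm_num, a⟩
    | succ n ih =>
      rw [Function.iterate_succ_apply']
      generalize (nth 0 fQ)^[n] 1 = m at ih
      have l : nth 0 fQ m < 16 := (by decide : ∀ m < 16, nth 0 fQ m < 16) m ih.1
      exact ⟨l, b _ ih.1 _ l (eQ_rel E (by have := ih.1; clear ih l; revert m; decide +kernel)) ih.2⟩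
  obtain ⟨n, -, rfl⟩ := (by decide : ∀ i < 16, i ≠ 0 → ∃ n < 15, (nth 0 fQ)^[n] 1 = i) i c d
  exact (k n).2
def XT : ℕ := 0x182400420000810081810081000081280000148200004141000041410000414800840000120021210021000021002100880044002200110011001100110011609000000000060909090000000009090000a05000000a05000005050000050500000000c0300c03000000000303030300000000000000ff6999a555c3330ffe
def TT : ℕ := 0x100204000000000000000200000001800000000000000000000000000000041800000000000820000000000000000000000000000000000000000000000000400000000000000000000000000000000000000000200000000000000000010200c0000000000000000004000000000000000000000020800000000000000001060000000000000000000000000000000000000000000000400000000000000000000000000200000c00000000000000000000000000000000000000000000000000000000000060000180800000c0c000000000000030200000000000000000000000000000000000000000000000000008000000000000000000001800000000000000040000000000000000000000000000000000000000000000180000000000000006020018100000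00000000060600000000000000000000000000000000000000000000000008000000000000000000040000000204000000000000000000000000000000c000000000000180800000000000000000000000000000000000000000000000000000000070200000380000000000000000000000000000000001000000000000000000008000000000000102000000000000000000000000000300000000000006020000000000000000000000000000000000000000000000000381000000000007000000000000000000000000000000010000000000000000000000000000000000002000000000020400000000000000000000000000000000041800000000410000000000000000000000000000000000020000000000300000000000000000000000000000000000200000000000000000000000000000000000000000100000000001020000000000000000000000000000001040000000010600000000000000000000000000000000600000000004000000000000000000000000000000002000000000000000180200000000000000c0c000006040000000000000000000000000000000000000000000000000000000000000000000000000000000000000000000000000000000000000000180b0000000000000000004000000000000000000000c0000000400000000000c0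800000606000000000000000000000000000000000000000000000000000000000000000000000000000000000000000000000000000c000000060200000000000004000000000000000000000000000000000000000000000000000000c0000200000000000000000418001040000000000000000000000000000000000000000000000000000000000000000002040008000000000000000000008000000000000000000000000000000000000000000000000000000000000000018000040000000000000041000106000000000000000000000000000000000000000000000000000000000040000102000000000000000080000000000000000000000000000000000000000000000000000000000000000000000000000000000000000000002084180000000000000000000000020060000000000000000000000204400000000000000000000000001000000000000000000000000000000000000000000000000000000000000000000000000000000000000000000000000000000000000821060000000000000000003004000000000000000008010200000000000000000010000000000000000000000000000000000000000000000000000000000000000000000000000000000000000000000000000000000000000000000000000000000000000000000000000000000000c08410027042018038000000000000000000000000000000000000000000000000000000000000000000000000000000000000000000000000000000000000000000000000000000000000000000000000000000000000000000000000000000000000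
theorem im_Q {a : ℕ} (l : a < 1024) (n : a >>> 6 ≠ 0) :
    (∃ r, r + eQ E (a >>> 6) r = E.e (xsum c6 a)) ↔ XT.testBit a = true := by
  have m : a >>> 6 < 27 := by rw [Nat.shiftRight_eq_div_pow]; omega
  have k : ∀ {r}, r < 2 ^ 11 → (E.e r + eQ E (a >>> 6) (E.e r) = E.e (xsum c6 a) ↔ r ^^^ xsum (nth [] (cQ ++ cO) (a >>> 6)) r = xsum c6 a) :=
    fun d => by rw [eQ_e E m d, ← E.xor, E.eq_iff (Nat.xor_lt_two_pow d (xsum_lt
      ((by decide +kernel : ∀ n < 27, ∀ a ∈ nth [] (cQ ++ cO) n, a < 2 ^ 11) _ m) _)) (xsum_lt (by decide) _)]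
  have u := of_decide_eq_true ((allN_iff _ _).1 (by decide +kernel : (allN 1024 fun a => decide
    (a = 64 * (a >>> 6) + xsum [5, 0, 0, 19, 44, 18, 60, 12, 0, 0, 0] (xsum c6 a) ∧ (a >>> 6 ≠ 0 → tb XT a = true →
      ent 11 TT a ^^^ xsum (nth [] (cQ ++ cO) (a >>> 6)) (ent 11 TT a) = xsum c6 a))) = true) a l)
  refine ⟨fun ⟨r, b⟩ => ?_, fun b => ⟨_, (k (ent_lt ..)).2 (u.2 n (tb_eq .. ▸ b))⟩⟩
  obtain ⟨r, d, rfl⟩ := E.surj r
  have := of_decide_eq_true ((allN_iff _ _).1 ((allN_iff _ _).1 (by decide +kernel : (allN 16 fun n => forceL (nth [] (cQ ++ cO) n) fun A =>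
    allN 2048 fun r => force (r ^^^ xsum A r) fun y => decide (n ≠ 0 → xsum c6 (xsum [5, 0, 0, 19, 44, 18, 60, 12, 0, 0, 0] y) = y → tb XT (64 * n + xsum [5, 0, 0, 19, 44, 18, 60, 12, 0, 0, 0] y) = true))
      = true) (a >>> 6) (by rw [Nat.shiftRight_eq_div_pow]; omega) |> (forceL_eq ..).symm.trans) r d |> (force_eq ..).symm.trans) n
  rw [(k d).1 b, ← u.1, tb_eq] at this
  exact this ((by decide +kernel : ∀ a < 1024, xsum c6 (xsum [5, 0, 0, 19, 44, 18, 60, 12, 0, 0, 0] (xsum c6 a)) = xsum c6 a) a l)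
theorem lo_Q {a : ℕ} (l : a < 1024) (n : a >>> 6 = 0) : XZ.testBit (xsum c6 a) = XT.testBit a := by revert a; decide +kernel
end
end H13
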