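import Cfsg.Agent.H13.J10u
import Cfsg.Agent.H13.J10b
import Cfsg.Agent.H13.J10c
import Cfsg.Agent.H1.Gasch
/-! Groups of type `J4`: the subgroup `2 ^ 10 : L5(2)`. -/
set_option autoImplicit false
namespace H13
noncomputable section
open MulAction Cfsg H27 Subgroup H22
open scoped Pointwise MatrixGroups
universe u
variable {G : Type u} [Group G] [Finite G] {z : G} {R : Subgroup G} {π : Cz z →* AL V6} {P : V6 → G → Prop}
structure T10s (z : G) (B : Subgroup G) (β : ℕ → G) : Prop where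
  xor : ∀ a < 2 ^ 10, ∀ b < 2 ^ 10, β (a ^^^ b) = β a * β b
  inj : ∀ a < 2 ^ 10, β a = 1 → a = 0
  mem : ∀ y, y ∈ B ↔ ∃ a < 2 ^ 10, β a = y
  cls : ∀ a < 2 ^ 10, IsConj z (β a) ↔ X10.testBit a = true
  exK : ∃ K ≤ normalizer (B : Set G), K ⊓ B = ⊥ ∧ 322560 ≤ Nat.card K ∧ Nat.card K ∣ 244823040
theorem T10s.cj {B : Subgroup G} {β : ℕ → G} (t : T10s z B β) (g : G) : T10s z (MulAut.conj g • B) fun a => g * β a * g⁻¹ := by
  obtain ⟨K, a, b, c⟩ := t.exK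
  refine ⟨fun a b c d => by rw [t.xor a b c d, conj_mul], fun a b c => t.inj a b (conj_eq_one_iff.1 c), fun y => ?_,
    fun a b => Iff.trans ⟨(·.trans (isConj_cj g _).symm), (·.trans (isConj_cj g _))⟩ (t.cls a b),
    MulAut.conj g • K, fun k d => mem_normalizer_fintype fun y e => mem_cj.2 ?_, by rw [← smul_inf, b, smul_bot],
    by rwa [show Nat.card (MulAut.conj g • K :) = Nat.card K from card_map_of_injective (MulAut.conj g).injective]⟩
  · rw [mem_cj, t.mem]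
    exact exists_congr fun a => and_congr_right fun _ => by rw [mul_inv_eq_iff_eq_mul, ← eq_inv_mul_iff_mul_eq, mul_assoc]
  · simpa [mul_assoc] using (mem_normalizer_iff.1 (a (mem_cj.1 d)) _).1 (mem_cj.1 e)
namespace JT0.JN
variable {h : JT0 z R π P} {x : Cz z} {E : BE (Additive h.A) 11} (j : h.JN x E) [IsSimpleGroup G] (hG : ¬ IsMulCommutative G)
include j hG
theorem ten : ∃ B β, SC B ∧ T10s z B β := by
  classical
  obtain ⟨κ, e⟩ := j.exK hG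
  obtain ⟨f, hf⟩ : ∃ f : AL (Additive h.A) → normalizer (h.A : Set G), ∀ g c, f g = κ ⟨g, c⟩ :=
    ⟨fun g => if c : g ∈ G24 E then κ ⟨g, c⟩ else 1, fun g c => dif_pos c⟩
  let t : Additive h.A → G := fun w => w.toMul
  have ta : ∀ u v, t (u + v) = t u * t v := fun _ _ => rfl
  have ti : Function.Injective t := fun _ _ => Subtype.ext
  have tA : ∀ w, t w ∈ h.A := fun w => w.toMul.2
  have fr : ∀ {g}, g ∈ G24 E → h.rho (f g) = g := fun c => by rw [hf _ c, e]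
  have fm : ∀ {g k}, g ∈ G24 E → k ∈ G24 E → (f (g * k)).1 = f g * f k := fun c d => by
    rw [hf _ c, hf _ d, hf _ (mul_mem c d), ← coe_mul, ← map_mul]; rfl
  have f1 : (f 1).1 = 1 := by rw [hf _ (one_mem _)]; exact congrArg _ (map_one κ)
  have act : ∀ {g}, g ∈ G24 E → ∀ w, f g * t w = t (g w) * f g := fun c w =>
    mul_inv_eq_iff_eq_mul.1 (congrArg Subtype.val (LinearEquiv.congr_fun (fr c) w))
  have cjr : ∀ {g}, g ∈ G24 E → ∀ w r, t r * (t w * f g) * (t r)⁻¹ = t (r + g r) * (t w * f g) := fun c w r => by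
    rw [h.A_inv (tA r), mul_assoc, mul_assoc, act c, ta, mul_assoc, ← mul_assoc (t w), h.A_comm (tA w) (tA _), mul_assoc]
  have dec : ∀ k : normalizer (h.A : Set G), ∃ w, t w * f (h.rho k) = k := fun k => ⟨Additive.ofMul ⟨(k * (f (h.rho k))⁻¹).1,
    h.ker_rho.le (show h.rho (k * (f (h.rho k))⁻¹) = 1 by rw [map_mul, map_inv h.rho (f _), fr (j.rg.le ⟨k, rfl⟩), mul_inv_cancel])⟩, inv_mul_cancel_right ..⟩
  have uq : ∀ {g k u v}, g ∈ G24 E → k ∈ G24 E → t u * f g = t v * f k → g = k ∧ u = v := fun {g k u v} c d i => by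
    have r : ∀ w, h.rho ⟨t w, le_normalizer (tA w)⟩ = 1 := fun w => h.ker_rho.ge (tA w)
    have := congrArg h.rho (show ⟨_, le_normalizer (tA u)⟩ * f g = ⟨_, le_normalizer (tA v)⟩ * f k from Subtype.ext i)
    rw [map_mul, map_mul, r, r, fr c, fr d, mul_right_inj] at this
    subst this
    exact ⟨rfl, ti (mul_right_cancel i)⟩
  have q : ∀ {i}, i < 27 → eQ E i ∈ G24 E := fun c => (eQ_c E c).2
  have k1 : IsConj z (f (eQ E 1)).1 := by
    have p := h.mul (h.mu_P j.hx (v6 170)) (h.mu_P j.hx (v6 1))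
    have c := h.conjJ hG p (by rw [← v6_xor, memJ (by norm_num)]; decide +kernel)
    have n := h.mu_A j.hx (u := v6 170) (by decide +kernel)
    obtain ⟨w, d⟩ := dec (⟨_, le_normalizer n⟩ * ⟨_, h.R_nA (h.mem (h.mu_P j.hx (v6 1)))⟩)
    rw [map_mul, show h.rho ⟨_, le_normalizer n⟩ = 1 from h.ker_rho.ge n, one_mul, j.cy.ext (eQ_c E (i := 1) (by norm_num)).1] at d
    rw [← show _ = h.mu x (v6 170) * h.mu x (v6 1) from d] at c
    have s : eQ E 1 w = w := by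
      obtain ⟨g, i⟩ := _root_.isConj_iff.1 c
      have := i ▸ h.conj_sq g
      rw [mul_assoc, ← mul_assoc (f _).1, act (q (by norm_num)), mul_assoc, ← fm (q (by norm_num)) (q (by norm_num)),
        ← eQ_xor E (by norm_num) (by norm_num), Nat.xor_self, eQ_zero, f1, mul_one, ← ta] at this
      rw [← add_right_inj w, E.two]; exact ti this
    have i : f (eQ E 17) * (t w * f (eQ E 1)) * (f (eQ E 17)).1⁻¹ = t (w + eQ E 17 w) * (t w * f (eQ E 1)) := by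
      rw [mul_inv_eq_iff_eq_mul, ← mul_assoc, act (q (by norm_num)), mul_assoc, ← fm (q (by norm_num)) (q (by norm_num)), cm_Q,
        fm (q (by norm_num)) (q (by norm_num)), ← mul_assoc (t _) (t w), ← ta, add_right_comm, E.two, zero_add, mul_assoc]
    obtain ⟨r, r1, r2⟩ := h.cl1 hG (mul_mem (le_normalizer (tA w)) (f _).2) (fun m => absurd (a0_Q E (i := 1) (by norm_num) (by
      rw [(uq (u := w) (v := Additive.ofMul ⟨_, m⟩) (q (by norm_num)) (one_mem _) (by rw [f1, mul_one]; rfl)).1]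
      exact (mem_C6 E).2 ⟨0, by norm_num, E.zero.trans (E.two _).symm⟩)) one_ne_zero) (tA _) c (i ▸ c.trans (isConj_cj ..))
    obtain ⟨r, r3⟩ := base_Q E s ⟨_, ti (mul_right_cancel ((cjr (q (by norm_num)) w (Additive.ofMul ⟨r, r1⟩)).symm.trans r2))⟩
    refine c.trans (_root_.isConj_iff.2 ⟨t r, ?_⟩)
    rw [cjr (q (by norm_num)), r3, ← mul_assoc, ← ta, E.two]; exact one_mul _
  have k2 : ∀ {i}, i < 16 → i ≠ 0 → IsConj z (f (eQ E i)).1 := tr_Q E (P := fun i => IsConj z (f (eQ E i)).1) k1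
    fun i a k b c d => d.trans (_root_.isConj_iff.2 ⟨f (eQ E 16), by
    rw [mul_inv_eq_iff_eq_mul, ← fm (q (by norm_num)) (q (by omega)), c, fm (q (by omega)) (q (by norm_num))]⟩)
  let β : ℕ → G := fun a => t (E.e (xsum c6 a)) * f (eQ E (a >>> 6))
  have s6 : ∀ {a}, a < 2 ^ 10 → a >>> 6 < 16 := fun c => by rw [Nat.shiftRight_eq_div_pow]; omega
  have m6 : ∀ {a}, a < 2 ^ 10 → E.e (xsum c6 a) ∈ mset (2 ^ 11) E.e XC6 := fun {a} c => ⟨_, by revert a; decide +kernel, rfl⟩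
  have fQ : ∀ {g w}, g ∈ Q4 E → w ∈ mset (2 ^ 11) E.e XC6 → g w = w := fun c d => (mem_fixingSubgroup_iff _).1 c.2 _ d
  have xo : ∀ a < 2 ^ 10, ∀ b < 2 ^ 10, β (a ^^^ b) = β a * β b := fun a c b d => by
    simp only [β]
    rw [xsum_xor, E.xor, ta, Nat.shiftRight_xor_distrib, eQ_xor E (s6 c) (s6 d), fm (eQ_Q4 E (s6 c)).1 (eQ_Q4 E (s6 d)).1, mul_assoc,
      mul_assoc, ← mul_assoc (f _).1, act (eQ_Q4 E (s6 c)).1, fQ (eQ_Q4 E (s6 c)) (m6 d), mul_assoc]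
  have b0 : β 0 = 1 := left_eq_mul.1 (xo 0 (by norm_num) 0 (by norm_num))
  have sq : ∀ a < 2 ^ 10, β a * β a = 1 := fun a c => by rw [← xo a c a c, Nat.xor_self, b0]
  let B : Subgroup G :=
    { carrier := {y | ∃ a < 2 ^ 10, β a = y}
      one_mem' := ⟨0, by norm_num, b0⟩
      mul_mem' := by rintro _ _ ⟨a, c, rfl⟩ ⟨b, d, rfl⟩; exact ⟨_, Nat.xor_lt_two_pow c d, xo a c b d⟩
      inv_mem' := by rintro _ ⟨a, c, rfl⟩; exact ⟨a, c, eq_inv_of_mul_eq_one_left (sq a c)⟩ }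
  have mB : ∀ {y}, y ∈ B ↔ ∃ w ∈ mset (2 ^ 11) E.e XC6, ∃ g ∈ Q4 E, t w * f g = y := ⟨fun ⟨a, c, d⟩ => ⟨_, m6 c, _, eQ_Q4 E (s6 c), d⟩, by
    rintro ⟨w, c, g, d, rfl⟩
    obtain ⟨m, c', rfl⟩ := (mem_C6 E).1 c
    obtain ⟨n, d', rfl⟩ := mem_Q4 E d
    obtain ⟨i1, i2, i3⟩ := (by decide +kernel : ∀ m < 64, ∀ n < 16, 64 * n + m < 2 ^ 10 ∧ xsum c6 (64 * n + m) = xsum c6 m ∧
      (64 * n + m) >>> 6 = n) m c' n d'
    exact ⟨_, i1, by simp only [β, i2, i3]⟩⟩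
  have z6 : (0 : Additive h.A) ∈ mset (2 ^ 11) E.e XC6 := (mem_C6 E).2 ⟨0, by norm_num, E.zero⟩
  have tB : ∀ {w}, w ∈ mset (2 ^ 11) E.e XC6 → t w ∈ B := fun c => mB.2 ⟨_, c, 1, one_mem _, by rw [f1, mul_one]⟩
  have fB : ∀ {g}, g ∈ Q4 E → (f g).1 ∈ B := fun c => mB.2 ⟨_, z6, _, c, one_mul _⟩
  have cm : ∀ x ∈ B, ∀ y ∈ B, x * y = y * x := by
    rintro _ ⟨a, c, rfl⟩ _ ⟨b, d, rfl⟩; rw [← xo a c b d, ← xo b d a c, Nat.xor_comm]
  have ij : ∀ a < 2 ^ 10, β a = 1 → a = 0 := fun a c d => by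
    obtain ⟨i1, i2⟩ := uq (v := 0) (eQ_Q4 E (s6 c)).1 (one_mem _) (d.trans (by rw [f1]; exact (one_mul 1).symm))
    exact (by decide +kernel : ∀ a < 2 ^ 10, a >>> 6 = 0 → xsum c6 a = 0 → a = 0) a c (a0_Q E (s6 c) (by rw [i1]; exact (E.two _).symm ▸ z6))
      (E.inj _ (xsum_lt (by decide) _) i2)
  have cls : ∀ a < 2 ^ 10, IsConj z (β a) ↔ X10.testBit a = true := fun a c => by
    by_cases n : a >>> 6 = 0
    · simp only [β, n, eQ_zero, f1, mul_one]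
      exact (j.ty (xsum_lt (d := 11) (by decide) _)).trans (by rw [lo_Q c n]; rfl)
    have u := (eQ_Q4 E (s6 c)).1
    refine Iff.trans ⟨fun d => ?_, fun ⟨r, d⟩ => (k2 (s6 c) n).trans (_root_.isConj_iff.2 ⟨t r, by
      simpa only [d, show t 0 = 1 from rfl, one_mul] using cjr u 0 r⟩)⟩ (im_Q E c n)
    obtain ⟨r, r1, r2⟩ := h.cl1 hG (f _).2 (fun m => n (a0_Q E (s6 c) (by
      rw [(uq (u := 0) (v := Additive.ofMul ⟨_, m⟩) u (one_mem _) (by rw [f1, mul_one]; exact one_mul _)).1]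
      exact (E.two _).symm ▸ z6))) (tA _) (k2 (s6 c) n) d
    have := cjr u 0 (Additive.ofMul ⟨r, r1⟩)
    rw [show t 0 = 1 from rfl, one_mul] at this
    exact ⟨_, ti (mul_right_cancel (this.symm.trans r2))⟩
  have l : O8 E ≤ G24 E := fun _ a => a.1.1
  let ψ : O8 E →* G := (MulAut.conj (t (E.e 512))).toMonoidHom.comp ((Subgroup.subtype _).comp (κ.comp (inclusion l)))
  have hψ : ∀ g, ψ g = t (E.e 512 + g.1 (E.e 512)) * f g := fun g => by
    have := cjr (l g.2) 0 (E.e 512)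
    rw [show t 0 = 1 from rfl, one_mul] at this
    rw [← this, hf _ (l g.2)]; rfl
  have cK : Nat.card ψ.range = Nat.card (O8 E) := (Nat.card_congr (MonoidHom.ofInjective (f := ψ) fun g k i =>
    Subtype.ext (uq (l g.2) (l k.2) (by rw [← hψ, ← hψ, i])).1).toEquiv).symm
  refine ⟨B, β, ⟨⟨⟨⟨fun x y => Subtype.ext (cm _ x.2 _ y.2)⟩⟩, by rintro _ ⟨a, c, rfl⟩; exact (pow_two _).trans (sq a c)⟩, ?_,
    le_antisymm (fun y c => ?_) fun x a y b => cm y b x a⟩, xo, ij, fun _ => .rfl, cls, ψ.range, ?_, eq_bot_iff.2 ?_, cK ▸ le_O8 E,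
    cK ▸ card_G24' E ▸ card_dvd_of_le l⟩
  · refine (Nat.card_eq_of_bijective (fun a : Fin (2 ^ 10) => (⟨β a, a, a.2, rfl⟩ : B)) ⟨fun a b i => Fin.ext (Nat.xor_eq_zero_iff.1
      (ij _ (Nat.xor_lt_two_pow a.2 b.2) ?_)), by rintro ⟨_, a, c, rfl⟩; exact ⟨⟨a, c⟩, rfl⟩⟩).symm.trans (by simp)
    rw [xo _ a.2 _ b.2, show β a = β b from congrArg Subtype.val i, sq _ b.2]
  · have i : β 12 = t (E.e (xsum c6 12)) := by simp only [β, show 12 >>> 6 = 0 from rfl, eQ_zero, f1, mul_one]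
    have n := h.cen_t hG (i ▸ tA _) (mt (ij 12 (by norm_num)) (by norm_num)) (by rw [cls 12 (by norm_num)]; decide +kernel)
      (mem_Cz.2 (c _ ⟨12, by norm_num, rfl⟩).symm)
    obtain ⟨w, d⟩ := dec ⟨y, n⟩
    have g : h.rho ⟨y, n⟩ ∈ Q4 E := ⟨j.rg.le ⟨_, rfl⟩, (mem_fixingSubgroup_iff _).2 fun w a =>
      ti (mul_inv_eq_iff_eq_mul.2 (c _ (tB a)).symm)⟩
    refine mB.2 ⟨w, fx_Q4 E fun i a => ti (mul_right_cancel (b := (f (eQ E i)).1) ?_), _, g, d⟩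
    rw [← act (q (by omega)), eq_mul_inv_of_mul_eq d]
    exact Commute.mul_right (c _ (fB (eQ_Q4 E a))) (Commute.inv_right (cm _ (fB (eQ_Q4 E a)) _ (fB g)))
  · rintro _ ⟨g, rfl⟩
    rw [hψ]
    refine mul_mem (mem_normalizer_fintype fun y c => ?_) (mem_normalizer_fintype fun y c => ?_) <;> obtain ⟨w, a, k, b, rfl⟩ := mB.1 c
    · rw [cjr b.1]; exact mul_mem (tB (A0_mvQ E g.2 b)) c
    · refine mB.2 ⟨_, (mem_stabilizer_set.1 g.2.1.2 w).2 a, _, O8_nrm E g.2 b, ?_⟩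
      rw [eq_mul_inv_iff_mul_eq, mul_assoc, ← fm (O8_nrm E g.2 b).1 (l g.2), inv_mul_cancel_right, fm (l g.2) b.1, ← mul_assoc, ← mul_assoc,
        act (l g.2)]; rfl
  · rintro _ ⟨⟨g, rfl⟩, c⟩
    obtain ⟨w, a, k, b, d⟩ := mB.1 c
    obtain ⟨n, m, rfl⟩ := mem_Q4 E b
    obtain ⟨i1, i2⟩ := uq b.1 (l g.2) (d.trans (hψ g))
    rw [← i1] at i2
    rw [a0_Q E m (i2 ▸ a), eQ_zero] at i1
    rw [show g = 1 from Subtype.ext i1.symm]; exact map_one ψ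
end JT0.JN
namespace JT0
variable (h : JT0 z R π P) [IsSimpleGroup G] (hG : ¬ IsMulCommutative G)
include h hG
theorem ex10 : ∃ B β, SC B ∧ T10s z B β := by
  obtain ⟨x, a, b⟩ := h.exists_x
  obtain ⟨E, j⟩ := h.main a hG b
  exact j.ten hG
variable {B : Subgroup G} (a : SC B)
include a
omit [IsSimpleGroup G] hG in
theorem cj10 {C : Subgroup G} (b : SC C) : ∃ g : G, C = MulAut.conj g • B := by
  obtain ⟨m, c⟩ := h.uq2 a
  obtain ⟨n, d⟩ := h.uq2 b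
  exact ⟨n⁻¹ * m, by rw [map_mul, mul_smul, c, ← d, map_inv, inv_smul_smul]⟩
theorem rho10 : ∃ (ρ : normalizer (B : Set G) →* AL Alt5) (ε : Alt5 → G), ρ.range = St10 ∧ ρ.ker = B.subgroupOf _ ∧
    (∀ u v, ε (u + v) = ε u * ε v) ∧ Function.Injective ε ∧ (∀ y, y ∈ B ↔ ∃ c, ε c = y) ∧ (∀ k c, ε (ρ k c) = k * ε c * k.1⁻¹) ∧
    ∃ K : Subgroup (normalizer (B : Set G)), K ⊓ B.subgroupOf _ = ⊥ ∧ Nat.card K = 322560 := by
  obtain ⟨C, γ, c, t⟩ := h.ex10 hG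
  obtain ⟨g, e⟩ := h.cj10 c a
  replace t := e ▸ t.cj g
  generalize (fun a => g * γ a * g⁻¹) = β at t
  have := E10.finite
  let ε : Alt5 → G := fun w => β (E10.ix w)
  have ad : ∀ u v, ε (u + v) = ε u * ε v := fun u v => by
    rw [← t.xor _ (E10.ix_lt u) _ (E10.ix_lt v), ← E10.ix_e (Nat.xor_lt_two_pow (E10.ix_lt u) (E10.ix_lt v)), E10.xor, E10.e_ix, E10.e_ix]
  have e0 : ε 0 = 1 := left_eq_mul.1 ((congrArg ε (add_zero 0)).symm.trans (ad 0 0))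
  have i : Function.Injective ε := fun u v b => by
    rw [← add_left_inj v, E10.two, ← E10.e_ix (u + v), t.inj _ (E10.ix_lt _) ((ad u v).trans (by rw [b, ← ad, E10.two, e0])), E10.zero]
  have m : ∀ y, y ∈ B ↔ ∃ c, ε c = y := fun y => (t.mem y).trans
    ⟨fun ⟨n, b, d⟩ => ⟨E10.e n, (congrArg β (E10.ix_e b)).trans d⟩, fun ⟨w, d⟩ => ⟨_, E10.ix_lt w, d⟩⟩
  have cl : ∀ w, IsConj z (ε w) ↔ w ∈ mset (2 ^ 10) E10.e X10 := fun w => by
    rw [t.cls _ (E10.ix_lt w), ← mem_mset E10.injOn (E10.ix_lt w), E10.e_ix]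
  obtain ⟨ρ, r, k⟩ := exists_rho ad i m
  have kr : ρ.ker = B.subgroupOf _ := Subgroup.ext fun y => (k y).trans (by rw [a.2.2]; rfl)
  have l : ρ.range ≤ St10 := by
    rintro _ ⟨y, rfl⟩
    exact mem_stabilizer_set.2 fun w => by
      rw [← cl, ← cl, show ε (ρ y • w) = _ from r y w]; exact ⟨(·.trans (isConj_cj _ _).symm), (·.trans (isConj_cj _ _))⟩
  have o : orbit ρ.range (E10.e 1) = mset (2 ^ 10) E10.e X10 := Set.Subset.antisymm (orb10.1 ▸ fun _ ⟨g, u⟩ => ⟨⟨g, l g.2⟩, u⟩) fun w b => by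
    obtain ⟨n, d, f⟩ := h.tr10 a ((m _).2 ⟨_, rfl⟩) ((cl _).2 (orb10.1 ▸ mem_orbit_self _)) ((m _).2 ⟨w, rfl⟩) ((cl w).2 b)
    exact ⟨⟨_, ⟨n, d⟩, rfl⟩, i ((r ..).trans f)⟩
  obtain ⟨K, k1, k2, k3, k4⟩ := t.exK
  have k5 : K.subgroupOf (normalizer (B : Set G)) ⊓ B.subgroupOf _ = ⊥ := by rw [subgroupOf, subgroupOf, ← comap_inf, k2]; simp
  have c1 := H1.card_map_mul_card_inf_ker (K.subgroupOf _) ρ
  rw [kr, k5, card_bot, mul_one, H1.card_subgroupOf_of_le k1] at c1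
  have c2 := c1 ▸ card_dvd_of_le (map_le_range ρ (K.subgroupOf _))
  have c3 := St10_eq.2 ▸ card_dvd_of_le l
  have c4 : Nat.card K = 322560 := le_antisymm (Nat.le_of_dvd (by norm_num) (Nat.Coprime.dvd_of_dvd_mul_left (m := 31)
    (Nat.Coprime.coprime_dvd_left k4 (by norm_num)) (c2.trans c3))) k3
  have c5 : 31 ∣ Nat.card ρ.range := by
    rw [card_eq_orbit_mul ρ.range (E10.e 1), o, card10.1]; exact Dvd.dvd.mul_right (by norm_num) _
  exact ⟨ρ, ε, eq_of_le_of_card_ge l (St10_eq.2.trans_le (Nat.le_of_dvd Nat.card_pos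
    (Nat.Coprime.mul_dvd_of_dvd_of_dvd (by norm_num) c5 (c4 ▸ c2)))), kr, ad, i, m, r, _, k5, (H1.card_subgroupOf_of_le k1).trans c4⟩
theorem split10 : ∃ C : Subgroup G, C ≤ normalizer (B : Set G) ∧ C ⊓ B = ⊥ ∧ C ⊔ B = normalizer (B : Set G) ∧ Nonempty (C ≃* SL(5, ZMod 2)) := by
  obtain ⟨ρ, -, r, k, -, -, -, -, K, k1, k2⟩ := h.rho10 hG a
  have := a.1.1
  have c : Nat.card (B.subgroupOf (normalizer (B : Set G))) = 2 ^ 10 := (H1.card_subgroupOf_of_le le_normalizer).trans a.2.1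
  have c1 := ρ.ker.card_mul_index
  have c2 := _root_.H11.card_inf_mul_card_sup_of_le_normalizer (H := K) (K := B.subgroupOf _) (le_top.trans (normalizer_eq_top _).ge)
  have c3 := (B.subgroupOf _ ⊔ K).card_mul_index
  rw [index_ker, r, St10_eq.2, k, c] at c1
  rw [k1, card_bot, one_mul, k2, c, sup_comm] at c2
  obtain ⟨C, d⟩ := H1.gaschutz_exists k1 rfl (by rw [c, show (B.subgroupOf _ ⊔ K).index = 31 by rw [c2] at c3; omega]; norm_num)
  have i : Function.Injective (ρ.comp C.subtype) := (injective_iff_map_eq_one _).2 fun y b =>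
    Subtype.ext (d.disjoint.le_bot ⟨k.le b, y.2⟩)
  refine ⟨C.map (Subgroup.subtype _), map_subtype_le _, eq_bot_iff.2 ?_, ?_, ⟨(equivMapOfInjective _ _ (subtype_injective _)).symm.trans
    ((MonoidHom.ofInjective i).trans ((MulEquiv.subgroupCongr ?_).trans (MonoidHom.ofInjective lam5_inj).symm))⟩⟩
  · rintro _ ⟨⟨y, b, rfl⟩, e⟩
    exact congrArg Subtype.val (d.disjoint.le_bot ⟨e, b⟩ : y = 1)
  · have := congrArg (map (Subgroup.subtype _)) d.sup_eq_top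
    rwa [Subgroup.map_sup, map_subgroupOf_eq_of_le le_normalizer, sup_comm, ← MonoidHom.range_eq_map, range_subtype] at this
  · rw [St10_eq.1, ← r, MonoidHom.range_comp, range_subtype, MonoidHom.range_eq_map, ← d.sup_eq_top, Subgroup.map_sup,
      (Subgroup.map_eq_bot_iff _).2 k.ge, bot_sup_eq]
theorem irr10' {W : Subgroup G} (l : W ≤ B) (n : normalizer (B : Set G) ≤ normalizer (W : Set G)) : W = ⊥ ∨ W = B := by
  obtain ⟨ρ, ε, r, -, ad, i, m, e, -⟩ := h.rho10 hG a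
  have e0 : ε 0 = 1 := left_eq_mul.1 ((congrArg ε (add_zero 0)).symm.trans (ad 0 0))
  refine W.bot_or_exists_ne_one.imp_right fun ⟨w, b, c⟩ => le_antisymm l fun y d => ?_
  obtain ⟨w, rfl⟩ := (m w).1 (l b)
  obtain ⟨v, rfl⟩ := (m y).1 d
  let K : AddSubgroup Alt5 :=
    { carrier := {v | ε v ∈ W}
      zero_mem' := show ε 0 ∈ W from e0 ▸ W.one_mem
      add_mem' := fun {u v} a b => show ε (u + v) ∈ W from ad u v ▸ W.mul_mem a b
      neg_mem' := fun {v} a => by rwa [neg_eq_of_add_eq_zero_right (E10.two v)] }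
  exact irr10 (K := K) (fun g p u q => by
    obtain ⟨k, rfl⟩ := r.ge p
    exact show ε _ ∈ W from e k u ▸ (mem_normalizer_iff.1 (n k.2) _).1 q) b (fun f => c (f ▸ e0)) v
theorem orb10' : ∃ u v : G, u ∈ B ∧ v ∈ B ∧ Set.ncard {y | ∃ n ∈ normalizer (B : Set G), n * u * n⁻¹ = y} = 155 ∧
    Set.ncard {y | ∃ n ∈ normalizer (B : Set G), n * v * n⁻¹ = y} = 868 := by
  obtain ⟨ρ, ε, r, -, -, i, m, e, -⟩ := h.rho10 hG a
  have k : ∀ w, Set.ncard {y | ∃ n ∈ normalizer (B : Set G), n * ε w * n⁻¹ = y} = (orbit St10 w).ncard := fun w => by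
    rw [← Set.ncard_image_of_injective _ i, ← r]
    exact congrArg _ (Set.ext fun y => ⟨fun ⟨n, b, c⟩ => ⟨_, ⟨⟨_, ⟨n, b⟩, rfl⟩, rfl⟩, (e ..).trans c⟩,
      by rintro ⟨_, ⟨⟨_, n, rfl⟩, rfl⟩, rfl⟩; exact ⟨n, n.2, (e ..).symm⟩⟩)
  exact ⟨_, _, (m _).2 ⟨E10.e 1, rfl⟩, (m _).2 ⟨E10.e 12, rfl⟩, by rw [k, orb10.1, card10.1], by rw [k, orb10.2, card10.2]⟩
end JT0
end
end H13
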