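import Cfsg.Agent.H13.JF2
import Cfsg.Agent.H13.J10a
/-! Groups of type `J4`: conjugacy of the self-centralising elementary abelian subgroups of order `2 ^ 10`. -/
set_option autoImplicit false
namespace H13
noncomputable section
open MulAction Cfsg H27 Subgroup H22
open scoped Pointwise
universe u
variable {G : Type u} [Group G] [Finite G] {z : G} {R : Subgroup G} {π : Cz z →* AL V6} {P : V6 → G → Prop}
theorem idx2 {K L : Subgroup G} (l : K ≤ L) (c : Nat.card L ≤ 2 * Nat.card K) {x y : G} (a : x ∈ L) (b : y ∈ L) (d : x ∉ K) (e : y ∉ K) :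
    x * y ∈ K := by
  have i := (K.subgroupOf L).index_mul_card
  rw [H1.card_subgroupOf_of_le l] at i
  have i0 := (K.subgroupOf L).index_ne_zero_of_finite
  have i1 : (K.subgroupOf L).index ≠ 1 := fun f => d ((index_eq_one.1 f).ge (mem_top (⟨x, a⟩ : L)))
  have := Nat.le_of_mul_le_mul_right (i.trans_le c) Nat.card_pos
  exact (mul_mem_iff_of_index_two (H := K.subgroupOf L) (by omega) (a := ⟨x, a⟩) (b := ⟨y, b⟩)).2 (iff_of_false d e)
theorem cen_cj (g : G) (B : Subgroup G) : centralizer ((MulAut.conj g • B : Subgroup G) : Set G) = MulAut.conj g • centralizer (B : Set G) :=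
  Subgroup.ext fun x => by
    rw [mem_cj]
    refine ⟨fun a y b => (MulAut.conj g).injective ?_, fun a y b => (MulAut.conj g⁻¹).injective ?_⟩
    · simpa [mul_assoc] using a _ (smul_mem_pointwise_smul _ _ _ b)
    · simpa [mul_assoc] using a _ (mem_cj.1 b)
def SC (B : Subgroup G) : Prop := IsElementaryAbelian 2 B ∧ Nat.card B = 2 ^ 10 ∧ centralizer (B : Set G) = B
namespace SC
variable {B : Subgroup G} (a : SC B)
include a
theorem cj (g : G) : SC (MulAut.conj g • B) :=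
  ⟨ea_cj a.1 g, (card_map_of_injective (MulAut.conj g).injective).trans a.2.1, by rw [cen_cj, a.2.2]⟩
omit [Finite G]
theorem comm (x : G) (b : x ∈ B) (y : G) (c : y ∈ B) : x * y = y * x := a.2.2.ge c x b
theorem sq {x : G} (b : x ∈ B) : x * x = 1 := (pow_two x).symm.trans (a.1.2 x b)
theorem pg : IsPGroup 2 B := .of_card a.2.1
theorem le {x : G} (b : x ∈ B) : B ≤ Cz x := fun y c => mem_Cz.2 (a.comm y c x b)
end SC
namespace JT0
variable (h : JT0 z R π P) {B : Subgroup G} (a : SC B)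
include h a
theorem fin10 (b : h.sub (Yc th) ≤ B) : B = centralizer (h.sub (Yc th) : Set G) := by
  refine eq_of_le_of_card_ge (a.2.2.ge.trans (centralizer_le b)) ?_
  have c := H1.extraspecial_card_CC h.es (h.sub_le (Yc th)) (h.cen ▸ zpowers_le.2 (h.z_sub _))
  have d := h.card_im (A := centralizer (h.sub (Yc th) : Set G)) fun _ a => mem_Cz.2 (a z (h.z_sub _)).symm
  have e := fixY (.inl rfl) (h.im_le (centralizer (h.sub (Yc th) : Set G))) (by
    rintro _ ⟨k, i, rfl⟩ v j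
    obtain ⟨y, p⟩ := h.ex v
    exact h.fix_of_comm p (i y ⟨v, j, p⟩).symm)
  rw [h.card_sub, card_Yc, h.card, inf_comm] at c
  rw [← d, a.2.1, show Nat.card (centralizer (h.sub (Yc th) : Set G) ⊓ R : Subgroup G) = 128 by omega]
  omega
variable (zB : z ∈ B)
include zB
theorem notB (b : XQ.im π B ≤ B06) (c : h.bar B ≤ U6s) (d : 32 ≤ Nat.card (h.bar B)) : False := by
  have l := a.le zB
  have l1 : h.sub (h.bar B) ≤ B := h.sub_le_of zB le_rfl
  have l2 : h.sub (h.bar B) ≤ h.sub U6s := fun _ ⟨u, e, f⟩ => ⟨u, c e, f⟩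
  have k : ∀ k ∈ B, k ∉ h.A → ∀ x ∈ h.sub U6s, x ∉ h.sub (h.bar B) → x * k * x⁻¹ = z * k := fun k e f x ⟨u, i, p⟩ j => by
    refine (h.fx_cases (k := ⟨k, l e⟩) p (B06_fix (b ⟨_, e, rfl⟩) i)).resolve_left fun m => f fun y n => by_contra fun o => o ?_
    have := a.comm _ (l1 (idx2 l2 (by rw [h.card_sub, h.card_sub, card_U]; omega) ⟨u, i, p⟩ n j fun r => o (a.comm _ (l1 r) _ e))) _ e
    rwa [mul_assoc, ← mul_assoc k, ← mul_inv_eq_iff_eq_mul.1 m, mul_assoc, mul_right_inj] at this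
  have c1 := half_of (X := B) (Y := h.A) fun x x1 y y1 x2 y2 w w1 => by
    by_cases e : w ∈ h.sub (h.bar B)
    · exact a.comm _ (l1 e) _ (mul_mem x1 y1)
    · rw [← mul_inv_eq_iff_eq_mul, ← conj_mul, k x x1 x2 w w1 e, k y y1 y2 w w1 e, mul_assoc, ← mul_assoc x, mem_Cz.1 (l x1), mul_assoc,
        ← mul_assoc z, h.zz, one_mul]
  have c2 := h.card_im (A := B ⊓ h.A) (inf_le_left.trans l)
  have c3 := card_le_of_le (P := B ⊓ h.A ⊓ R) ((inf_le_inf_right _ inf_le_right).trans h.A_inf.le)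
  rw [h.card_sub, card_U] at c3
  rw [a.2.1] at c1
  have c4 : 2 < Nat.card (XQ.im π (B ⊓ h.A)) := by nlinarith
  obtain ⟨_, ⟨s, s1, rfl⟩, s2⟩ := ex_nm [1] (lt_trans (show 1 < 2 by norm_num) c4)
  obtain ⟨_, ⟨t, t1, rfl⟩, t2⟩ := ex_nm [1, π s] c4
  simp only [List.mem_cons, List.not_mem_nil, or_false, not_or] at s2 t2
  have m : B ≤ h.A := fun y e => by
    obtain ⟨r, r1, r2⟩ := h.B_A (b ⟨⟨y, l e⟩, e, rfl⟩)
    obtain ⟨v, p⟩ := h.ex' _ ((h.ker (r⁻¹ * ⟨y, l e⟩)).1 (by rw [map_mul, map_inv, r2, inv_mul_cancel]))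
    have f : ∀ s : Cz z, s.1 ∈ B ⊓ h.A → π s v = v := fun s i => h.fix_of_comm p
      (Commute.mul_right (Commute.inv_right (h.A_comm i.2 r1)) (a.comm _ i.1 _ e))
    exact (h.A.mul_mem_cancel_left (inv_mem r1)).1 (h.sub_A ⟨v, fix_two (h.A_B s1.2) (h.A_B t1.2) s2 t2.1 (Ne.symm t2.2) (f s s1) (f t t1), p⟩)
  have := card_le_of_le ((h.cen_A.ge.trans (centralizer_le m)).trans a.2.2.le)
  rw [h.card_A, a.2.1] at this
  omega
theorem c10 : Nat.card (XQ.im π B) * (Nat.card (h.bar B) * 2) = 1024 ∧ 2 < Nat.card (XQ.im π B ⊓ MJ : Subgroup _) := by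
  have c := h.card_im (a.le zB)
  have d := h.card_le_of_comm (D := B ⊓ R) inf_le_right ⟨zB, h.mem h.zero.2⟩ fun x b y c => a.comm x b.1 y c.1
  have e := half_MJ (h.im_le B)
  rw [le_antisymm (h.inf_le_sub B) (le_inf (h.sub_le_of zB le_rfl) (h.sub_le _)), h.card_sub, a.2.1] at *
  have := Nat.mul_le_mul e d
  exact ⟨c, by omega⟩
theorem uq0' (b : bb1 ∈ XQ.im π B) : ∃ m ∈ Cz z, MulAut.conj m • B = centralizer (h.sub (Yc th) : Set G) := by
  have := E6.finite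
  obtain ⟨c, d⟩ := h.c10 a zB
  have p := a.pg.comap_subtype.map π (H := B.subgroupOf (Cz z))
  have f : ∀ g ∈ XQ.im π B, h.bar B ≤ fx g := by
    rintro _ ⟨k, i, rfl⟩ v ⟨y, j, p⟩; exact h.fix_of_comm p (a.comm _ i _ j)
  let K : AddSubgroup V6 := ⨅ g : (XQ.im π B ⊓ MJ : Subgroup _), fx g.1
  have hK : ∀ t : GF4, ∀ v ∈ K, t • v ∈ K := fun t v e => AddSubgroup.mem_iInf.2 fun g =>
    (lin_smul g.2.2.2 t v).trans (congrArg _ (AddSubgroup.mem_iInf.1 e g))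
  have lK : h.bar B ≤ K := le_iInf fun g => f _ g.2.1
  have n : ¬ fx bb1 ≤ K := fun e => by
    obtain ⟨g, i, j⟩ := ex_nm [1, bb1] d
    exact j (by simpa using fixC i.2.1 fun v m => AddSubgroup.mem_iInf.1 (e m) ⟨g, i⟩)
  have c1 := ab32 (h.im_le B) p (im_comm a.comm)
  have m : XQ.im π B ≤ MJ := fun s i => by_contra fun j => n (semiK hK lK (f _ b) (h.im_le B i) j (f _ i) (by nlinarith))
  have c2 := ab16M m p (im_comm a.comm)
  have c3 : 32 ≤ Nat.card (h.bar B) := by nlinarith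
  obtain ⟨t, t0, t1, t2⟩ := planes hK lK (f _ b) (fun v ⟨y, i, j⟩ => (h.sq' j).1 (a.sq i)) c3 n
  have e : ∀ g ∈ XQ.im π B, ∀ v ∈ Yc t, g v = v := fun g i v j => AddSubgroup.mem_iInf.1 (t1 j) ⟨g, i, m i⟩
  have k : t = th ∨ t = th * th → h.sub (Yc t) ≤ B := fun r => h.sub_le_of zB (AddSubgroup.eq_of_le_of_card_ge t2 (by
    have := fixY r (h.im_le B) e
    rw [card_Yc]; nlinarith)).ge
  rcases f4_cases t with rfl | rfl | rfl | rfl
  · exact absurd rfl t0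
  · rw [Yc_one] at e t2
    exact (h.notB a zB (fun g i => fixUJ (h.im_le B i) (e g i)) t2 c3).elim
  · exact ⟨1, one_mem _, by rw [map_one, one_smul]; exact h.fin10 a (k (.inl rfl))⟩
  · obtain ⟨g, i, j⟩ := swapY
    obtain ⟨r, rfl⟩ := h.lift i
    exact ⟨r.1⁻¹, inv_mem r.2, h.fin10 (a.cj _) fun y ⟨v, s, u⟩ => mem_cj.2 (k (.inr rfl) ⟨_, j v s, by simpa using h.act r u⟩)⟩
theorem uq0 : ∃ m ∈ Cz z, MulAut.conj m • B = centralizer (h.sub (Yc th) : Set G) := by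
  obtain ⟨_, ⟨⟨s, s1, rfl⟩, s2⟩, s3⟩ := ex_nm [1] (lt_trans (show 1 < 2 by norm_num) (h.c10 a zB).2)
  obtain ⟨g, i, j⟩ := clsJ s2 (ord2 (h.pi_sq (a.sq s1)) (by simpa using s3))
  obtain ⟨r, rfl⟩ := h.lift (MJ_LJ i)
  obtain ⟨m, e, f⟩ := h.uq0' (a.cj r) (mem_cj.2 (by rwa [mul_assoc, ← mem_Cz.1 r.2, inv_mul_cancel_left]))
    ⟨r * s * r⁻¹, smul_mem_pointwise_smul _ (MulAut.conj r.1) _ s1, by rw [map_mul, map_mul, map_inv, j]⟩
  exact ⟨m * r, mul_mem e r.2, by rw [map_mul, mul_smul, f]⟩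
omit zB
theorem uq1 {y : G} (b : y ∈ B) (c : IsConj z y) : ∃ m, m * y * m⁻¹ = z ∧ MulAut.conj m • B = centralizer (h.sub (Yc th) : Set G) := by
  obtain ⟨g, rfl⟩ := _root_.isConj_iff.1 c
  obtain ⟨m, e, f⟩ := h.uq0 (a.cj g⁻¹) (mem_cj.2 (by simpa using b))
  exact ⟨m * g⁻¹, by simpa [mul_assoc] using mem_Cz'.1 e, by rw [map_mul, mul_smul, f]⟩
theorem uq2 : ∃ m : G, MulAut.conj m • B = centralizer (h.sub (Yc th) : Set G) := by
  obtain ⟨T, l⟩ := IsPGroup.exists_le_sylow a.pg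
  obtain ⟨y, c, _, _, _, h', t⟩ := h.atT T
  exact (h.uq1 a (a.2.2.le fun x b => mem_Cz.1 (h'.le_Cz T.2 (h'.R_le t) (l b))) c).imp fun _ => And.right
theorem tr10 {x y : G} (b : x ∈ B) (c : IsConj z x) (d : y ∈ B) (e : IsConj z y) : ∃ n ∈ normalizer (B : Set G), n * x * n⁻¹ = y := by
  obtain ⟨m, f, g⟩ := h.uq1 a b c
  obtain ⟨n, i, j⟩ := h.uq1 a d e
  refine ⟨n⁻¹ * m, mem_normalizer_fintype fun w k => ?_, by
    rw [mul_inv_rev, inv_inv, mul_assoc, mul_assoc, ← mul_assoc x, ← mul_assoc m, ← mul_assoc m, f, ← i]; group⟩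
  simpa [mul_assoc] using mem_cj.1 ((g.trans j.symm).le (smul_mem_pointwise_smul w _ _ k))
end JT0
end
end H13
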