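import Cfsg.Agent.H7.J4p

/-! Two abstract lemmas for the automorphisms of `J4`. -/

set_option autoImplicit false

namespace H13.J15
open Cfsg Cfsg.Spor H29.J4m Subgroup H27
open scoped Pointwise

theorem zp_conj {G : Type*} [Group G] (x a : G) :
    zpowers (x * a * x⁻¹) = (zpowers a).map (MulAut.conj x).toMonoidHom := by
  rw [MonoidHom.map_zpowers]; rfl

theorem conj_prime {G : Type*} [Group G] [Finite G] {p : ℕ} (hp : p.Prime)
    (h : ¬ p ^ 2 ∣ Nat.card G) {a b : G} (ha : orderOf a = p) (hb : orderOf b = p) :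
    ∃ x : G, zpowers (x * a * x⁻¹) = zpowers b := by
  have := Fact.mk hp
  have hf : (Nat.card G).factorization p = 1 := by
    have h0 : Nat.card G ≠ 0 := Nat.card_pos.ne'
    have h1 : 1 ≤ (Nat.card G).factorization p :=
      (hp.pow_dvd_iff_le_factorization h0).1 (by rw [pow_one, ← ha]; exact orderOf_dvd_natCard a)
    have h2 : ¬ 2 ≤ (Nat.card G).factorization p := fun c =>
      h ((hp.pow_dvd_iff_le_factorization h0).2 c)
    omega
  let P : Sylow p G := Sylow.ofCard (zpowers a) (by rw [Nat.card_zpowers, ha, hf, pow_one])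
  let Q : Sylow p G := Sylow.ofCard (zpowers b) (by rw [Nat.card_zpowers, hb, hf, pow_one])
  obtain ⟨x, hx⟩ := MulAction.exists_smul_eq G P Q
  refine ⟨x, ?_⟩
  have e : ((x • P : Sylow p G) : Subgroup G) = (Q : Subgroup G) := by rw [hx]
  rw [Sylow.coe_subgroup_smul] at e
  rw [zp_conj]
  exact e

theorem inv_mem_N {G : Type*} [Group G] [Finite G] {d t : G} (h : d * t * d⁻¹ = t⁻¹) :
    d ∈ normalizer (zpowers t : Set G) := by
  refine mem_normalizer_fintype fun x hx => ?_
  obtain ⟨i, rfl⟩ := hx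
  change d * t ^ i * d⁻¹ ∈ zpowers t
  rw [← conj_zpow, h]
  exact zpow_mem (inv_mem (mem_zpowers t)) i

theorem card_N_conj {G : Type*} [Group G] (x a : G) :
    Nat.card (normalizer (zpowers (x * a * x⁻¹) : Set G)) =
      Nat.card (normalizer (zpowers a : Set G)) := by
  rw [zp_conj, ← map_equiv_normalizer_eq]
  exact card_map_of_injective (MulAut.conj x).injective

theorem abs1 {G : Type*} [Group G] [Finite G] (h23 : ¬ 23 ^ 2 ∣ Nat.card G) {s d g : G} (hs : orderOf s = 23) (hN : ¬ 4 ∣ Nat.card (normalizer (zpowers s : Set G))) (hd : orderOf d = 2) (hg : orderOf (d * (g * d * g⁻¹)) = 23) (σ : MulAut G) : IsConj d (σ d) := by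
  have p23 : Nat.Prime 23 := by norm_num
  have d2 : d * d = 1 := by rw [← sq, ← hd, pow_orderOf_eq_one]
  have di : d⁻¹ = d := inv_eq_of_mul_eq_one_right d2
  set t := d * (g * d * g⁻¹) with ht
  have hdt : d * t * d⁻¹ = t⁻¹ := by
    rw [ht]
    calc d * (d * (g * d * g⁻¹)) * d⁻¹ = (d * d) * (g * d * g⁻¹) * d⁻¹ := by group
      _ = g * d⁻¹ * g⁻¹ * d⁻¹ := by rw [d2, one_mul, di]
      _ = _ := by group
  clear_value t
  obtain ⟨y, hy⟩ := conj_prime p23 h23 hs hg
  have hNt : ¬ 2 ^ 2 ∣ Nat.card (normalizer (zpowers t : Set G)) := by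
    rw [← hy, card_N_conj]; exact hN
  obtain ⟨x, hx⟩ := conj_prime p23 h23 ((σ.orderOf_eq t).trans hg) hg
  have m1 : d ∈ normalizer (zpowers t : Set G) := inv_mem_N hdt
  have m2 : x * σ d * x⁻¹ ∈ normalizer (zpowers t : Set G) := by
    rw [← hx]
    refine inv_mem_N ?_
    have e : σ d * σ t * (σ d)⁻¹ = (σ t)⁻¹ := by
      rw [← map_inv, ← map_mul, ← map_mul, hdt, map_inv]
    calc x * σ d * x⁻¹ * (x * σ t * x⁻¹) * (x * σ d * x⁻¹)⁻¹
        = x * (σ d * σ t * (σ d)⁻¹) * x⁻¹ := by group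
      _ = _ := by rw [e]; group
  have o2 : orderOf (x * σ d * x⁻¹) = 2 := by
    have := (MulAut.conj x).orderOf_eq (σ d)
    rw [σ.orderOf_eq, hd] at this
    exact this
  obtain ⟨z, hz⟩ := conj_prime (G := normalizer (zpowers t : Set G)) Nat.prime_two hNt
    (a := ⟨d, m1⟩) (b := ⟨_, m2⟩) (by rw [orderOf_mk, hd]) (by rw [orderOf_mk, o2])
  have hm : z * ⟨d, m1⟩ * z⁻¹ ∈ zpowers (⟨_, m2⟩ : normalizer (zpowers t : Set G)) := by
    rw [← hz]; exact mem_zpowers _
  obtain ⟨i, hi⟩ := hm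
  have hi' : (x * σ d * x⁻¹) ^ i = (z : G) * d * (z : G)⁻¹ := congrArg Subtype.val hi
  have key : (z : G) * d * (z : G)⁻¹ = x * σ d * x⁻¹ := by
    rw [← hi', ← zpow_mod_orderOf, o2]
    rcases Int.emod_two_eq_zero_or_one i with c | c
    · exfalso
      rw [← zpow_mod_orderOf, o2] at hi'
      have c' : i % ((2 : ℕ) : ℤ) = 0 := c
      rw [c', zpow_zero] at hi'
      have : d = 1 := by
        calc d = (z : G)⁻¹ * ((z : G) * d * (z : G)⁻¹) * z := by group
          _ = 1 := by rw [← hi']; group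
      rw [this, orderOf_one] at hd
      exact absurd hd (by norm_num)
    · have c' : i % ((2 : ℕ) : ℤ) = 1 := c
      rw [c', zpow_one]
  obtain ⟨z, hz'⟩ := z
  change z * d * z⁻¹ = _ at key
  refine _root_.isConj_iff.2 ⟨x⁻¹ * z, ?_⟩
  rw [show x⁻¹ * z * d * (x⁻¹ * z)⁻¹ = x⁻¹ * (z * d * z⁻¹) * x by group, key]; group

theorem KE {G : Type} [Group G] [Finite G] (π : MM →* G) (hπ : Function.Injective π) (E : Subgroup G)
    (hE : Nat.card E = 2 ^ 11) (hKE : π.range ≤ normalizer (E : Set G)) {k : MM} (hk : π k ∈ E) :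
    k = 1 := by
  have := simple_MM
  have hn : (E.comap π).Normal := ⟨fun m hm k => by
    rw [mem_comap, map_mul, map_mul, map_inv]
    exact (mem_normalizer_iff.1 (hKE ⟨k, rfl⟩) _).1 hm⟩
  rcases this.eq_bot_or_eq_top_of_normal _ hn with c | c
  · exact mem_bot.1 (c ▸ (hk : k ∈ E.comap π))
  · exfalso
    have le : π.range ≤ E := by
      rintro _ ⟨m, rfl⟩
      exact (c.ge (mem_top m) : m ∈ E.comap π)
    have d := card_dvd_of_le le
    rw [hE, ← Nat.card_congr (MonoidHom.ofInjective hπ).toEquiv, card_MM] at d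
    exact absurd d (by norm_num)

theorem CE {G : Type} [Group G] [Finite G] (π : MM →* G) (E : Subgroup G)
    (hE : Nat.card E = 2 ^ 11) (hKE : π.range ≤ normalizer (E : Set G))
    (hnt : ¬ π.range ≤ centralizer (E : Set G)) {s : MM} (hs : orderOf s = 23) :
    E ⊓ centralizer {π s} = ⊥ := by
  have := simple_MM
  have nE : ∀ k : MM, ∀ m ∈ E, π k * m * (π k)⁻¹ ∈ E := fun k m hm =>
    (mem_normalizer_iff.1 (hKE ⟨k, rfl⟩) m).1 hm
  have s23 : π s ^ 23 = 1 := by rw [← map_pow, ← hs, pow_orderOf_eq_one, map_one]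
  have hm := H1.Crit.fixm (H := E) (y := π s) (r := 23) (by norm_num) (nE s) s23
  obtain ⟨j, hj, e⟩ := (Nat.dvd_prime_pow Nat.prime_two).1
    (hE ▸ card_dvd_of_le (inf_le_left : E ⊓ centralizer {π s} ≤ E))
  have two : ∀ j ≤ 11, 2 ^ 11 % 23 = 2 ^ j % 23 → j = 0 ∨ j = 11 := by decide
  rw [hE, e] at hm
  rcases two j hj hm with c | c
  · exact card_eq_one.1 (by rw [e, c]; rfl)
  · exfalso
    have c2 : E ⊓ centralizer {π s} = E := eq_of_le_of_card_ge inf_le_left (by rw [e, c, hE])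
    have hn : ((centralizer (E : Set G)).comap π).Normal := ⟨fun m hm k => by
      rw [mem_comap, map_mul, map_mul, map_inv]
      intro x hx
      have h1 := hm _ (nE k⁻¹ x hx)
      rw [map_inv] at h1
      calc x * (π k * π m * (π k)⁻¹) = π k * ((π k)⁻¹ * x * (π k)⁻¹⁻¹ * π m) * (π k)⁻¹ := by group
        _ = _ := by rw [h1]; group⟩
    rcases this.eq_bot_or_eq_top_of_normal _ hn with c | c
    · have : s ∈ (centralizer (E : Set G)).comap π := fun x hx =>
        mem_centralizer_singleton_iff.1 (c2.ge hx).2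
      rw [c, mem_bot] at this
      rw [this, orderOf_one] at hs
      exact absurd hs (by norm_num)
    · refine hnt ?_
      rintro _ ⟨m, rfl⟩
      exact (c.ge (mem_top m) : m ∈ (centralizer (E : Set G)).comap π)

theorem abs5 {G : Type} [Group G] [Finite G] (π : MM →* G) (hπ : Function.Injective π) (E : Subgroup G) (hE : Nat.card E = 2 ^ 11) (hKE : π.range ≤ normalizer (E : Set G)) (hnt : ¬ π.range ≤ centralizer (E : Set G)) {s : MM} (hs : orderOf s = 23) (hN : Nat.card (normalizer (zpowers s : Set MM)) = 253) (q : G ⧸ (E ⊔ π.range)) (hq : ∀ p : G ⧸ (E ⊔ π.range), π s • p = p → p = ((1 : G) : G ⧸ (E ⊔ π.range)) ∨ p = q) : ¬ 4 ∣ Nat.card (normalizer (zpowers (π s) : Set G)) := by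
  intro h4
  have nE : ∀ k : MM, ∀ m ∈ E, π k * m * (π k)⁻¹ ∈ E := fun k m hm =>
    (mem_normalizer_iff.1 (hKE ⟨k, rfl⟩) m).1 hm
  set N := normalizer (zpowers (π s) : Set G) with hNdef
  let o : G ⧸ (E ⊔ π.range) := ((1 : G) : G ⧸ (E ⊔ π.range))
  have fixo : ∀ h ∈ E ⊔ π.range, h • o = o := fun h hh => by
    change ((h * 1 : G) : G ⧸ (E ⊔ π.range)) = ((1 : G) : G ⧸ (E ⊔ π.range))
    rw [QuotientGroup.eq]
    simpa using hh
  have orb : MulAction.orbit N o ⊆ {o, q} := by
    rintro _ ⟨n, rfl⟩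
    refine hq _ ?_
    change π s • ((n : G) • o) = (n : G) • o
    have h1 : (n : G)⁻¹ * π s * (n : G)⁻¹⁻¹ ∈ zpowers (π s) :=
      (mem_normalizer_iff.1 (inv_mem n.2) _).1 (mem_zpowers _)
    have h2 : zpowers (π s) ≤ E ⊔ π.range := zpowers_le.2 (mem_sup_right ⟨s, rfl⟩)
    have h3 := fixo _ (h2 h1)
    rw [← mul_smul, show π s * (n : G) = n * ((n : G)⁻¹ * π s * (n : G)⁻¹⁻¹) by group, mul_smul, h3]
  have ix : (MulAction.stabilizer N o).index ≤ 2 := by
    rw [MulAction.index_stabilizer]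
    exact (Set.ncard_le_ncard orb (Set.toFinite _)).trans (by
      refine (Set.ncard_insert_le _ _).trans ?_
      rw [Set.ncard_singleton])
  have ix0 : (MulAction.stabilizer N o).index ≠ 0 := index_ne_zero_of_finite
  have cm := (MulAction.stabilizer N o).card_mul_index
  have h2 : 2 ∣ Nat.card (MulAction.stabilizer N o) := by
    rw [← cm] at h4
    generalize (MulAction.stabilizer N o).index = i at *
    generalize Nat.card (MulAction.stabilizer N o) = c at *
    interval_cases i <;> omega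
  have := Fact.mk Nat.prime_two
  obtain ⟨⟨⟨n, nN⟩, nS⟩, on⟩ := exists_prime_orderOf_dvd_card' (G := MulAction.stabilizer N o) 2 h2
  rw [orderOf_mk, orderOf_mk] at on
  have nH : n ∈ E ⊔ π.range := by
    have e : ((n * 1 : G) : G ⧸ (E ⊔ π.range)) = ((1 : G) : G ⧸ (E ⊔ π.range)) := nS
    rw [QuotientGroup.eq] at e
    simpa using e
  have nH' : n ∈ ((E ⊔ π.range : Subgroup G) : Set G) := nH
  rw [coe_mul_of_right_le_normalizer_left _ _ hKE] at nH'
  obtain ⟨v, vE, _, ⟨k, rfl⟩, rfl⟩ := nH'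
  have vE' : v ∈ E := vE
  change orderOf (v * π k) = 2 at on
  obtain ⟨i, hi⟩ : v * π k * π s * (v * π k)⁻¹ ∈ zpowers (π s) :=
    (mem_normalizer_iff.1 nN _).1 (mem_zpowers _)
  have hi' : π s ^ i = v * π k * π s * (v * π k)⁻¹ := hi
  have e1 : s ^ i * (k * s * k⁻¹)⁻¹ = 1 := KE π hπ E hE hKE (by
    rw [map_mul, map_zpow, hi', map_inv]
    have := mul_mem vE' (nE (k * s * k⁻¹) _ (inv_mem vE'))
    convert this using 1
    simp only [map_mul, map_inv]; group)
  have e2 : k * s * k⁻¹ = s ^ i := (mul_inv_eq_one.1 e1).symm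
  have kN : k ∈ normalizer (zpowers s : Set MM) := by
    refine mem_normalizer_fintype fun x hx => ?_
    obtain ⟨j, rfl⟩ := hx
    change k * s ^ j * k⁻¹ ∈ zpowers s
    rw [← conj_zpow, e2]
    exact zpow_mem (zpow_mem (mem_zpowers s) i) j
  have n2 : v * π k * (v * π k) = 1 := by rw [← sq, ← on, pow_orderOf_eq_one]
  have k2 : k * k = 1 := KE π hπ E hE hKE (by
    have := inv_mem (mul_mem vE' (nE k _ vE'))
    convert this using 1
    rw [map_mul, eq_inv_iff_mul_eq_one]
    calc π k * π k * (v * (π k * v * (π k)⁻¹))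
        = π k * π k * (v * π k * (v * π k)) * (π k * π k)⁻¹ * (π k * π k) * (π k * π k)⁻¹ := by group
      _ = 1 := by rw [n2]; group)
  have k1 : k = 1 := by
    have a1 : orderOf k ∣ 2 := orderOf_dvd_of_pow_eq_one (by rw [sq, k2])
    have a2 : orderOf k ∣ 253 := by
      rw [← hN, ← orderOf_mk k kN]; exact orderOf_dvd_natCard _
    exact orderOf_eq_one_iff.1 (Nat.eq_one_of_dvd_coprimes (by norm_num) a1 a2)
  subst k1
  have vC : v ∈ E ⊓ centralizer {π s} := ⟨vE', mem_centralizer_singleton_iff.2 (by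
    rw [← map_zpow, ← e2] at hi'
    simp only [map_one, mul_one, one_mul, inv_one] at hi'
    exact (mul_inv_eq_iff_eq_mul.1 hi'.symm))⟩
  rw [CE π E hE hKE hnt hs, mem_bot] at vC
  rw [vC, map_one, mul_one, orderOf_one] at on
  exact absurd on (by norm_num)

end H13.J15
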