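import Cfsg.Agent.H13.JA
import Cfsg.Agent.H11.Basic
import Cfsg.Agent.S0215
/-! Groups of type `J4`: the central involution is not weakly closed in the extraspecial group. -/
set_option autoImplicit false
namespace H13
noncomputable section
open MulAction Cfsg H27 Subgroup
open scoped Pointwise
universe u
variable {G : Type u} [Group G] [Finite G] {z : G} {R : Subgroup G}

theorem half_of {X Y : Subgroup G} (a : ∀ x ∈ X, ∀ y ∈ X, x ∉ Y → y ∉ Y → x * y ∈ Y) :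
    Nat.card X ≤ 2 * Nat.card (X ⊓ Y : Subgroup G) := by
  rw [← ((X ⊓ Y).subgroupOf X).index_mul_card, H1.card_subgroupOf_of_le inf_le_left]
  refine Nat.mul_le_mul_right _ ?_
  by_cases b : X ≤ Y
  · rw [inf_eq_left.2 b, subgroupOf_self, index_top]; omega
  · obtain ⟨x, u, v⟩ := Set.not_subset.1 b
    refine (index_eq_two_iff.2 ⟨⟨x, u⟩, fun y => ?_⟩).le
    by_cases c : y.1 ∈ Y
    · exact .inr ⟨⟨y.2, c⟩, fun d => v ((Y.mul_mem_cancel_left c).1 d.2)⟩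
    · exact .inl ⟨⟨X.mul_mem y.2 u, a _ y.2 _ u c v⟩, fun d => c d.2⟩
theorem exists_notMem {D : Subgroup G} (l : List G) (h : l.length < Nat.card D) : ∃ x ∈ D, x ∉ l := by
  classical
  by_contra! c
  have := Set.ncard_le_ncard (s := (D : Set G)) (t := (l.toFinset : Set G)) fun x a => by simpa using c x a
  rw [Set.ncard_coe_finset] at this
  exact absurd ((this.trans l.toFinset_card_le).trans_lt h) (lt_irrefl _)
theorem zstar [IsSimpleGroup G] (hG : ¬ IsMulCommutative G) (T : Sylow 2 G) {u : G} (o : orderOf u = 2) (a : u ∈ T) :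
    ∃ g, g * u * g⁻¹ ∈ T ∧ g * u * g⁻¹ ≠ u := by
  by_contra! h
  obtain ⟨N, hN, ho, hg⟩ := Cfsg.Agent.S0215.result T u o a h
  rcases hN.eq_bot_or_eq_top with rfl | rfl
  · rcases (inferInstance : (center G).Normal).eq_bot_or_eq_top with e | e
    · have : u ∈ center G := mem_center_iff.2 fun g => (mul_inv_eq_iff_eq_mul.1 (mul_inv_eq_one.1 (mem_bot.1 (hg g)))).symm
      rw [e, mem_bot] at this
      simp [this] at o
    · exact hG ⟨⟨fun x y => mem_center_iff.1 (e.ge (mem_top y)) x⟩⟩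
  · exact ho.not_two_dvd_nat (o ▸ orderOf_dvd_natCard _ (mem_top u))

/-- fixed vectors -/
def fx {V : Type*} [AddCommGroup V] (s : AL V) : AddSubgroup V where
  carrier := {v | s v = v}
  add_mem' a b := by rw [Set.mem_ofPred, map_add, a, b]
  zero_mem' := map_zero s
  neg_mem' a := by rw [Set.mem_ofPred, map_neg, a]
theorem card_fx {s : AL V6} (a : ∀ v, s (s v) = v) : 64 ≤ Nat.card (fx s) := by
  have := E6.finite
  let φ : V6 →+ V6 := AddMonoidHom.id _ + s.toAddEquiv.toAddMonoidHom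
  have b := φ.ker.index_mul_card
  have c : φ.range ≤ fx s := by
    rintro _ ⟨v, rfl⟩
    change s (v + s v) = v + s v
    rw [map_add, a, add_comm]
  have d : φ.ker ≤ fx s := fun v e => (qf6.eq_of (show v + s v = 0 from e)).symm
  rw [AddSubgroup.index_ker, card_V6] at b
  have := Nat.mul_le_mul (AddSubgroup.card_le_of_le c) (AddSubgroup.card_le_of_le d)
  nlinarith

namespace XQ
variable {w : ℕ} {V : Type*} [AddCommGroup V] {q : V → ZMod 2} {π : Cz z →* AL V} {P : V → G → Prop} (h : XQ z R w q π P)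
  {k : Cz z}
include h
omit [Finite G] in
theorem pol_pi (k : Cz z) (u v : V) : pol q (π k u) (π k v) = pol q u v := by rw [pol, ← map_add, h.iso, h.iso, h.iso, pol]
theorem com_P (k : Cz z) {v : V} {r : G} (a : P v r) : P (v + π k v) (r * k * r⁻¹ * k.1⁻¹) := by
  simpa [mul_assoc] using h.mul a (h.act k (h.inv' a))
theorem fx_cases {v : V} {r : G} (a : P v r) (b : π k v = v) : r * k * r⁻¹ = k ∨ r * k * r⁻¹ = z * k := by
  simpa [mul_inv_eq_iff_eq_mul] using (h.iff (h.com_P k a)).2 (by rw [b, h.qf.two])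
theorem half_fx {U : AddSubgroup V} (a : U ≤ fx (π k)) : Nat.card U ≤ Nat.card (h.sub U ⊓ Cz k.1 : Subgroup G) := by
  have := half_of (X := h.sub U) (Y := Cz k.1) fun x ⟨u, b, c⟩ y ⟨v, d, e⟩ i j => mem_Cz'.2 (by
    have s := (h.fx_cases c (a b)).resolve_left fun s => i (mem_Cz'.2 s)
    have t := (h.fx_cases e (a d)).resolve_left fun s => j (mem_Cz'.2 s)
    calc x * y * k * (x * y)⁻¹ = x * (y * k * y⁻¹) * x⁻¹ := by group
      _ = z * (x * k * x⁻¹) := by rw [t, ← mul_assoc, h.comm (h.mem c)]; group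
      _ = _ := by rw [s, ← mul_assoc, h.zz, one_mul])
  rw [h.card_sub] at this
  omega
variable (kk : k * k = 1)
include kk
omit [Finite G] in
theorem ss (v : V) : π k (π k v) = v := by
  change (π k * π k) v = v
  rw [← map_mul, kk, map_one]; rfl
theorem perp2 {u : V} {d : G} (a : P u d) (b : ∀ v r, P v r → π k v = v → r * d = d * r) : ∃ v, u = v + π k v := by
  by_contra! n
  let φ : V →+ V := AddMonoidHom.id _ + (π k).toAddEquiv.toAddMonoidHom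
  obtain ⟨r, s, t, e⟩ := h.exists_nc' (h.sub_le φ.range) (h.z_sub _) (h.mem a) fun c => by
    obtain ⟨v, c⟩ := (h.mem_sub a).1 c
    exact n v c.symm
  obtain ⟨v, p⟩ := h.ex' r s
  refine h.ne_mul d (e.symm.trans (mul_inv_eq_iff_eq_mul.2 (b v r p (h.qf.eq_of (h.qf.nd _ fun y => ?_)).symm)))
  obtain ⟨x, c⟩ := h.ex (y + π k y)
  have := (h.comm_iff p c).1 (t x ⟨_, ⟨y, rfl⟩, c⟩).symm
  rwa [h.qf.add', ← h.pol_pi k v (π k y), h.ss kk, ← h.qf.add] at this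
omit kk
variable {S : Subgroup G} {w' : ℕ} (h' : XS k.1 S w') (hz : z ∉ S)
include h' hz
omit [Finite G] in
theorem kc {r d : G} (a : r ∈ R) (b : r ∈ Cz k.1) (c : d ∈ R ⊓ S) : r * d = d * r :=
  mul_inv_eq_iff_eq_mul.1 ((h.conj a c.1).resolve_right fun e =>
    hz ((S.mul_mem_cancel_left c.2).1 (e ▸ h'.nrm r b d c.2)))
variable (no : ∀ d ∈ S, IsConj k.1 (d * k) → d = 1)
include no
omit hz h' in
theorem lemA' {d r : G} {v : V} (c : d ∈ S) (a : P (v + π k v) d) (b : P v r) : d = 1 ∨ r * k * r⁻¹ = d * z * k := by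
  rcases (h.uniq a (h.com_P k b)).2 rfl with e | e <;> rw [mul_inv_eq_iff_eq_mul] at e
  exacts [.inl (no d c (_root_.isConj_iff.2 ⟨r, e⟩)), .inr e]
include kk
theorem lemA {r d : G} (a : r ∈ R) (b : r * k * r⁻¹ = z * k) (c : d ∈ R ⊓ S) (e : r * d = d * r) : d = 1 := by
  obtain ⟨u, p⟩ := h.ex' d c.1
  obtain ⟨v, rfl⟩ := h.perp2 kk p fun v x s t => by
    rcases h.fx_cases s t with f | f
    · exact h.kc h' hz (h.mem s) (mem_Cz'.2 f) c
    · have := h.kc h' hz (mul_mem (inv_mem a) (h.mem s)) (mem_Cz'.2 (by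
        calc r⁻¹ * x * k * (r⁻¹ * x)⁻¹ = r⁻¹ * (x * k * x⁻¹) * r := by group
          _ = _ := by rw [f, ← b]; group)) c
      exact ((Commute.mul_left e this).eq.symm.trans (by simp)).symm.trans (by simp) |>.symm.symm
  obtain ⟨x, s⟩ := h.ex v
  refine (h.lemA' no c.2 p s).elim id fun f => no d c.2 (_root_.isConj_iff.2 ⟨r * x, ?_⟩)
  calc r * x * k * (r * x)⁻¹ = r * (x * k * x⁻¹) * r⁻¹ := by group
    _ = d * z * (r * k * r⁻¹) := by rw [f, ← mul_assoc, ← mul_assoc, e, mul_assoc d r, h.comm a]; group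
    _ = _ := by rw [b, mul_assoc, ← mul_assoc z, h.zz, one_mul]
theorem two {d e : G} (a : d ∈ R ⊓ S) (b : e ∈ R ⊓ S) (c : d ≠ 1) (f : e ≠ 1) (g : e * d ≠ 1) {v : V} {r : G} (p : P v r)
    (s : π k v = v) : r ∈ Cz k.1 := mem_Cz'.2 ((h.fx_cases p s).resolve_right fun t => by
  have m : ∀ {x}, x ∈ R ⊓ S → x ≠ 1 → r * x * r⁻¹ = x * z := fun i j => (h.conj (h.mem p) i.1).resolve_left fun l =>
    j (h.lemA kk h' hz no (h.mem p) t i (mul_inv_eq_iff_eq_mul.1 l))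
  have := m (mul_mem b a) g
  rw [← conj_mul, m a c, m b f, mul_assoc, ← mul_assoc z, ← h.comm a.1, mul_assoc d, h.zz, mul_one] at this
  exact h.ne_mul _ this.symm)
theorem exv {d e : G} (a : d ∈ R ⊓ S) (b : e ∈ R ⊓ S) (c : d ≠ 1) (f : e ≠ 1) (g : e * d ≠ 1) {u : V} (p : P u e) :
    ∃ v, u = v + π k v := h.perp2 kk p fun _ _ s t => h.kc h' hz (h.mem s) (h.two kk h' hz no a b c f g s t) b
theorem lemB {d e : G} (a : d ∈ R ⊓ S) (b : e ∈ R ⊓ S) (c : d ≠ 1) (f : e ≠ 1) (g : e * d ≠ 1) {v : V} {r : G}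
    (p : P (v + π k v) d) (s : P v r) : r * e * r⁻¹ = e * z := (h.conj (h.mem s) b.1).resolve_left fun t => by
  obtain ⟨u, i⟩ := h.ex' e b.1
  obtain ⟨y, rfl⟩ := h.exv kk h' hz no a b c f g i
  obtain ⟨x, j⟩ := h.ex y
  have l := (h.lemA' no a.2 p s).resolve_left c
  have m := (h.lemA' no b.2 i j).resolve_left f
  refine g (no _ (mul_mem b.2 a.2) (_root_.isConj_iff.2 ⟨r * x, ?_⟩))
  calc r * x * k * (r * x)⁻¹ = r * (x * k * x⁻¹) * r⁻¹ := by group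
    _ = r * e * r⁻¹ * (r * z * r⁻¹) * (r * k * r⁻¹) := by rw [m]; group
    _ = _ := by
      rw [t, l, h.comm (h.mem s), mul_inv_cancel_right, h.comm a.1, ← mul_assoc, ← mul_assoc, mul_assoc e z, h.zz, mul_one]
theorem four : Nat.card (R ⊓ S : Subgroup G) ≤ 4 := by
  by_contra! n
  have ne : k.1 ≠ z := fun e => hz (e ▸ h'.zm)
  have sq : ∀ {x y}, x ∈ R ⊓ S → y * x = 1 → y = x := fun a b =>
    (eq_inv_of_mul_eq_one_left b).trans (inv_eq_of_mul_eq_one_left (h.inf_sq h' ne a))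
  obtain ⟨a, a1, a2⟩ := exists_notMem (D := R ⊓ S) [1] (show 1 < _ by omega)
  obtain ⟨b, b1, b2⟩ := exists_notMem (D := R ⊓ S) [1, a] (show 2 < _ by omega)
  obtain ⟨c, c1, c2⟩ := exists_notMem (D := R ⊓ S) [1, a, b, b * a] n
  simp only [List.mem_cons, List.not_mem_nil, or_false, not_or] at a2 b2 c2
  obtain ⟨u, i⟩ := h.ex' a a1.1
  obtain ⟨v, rfl⟩ := h.exv kk h' hz no b1 a1 b2.1 a2 (fun e => b2.2 (sq b1 e).symm) i
  obtain ⟨r, j⟩ := h.ex v
  have := h.lemB kk h' hz no a1 (mul_mem c1 b1) a2 (fun e => c2.2.2.1 (sq b1 e))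
    (fun e => c2.2.2.2 (sq (mul_mem b1 a1) (by rwa [← mul_assoc]))) i j
  rw [← conj_mul, h.lemB kk h' hz no a1 b1 a2 b2.1 (fun e => b2.2 (sq a1 e)) i j,
    h.lemB kk h' hz no a1 c1 a2 c2.1 (fun e => c2.2.1 (sq a1 e)) i j, mul_assoc, ← mul_assoc z, ← h.comm b1.1, mul_assoc b,
    h.zz, mul_one] at this
  exact h.ne_mul _ this.symm
end XQ

variable {π : Cz z →* AL V6} {P : V6 → G → Prop}
namespace JT0
variable (h : JT0 z R π P)
include h
theorem im_le (W : Subgroup G) : XQ.im π W ≤ LJ := (map_le_range _ _).trans h.rng.le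
omit [Finite G] h in
theorem im_comm {W : Subgroup G} (c : ∀ x ∈ W, ∀ y ∈ W, x * y = y * x) : ∀ s ∈ XQ.im π W, ∀ t ∈ XQ.im π W, s * t = t * s := by
  rintro _ ⟨k, a, rfl⟩ _ ⟨l, b, rfl⟩
  rw [← map_mul, ← map_mul, show k * l = l * k from Subtype.ext (c _ a _ b)]
theorem ab_le {Y : Subgroup G} (a : Y ≤ Cz z) (p : IsPGroup 2 Y) (c : ∀ x ∈ Y, ∀ y ∈ Y, x * y = y * x) :
    Nat.card Y ≤ 32 * Nat.card (Y ⊓ R : Subgroup G) :=
  h.card_im a ▸ Nat.mul_le_mul_right _ (ab32 (h.im_le Y) (p.comap_subtype.map π) (im_comm c))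
theorem exA {W : Subgroup G} (a : W ≤ Cz z) (p : IsPGroup 2 W) (c : ∀ x ∈ W, ∀ y ∈ W, x * y = y * x)
    (d : 2 ^ 11 ≤ Nat.card W) : ∃ m, ∃ hm : m ∈ LJ, W = (h.reb hm).A := by
  have := E6.finite
  obtain ⟨k, b, e⟩ := exists_conj_le_sylow Nat.prime_two TJ_MJ card_TJ (by rw [card_MJ]; norm_num) (Q := XQ.im π W ⊓ MJ)
    inf_le_right (p.comap_subtype.map π).to_inf_left
  refine ⟨_, MJ_LJ (inv_mem b), JT0.uniqA _ a c ?_ d⟩
  rintro _ ⟨⟨y, s, rfl⟩, t⟩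
  simp only [inv_inv, MonoidHom.comp_apply, MulEquiv.coe_toMonoidHom, MulAut.conj_apply, SetLike.mem_coe] at t ⊢
  exact e _ ⟨⟨y, s, rfl⟩, (MJ.mul_mem_cancel_left b).1 ((MJ.mul_mem_cancel_right (inv_mem b)).1 t)⟩
theorem c64 {k : Cz z} (kk : k * k = 1) : 64 ≤ Nat.card (R ⊓ Cz k.1 : Subgroup G) :=
  ((card_fx (h.ss kk)).trans (h.half_fx le_rfl)).trans (card_le_of_le (inf_le_inf_right _ (h.sub_le _)))
section
variable {k : Cz z} (kk : k * k = 1) {S : Subgroup G} {π' : Cz k.1 →* AL V6} {P' : V6 → G → Prop} (h' : JT0 k.1 S π' P')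
  (hz : z ∉ S) (no : ∀ d ∈ S, IsConj k.1 (d * k) → d = 1)
include kk h' hz no
theorem lemC {U : AddSubgroup V6} (a : U ≤ fx (π k)) (b : ∀ u ∈ U, ∀ v ∈ U, pol q6 u v = 0) (c : 64 ≤ Nat.card U) :
    h.sub U ≤ Cz k.1 := fun r ⟨u, s, t⟩ => mem_Cz'.2 ((h.fx_cases t (a s)).resolve_right fun e => by
  have cm : ∀ x ∈ h.sub U, ∀ y ∈ h.sub U, x * y = y * x := fun _ ⟨_, i, j⟩ _ ⟨_, l, m⟩ => (h.comm_iff j m).2 (b _ i _ l)
  have := h'.ab_le (Y := h.sub U ⊓ Cz k.1) inf_le_right (h.pg.to_le (inf_le_left.trans (h.sub_le U)))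
    fun x i y j => cm x i.1 y j.1
  rw [show h.sub U ⊓ Cz k.1 ⊓ S = ⊥ from eq_bot_iff.2 fun d i => h.lemA kk h'.toXS hz no (h.mem t) e
    ⟨h.sub_le U i.1.1, i.2⟩ (cm _ ⟨u, s, t⟩ _ i.1.1), card_bot] at this
  have := h.half_fx a
  omega)
theorem inner (a : π k ∈ B06) : False := by
  have b : k.1 ∈ h.A := fun y i => mem_Cz.1 (h.lemC kk h' hz no (fun u => B06_fix a) (fun _ i _ => U_pol i) card_U.ge i)
  obtain ⟨m, hm, e⟩ := h'.exA (W := h.A) (fun y i => mem_Cz.2 (h.A_comm i b)) h.A_pg (fun _ i _ => h.A_comm i) h.card_A.ge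
  have c := H11.card_mul_card_le (h.A ⊓ R) (h.A ⊓ S)
  have d := Nat.mul_le_mul (card_le_of_le (inf_le_inf inf_le_right inf_le_right : h.A ⊓ R ⊓ (h.A ⊓ S) ≤ R ⊓ S))
    (card_le_of_le (sup_le inf_le_left inf_le_left : h.A ⊓ R ⊔ h.A ⊓ S ≤ h.A))
  have f : Nat.card (h.A ⊓ S : Subgroup G) = 128 := by rw [e, JT0.A_inf, XQ.card_sub, card_U]
  have := h.four kk h'.toXS hz no
  rw [h.A_inf, h.card_sub, card_U, f] at c
  rw [h.A_inf, h.card_A] at d
  omega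
theorem outer (hk : k.1 ∉ R) (a : π k ∉ MJ) : False := by
  have th : ∀ u ∈ fx (π k), thL u + π k (thL u) = u := fun u i => by
    rw [LJ_semi (h.mem_LJ k) a, i]; exact (qf6.eq_of ((add_assoc ..).symm.trans (th3 u))).symm
  have iso : ∀ u ∈ fx (π k), ∀ v ∈ fx (π k), pol q6 u v = 0 := fun u i v j => by
    rw [← th u i, qf6.add, ← h.pol_pi k (thL u) v, j, z2_two]
  have b := h.lemC kk h' hz no le_rfl iso (card_fx (h.ss kk))
  have c := h'.ab_le b (h.pg.to_le (h.sub_le _)) fun _ ⟨_, i, j⟩ _ ⟨_, l, m⟩ => (h.comm_iff j m).2 (iso _ i _ l)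
  have c' := card_fx (h.ss kk)
  rw [h.card_sub] at c
  obtain ⟨d₁, ⟨⟨u₁, a1, a2⟩, a3⟩, a4⟩ := exists_notMem (D := h.sub (fx (π k)) ⊓ S) [1] (show 1 < _ by omega)
  obtain ⟨d₂, ⟨⟨u₂, b1, b2⟩, b3⟩, b4⟩ := exists_notMem (D := h.sub (fx (π k)) ⊓ S) [1, d₁⁻¹] (show 2 < _ by omega)
  simp only [List.mem_cons, List.not_mem_nil, or_false, not_or] at a4 b4
  have zk : z ∈ Cz k.1 := mem_Cz.2 (mem_Cz.1 k.2).symm
  have e1 := h'.c64 (k := ⟨z, zk⟩) (Subtype.ext h.zz)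
  have e2 := h.card_im (A := S ⊓ Cz z) inf_le_right
  have e3 := (card_le_of_le (le_inf inf_le_right (inf_le_left.trans inf_le_left) : S ⊓ Cz z ⊓ R ≤ R ⊓ S)).trans
    (h.four kk h'.toXS hz no)
  have e4 := half_MJ (h.im_le (S ⊓ Cz z))
  rw [show XQ.im π (S ⊓ Cz z) ⊓ MJ = ⊥ from eq_bot_iff.2 ?_, card_bot] at e4
  · nlinarith
  rintro _ ⟨⟨y, ⟨s, -⟩, rfl⟩, t⟩
  have f : ∀ v ∈ fx (π k), π y v = v := fun v i => by
    obtain ⟨r, j⟩ := h.ex v
    have l := h.com_P y j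
    have m : r * y * r⁻¹ * y.1⁻¹ ∈ R ⊓ S := ⟨h.mem l, S.mul_mem (h'.nrm _ (b ⟨v, i, j⟩) _ s) (S.inv_mem s)⟩
    have n : ∀ {d u}, u ∈ fx (π k) → P u d → d ∈ S → d ≠ 1 → r * y * r⁻¹ * y.1⁻¹ = 1 ∨ r * y * r⁻¹ * y.1⁻¹ * d = 1 :=
      fun {d u} i1 i2 i3 i4 => by
        by_contra! i5
        obtain ⟨x, i6⟩ := h.ex (thL u)
        have i7 := h.fix_of_comm i2 (h'.kc (k := ⟨z, zk⟩) h.toXS hk s y.2 ⟨i3, h.mem i2⟩)
        refine h.ne_mul _ ((h.lemB kk h'.toXS hz no ⟨h.mem i2, i3⟩ m i4 i5.1 i5.2 ((th u i1).symm ▸ i2) i6).symm.trans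
          (mul_inv_eq_iff_eq_mul.2 ((h.comm_iff i6 l).2 ?_)))
        rw [qf6.add', ← h.pol_pi y (thL u) v, MJ_th t, i7, z2_two]
    refine (qf6.eq_of ((h.iff l).1 (.inl ?_))).symm
    refine (n a1 a2 a3 a4).elim id fun i1 => (n b1 b2 b3 b4.1).resolve_right fun i2 => ?_
    have i3 := mul_left_cancel (i1.trans i2.symm)
    exact b4.2 (eq_inv_of_mul_eq_one_left (i3 ▸ h.inf_sq h'.toXS (fun e => hz (e ▸ h'.zm)) ⟨h.mem a2, a3⟩))
  refine LinearEquiv.ext fun v => ?_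
  have g : ∀ v, v + π k v ∈ fx (π k) := fun v => (map_add ..).trans (by rw [h.ss kk, add_comm])
  have e : v = thL (thL (v + π k v)) + (thL v + π k (thL v)) := by
    rw [LJ_semi (h.mem_LJ k) a, map_add, map_add, add_add_add_comm, two6, add_zero, add_comm]
    exact qf6.eq_of ((add_assoc ..).symm.trans (th3 v))
  change π y v = v
  rw [e, map_add, MJ_th t, MJ_th t, f _ (g _), f _ (g _)]
end
theorem exg [IsSimpleGroup G] (hG : ¬ IsMulCommutative G) : ∃ g, g * z * g⁻¹ ∈ R ∧ g * z * g⁻¹ ≠ z := by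
  by_contra! no
  obtain ⟨T, a⟩ := h.exT
  obtain ⟨g, b, c⟩ := zstar hG T h.z2 (h.R_le a h.zm)
  let k : Cz z := ⟨_, h.le_Cz T.2 (h.R_le a) b⟩
  have kk : k * k = 1 := Subtype.ext (h.conj_sq g)
  have hz : z ∉ MulAut.conj g • R := fun e => c (by
    have := no g⁻¹ (by simpa using mem_cj.1 e)
    rw [inv_inv, cj_eq_iff] at this
    exact this.symm)
  have no' : ∀ d ∈ MulAut.conj g • R, IsConj k.1 (d * k) → d = 1 := fun d e f => by
    obtain ⟨x, f⟩ := _root_.isConj_iff.1 f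
    have := mem_cj.1 (f ▸ mul_mem e (h.cj g).zm)
    have := no (g⁻¹ * x * g) (by simpa [k, mul_assoc] using this)
    rw [← mul_left_inj k.1, one_mul, ← f]
    conv_rhs => rw [show k.1 = g * z * g⁻¹ from rfl, ← this]
    simp [k, mul_assoc]
  have hk : k.1 ∉ R := fun e => c (no g e)
  by_cases m : π k ∈ MJ
  · obtain ⟨n, d, e⟩ := clsJ m (orderOf_eq_prime (by rw [pow_two, ← map_mul, kk, map_one]) fun e => hk ((h.ker k).1 e))
    exact (h.reb (MJ_LJ (inv_mem d))).inner kk (h.cj g) hz no' (by simpa [e, B06] using mem_cl (by simp [gB6]))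
  · exact h.outer kk (h.cj g) hz no' hk m
end JT0
end
end H13
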