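import Cfsg.Agent.H13.J6b
import Cfsg.Agent.H13.JC
/-! Elements of order five and seven of `3.M22:2`. -/
set_option autoImplicit false
namespace H13
noncomputable section
open MulAction Cfsg H27 Subgroup H22
open scoped Pointwise

def itx (A : List ℕ) (i a : ℕ) : ℕ := Nat.rec a (fun _ y => force y (xsum A)) i
def px (A ex : List ℕ) (a : ℕ) : ℕ := List.rec 0 (fun e _ y => Nat.xor (itx A e a) y) ex
section
variable {V : Type*} [AddCommGroup V] {d : ℕ} {E : BE V d} {g : AL V} {A : List ℕ} (c : E.Cols g A) (l : ∀ a ∈ A, a < 2 ^ d)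
include c l
theorem itx_spec (i : ℕ) {a : ℕ} (ha : a < 2 ^ d) : itx A i a < 2 ^ d ∧ (g ^ i) (E.e a) = E.e (itx A i a) := by
  induction i with
  | zero => exact ⟨ha, rfl⟩
  | succ i ih =>
    rw [show itx A (i + 1) a = xsum A (itx A i a) from force_eq .., pow_succ']
    exact ⟨xsum_lt l _, (congrArg g ih.2).trans (c _ ih.1)⟩
theorem px_spec (ex : List ℕ) {a : ℕ} (ha : a < 2 ^ d) :
    px A ex a < 2 ^ d ∧ (ex.map fun i => (g ^ i) (E.e a)).sum = E.e (px A ex a) := by
  induction ex with
  | nil => exact ⟨Nat.two_pow_pos d, E.zero.symm⟩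
  | cons e ex ih =>
    have := itx_spec c l e ha
    exact ⟨Nat.xor_lt_two_pow this.1 ih.1, by rw [List.map_cons, List.sum_cons, this.2, ih.2, ← E.xor]; rfl⟩
theorem mem_px {X Y : ℕ} (ex : List ℕ) (k : (allN (2 ^ d) fun a => decide (tb Y a = tb X (px A ex a))) = true) {v : V} :
    v ∈ mset (2 ^ d) E.e Y ↔ (ex.map fun i => (g ^ i) v).sum ∈ mset (2 ^ d) E.e X := by
  obtain ⟨a, ha, rfl⟩ := E.surj v
  have := px_spec c l ex ha
  rw [this.2, mem_mset E.injOn ha, mem_mset E.injOn this.1, ← tb_eq, ← tb_eq, of_decide_eq_true ((allN_iff _ _).1 k a ha)]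
theorem qinv_px {H : Subgroup (AL V)} (m : ∀ k ∈ H, k * g = g * k) {X Y : ℕ} (ex : List ℕ)
    (hX : ∀ k ∈ H, ∀ y ∈ mset (2 ^ d) E.e X, k y ∈ mset (2 ^ d) E.e X)
    (k : (allN (2 ^ d) fun a => decide (tb Y a = tb X (px A ex a))) = true) : QInv H (2 ^ d) E.e Y :=
  qinv_of E.injOn fun u a y b => (mem_px c l ex k).2 (by
    have := hX u a _ ((mem_px c l ex k).1 b)
    rw [map_list_sum, List.map_map] at this
    exact (congrArg (fun f : ℕ → V => (ex.map f).sum) (funext fun i =>
      LinearEquiv.congr_fun (Commute.pow_right (m u a) i).eq y) :) ▸ this)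
end
theorem nel_cc {Ls : List (List ℕ)} (c : allL Ls nelChk = true) {L A : List ℕ} (h : L ∈ Ls ∧ lcol L = A) : E6.Cols (nel L) A :=
  h.2 ▸ nel_c ((allL_iff _ _).1 c L h.1)
theorem qinvJK {H : Subgroup (AL V6)} (a : H ≤ LJ) {Y Z : ℕ} (b : QInv H (2 ^ 12) E6.e Y) (c : QInv H (2 ^ 12) E6.e Z) :
    ∀ X ∈ [XJ, XK, 1, Y, Z], QInv H (2 ^ 12) E6.e X := by
  simp only [List.forall_mem_cons]
  exact ⟨qinv_of inj6 fun _ d _ => invJ (a d), qinv_of inj6 fun _ d _ => invK (a d), E6.qinv_one _, b, c, by simp⟩
def Wv (w : V6) : AddSubgroup V6 where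
  carrier := {v | ∃ t : GF4, t • w = v}
  zero_mem' := ⟨0, zero_smul ..⟩
  add_mem' := by rintro _ _ ⟨s, rfl⟩ ⟨t, rfl⟩; exact ⟨_, add_smul ..⟩
  neg_mem' := by rintro _ ⟨s, rfl⟩; exact ⟨_, neg_smul ..⟩
instance decWv (w v : V6) : Decidable (v ∈ Wv w) := inferInstanceAs (Decidable (∃ t : GF4, t • w = v))
def l57 : List (List Nat) := [[0x2, 0x1001, 0x2001, 0x3006, 0x4045, 0x509e, 0x6011, 0x7072, 0x8054, 0x91fc, 0xa0a8, 0xb054, 0xa800, 0x7e00, 0x6900, 0x3e20, 0x2910, 0x10cc, 0x46],
  [0x2, 0x1001, 0x4040, 0x5080, 0x6013, 0x7021, 0x8416, 0x992b, 0xa101, 0xb302, 0x9800, 0x8e00, 0x7300, 0x6200, 0x5080, 0x4040, 0x3ba0, 0x2650, 0x1cfc, 0x8a8],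
  [0x1001, 0x2008, 0x3004, 0x4081, 0x5041, 0x6023, 0x7012, 0x84e9, 0x98df, 0xab03, 0xb601, 0x9800, 0x8400, 0x7300, 0x6180, 0x52c0, 0x42a0, 0x3ba0, 0x2650, 0x1cfc, 0x456],
  [0x20, 0x1010, 0x2043, 0x3082, 0x4002, 0x5001, 0x6037, 0x702a, 0x846b, 0x99be, 0xa18b, 0xb7ee, 0x9800, 0x8400, 0x7400, 0x6880, 0x5cc0, 0x4880, 0x33f0, 0x29c8, 0x1a9c, 0xde8],
  [0x4, 0x1009, 0x2001, 0x3007, 0x420f, 0x5100, 0x621f, 0x7120, 0x82f5, 0x915a, 0xab9e, 0xb627, 0x9c00, 0x8600, 0x7200, 0x6100, 0x5080, 0x4c60, 0x3ea0, 0x27f8, 0x1d54, 0x6aa],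
  [0x1001, 0x408d, 0x504d, 0x6027, 0x701a, 0x82fd, 0x919a, 0xa8e7, 0xb43d, 0x9400, 0x8c00, 0x7600, 0x6b80, 0x5f40, 0x4e60, 0x3bf0, 0x26a0, 0x1bf0, 0xd52]]
def s5 : AL V6 := nel (nth [] l57 0)
def q5 : AL V6 := nel (nth [] l57 1)
def g15 : AL V6 := nel (nth [] l57 2)
def s7 : AL V6 := nel (nth [] l57 3)
def q7 : AL V6 := nel (nth [] l57 4)
def n7 : AL V6 := nel (nth [] l57 5)
def n57 (i : ℕ) : Net := lnet 12 (nth [] l57 i)
theorem chk57 : allL l57 nelChk = true := by decide +kernel
theorem a57 : ActsL 4096 v6 [s5, q5, g15, s7, q7, n7, thL] [n57 0, n57 1, n57 2, n57 3, n57 4, n57 5, Nθ] :=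
  ActsL.app (nel_aL chk57) (.cons th_a .nil)
def cq5 : List ℕ := [2034, 2387, 2135, 3241, 2327, 3625, 2375, 3721, 3752, 2044, 343, 681]
def cg15 : List ℕ := [2387, 3745, 3241, 1278, 3625, 1854, 3721, 1998, 2044, 2388, 681, 1022]
def cq7 : List ℕ := [3580, 1620, 599, 937, 1111, 2217, 1607, 2953, 1559, 2857, 2977, 3570]
theorem q5_c : E6.Cols q5 cq5 := nel_cc chk57 (by decide +kernel)
theorem g15_c : E6.Cols g15 cg15 := nel_cc chk57 (by decide +kernel)
theorem q7_c : E6.Cols q7 cq7 := nel_cc chk57 (by decide +kernel)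
theorem w57 (u v : List ℕ) (c : eqL 12 4096 (wordN [n57 0, n57 1, n57 2, n57 3, n57 4, n57 5, Nθ] u)
    (wordN [n57 0, n57 1, n57 2, n57 3, n57 4, n57 5, Nθ] v) = true) :
    (wordG [s5, q5, g15, s7, q7, n7, thL] u).prod = (wordG [s5, q5, g15, s7, q7, n7, thL] v).prod := fa6.leq 12 (a57.word u) (a57.word v) c
theorem LJ57 : ∀ g ∈ [s5, q5, g15, s7, q7, n7, thL], g ∈ LJ := allA a57 lj_of (by decide +kernel)
theorem q5_NJ : q5 ∈ NJ := allA (a57.word [1]) nj_of (by decide +kernel) _ (by simp [wordG])
theorem q5_MJ : q5 ∈ MJ := allA (a57.word [1]) mj_of (by decide +kernel) _ (by simp [wordG])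
theorem q7_MJ : q7 ∈ MJ := allA (a57.word [4]) mj_of (by decide +kernel) _ (by simp [wordG])
theorem ord_q5 : orderOf q5 = 5 := haveI : Fact (Nat.Prime 5) := ⟨by norm_num⟩
  orderOf_eq_prime (by simpa [wordG, pow_succ, mul_assoc] using w57 [1, 1, 1, 1, 1] [] (by decide +kernel))
    (by simpa [wordG] using lne inj6 (a57.word [1]) .nil (by decide +kernel))
theorem ord_q7 : orderOf q7 = 7 := haveI : Fact (Nat.Prime 7) := ⟨by norm_num⟩
  orderOf_eq_prime (by simpa [wordG, pow_succ, mul_assoc] using w57 [4, 4, 4, 4, 4, 4, 4] [] (by decide +kernel))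
    (by simpa [wordG] using lne inj6 (a57.word [4]) .nil (by decide +kernel))
theorem n7_rel : n7 * q7 * n7⁻¹ = q7 ^ 2 := mul_inv_eq_iff_eq_mul.2 (by
  simpa [wordG, pow_two, mul_assoc] using w57 [5, 4] [4, 4, 5] (by decide +kernel))
def C5 : Subgroup (AL V6) := LJ ⊓ Cz q5
def C7 : Subgroup (AL V6) := LJ ⊓ Cz q7
def Y51 : ℕ := 0x842120402418000020408421000f00002418000f44220801000000000801881144000c30011002023ffc0022080820024004404000880000101008800000110000000082000014142800f0008282481212488142000041002418000000140f0024180210f000000010020000218400f0c00c000000004008481203300840428100002184241802100000000040081122448808400f00124810021824000000f082281824000f00411824842128000000000f2800842100000041000000001441400402022200000010100220906000880044f9f680080808000011004040011000000606000002040f00182410800000481201080000f000204012489090428104042002ff5a00440880020200880000a500110080804004220000000110101000f042242040218418240000481210800204000000008118000001088142f0008421000f08400000000f848481422001084081428421000000002001000021210000124800140f000000000000aa0082410000f08142000055002800218442814100aa0024184812f00014008228428114148228004100aa2184414100f00014200111228484c00c182402100cc0124884840f0001204281f0004812221110028010442200f042814422080181180606606081421080218418810f001248010890602200404080082200a50008800404404008800c300022800804040022c6ae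
def Y52 : ℕ := 0x42101503000001800c28609286145280280222380a560005000446408048c301200041000011582c0000000082040020001c00020802a4111914002226280014010008103018a9ca00084000000002406800000000009208a9ca0000c041008000800019000900000010200454400c10408412c00404002020102a040021593000040a00000805000911200400154c600000c0004208002006254c60c000104c403408088890a000900802130101004a841600804a5823400420300a222946048000001060028c100010180102041388040060000000208a88851110208040120000024821602080500000400010500223200010080600102080081c08051390000240000a0008400a0024000016841810000014010921400844c4413110021802000000060040800000000c2003400020150010180632a0060a008632a0012c0232c410a04948244450629420000c019000050840101028c8820080090a5204000988800010a01148a08008002008400010030000200304600008440019315c9a8008400090a20008402000009c21410208040004000201c0044540020100020008100240080000005c654400280c00005400200801682800001603222010040000003020841a808200800041004000208000336a2640089880400a010001084200006014040c020108420000a6200000c180084200a800290508043003950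
def Y71 : ℕ := 0x44002002213808008420009201110040108050011200428003400d331008300004c02844801c412000044034802480100004810440302840b9a00000000004c8200048810082050a802044410140000209203211020090300a90000002c000d80200024900410220480404aa00c48c0810826040000110100436a00b00000008100580880910059010404804024380011020c48202200008006c005000000078110001400308024188920200080440018012048000501020910900270090490022900001240408202412006408216280248000002290241000050dc000020060000041408a2011105028400800281080c064020220c62400d0020090ac000008085208400002081218080850000420842082081080a81a4000000007306080a8808011820640000540104100344300582020012402009400000040a0603000b0003014128040018900014101002840240004145880002200b051050050850200886006a82002a80c048000010221011040800380420041460c00070080500000680082108080014600424402462420410064080110002180d6000500002000c0110010a42001084004440a080411002a8280a02282002820008a0703000000688408c4400c8408802801010001c410224012002c200010809000004bc00000a8432020840021000020894280084010040020084852400101000010000100000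
def Y72 : ℕ := 0x240802090000910480c10003c04843100000020a022202a8034001084c0080200910406200002202090220891820000028006000a400c800001209482150840cc40000a0001681003302010180080800102208061060890600c8c0202004800204a02201508a02508051000001a028400128000001a010a80000c2a644080000a1008108004a045a100a0620c00004100404099800110040080260048600040880880000008cc0840000082400850512260464010009129002602090001484000c2008400a00064000001050a208088881400058480500003810100820540426c01080140000c104430cc02008813080c01034010000284002240000c68a0000024324103004000000c08060204020a00c84000031004044380219400104802a1001002250542000200c0c100414302c0600010c80a0102004a000480a020024000508a20a215180400644040000460240030000804210381002a0805800042000001600092128400000160014020612404102968600490046ac80820000000000084080205a10040011940000a103009019091024406002101010401a0002502820150510500a08380c000442000102c00110010520009001c0110021003080803006010101500031008840013300c40280094600020018081060100110490045a00082080120000041c2304008080002042001968000404000020000800000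
theorem C5_eq : cl [s5, thL, q5] = C5 ∧ Nat.card C5 = 30 := by
  have := E6.finite
  have m : ∀ k ∈ C5 ⊓ MJ, k * g15 = g15 * k := fun k a => by
    rw [show g15 = thL * q5 by simpa [wordG] using w57 [2] [6, 1] (by decide +kernel)]
    exact Commute.mul_right (mem_Cz.1 a.2.2) (mem_Cz.1 a.1.2)
  have i : ∀ k ∈ C5 ⊓ MJ, ∀ y ∈ SJ, k y ∈ SJ := fun k a _ => invJ a.1.1
  have c : Nat.card ↥(C5 ⊓ MJ) ≤ 15 := E6.lin_bound (F := []) (H := C5 ⊓ MJ) [256, 128, 640, 64, 32, 16, 8, 4, 3016, 2, 1708, 1]
    [(333, 15, [(3, 0, true), (1, 0, true), (4, 0, true)]), (1236, 1, [(0, 0, true), (4, 1, true), (3, 0, true), (0, 1, true), (3, 1, false), (4, 0, false)]), (6, 1, [(4, 0, true), (3, 3, true), (1, 3, true), (0, 1, true), (0, 0, false)]), (1, 1, [(3, 0, true), (4, 7, true), (4, 5, true), (3, 6, true), (1, 3, true)]), (2, 1, [(3, 0, true), (3, 11, true), (4, 6, true), (0, 8, true), (1, 2, false)]), (8, 1, [(4, 0, true), (3, 22, true), (4, 5, true), (3, 4, true), (1, 2, true)]), (16, 1, [(4, 1, true), (3, 53, true), (3, 14,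 true), (4, 5, true)]), (32, 1, [(3, 4, true), (4, 21, true), (4, 25, true), (3, 6, true)]), (64, 1, [(4, 11, true), (0, 15, true), (0, 99, true), (4, 14, true)]), (128, 1, [(3, 10, true), (0, 69, true), (3, 119, true), (3, 16, true)]), (512, 1, [(3, 2, true), (4, 498, true), (3, 81, true), (3, 8, true)]), (2048, 1, [(3, 0, true), (4, 432, true), (4, 534, true), (3, 1, true)])]
    (qinvJK (inf_le_right.trans MJ_LJ) (qinv_px g15_c (by decide) m [0, 1, 3] i (Y := Y51) (by decide +kernel))
      (qinv_px g15_c (by decide) m [0, 6, 7] i (Y := Y52) (by decide +kernel))) (by simp) (by decide +kernel)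
  exact ActsL.cl_eq (d := 12) inj6 le_rfl [(80, 2, 2), (1, 4, 1)] (gs := [s5, thL, q5]) (a57.word [0, 6, 1]) (H := C5) (by
    simp only [List.forall_mem_cons]
    exact ⟨⟨LJ57 _ (by simp), mem_Cz.2 (by simpa [wordG] using w57 [0, 1] [1, 0] (by decide +kernel))⟩,
      ⟨LJ57 _ (by simp), mem_Cz.2 (mem_Cz.1 q5_MJ.2).symm⟩, ⟨LJ57 _ (by simp), self_mem_Cz _⟩, by simp⟩)
    ((half_MJ (S := C5) inf_le_left).trans (by omega)) (by decide +kernel)
theorem C7_eq : cl [s7, thL, q7] = C7 ∧ Nat.card C7 = 42 := by
  have := E6.finite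
  have m : ∀ k ∈ C7, k * q7 = q7 * k := fun k a => mem_Cz.1 a.2
  have i : ∀ k ∈ C7, ∀ y ∈ SJ, k y ∈ SJ := fun k a _ => invJ a.1
  exact ActsL.cl_eq (d := 12) inj6 le_rfl [(1, 6, 3)] (gs := [s7, thL, q7]) (a57.word [3, 6, 4]) (H := C7) (by
    simp only [List.forall_mem_cons]
    exact ⟨⟨LJ57 _ (by simp), mem_Cz.2 (by simpa [wordG] using w57 [3, 4] [4, 3] (by decide +kernel))⟩,
      ⟨LJ57 _ (by simp), mem_Cz.2 (mem_Cz.1 q7_MJ.2).symm⟩, ⟨LJ57 _ (by simp), self_mem_Cz _⟩, by simp⟩)
    (E6.lin_bound (F := []) (H := C7) [128, 256, 64, 960, 32, 16, 1904, 8, 4, 2, 2984, 1]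
    [(1180, 21, [(3, 0, true), (4, 0, true), (1, 0, true)]), (121, 2, [(0, 0, true), (3, 1, true), (4, 0, true), (3, 0, false), (0, 1, false)]), (15, 1, [(0, 1, true), (0, 2, true), (4, 3, true), (1, 0, true), (3, 0, false), (4, 0, false), (4, 1, false), (4, 2, false), (3, 3, false)]), (2, 1, [(0, 5, true), (3, 5, true), (1, 7, true), (1, 2, true), (1, 1, true), (4, 5, true), (3, 0, false), (3, 2, false), (3, 6, false)]), (1, 1, [(0, 5, true), (0, 12, true), (3, 13, true), (1, 10, true), (4, 1, false)]), (4, 1, [(3, 11, true), (4, 12, true), (3, 24, true), (3, 22, true)]), (16, 1, [(3, 1, true), (0, 23, true), (0, 21, true), (4, 17, true)]), (32, 1, [(4, 21, true), (3, 50, true), (3, 124, true), (1, 30, true)]), (128, 1, [(4, 3, true), (3, 173, true), (0, 51, true), (4, 13, true)]), (256, 1, [(4, 5, true), (3, 150, true), (4, 338, true), (1, 2, true)]), (512, 1, [(3, 10, true), (0, 50, true), (3, 520, true), (1, 5, true)]), (2048, 1, [(3, 3, true), (4, 388, true), (0, 770, true), (1, 8, true)])]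
      (qinvJK inf_le_left (qinv_px q7_c (by decide) m [0, 1] i (Y := Y71) (by decide +kernel))
        (qinv_px q7_c (by decide) m [0, 2] i (Y := Y72) (by decide +kernel))) (by simp) (by decide +kernel)) (by decide +kernel)
theorem not_MJ {vs : List (AL V6)} {Vs : List Net} (u : ActsL 4096 v6 vs Vs) (c : neL 4096 (appendL Vs [Nθ]) (appendL [Nθ] Vs) = true) :
    vs.prod ∉ MJ := fun a => lne inj6 (ActsL.app u (.cons th_a .nil)) (ActsL.app (.cons th_a .nil) u) c (by simpa using mem_Cz.1 a.2)
theorem sqL {vs : List (AL V6)} {Vs : List Net} (u : ActsL 4096 v6 vs Vs) (a : vs.prod * vs.prod = 1) : neL 4096 (appendL Vs Vs) [] = false :=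
  Bool.eq_false_iff.2 fun c => lne inj6 (ActsL.app u u) .nil c (by simpa using a)
theorem fx5 {u : V6} (a : q5 u = u) : (u ∈ SJ → u ∈ Wv (v6 1571)) ∧ (u ∈ SK → u ∈ [80, 160, 240, 1667, 3009, 3394].map v6) ∧
    (u ≠ 0 → ∃ f, q5 f = f ∧ pol q6 f u = 1) ∧ ((∀ f ∈ Wv (v6 1571), pol q6 u f = 0) → u ∈ Wv (v6 1571)) := by
  obtain ⟨i, b, rfl⟩ := E6.surj u
  have e := (E6.eq_iff (xsum_lt (by decide) _) b).1 ((q5_c i b).symm.trans a)
  have : i ∈ [0, 80, 160, 240, 1571, 1651, 1667, 1747, 2865, 2913, 2961, 3009, 3346, 3394, 3506, 3554] := of_decide_eq_true ((allN_iff _ _).1 (by decide +kernel : (allN 4096 fun i =>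
    decide (xsum cq5 i = i → i ∈ [0, 80, 160, 240, 1571, 1651, 1667, 1747, 2865, 2913, 2961, 3009, 3346, 3394, 3506, 3554])) = true) i b) e
  have k : ∀ f ∈ [80, 160, 1571, 2865], q5 (v6 f) = v6 f := fun f c => (q5_c f (by revert f; decide)).trans (congrArg _ (by revert f; decide))
  have := (by decide +kernel : ∀ i ∈ [0, 80, 160, 240, 1571, 1651, 1667, 1747, 2865, 2913, 2961, 3009, 3346, 3394, 3506, 3554], (XJ.testBit i → v6 i ∈ Wv (v6 1571)) ∧
    (XK.testBit i → i ∈ [80, 160, 240, 1667, 3009, 3394]) ∧ (v6 i ≠ 0 → ∃ f ∈ [80, 160, 1571, 2865], pol q6 (v6 f) (v6 i) = 1) ∧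
    (pol q6 (v6 i) (v6 1571) = 0 → pol q6 (v6 i) (th • v6 1571) = 0 → v6 i ∈ Wv (v6 1571))) i this
  exact ⟨fun c => this.1 ((memJ b).1 c), fun c => List.mem_map_of_mem (this.2.1 ((memK b).1 c)),
    fun c => (this.2.2.1 c).elim fun f d => ⟨_, k f d.1, d.2⟩, fun c => this.2.2.2 (c _ ⟨1, one_smul ..⟩) (c _ ⟨th, rfl⟩)⟩
theorem W5_fx {u : V6} (a : u ∈ Wv (v6 1571)) : q5 u = u ∧ (u ≠ 0 → u ∈ SJ ∧ u ∉ U6s) ∧ ∀ v ∈ Wv (v6 1571), pol q6 u v = 0 := by
  obtain ⟨t, rfl⟩ := a
  refine and_assoc.1 ⟨?_, by rintro _ ⟨s, rfl⟩; revert s t; decide +kernel⟩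
  obtain ⟨i, b, e⟩ : ∃ i ∈ [0, 1571, 2865, 3346], v6 i = t • v6 1571 := by revert t; decide +kernel
  rw [← e]
  clear e
  refine ⟨(q5_c i (by revert i; decide)).trans (congrArg _ (by revert i; decide)), ?_⟩
  rw [memJ (by revert i; decide)]; revert i; decide +kernel
theorem card_W5 : Nat.card (Wv (v6 1571)) = 4 := (Nat.card_eq_of_bijective (fun t : GF4 => (⟨_, t, rfl⟩ : Wv (v6 1571))) ⟨fun s t e =>
  (by decide +kernel : ∀ s t : GF4, s • v6 1571 = t • v6 1571 → s = t) s t (congrArg Subtype.val e), by
    rintro ⟨_, t, rfl⟩; exact ⟨t, rfl⟩⟩).symm.trans Nat.card_eq_fintype_card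
theorem card_fx5 : Nat.card (fx q5) = 16 := by
  refine Eq.trans (congrArg Set.ncard (show (fx q5 : Set V6) = mset 4096 v6 0x4000000000004000000000000000000000000000400000000000400000000000000000000000000000000000000000000000000000000000000000000000000000000000200000000000200000000000200000000000200000000000000000000000000000000000000000000000000000000000000000000000000000000000000000000000000000000000000000000000000000000000000000000000000000000000000000000000000000000000000000000000000000000000000000000000000000000000000000000000000000000000000000000000000000000000000080000000000000000000800080000000000000000000800000000000000000000000000000000000000000000000000000000000000000000000000000000000000000000000000000000000000000000000000000000000000000000000000000000000000000000000000000000000000000000000000000000000000000000000000000000000000000000000000000000000000000000000000000000000000000000000000000000000000000000000000000000000000000001000000000000000000010000000000000000000100000000000000000001 from Set.ext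 (all6 fun i b => ?_)))
    ((ncard_mset_pop (d := 12) inj6 le_rfl _).trans (by decide +kernel))
  rw [mem_mset inj6 b, ← tb_eq, ← of_decide_eq_true ((allN_iff _ _).1 (by decide +kernel : (allN 4096 fun i =>
    decide (decide (xsum cq5 i = i) = tb 0x4000000000004000000000000000000000000000400000000000400000000000000000000000000000000000000000000000000000000000000000000000000000000000200000000000200000000000200000000000200000000000000000000000000000000000000000000000000000000000000000000000000000000000000000000000000000000000000000000000000000000000000000000000000000000000000000000000000000000000000000000000000000000000000000000000000000000000000000000000000000000000000000000000000000000000000080000000000000000000800080000000000000000000800000000000000000000000000000000000000000000000000000000000000000000000000000000000000000000000000000000000000000000000000000000000000000000000000000000000000000000000000000000000000000000000000000000000000000000000000000000000000000000000000000000000000000000000000000000000000000000000000000000000000000000000000000000000000000001000000000000000000010000000000000000000100000000000000000001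 i)) = true) i b), decide_eq_true_eq, ← E6.eq_iff (xsum_lt (by decide) _) b]
  exact Eq.congr_left (q5_c i b)
theorem K5 : v6 80 ∈ SK ∧ q5 (v6 80) = v6 80 := ⟨(memK (by norm_num)).2 (by decide +kernel), q5_c 80 (by norm_num)⟩
def pc5 : PcCert := [(2, [], [[0, 0], [1]]),
    (3, [], [[0]]),
    (5, [], [])]
def pc7 : PcCert := [(2, [], [[0, 0], [1]]),
    (3, [], [[0]]),
    (7, [], [])]
theorem inv5 {g : AL V6} (a : g ∈ C5) (b : g * g = 1) (c : g ≠ 1) :
    g ∉ MJ ∧ (∃ f, pol q6 f (g f) = 1) ∧ ∀ u ∈ SK, q5 u = u → g u ≠ u := by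
  obtain ⟨_, vs, Vs, u, rfl, w⟩ := (a57.word [0, 6, 1]).pc_forall fa6 (K := 12) (C := pc5) (by decide +kernel) (p := fun (_ : ℕ) (Vs : List Net) =>
    or' (neL 4096 (appendL Vs Vs) []) (or' (eqL 12 4096 Vs []) (and' (neL 4096 (appendL Vs [Nθ]) (appendL [Nθ] Vs))
      (decide ((∃ f ∈ ([1, 2] : List ℕ), pol q6 (v6 f) (v6 (fnL Vs f)) = 1) ∧
        ∀ i ∈ ([80, 160, 240, 1667, 3009, 3394] : List ℕ), fnL Vs i ≠ i)))))
    (by decide +kernel) (C5_eq.1.ge a)
  simp only [or'_eq, and'_eq, sqL u b, Bool.false_or, Bool.or_eq_true, Bool.and_eq_true, decide_eq_true_eq] at w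
  obtain ⟨w1, ⟨f, f1, f2⟩, w3⟩ := w.resolve_left fun w => c (fa6.leq 12 u .nil w)
  refine ⟨not_MJ u w1, ⟨v6 f, (congrArg (pol q6 (v6 f)) (u.prod_act (i := f) (by clear f2; revert f; decide))).trans f2⟩, fun y d e o => ?_⟩
  obtain ⟨i, i1, rfl⟩ := List.mem_map.1 ((fx5 e).2.1 d)
  have l : i < 4096 := by clear d e o; revert i; decide
  exact w3 i i1 (inj6 (fnL_lt (fun _ => u.ok) l) l ((u.prod_act l).symm.trans o))
theorem fix5 {g : AL V6} (a : g ∈ C5) (b : ∀ u ∈ Wv (v6 1571), g u = u) : g ∈ zpowers q5 := by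
  obtain ⟨_, vs, Vs, u, rfl, w⟩ := (a57.word [0, 6, 1]).pc_forall fa6 (K := 12) (C := pc5) (by decide +kernel) (p := fun (_ : ℕ) (Vs : List Net) =>
    or' (decide (¬ ∀ i ∈ ([1571, 2865] : List ℕ), fnL Vs i = i)) (anyN 5 fun i => eqL 12 4096 Vs (wordN [n57 1] (List.replicate i 0))))
    (by decide +kernel) (C5_eq.1.ge a)
  simp only [or'_eq, Bool.or_eq_true, decide_eq_true_eq, anyN_iff] at w
  obtain ⟨i, -, w⟩ := w.resolve_left fun w => w fun i c => by
    have l : i < 4096 := by revert i; decide
    exact inj6 (fnL_lt (fun _ => u.ok) l) l ((u.prod_act l).symm.trans (b _ (by revert i; decide +kernel)))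
  rw [fa6.leq 12 u ((a57.word [1]).word _) w]
  exact wordG_prod_mem (by simp [wordG]) _
theorem inv7 {g : AL V6} (a : g ∈ C7) (b : g * g = 1) (c : g ≠ 1) : g ∉ MJ ∧ g ∈ [s7, s7 * thL, thL * s7] := by
  obtain ⟨_, vs, Vs, u, rfl, w⟩ := (a57.word [3, 6, 4]).pc_forall fa6 (K := 12) (C := pc7) (by decide +kernel) (p := fun (_ : ℕ) (Vs : List Net) =>
    or' (neL 4096 (appendL Vs Vs) []) (or' (eqL 12 4096 Vs []) (and' (neL 4096 (appendL Vs [Nθ]) (appendL [Nθ] Vs))
      (or' (eqL 12 4096 Vs [n57 3]) (or' (eqL 12 4096 Vs [n57 3, Nθ]) (eqL 12 4096 Vs [Nθ, n57 3]))))))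
    (by decide +kernel) (C7_eq.1.ge a)
  simp only [or'_eq, and'_eq, sqL u b, Bool.false_or, Bool.or_eq_true, Bool.and_eq_true] at w
  obtain ⟨w1, w⟩ := w.resolve_left fun w => c (fa6.leq 12 u .nil w)
  refine ⟨not_MJ u w1, ?_⟩
  rcases w with w | w | w
  exacts [by simpa [wordG] using .inl (fa6.leq 12 u (a57.word [3]) w), by simpa [wordG] using .inr (.inl (fa6.leq 12 u (a57.word [3, 6]) w)),
    by simpa [wordG] using .inr (.inr (fa6.leq 12 u (a57.word [6, 3]) w))]
theorem fx7 {u : V6} (a : q7 u = u) : u = 0 := by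
  obtain ⟨i, b, rfl⟩ := E6.surj u
  rw [of_decide_eq_true ((allN_iff _ _).1 (by decide +kernel : (allN 4096 fun i => decide (xsum cq7 i = i → i = 0)) = true) i b)
    ((E6.eq_iff (xsum_lt (by decide) _) b).1 ((q7_c i b).symm.trans a))]
  exact E6.zero
theorem ninv7 {g : AL V6} (a : g ∈ LJ) : g * q7 * g⁻¹ ≠ q7 ^ 6 := fun e => by
  have k : ∀ n v, g ((q7 ^ n) v) = (q7 ^ (6 * n)) (g v) := fun n v => by
    rw [pow_mul, ← e, conj_pow]; simp
  obtain ⟨i, b, c⟩ := E6.surj (g (v6 278))
  have d := congrArg g (px_spec q7_c (by decide) [0, 1, 3] (a := 278) (by norm_num)).2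
  have f := (px_spec q7_c (by decide) [0, 6, 18] b).2
  simp only [List.map_cons, List.sum_cons, map_add, k, List.map_nil, List.sum_nil, map_zero] at d f
  rw [show px cq7 [0, 1, 3] 278 = 0 by decide +kernel, E6.zero, map_zero, show E6.e 278 = v6 278 from rfl, ← c] at d
  exact of_decide_eq_true ((allN_iff _ _).1 (by decide +kernel : (allN 4096 fun i =>
    decide (tb XK i = true → px cq7 [0, 6, 18] i ≠ 0)) = true) i b) (by
      rw [tb_eq, ← memK b]; exact (show v6 i = _ from c) ▸ invK a ((memK (by norm_num)).2 (by decide +kernel)))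
    ((E6.eq_iff (px_spec q7_c (by decide) _ b).1 (by norm_num)).1 (f.symm.trans (d.trans E6.zero.symm)))
end
end H13
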