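import Cfsg.Agent.H13.JI
import Cfsg.Agent.H13.J57
/-! Explicit elements of `M24` acting on the module of order `2 ^ 11`. -/
set_option autoImplicit false
namespace H13
noncomputable section
open MulAction Cfsg H27 Subgroup
open scoped Pointwise
section
variable {V : Type*} [AddCommGroup V] {d : ℕ} (E : BE V d)
def BE.tw (g : AL V) : BE V d where
  e a := g (E.e a)
  xor a b := by rw [E.xor, map_add]
  surj v := (E.surj (g⁻¹ v)).imp fun a b => ⟨b.1, by rw [b.2]; simp⟩
  inj a b c := E.inj a b ((map_eq_zero_iff _ g.injective).1 c)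
theorem BE.mset_tw (g : AL V) (n X : ℕ) : mset n (E.tw g).e X = g • mset n E.e X := (Set.image_image g E.e _).symm
variable {E}
theorem cols_tw {g k : AL V} {A : List ℕ} (c : E.Cols g A) : (E.tw k).Cols (k * g * k⁻¹) A := fun a b => by
  simpa [BE.tw] using c a b
theorem wEq {gs : List (AL V)} {As : List (List ℕ)} (h : List.Forall₂ E.Cols gs As) (u v : List ℕ)
    (c : (∀ A ∈ As, ∀ a ∈ A, a < 2 ^ d) ∧ (∀ i ∈ u, i < As.length) ∧ (∀ i ∈ v, i < As.length) ∧
      ∀ k < d, evw As u (2 ^ k) = evw As v (2 ^ k)) : (wordG gs u).prod = (wordG gs v).prod :=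
  LinearEquiv.ext (E.top_of (K := AddMonoidHom.eqLocus (wordG gs u).prod.toAddEquiv.toAddMonoidHom
    (wordG gs v).prod.toAddEquiv.toAddMonoidHom) fun k l => (BE.evw_spec h c.1 u c.2.1 (Nat.pow_lt_pow_right one_lt_two l)).2.trans
      ((congrArg _ (c.2.2.2 k l)).trans (BE.evw_spec h c.1 v c.2.2.1 (Nat.pow_lt_pow_right one_lt_two l)).2.symm))
def stL (d X : ℕ) (A : List ℕ) : Bool := allN (2 ^ d) fun a => force (xsum A a) fun b => decide (b < 2 ^ d ∧ tb X b = tb X a)
theorem cols_st {g : AL V} {A : List ℕ} (c : E.Cols g A) {X : ℕ} (k : stL d X A = true) :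
    g ∈ stabilizer (AL V) (mset (2 ^ d) E.e X) := by
  simp only [stL, allN_iff, force_eq, decide_eq_true_eq, tb_eq] at k
  refine mem_stabilizer_set.2 (E.forall_iff.2 fun i b => ?_)
  rw [c i b, mem_mset E.injOn (k i b).1, mem_mset E.injOn b, (k i b).2]
theorem qinv_st {H : Subgroup (AL V)} {X : ℕ} (a : H ≤ stabilizer (AL V) (mset (2 ^ d) E.e X)) : QInv H (2 ^ d) E.e X :=
  qinv_of E.injOn fun _ b y => (mem_stabilizer_set.1 (a b) y).2
variable (E) in
theorem el_ok {A : List ℕ} (c : (allN (2 ^ d) fun a => force (xsum A a) fun b => decide (b < 2 ^ d ∧ (b = 0 → a = 0))) = true) :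
    E.Cols (E.el A) A := by
  simp only [allN_iff, force_eq, decide_eq_true_eq] at c
  have := E.finite
  refine BE.el_cols (Finite.injective_iff_surjective.1 ((injective_iff_map_eq_zero _).2 (E.forall_iff.2 fun a b e => ?_)))
  rw [(c a b).2 (E.inj _ (c a b).1 ((E.lin_e A b).symm.trans e)), E.zero]
end
variable {W : Type*} [AddCommGroup W] (E : BE W 11)
def elChk (A : List ℕ) : Bool :=
  and' (allN (2 ^ 11) fun a => force (xsum A a) fun b => decide (b < 2 ^ 11 ∧ (b = 0 → a = 0))) (stL 11 XD A)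
theorem el24 {As : List (List ℕ)} (c : allL As elChk = true) : List.Forall₂ E.Cols (As.map E.el) As ∧ ∀ g ∈ As.map E.el, g ∈ G24 E := by
  simp only [allL_iff, elChk, and'_eq, Bool.and_eq_true] at c
  exact ⟨List.forall₂_map_left_iff.2 (List.forall₂_same.2 fun A a => el_ok E (c A a).1),
    List.forall_mem_map.2 fun A a => cols_st (el_ok E (c A a).1) (c A a).2⟩
theorem card_G24' : Nat.card (G24 E) = 244823040 := (iso24 E).2.elim fun ψ _ => (Nat.card_congr ψ.toEquiv).trans card_MM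
theorem tw24 {g : AL W} (a : g ∈ G24 E) : G24 (E.tw g) = G24 E ∧ mset 2048 (E.tw g).e XZ = mset 2048 E.e XZ := by
  have e : mset 2048 (E.tw g).e XD = mset 2048 E.e XD := (E.mset_tw ..).trans a
  exact ⟨by rw [G24, e, G24], Set.ext fun w => by rw [mem_XZ, mem_XZ, e]⟩
def c24 : List (List ℕ) := [[1742, 1434, 1371, 1297, 176, 1607, 1517, 887, 845, 762, 42],
  [1, 43, 127, 8, 24, 32, 97, 161, 1620, 594, 852],
  [233, 1780, 1988, 8, 25, 1940, 433, 1250, 1578, 1186, 971],
  [706, 1013, 1876, 240, 32, 710, 1034, 1780, 1463, 1671, 1988],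
  [514, 530, 746, 1671, 1159, 489, 636, 1839, 1362, 43, 1036],
  [1, 3, 4, 8, 16, 32, 64, 128, 360, 573, 1029],
  [1, 4, 6, 16, 24, 64, 96, 128, 256, 512, 1024],
  [11, 8, 1050, 2, 1038, 42, 991, 128, 1725, 1463, 1024]]
theorem ok24 : List.Forall₂ E.Cols (c24.map E.el) c24 ∧ ∀ g ∈ c24.map E.el, g ∈ G24 E := el24 E (by decide +kernel)
abbrev e24 (i : ℕ) : AL W := E.el (nth [] c24 i)
theorem e24_c {i : ℕ} (a : nth [] c24 i ∈ c24 := by decide) : E.Cols (e24 E i) (nth [] c24 i) ∧ e24 E i ∈ G24 E :=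
  ⟨List.forall₂_same.1 (List.forall₂_map_left_iff.1 (ok24 E).1) _ a, (ok24 E).2 _ (List.mem_map_of_mem a)⟩
theorem w24 (u v : List ℕ) (c : (∀ A ∈ c24, ∀ a ∈ A, a < 2 ^ 11) ∧ (∀ i ∈ u, i < c24.length) ∧ (∀ i ∈ v, i < c24.length) ∧
    ∀ k < 11, evw c24 u (2 ^ k) = evw c24 v (2 ^ k)) :
    (wordG [e24 E 0, e24 E 1, e24 E 2, e24 E 3, e24 E 4, e24 E 5, e24 E 6, e24 E 7] u).prod =
      (wordG [e24 E 0, e24 E 1, e24 E 2, e24 E 3, e24 E 4, e24 E 5, e24 E 6, e24 E 7] v).prod := wEq (ok24 E).1 u v c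
theorem ord_e7 : orderOf (e24 E 2) = 7 := haveI : Fact (Nat.Prime 7) := ⟨by norm_num⟩
  orderOf_eq_prime (by simpa [wordG, pow_succ, mul_assoc] using w24 E [2, 2, 2, 2, 2, 2, 2] [] (by decide +kernel))
    fun e => absurd ((E.eq_iff (by decide) (by norm_num)).1 (((e24_c E).1 1 (by norm_num)).symm.trans (LinearEquiv.congr_fun e _))) (by decide)
theorem cm7 : e24 E 0 * e24 E 2 = e24 E 2 * e24 E 0 ∧ e24 E 1 * e24 E 2 = e24 E 2 * e24 E 1 :=
  ⟨by simpa [wordG] using w24 E [0, 2] [2, 0] (by decide +kernel),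
    by simpa [wordG] using w24 E [1, 2] [2, 1] (by decide +kernel)⟩
theorem le42 : 42 ≤ Nat.card ↥(G24 E ⊓ Cz (e24 E 2)) :=
  have := E.finite
  (BE.actsL_ful (List.forall₂_take 3 (ok24 E).1) (Ns := mapL (lnet 11) [[0x2, 0x804, 0x1003, 0x1817, 0x202a, 0x2810, 0x3092, 0x3973, 0x409a, 0x49c7, 0x505d, 0x4c00, 0x3c00, 0x3180, 0x29c0, 0x2720, 0x1c30, 0x11e8, 0xf44, 0x74a],
    [0x1802, 0x2004, 0x2802, 0x3004, 0x4200, 0x4c00, 0x5300, 0x4c00, 0x4200, 0x3200, 0x2ac0, 0x2200, 0x1a10, 0x1500, 0xa04, 0xc6],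
    [0x804, 0x1010, 0x1801, 0x2045, 0x2807, 0x3107, 0x3833, 0x4256, 0x4982, 0x5002, 0x4400, 0x3d00, 0x3300, 0x2840, 0x20e0, 0x1940, 0x1050, 0xfa4, 0x450]]) (by decide +kernel)).le_card
    (d := 11) E.injOn le_rfl [(8, 2, 1), (1297, 1, 1), (1, 6, 1)] (by
      change ∀ g ∈ [e24 E 0, e24 E 1, e24 E 2], _
      simp only [List.forall_mem_cons]
      exact ⟨⟨(e24_c E).2, mem_Cz.2 (cm7 E).1⟩, ⟨(e24_c E).2, mem_Cz.2 (cm7 E).2⟩, ⟨(e24_c E).2, self_mem_Cz _⟩, by simp⟩) (by decide +kernel)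
theorem fx_e7 {w : W} : e24 E 2 w = w ↔ w ∈ [0, 8, 1297, 1305].map E.e := by
  obtain ⟨a, b, rfl⟩ := E.surj w
  refine ((Eq.congr_left ((e24_c E).1 a b)).trans (E.eq_iff (xsum_lt (by decide) _) b)).trans (Iff.trans (of_decide_eq_true
    ((allN_iff _ _).1 (by decide +kernel : (allN 2048 fun a => decide (xsum (nth [] c24 2) a = a ↔ a ∈ [0, 8, 1297, 1305])) = true) a b))
      ⟨List.mem_map_of_mem, fun c => ?_⟩)
  obtain ⟨i, c, e⟩ := List.mem_map.1 c
  exact (E.eq_iff (by clear e; revert i; decide) b).1 e ▸ c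
theorem fix_e7 {g : AL W} (a : g ∈ G24 E) (b : g ∈ Cz (e24 E 2)) (c : ∀ w, e24 E 2 w = w → g w = w) : g ∈ zpowers (e24 E 2) := by
  have := E.finite
  let H := G24 E ⊓ Cz (e24 E 2) ⊓ fixS (AL W) ([8, 1297].map E.e)
  have m : ∀ k ∈ H, k * e24 E 2 = e24 E 2 * k := fun k a => mem_Cz.1 a.1.2
  have i : ∀ k ∈ H, ∀ y ∈ mset (2 ^ 11) E.e XD, k y ∈ mset (2 ^ 11) E.e XD := fun k a y => ((mem_G24 E).1 a.1.1 y).2
  have k : ∀ x ∈ [8, 1297].map E.e, e24 E 2 x = x := fun x a => (fx_e7 E).2 (by simp at a ⊢; tauto)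
  have l : Nat.card H ≤ 7 := E.lin_bound (Cs := [XD, 1, 0x6a6ac0c01010848432322828202031311010454502029090c1c14444888800009090000010104242000008080000000040402a2a5151000000000404080802020101838300000202202006060404010114140000000004040404424209090303000000004040000015150000010108081010404080800000040421215656000000006060818120200404000000000000151580800000a2a20808000001010404c0c095954848202014143131323210108a8a2020606001018888c2c200004444000000000000808000002a2a040402028080202000004040121208080000a9a94343020201010000090910100202080800002828080800008181080803030606,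
    0x10100100202000020400404000088080200002020010010108088000040400400400404000088080101001002020000208088000040400402000020200100101808008004040000402002020000110104000040400800808010110000202002002002020000110108080080040400004010110000202002040000404008008080080080840000404020200200101100040400004808008000001101002002020020200200101100000800808400004040001101002002020404000048080080000100101200002020404004008088000202000021010010000088080040040400404004008088000001001012000020200088080040040402020000210100100]) (F := [8, 1297]) (H := H) [64, 32, 16, 512, 8, 320, 4, 192, 2, 1, 1098]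
    [(33, 7, [(3, 0, true), (0, 0, true), (3, 1, false), (1, 1, false)]), (129, 1, [(3, 0, true), (0, 2, true), (0, 3, true), (3, 4, true)]), (1, 1, [(0, 1, true), (0, 2, true), (2, 0, true), (0, 3, true)]), (2, 1, [(0, 0, true), (0, 1, true), (0, 26, true), (2, 4, true)]), (4, 1, [(0, 0, true), (0, 2, true), (0, 1, true), (2, 12, true)]), (16, 1, [(3, 1, true), (0, 0, true), (0, 4, true), (3, 9, false)]), (64, 1, [(3, 6, true), (0, 37, true), (0, 8, true)]), (256, 1, [(3, 7, true), (0, 135, true), (0, 78, true)]), (512, 1, [(3, 41, true), (0, 554, true), (0, 20, true)])]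
    (by
      simp only [List.forall_mem_cons]
      exact ⟨qinv_of E.injOn i, E.qinv_one _, qinv_px (e24_c E).1 (by decide) m [0, 1] i (by decide +kernel),
        qinv_px (e24_c E).1 (by decide) m [0, 1, 3] i (by decide +kernel), by simp⟩)
    (fun b a => ⟨by revert b; decide, fun g c => c.2 _ (List.mem_map_of_mem a)⟩) (by decide +kernel)
  exact (eq_of_le_of_card_ge (zpowers_le.2 (show e24 E 2 ∈ H from ⟨⟨(e24_c E).2, self_mem_Cz _⟩, k⟩))
    (by rwa [Nat.card_zpowers, ord_e7])).ge ⟨⟨a, b⟩, fun x d => c x (k x d)⟩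
theorem f20_24 : orderOf (e24 E 3) = 5 ∧ e24 E 4 ^ 4 = 1 ∧ e24 E 4 * e24 E 3 * (e24 E 4)⁻¹ = e24 E 3 ^ 2 :=
  haveI : Fact (Nat.Prime 5) := ⟨by norm_num⟩
  ⟨orderOf_eq_prime (by simpa [wordG, pow_succ, mul_assoc] using w24 E [3, 3, 3, 3, 3] [] (by decide +kernel))
    fun e => absurd ((E.eq_iff (by decide) (by norm_num)).1 (((e24_c E).1 1 (by norm_num)).symm.trans (LinearEquiv.congr_fun e _))) (by decide),
    by simpa [wordG, pow_succ, mul_assoc] using w24 E [4, 4, 4, 4] [] (by decide +kernel),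
    mul_inv_eq_iff_eq_mul.2 (by simpa [wordG, pow_two, mul_assoc] using w24 E [4, 3] [3, 3, 4] (by decide +kernel))⟩
def XW : ℕ := 0xc0300c03
def XO : ℕ := 0x565656a900000000000000000000000000000000000000000000000000000000000000000000000000000000000000000000000000000000000000000000000000000000000000000000000000000000000000000000000000000000000000000000000000000000000000000000000000000000000000000000000000000000030303fc
def HT : Subgroup (AL W) := G24 E ⊓ stabilizer _ (mset (2 ^ 11) E.e XW) ⊓ stabilizer _ (mset (2 ^ 11) E.e XO) ⊓ stabilizer _ (E.e 128)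
theorem card_HT : Nat.card (HT E) ≤ 168 := E.lin_bound (Cs := [XD, 1, XW, XO]) (F := [128]) (H := HT E) [512, 128, 8, 256, 32, 64, 16, 1024, 4, 2, 1]
    [(1, 7, [(2, 0, true), (1, 0, false)]), (8, 3, [(3, 0, true), (0, 3, true)]), (2, 2, [(2, 1, true), (0, 0, true), (1, 1, false), (1, 3, false)]), (32, 1, [(0, 0, true), (0, 3, true), (0, 10, true), (0, 4, true), (3, 0, false)]), (16, 2, [(3, 0, true), (0, 17, true), (2, 2, false)]), (64, 1, [(0, 0, true), (0, 7, true), (0, 13, true), (3, 0, false), (0, 32, false)]), (4, 2, [(2, 2, true), (0, 0, true), (0, 6, false)]), (256, 1, [(0, 0, true), (0, 12, true), (0, 81, true), (0, 135, true)]), (512, 1, [(0, 0, true), (0, 9, true), (0, 15, true), (0, 40, true)]), (1024, 1, [(3, 0, true), (0, 7, true), (0, 29, true)])]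
  (by
    simp only [List.forall_mem_cons]
    exact ⟨qinv_st fun _ a => a.1.1.1, E.qinv_one _, qinv_st fun _ a => a.1.1.2, qinv_st fun _ a => a.1.2, by simp⟩)
  (List.forall_mem_singleton.2 ⟨by norm_num, fun _ a => a.2⟩) (by decide +kernel)
theorem mem_HT {i : ℕ} (a : i ∈ [5, 6, 7]) : e24 E i ∈ HT E := by
  have c := e24_c E (i := i) (by revert i; decide)
  exact ⟨⟨⟨c.2, cols_st c.1 (by clear c; revert i; decide +kernel)⟩, cols_st c.1 (by clear c; revert i; decide +kernel)⟩,
    (c.1 _ (by norm_num)).trans (congrArg _ (by clear c; revert i; decide))⟩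
theorem mem_XW {w : W} : w ∈ mset (2 ^ 11) E.e XW ↔ ∃ m < 8, E.e (xsum [1, 10, 20] m) = w := by
  obtain ⟨a, b, rfl⟩ := E.surj w
  rw [mem_mset E.injOn b, ← tb_eq, of_decide_eq_true ((allN_iff _ _).1 (by decide +kernel : (allN 2048 fun a =>
    decide (tb XW a = true ↔ ∃ m < (8 : ℕ), xsum [1, 10, 20] m = a)) = true) a b)]
  exact exists_congr fun m => and_congr_right fun _ => (E.eq_iff (xsum_lt (by decide) _) b).symm
end
end H13
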