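import Cfsg.Agent.H13.J6b
/-! A Sylow three subgroup of `3.M22:2` and its normaliser. -/
set_option autoImplicit false
namespace H13
noncomputable section
open MulAction Cfsg H27 Subgroup H22
open scoped Pointwise

theorem nrm_cl {G : Type*} [Group G] {gs : List G} [Finite (cl gs)] {g : G} (h : ∀ s ∈ gs, g * s * g⁻¹ ∈ cl gs) :
    g ∈ normalizer (cl gs : Set G) :=
  mem_normalizer_fintype fun _ a => cl_le (H := (cl gs).comap (MulAut.conj g).toMonoidHom) h a
def l3 : List (List Nat) := [[0x1001, 0x200b, 0x3005, 0x402b, 0x5015, 0x6125, 0x723b, 0x804b, 0x908e, 0xa290, 0xb7e0, 0xa800, 0x9800, 0x8400, 0x7500, 0x6f00, 0x54c0, 0x4c80, 0x3a80, 0x2540, 0x1fc4, 0x54a],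
  [0x2008, 0x3004, 0x400b, 0x501d, 0x610f, 0x7245, 0x828b, 0x91c6, 0xa25d, 0xb3f6, 0x9c00, 0x8800, 0x7400, 0x6880, 0x5c80, 0x44e0, 0x3700, 0x2e00, 0x1cf4, 0x8ac]]
def u3 : AL V6 := nel (nth [] l3 0)
def w3 : AL V6 := nel (nth [] l3 1)
def n3 : List Net := [lnet 12 (nth [] l3 0), lnet 12 (nth [] l3 1), Nθ]
theorem a3 : ActsL 4096 v6 [u3, w3, thL] n3 := .cons (nel_a (by decide +kernel)) (.cons (nel_a (by decide +kernel)) (.cons th_a .nil))
def S3 : Subgroup (AL V6) := cl [u3, w3, thL]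
theorem S3_NJ : S3 ≤ NJ := cl_le (allA a3 nj_of (by decide +kernel))
theorem S3_MJ : S3 ≤ MJ := cl_le (allA a3 mj_of (by decide +kernel))
def pc3 : PcCert := [(3, [], [[1, 1, 0], [1]]),
    (3, [], [[0]]),
    (3, [], [])]
theorem pc3_chk : pcChk 12 4096 pc3 n3 = true := by decide +kernel
theorem card_S3 : Nat.card S3 = 3 ^ 3 :=
  have := E6.finite
  le_antisymm (a3.pc (A := ⊤) (fun g _ => fa6 g) (fun _ _ => trivial) pc3_chk).2.1
    ((a3.word [1, 2, 0]).le_card (d := 12) inj6 le_rfl [(5, 2, 2), (1, 2, 1)] (wordG_mem (fun _ => mem_cl) _) (by decide +kernel))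
theorem S3_exp {g : AL V6} (h : g ∈ S3) : g ^ 3 = 1 := by
  obtain ⟨_, vs, Vs, u, rfl, w⟩ := a3.pc_forall fa6 pc3_chk (p := fun _ Vs => eqL 12 4096 (powL Vs 3) []) (by decide +kernel) h
  obtain ⟨ks, a, b⟩ := u.powL 3
  exact b ▸ fa6.leq 12 a .nil w
theorem nc3 : u3 * w3 ≠ w3 * u3 := by simpa [wordG] using lne inj6 (a3.word [0, 1]) (a3.word [1, 0]) (by decide +kernel)
def X3 : Nat := 0x8420000020000000000000a00000200020000000040800000000200000000c2100000080002000000000000000004000000000010002000000020000020000000000400010000004000200040000000200000000000008200020000020100000000800000000000200000000124800008000200000000060000002000000000000000000000080400100000002000002000000080002000818008000000000000024080000000000080084200000000000000000c000080000000000080080610008000000010000800000004000000000000000000002000080000800000000000004000800a00000000004000000082184000000000000000000000080000000000000000000800001000400000000020004000000000000004000000400000008000000040004000000000000240000800010000000080000014004000000060000000000004000008002004000000000004084200000004000000000a40100004812000000000040000000200c00000000000002000440000000000000000008000300000000080000000100000000000000000050000800102000100000000000000000030000000004000900000010004000000000100000408100000000001000200000000000000000000090000500000002000004100100200000000431000000000000000090210000000000000000850100000000000000008421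
theorem mem_X3 {v : V6} : v ∈ mset 4096 v6 X3 ↔ ∃ r ∈ S3, r ≠ 1 ∧ r v = v := by
  obtain ⟨a, ha, rfl⟩ := E6.surj v
  refine (mem_mset inj6 ha).trans ⟨fun h => ?_, fun ⟨r, b, c, d⟩ => ?_⟩
  · have := (by decide +kernel : (force (List.foldr (fun w m => movedL 12 4096 (wordN n3 w) &&& m) X3 [[0], [1], [0, 1], [0, 2], [1, 0], [1, 2], [0, 0, 1], [0, 0, 2], [0, 1, 0], [0, 1, 1], [1, 0, 2], [1, 1, 2]]) fun m =>
      and' (Nat.beq m 0) (allL [[0], [1], [0, 1], [0, 2], [1, 0], [1, 2], [0, 0, 1], [0, 0, 2], [0, 1, 0], [0, 1, 1], [1, 0, 2], [1, 1, 2]] fun w => H13.neL 4096 (wordN n3 w) [])) = true)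
    rw [force_eq, and'_eq, Bool.and_eq_true, beq_iff, allL_iff] at this
    obtain ⟨e, f⟩ := this
    replace e := (congrArg (·.testBit a) e).trans (Nat.zero_testBit a)
    generalize ([[0], [1], [0, 1], [0, 2], [1, 0], [1, 2], [0, 0, 1], [0, 0, 2], [0, 1, 0], [0, 1, 1], [1, 0, 2], [1, 1, 2]] : List (List Nat)) = L at e f
    induction L with
    | nil => exact absurd h (by simpa using e)
    | cons w L ih =>
      rw [List.foldr_cons, Nat.testBit_and, Bool.and_eq_false_iff] at e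
      exact e.elim (fun e => ⟨_, wordG_prod_mem (fun _ => mem_cl) w, lne inj6 (a3.word w) .nil (f w (by simp)),
        ((a3.word w).prod_act ha).trans (congrArg _ ((testBit_movedL (K := 12) le_rfl (fun _ => (a3.word w).ok) ha).1 e))⟩)
        fun e => ih e fun w b => f w (List.mem_cons_of_mem _ b)
  · obtain ⟨_, vs, Vs, u, rfl, w⟩ := a3.pc_forall fa6 pc3_chk (p := fun _ Vs =>
      or' (eqL 12 4096 Vs []) (Nat.beq (movedL 12 4096 Vs ||| X3) (ones 4096))) (by decide +kernel) b
    rw [or'_eq, Bool.or_eq_true, beq_iff] at w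
    have := (testBit_ones 4096 a).2 ha
    rwa [← w.resolve_left fun w => c (fa6.leq 12 u .nil w), Nat.testBit_or, not_moved u ha d, Bool.false_or] at this
def N3 : Subgroup (AL V6) := LJ ⊓ normalizer (S3 : Set (AL V6))
def lN3 : List (List Nat) := [[0x4, 0x1008, 0x2013, 0x3025, 0x4029, 0x501f, 0x601f, 0x7029, 0x8077, 0x909d, 0xa3ab, 0xb1f5, 0xa800, 0x8200, 0x6080, 0x52c0, 0x4360, 0x3500, 0x2f00, 0x1bb4, 0xdda],
  [0x2, 0x1001, 0x2003, 0x3005, 0x4005, 0x501e, 0x6110, 0x7230, 0x8070, 0x91a0, 0xa340, 0xb680, 0x9400, 0x8c00, 0x7700, 0x6980, 0x5180, 0x4340, 0x32f0, 0x21a0, 0x1354, 0x1aa],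
  [0x4400, 0x5800, 0x6100, 0x7200, 0x804f, 0x9085, 0xa01f, 0xb025, 0x7200, 0x6100, 0x5800, 0x4400, 0x3ff0, 0x2aa0, 0x1ff0, 0xaa0],
  [0x4, 0x1008, 0x2001, 0x3002, 0x4002, 0x5003, 0x6002, 0x7003, 0x80a2, 0x90f3, 0xa0f3, 0xb051, 0x7d00, 0x6b00, 0x5d00, 0x4b00, 0x3d50, 0x2bf0, 0x1008, 0x4]]
theorem aN3 : ActsL 4096 v6 (lN3.map nel) (mapL (lnet 12) lN3) := nel_aL (by decide +kernel)
theorem gN3 : ∀ g ∈ lN3.map nel, g ∈ N3 := allA aN3 (p := fun N => and' (ljC N) (allL n3 fun M => anyL [[0], [2], [1, 2], [0, 0], [2, 2], [1, 0], [1, 1, 2], [0, 1, 1], [1, 1, 2, 2]] fun w =>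
    eqL 12 4096 [N, M] (appendL (wordN n3 w) [N]))) (fun {g N} a c => by
  have := E6.finite
  rw [and'_eq, Bool.and_eq_true, allL_iff] at c
  refine ⟨lj_of a c.1, nrm_cl fun s b => ?_⟩
  obtain ⟨M, d, e⟩ := a3.exists_right b
  obtain ⟨w, -, f⟩ := (anyL_iff ..).1 (c.2 M d)
  have := fa6.leq 12 (.cons a (.cons e .nil)) (List.rel_append (a3.word w) (.cons a .nil)) (by rwa [appendL_eq] at f)
  rw [List.prod_append, List.prod_cons, List.prod_singleton, List.prod_singleton] at this
  rw [this, mul_inv_cancel_right]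
  exact wordG_prod_mem (fun _ => mem_cl) w) (by decide +kernel)
theorem card_N3 : Nat.card N3 = 432 :=
  have := E6.finite
  le_antisymm (E6.lin_bound (Cs := [X3, XJ, XK, 1]) (F := []) (H := N3) [8, 4, 2056, 1028, 2, 1, 514, 257, 133, 79, 42, 21]
    [(5, 36, [(0, 0, true), (2, 0, true)]), (10, 2, [(0, 0, true), (0, 1, true), (2, 0, true), (2, 1, true)]), (80, 3, [(0, 0, true), (0, 1, true), (2, 0, true), (0, 2, false)]), (160, 1, [(0, 0, true), (0, 5, true), (2, 1, true), (0, 7, false)]), (290, 1, [(0, 2, true), (0, 4, true), (2, 6, true), (1, 15, false), (1, 1, false)]), (563, 1, [(0, 2, true), (1, 13, true), (0, 14, true), (2, 14, true)]), (1041, 1, [(0, 12, true), (0, 13, true), (0, 34, true)]), (2082, 1, [(0, 9, true), (0, 13, true), (0, 103, true)]), (1, 2, [(0, 17, true), (0, 134, true), (2, 108, true), (2, 0, false)]), (2, 1, [(0, 41, true), (0, 60, true), (1, 453, true)]), (16, 1, [(0, 22, true), (0, 215, true), (2, 2, true)]), (32, 1, [(0, 61, true),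 (0, 608, true), (2, 4, true)])]
    (List.forall_mem_cons.2 ⟨qinv_of inj6 fun g a _ b => by
      obtain ⟨r, c, d, e⟩ := mem_X3.1 b
      exact mem_X3.2 ⟨_, (mem_normalizer_iff.1 a.2 r).1 c, by rwa [Ne, conj_eq_one_iff], by simp [e]⟩,
      List.forall_mem_cons.2 ⟨qinv_of inj6 fun _ a _ => invJ a.1, List.forall_mem_cons.2 ⟨qinv_of inj6 fun _ a _ => invK a.1,
        List.forall_mem_singleton.2 (E6.qinv_one _)⟩⟩⟩) (by simp) (by decide +kernel))
    (aN3.le_card (d := 12) inj6 le_rfl [(5, 3, 1), (10, 1, 1), (80, 1, 1), (1, 1, 1)] gN3 (by decide +kernel))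
theorem cls3J {g : AL V6} (h : g ∈ S3) (n : g ≠ 1) : ∃ k ∈ N3, k * g * k⁻¹ = thL ∨ k * g * k⁻¹ = u3 := by
  obtain ⟨r, a, k, b, c⟩ := a3.cls0 (K := 12) (q := 3) (w := 8) (rb := 1) (T := 0x733b231b4703273f09130b9b2b337b2f6f01971f070f174b020000) inj6 le_rfl (A := ⊤)
    (fun g _ => fa6 g) le_top (aN3.word [0, 1, 2, 3, 0, 1, 2]) (a3.word [2, 0]) (fun _ _ => trivial) (wordG_mem gN3 _) (fun _ _ => trivial)
    pc3_chk (by decide +kernel) h n (S3_exp h)
  exact ⟨k, b, by simpa [wordG, c] using a⟩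
end
end H13
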