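import Cfsg.Agent.H13.F6g
/-! The unitary group in dimension six over the field with four elements, as a group of additive automorphisms. -/
set_option autoImplicit false
namespace H13
noncomputable section
open MulAction Cfsg H27 Subgroup H22 Matrix
open scoped Pointwise commutatorElement

/-- linear maps over the field with four elements -/
def lin6 : Cz thL →* V6 ≃ₗ[GF4] V6 :=
  MonoidHom.mk' (fun g => { g.1.toAddEquiv with map_smul' := lin_smul g.2 }) fun _ _ => rfl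
def det6 : Cz thL →* GF4ˣ := LinearEquiv.det.comp lin6
def GU6 : Subgroup (AL V6) := O6 ⊓ Cz thL
def SU6 : Subgroup (AL V6) := O6 ⊓ det6.ker.map (Cz thL).subtype
theorem SU6_le : SU6 ≤ GU6 := inf_le_inf_left _ (map_subtype_le _)
theorem mem_SU6 {g : AL V6} (h : g ∈ GU6) : g ∈ SU6 ↔ det6 ⟨g, h.2⟩ = 1 :=
  (and_iff_right h.1).trans (mem_map_iff_mem (x := (⟨g, h.2⟩ : Cz thL)) (Cz thL).subtype_injective)
theorem herm_eq (u v : V6) : hermForm 6 GF4 2 u v = ⟨pol q6 (thL u) v + pol q6 u v, pol q6 u v⟩ := by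
  have : ∀ c d : GF4, c * d ^ 2 = ⟨pl4 (th * c) d + pl4 c d, pl4 c d⟩ := by decide
  simp only [hermForm, pol_q6, Fin.sum_univ_six, this, thL_apply, Pi.smul_apply, smul_eq_mul]
  ext <;> (simp; try ring)
theorem pol_th (v : V6) : pol q6 (thL v) v + pol q6 v v = q6 v := by
  rw [pol_q6, pol_q6, ← Finset.sum_add_distrib]
  exact Finset.sum_congr rfl fun i _ => (by decide : ∀ c : GF4, pl4 (th * c) c + pl4 c c = nm4 c) _
theorem exists_su6 (F : Type*) [Field F] [Fintype F] (hF : Fintype.card F = 4) :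
    ∃ ι : SU 6 F 2 →* AL V6, Function.Injective ι ∧ ι.range = SU6 := by
  let ι : SU 6 GF4 2 →* AL V6 := MonoidHom.mk' (fun A => (SpecialLinearGroup.toLin' A.1).toAddEquiv.toIntLinearEquiv)
    fun a b => by ext v : 1; simp
  have a : ∀ A v, ι A v = A.1.1 *ᵥ v := fun _ _ => rfl
  have e := suCongr (FiniteField.ringEquivOfCardEq (hF.trans card_GF4.symm)) 6 2
  have j : Function.Injective ι := fun A B h => Subtype.ext (SpecialLinearGroup.toLin'_injective
    (LinearEquiv.ext fun v => (a A v).symm.trans ((LinearEquiv.congr_fun h v).trans (a B v))))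
  refine ⟨ι.comp e.toMonoidHom, j.comp e.injective, ?_⟩
  rw [MonoidHom.range_comp, MonoidHom.range_eq_top.2 e.surjective, ← MonoidHom.range_eq_map]
  refine le_antisymm ?_ fun g h => ?_
  · rintro _ ⟨A, rfl⟩
    have b : ι A ∈ GU6 := ⟨fun v => by
      have := congrArg (·.re) (A.2 v v)
      rwa [herm_eq, herm_eq, pol_th, pol_th] at this, lin_iff.2 fun v => mulVec_smul A.1.1 th v⟩
    exact (mem_SU6 b).2 (Units.ext ((LinearEquiv.coe_det _).trans ((LinearMap.det_toLin' A.1.1).trans A.1.2)))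
  · have b := SU6_le h
    have c : ∀ v, LinearMap.toMatrix' (lin6 ⟨g, b.2⟩).toLinearMap *ᵥ v = g v := fun v => LinearMap.toMatrix'_mulVec ..
    refine ⟨⟨⟨_, (LinearMap.det_toMatrix' _).trans ((LinearEquiv.coe_det _).symm.trans
      (congrArg Units.val ((mem_SU6 b).1 h)))⟩, fun u v => ?_⟩, LinearEquiv.ext c⟩
    refine (congrArg₂ (hermForm 6 GF4 2) (c u) (c v)).trans ?_
    rw [herm_eq, herm_eq, show thL (g u) = g (thL u) from (lin_iff.1 b.2 u).symm]
    have d : ∀ u v, pol q6 (g u) (g v) = pol q6 u v := pol_smul (g := g) (q := q6) b.1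
    rw [d, d]
theorem M0_SU6 : M0 ≤ SU6 := le_inf (M0_L0.trans (L0_LS.trans LS_O6)) (M0_perf.ge.trans (commutator_le.2 fun a u b v =>
  ⟨⁅⟨a, M0_lin u⟩, ⟨b, M0_lin v⟩⁆, (map_commutatorElement ..).trans (commutatorElement_eq_one_iff_mul_comm.2 (mul_comm ..)), rfl⟩))
theorem e06_not : e06 ∉ M0 := fun a => absurd (card_le_of_le (P := L0) (cl_le (List.forall_mem_cons.2 ⟨a, fun _ => mem_cl⟩)))
  (by rw [card_L0, card_M0]; norm_num)
theorem LS_cases {g : AL V6} (h : g ∈ LS) : g ∈ L0 ∨ g * tau6 ∈ L0 := by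
  have a : (L0.subgroupOf LS).index = 2 := by
    have := (L0.subgroupOf LS).index_mul_card
    rw [H1.card_subgroupOf_of_le L0_LS, card_L0, card_LS] at this
    exact Nat.eq_of_mul_eq_mul_right (by norm_num : 0 < 19595520) this
  have b : tau6 ∉ L0 := fun b => absurd (card_le_of_le (P := LS) (cl_le (List.forall_mem_cons.2 ⟨b, fun _ => mem_cl⟩)))
    (by rw [card_L0, card_LS]; norm_num)
  exact or_iff_not_imp_left.2 fun c => (mul_mem_iff_of_index_two a (a := ⟨g, h⟩) (b := ⟨_, tau_LS⟩)).2 (iff_of_false c b)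
theorem nrm_SU6 {g : AL V6} (a : g ∈ GU6) (b : g ∈ normalizer (M0 : Set (AL V6))) : g ∈ SU6 := by
  have t : tau6 ∈ GU6 := ⟨LS_O6 tau_LS, pm6_lin _⟩
  have s : tau6 ∈ SU6 := (mem_SU6 t).2 ((by decide : ∀ c : GF4ˣ, c * c = 1 → c = 1) _ (by
    rw [← map_mul]; exact (congrArg det6 (Subtype.ext (by simp [tau6, ← map_mul]))).trans (map_one _)))
  rcases LS_cases (le_LS' (zpowers_le.2 a.1) (zpowers_le.2 b) (mem_zpowers g)) with c | c
  exacts [M0_SU6 (L0_lin c (mem_Cz.1 a.2)), (mul_mem_cancel_right s).1 (M0_SU6 (L0_lin c (mem_Cz.1 (mul_mem a t).2)))]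
theorem cj_eq_iff' {G : Type*} [Group G] {g x y : G} : g⁻¹ * x * g = y ↔ x = g * y * g⁻¹ :=
  ⟨fun e => by rw [← e]; group, fun e => by rw [e]; group⟩
theorem cls6 {K : Subgroup (AL V6)} (a : K ≤ GU6) {F : Type*} [Field F] [Fintype F] (hF : Fintype.card F = 9)
    {f : K →* PSU 4 F 3} (s : Function.Surjective f) (k : Nat.card f.ker = 3) : ∃ g ∈ GU6, K = MulAut.conj g • M0 := by
  have := E6.finite
  obtain ⟨ψ, b, ρ, c, d, -⟩ := ident6 (M := K) qf6 (fun g => (a g.2).1) (fun g a => Subtype.ext (LinearEquiv.ext a))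
    card_V6 hF s k
  obtain ⟨t, b, c⟩ : ∃ t ∈ O6, ∀ g, t * ρ g * t⁻¹ = g :=
    ⟨ψ.toIntLinearEquiv, b, fun g => mul_inv_eq_iff_eq_mul.2 (LinearEquiv.ext (c g))⟩
  have e : K = MulAut.conj t • M0 := le_antisymm (fun g u => ⟨ρ ⟨g, u⟩, d.le ⟨_, rfl⟩, c _⟩) (by
    rintro _ ⟨m, u, rfl⟩
    obtain ⟨g, rfl⟩ := d.ge u
    exact Set.mem_of_eq_of_mem (c g) g.2)
  obtain ⟨n, l, u⟩ := Finset.mem_image.1 (mem_zpowers_iff_mem_range_orderOf.1 (cen_M0 (y := t⁻¹ * thL * t) fun g u => by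
    have := mem_Cz.1 (a (e.ge ⟨g, u, rfl⟩)).2
    calc g * (t⁻¹ * thL * t) = t⁻¹ * (t * g * t⁻¹ * thL) * t := by group
      _ = t⁻¹ * (thL * (t * g * t⁻¹)) * t := congrArg (t⁻¹ * · * t) this
      _ = _ := by group))
  rw [ord_thL, Finset.mem_range] at l
  interval_cases n
  · exact absurd (by simpa using cj_eq_iff'.1 u.symm) thL_ne
  · exact ⟨t, ⟨b, mem_Cz'.2 (cj_eq_iff'.1 (u.symm.trans (pow_one _))).symm⟩, e⟩
  · refine ⟨t * e06, ⟨mul_mem b (LS_O6 (L0_LS e06_L0)), mem_Cz.2 ?_⟩, by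
      rw [map_mul, mul_smul, H1.mem_normalizer_iff_smul.1 (LS_nrm (L0_LS e06_L0)), e]⟩
    rw [mul_assoc, show e06 * thL = thL ^ 2 * e06 from LinearEquiv.ext (L0_semi e06_L0 e06_not), u]
    group
end
end H13
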