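import Cfsg.Agent.H13.LN
import Cfsg.Agent.H13.SU6
/-! The group `3.M22:2` acting on the six-dimensional unitary space over the field with four elements. -/
set_option autoImplicit false
namespace H13
noncomputable section
open MulAction Cfsg H27 Subgroup H22
open scoped Pointwise

theorem zp3 {G : Type*} [Group G] {x y : G} (h : x ^ 3 = 1) : y ∈ zpowers x ↔ y = 1 ∨ y = x ∨ y = x * x := by
  classical
  refine ⟨fun a => ?_, by rintro (rfl | rfl | rfl) <;> simp [mul_mem]⟩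
  obtain ⟨n, l, u⟩ := Finset.mem_image.1 ((isOfFinOrder_iff_pow_eq_one.2 ⟨3, by norm_num, h⟩).mem_zpowers_iff_mem_range_orderOf.1 a)
  have := (Finset.mem_range.1 l).trans_le (orderOf_le_of_pow_eq_one (by norm_num) h)
  interval_cases n <;> simp [← u, pow_two]
theorem mem_nz {G : Type*} [Group G] [Finite G] {x g : G} (h : g * x * g⁻¹ ∈ zpowers x) : g ∈ normalizer (zpowers x : Set G) :=
  mem_normalizer_fintype (by rintro _ ⟨k, rfl⟩; rw [← conj_zpow]; exact zpow_mem h k)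
def NT : Subgroup (AL V6) := normalizer (zpowers thL : Set (AL V6))
theorem mem_NT {g : AL V6} : g ∈ NT ↔ g * thL = thL * g ∨ g * thL = thL * thL * g := by
  have := E6.finite
  rw [← mul_inv_eq_iff_eq_mul, ← mul_inv_eq_iff_eq_mul]
  exact ⟨fun h => ((zp3 thL3).1 ((mem_normalizer_iff.1 h _).1 (mem_zpowers _))).resolve_left fun a => thL_ne (by simpa using a),
    fun h => mem_nz ((zp3 thL3).2 (.inr h))⟩
def XJ : Nat := 0x4218240a08001048240a6c100010000a080000180210116010400000116cc20026026006020000a04c000010841110a08a04201248010041010101c0108c80000014081c040011a2801824004c010028a0026004c00011010160018000620a0110c001811000c8010020000110a6860000c101c0012406064004aa00a200000026004c008a01010260000014201101c6020084124800108000a110a1004c80084014c000001101a4c00802124800012000124806ca10000101a0012000086604820c040028101028a00a08008a0000c204160200001011c0014110011060640100800061106a2000110011610044060011c01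080000aa4080c00a20c2c00000000128018a0010164081824026000018c04004c04c000006011a1002011020a048208a0020410014c040a08060201100028108a0000111060102000c011c0640ca61000148200000000104210260110c48200260840110080000110c1008a4a00000101600142cc0011a0104000a0c8001021010101aa2006680640080c00000110c1002000c640000180000101c4aa01100110a00120a200c8068604060000010080110011c80c00006011601080a20110610040000c2c0a2004060aa4000000000011a0102668010160104101064000014000a101a80c02cc00c80a2000000a4a020a00640000020a0cc20c80000000640c800866000000000000000000000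
def XK : Nat := 0xeac06ca14e61101a6ca14820eee0111e4e61eee06ec01008101a111e100822c1ec81c8e18ec11114ea21eee0e6a00014e641ace0ca61011a010e0102101626e1eee0ae602ea11004c6e06ca1ea21011c64e1c8e1a2e1100e010811061118ce4100121106001ee261011c111e0014868111120102110cae818ae1a441e4c1111eec81ea21e641010ec8e1eee0ace001028ec1e6a0ca61101611140014011a26e16ae0a2e1eee00104a2e16ec0ca61110ceee0ca618240111e0104110c111e6881a6c12ea1ec60101c64e14e61e6411112cea08ec1eee01002110a001e0018e8a10116111800184ce1100e1008011aae8110021016111e44a16e21e4c12c21111eeee0c6e064e10108ae606ca1c8e111062ea1ea21a2e111181004011c100ece41a6c164e1cea0110a2ea14e618ec1001eec60e641eee00018101c11121002e8a12480eee0a6c1111eeee0eac0ec810012a6c1ec816ae00116111e001201164a41111e0108110ac2211004101a1114e261101c010e01044ce188618ae16e21111e0012011c11128ae11106111e0102a441001e0014110ce4c1e2618681ae81111e0116100e10026e21111810081016e4c10018011a111e2c214ce1ae8144a1111e111e1004101c88610108101a010e8ae1110a111401046e21c221e2614ce1111e4a41ce41e8a1111ece4122c126e1111ee8a126e16881111e111e111e111eeee0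
abbrev SJ : Set V6 := mset 4096 v6 XJ
abbrev SK : Set V6 := mset 4096 v6 XK
def LJ : Subgroup (AL V6) := stabilizer (AL V6) SJ ⊓ NT
def MJ : Subgroup (AL V6) := LJ ⊓ Cz thL
def NJ : Subgroup (AL V6) := LJ ⊓ stabilizer (AL V6) (U6s : Set V6)
theorem MJ_LJ : MJ ≤ LJ := inf_le_left
theorem MJ_lin : MJ ≤ Cz thL := inf_le_right
theorem NJ_LJ : NJ ≤ LJ := inf_le_left
theorem NJ_U {g : AL V6} (h : g ∈ NJ) {u : V6} (a : u ∈ U6s) : g u ∈ U6s :=
  (show g • (U6s : Set V6) = U6s from h.2).le (Set.smul_mem_smul_set a)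
theorem invJ {g : AL V6} (h : g ∈ LJ) {v : V6} (a : v ∈ SJ) : g v ∈ SJ :=
  (show g • SJ = SJ from h.1).le (Set.smul_mem_smul_set a)
theorem MJ_th {g : AL V6} (h : g ∈ MJ) (v : V6) : g (thL v) = thL (g v) := LinearEquiv.congr_fun (mem_Cz.1 h.2) v
theorem LJ_semi {g : AL V6} (h : g ∈ LJ) (n : g ∉ MJ) (v : V6) : g (thL v) = thL (thL (g v)) :=
  LinearEquiv.congr_fun ((mem_NT.1 h.2).resolve_left fun a => n ⟨h, mem_Cz.2 a⟩) v
def Nθ : Net := lnet 12 [0x2, 0x1001, 0x2008, 0x3004, 0x4020, 0x5010, 0x6080, 0x7040, 0x8200, 0x9100, 0xa800, 0xb400]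
theorem th_a : Acts 4096 v6 thL Nθ := thL_c.ful (by decide +kernel)
def stC (X : Nat) (N : Net) : Bool := Nat.beq (N.app X) X
def mjC (N : Net) : Bool := and' (stC XJ N) (eqL 12 4096 [N, Nθ] [Nθ, N])
def ljC (N : Net) : Bool := or' (mjC N) (and' (stC XJ N) (eqL 12 4096 [N, Nθ] [Nθ, Nθ, N]))
theorem st_of {g : AL V6} {N : Net} {X : Nat} (a : Acts 4096 v6 g N) (c : stC X N = true) :
    g ∈ stabilizer (AL V6) (mset 4096 v6 X) := by
  have := a.smul_mset X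
  rwa [(beq_iff _ _).1 c] at this
theorem mj_of {g : AL V6} {N : Net} (a : Acts 4096 v6 g N) (c : mjC N = true) : g ∈ MJ := by
  rw [mjC, and'_eq, Bool.and_eq_true] at c
  have : g * thL = thL * g := by simpa using fa6.leq 12 (.cons a (.cons th_a .nil)) (.cons th_a (.cons a .nil)) c.2
  exact ⟨⟨st_of a c.1, mem_NT.2 (.inl this)⟩, mem_Cz.2 this⟩
theorem lj_of {g : AL V6} {N : Net} (a : Acts 4096 v6 g N) (c : ljC N = true) : g ∈ LJ := by
  rw [ljC, or'_eq, and'_eq, Bool.or_eq_true, Bool.and_eq_true] at c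
  exact c.elim (fun c => (mj_of a c).1) fun c => ⟨st_of a c.1, mem_NT.2 (.inr (by
    simpa [mul_assoc] using fa6.leq 12 (.cons a (.cons th_a .nil)) (.cons th_a (.cons th_a (.cons a .nil))) c.2))⟩
theorem allA {gs : List (AL V6)} {Ns : List Net} (a : ActsL 4096 v6 gs Ns) {p : Net → Bool} {Q : AL V6 → Prop}
    (h : ∀ {g N}, Acts 4096 v6 g N → p N = true → Q g) (c : allL Ns p = true) : ∀ g ∈ gs, Q g := fun _ hg => by
  obtain ⟨N, b, d⟩ := a.exists_right hg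
  exact h d ((allL_iff _ _).1 c N b)
theorem nj_of {g : AL V6} {N : Net} (a : Acts 4096 v6 g N) (c : and' (ljC N) (stC XU N) = true) : g ∈ NJ := by
  rw [and'_eq, Bool.and_eq_true] at c
  exact ⟨lj_of a c.1, U_eq ▸ st_of a c.2⟩
theorem thL_MJ : thL ∈ MJ := mj_of th_a (by decide +kernel)
theorem cardJ : SJ.ncard = 693 := (ncard_mset_pop (d := 12) inj6 le_rfl _).trans (by decide +kernel)
theorem cardK : SK.ncard = 1386 := (ncard_mset_pop (d := 12) inj6 le_rfl _).trans (by decide +kernel)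
theorem memJ {a : Nat} (h : a < 4096) : v6 a ∈ SJ ↔ XJ.testBit a = true := mem_mset inj6 h
theorem memK {a : Nat} (h : a < 4096) : v6 a ∈ SK ↔ XK.testBit a = true := mem_mset inj6 h
theorem qinvJ {H : Subgroup (AL V6)} (a : H ≤ LJ) : ∀ X ∈ [XJ, 1], QInv H (2 ^ 12) E6.e X :=
  List.forall_mem_cons.2 ⟨qinv_of inj6 fun _ hg _ => invJ (a hg), List.forall_mem_singleton.2 (E6.qinv_one H)⟩
theorem LJ_le : Nat.card LJ ≤ 693 * (2 * 1920) := by
  have := E6.finite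
  refine card_le_step LJ (v6 85) SJ (mset_finite ..) (fun g a => invJ a ((memJ (by norm_num)).2 (by decide +kernel))) cardJ.le
    (card_le_step _ (v6 170) {v6 170, v6 255} (Set.toFinite _) (fun g a => ?_) (Set.ncard_insert_le _ _ |>.trans (by simp))
      (E6.lin_bound (F := [85, 170]) (H := (LJ ⊓ stabilizer (AL V6) (v6 85)) ⊓ stabilizer (AL V6) (v6 170)) [32, 16, 544, 272, 8, 4, 1544, 2308, 2, 1, 130, 65]
    [(5, 30, [(0, 2, true), (0, 3, true), (0, 0, false), (1, 0, false)]), (10, 1, [(0, 2, true), (0, 3, true), (0, 5, true), (0, 1, false), (0, 0, false)]), (1280, 4, [(0, 1, true), (0, 2, true), (0, 3, true), (0, 4, false), (0, 5, true)]), (2560, 1, [(0, 2, true), (0, 3, true), (0, 8, true), (0, 25, false), (0, 0, false)]), (1, 8, [(0, 7, true), (0, 15, true), (0, 21, true), (0, 5, false), (0, 4, false)]), (2, 1, [(0, 11, true), (0, 19, true), (0, 34, true), (0, 28, true)]), (16, 2, [(0, 11, true),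 (0, 13, true), (0, 110, true), (0, 14, true)]), (32, 1, [(0, 12, true), (0, 13, true), (0, 151, true), (0, 77, true)]), (256, 1, [(0, 22, true), (0, 25, true), (0, 849, true), (0, 53, true)]), (512, 1, [(0, 45, true), (0, 47, true), (0, 420, true), (0, 82, true)])]
      (qinvJ fun _ a => a.1.1) (List.forall_mem_cons.2 ⟨⟨by norm_num, fun _ a => a.1.2⟩, List.forall_mem_singleton.2
        ⟨by norm_num, fun _ a => a.2⟩⟩) (by decide +kernel)))
  have e : thL (v6 85) = v6 170 ∧ thL (v6 170) = v6 255 := by decide +kernel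
  have f : g (v6 85) = v6 85 := a.2
  by_cases b : g ∈ MJ
  · exact .inl (by rw [← e.1]; exact (MJ_th b _).trans (congrArg _ f))
  · exact .inr (by rw [← e.2, ← e.1]; exact (LJ_semi a.1 b _).trans (congrArg (thL <| thL ·) f))
def lLJ : List (List Nat) := [[0x8, 0x1004, 0x2022, 0x3011, 0x402c, 0x5014, 0x804e, 0x90b9, 0xa3b1, 0xb1f3, 0x7a00, 0x6500, 0x5140, 0x43c0, 0x3f30, 0x2518, 0x1794, 0xb5a],
  [0x1001, 0x200b, 0x3005, 0x6210, 0x713e, 0x80bb, 0x915e, 0xa19b, 0xb36e, 0x7d00, 0x6780, 0x5480, 0x4c40, 0x33f0, 0x22a0, 0x1154, 0x2aa],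
  [0x4, 0x1008, 0x2001, 0x3002, 0x8001, 0x9002, 0xa001, 0xb002, 0xa800, 0x8200, 0x6080, 0x4020, 0x3a00, 0x2f08, 0x1008, 0xe],
  [0x1001, 0x200b, 0x3005, 0x4040, 0x5080, 0x601b, 0x702e, 0x843e, 0x9815, 0xa120, 0xb230, 0xa800, 0x9800, 0x8e00, 0x7b00, 0x6d80, 0x5080, 0x40e0, 0x3c50, 0x24a8, 0x18fc, 0x4a8],
  [0x4040, 0x5080, 0x6010, 0x7020, 0x8400, 0x9800, 0xa100, 0xb200, 0x9800, 0x8400, 0x5080, 0x4040]]
def gLJ : List (AL V6) := lLJ.map nel
theorem aLJ : ActsL 4096 v6 gLJ (mapL (lnet 12) lLJ) := nel_aL (by decide +kernel)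
theorem gLJ_mem : ∀ g ∈ gLJ, g ∈ LJ := allA aLJ lj_of (by decide +kernel)
theorem LJ_eq : cl gLJ = LJ ∧ Nat.card LJ = 2661120 :=
  have := E6.finite
  aLJ.cl_eq (d := 12) inj6 le_rfl [(5, 4, 1), (80, 3, 1), (6, 4, 2), (17, 1, 1)] gLJ_mem LJ_le (by decide +kernel)
theorem card_LJ : Nat.card LJ = 2661120 := LJ_eq.2
theorem LJ_O6 : LJ ≤ O6 := fun g h v => by
  have k : ∀ g ∈ LJ, ∀ v ∈ S63, g v ∈ S63 := fun g h v => aLJ.smul_mem_mset (by decide +kernel) (LJ_eq.1.ge h)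
  have : g v ∈ S63 ↔ v ∈ S63 := ⟨fun a => by simpa using k _ (inv_mem h) _ a, k _ h _⟩
  rw [mem63, mem63] at this
  exact (by decide : ∀ a b : ZMod 2, (a = 1 ↔ b = 1) → a = b) _ _ this
theorem invK {g : AL V6} (h : g ∈ LJ) {v : V6} (a : v ∈ SK) : g v ∈ SK :=
  aLJ.smul_mem_mset (by decide +kernel) (LJ_eq.1.ge h) a
theorem singJ {v : V6} (h : q6 v = 0) (hv : v ≠ 0) : v ∈ SJ ∨ v ∈ SK := by
  obtain ⟨a, ha, rfl⟩ := E6.surj v
  have := (testBit_ones 4096 a).2 ha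
  rw [← show 1 ||| (X63 ||| (XJ ||| XK)) = ones 4096 by decide +kernel] at this
  simp only [Nat.testBit_or, Bool.or_eq_true, Nat.testBit_one_eq_true_iff_self_eq_zero] at this
  rcases this with b | b | b
  exacts [absurd (b ▸ E6.zero) hv, absurd (h.symm.trans ((mem63 _).1 ((mem_mset inj6 ha).2 b))) zero_ne_one,
    b.imp (memJ ha).2 (memK ha).2]
theorem djJ {v : V6} (h : v ∈ SJ ∨ v ∈ SK) : v ≠ 0 ∧ q6 v = 0 ∧ ¬ (v ∈ SJ ∧ v ∈ SK) := by
  obtain ⟨a, ha, rfl⟩ := E6.surj v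
  have k : ∀ X Y : Nat, X &&& Y = 0 → X.testBit a = true → ¬ Y.testBit a = true := fun X Y e u v => by
    have := Nat.testBit_and X Y a
    rw [e, u, v] at this
    simp at this
  have h' : (XJ ||| XK).testBit a = true := by
    rw [Nat.testBit_or, Bool.or_eq_true]; exact h.imp (memJ ha).1 (memK ha).1
  exact ⟨fun e => k _ 1 (by decide +kernel) h' (by rw [E6.inj a ha e]; rfl), (z2_cases _).resolve_right fun e =>
    k _ X63 (by decide +kernel) h' ((mem_mset inj6 ha).1 ((mem63 _).2 e)),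
    fun e => k XJ XK (by decide +kernel) ((memJ ha).1 e.1) ((memK ha).1 e.2)⟩
def lMJ : List (List Nat) := [[0x2, 0x1001, 0x2012, 0x3027, 0x4086, 0x504d, 0x6122, 0x7253, 0x8043, 0x91c1, 0xab9e, 0xb7e5, 0x9c00, 0x8800, 0x7a00, 0x6180, 0x5500, 0x4320, 0x37d0, 0x2968, 0x13b4, 0x26c],
  [0x2, 0x1001, 0x2001, 0x3006, 0x4026, 0x5019, 0x6105, 0x720e, 0x8054, 0x90ac, 0xa2fe, 0xb75b, 0xa800, 0x9800, 0x8400, 0x7f00, 0x6a00, 0x5900, 0x4700, 0x3b10, 0x2d28, 0x14ec, 0xc98]]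
theorem aMJ : ActsL 4096 v6 (lMJ.map nel) (mapL (lnet 12) lMJ) := nel_aL (by decide +kernel)
theorem gMJ_mem : ∀ g ∈ lMJ.map nel, g ∈ MJ := allA aMJ mj_of (by decide +kernel)
theorem orbJ {H : Subgroup (AL V6)} (a : MJ ≤ H) (b : H ≤ LJ) : orbit H (v6 85) = SJ ∧ orbit H (v6 5) = SK := by
  have k : ∀ {v : V6} {S : Set V6}, orbit (cl (lMJ.map nel)) v = S → (∀ g ∈ LJ, ∀ u ∈ S, g u ∈ S) → orbit H v = S :=
    fun {v S} h i => Set.Subset.antisymm (fun _ ⟨g, u⟩ => u ▸ i _ (b g.2) _ (h ▸ mem_orbit_self v))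
      (h ▸ fun _ ⟨g, u⟩ => ⟨⟨g, a (cl_le gMJ_mem g.2)⟩, u⟩)
  exact ⟨k (aMJ.orbit_eq (k := 9) (by norm_num) (by decide +kernel)) fun _ h _ => invJ h,
    k (aMJ.orbit_eq (k := 9) (by norm_num) (by decide +kernel)) fun _ h _ => invK h⟩

def lJ : List (List Nat) := [[0x8, 0x1004, 0x2002, 0x3001, 0x4040, 0x5090, 0x6012, 0x7075, 0x8400, 0x9800, 0xa11a, 0xb231, 0xa800, 0x9800, 0x8e00, 0x7a00, 0x6500, 0x5080, 0x4040, 0x3aa0, 0x2550, 0x1a04, 0x58],
  [0x4, 0x1008, 0x2001, 0x3002, 0x4003, 0x5001, 0x6020, 0x7030, 0x88a2, 0x94d3, 0xa210, 0xb520, 0x8600, 0x7100, 0x6300, 0x5840, 0x44c0, 0x3130, 0x2320, 0x1008, 0x4],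
  [0x2, 0x1001, 0x3004, 0x4001, 0x5012, 0x613b, 0x7265, 0x88bb, 0x949b, 0xa255, 0xb1fe, 0xa800, 0x8e00, 0x7900, 0x6e80, 0x5d80, 0x46e0, 0x3da0, 0x26f8, 0x1304, 0x20c],
  [0x4, 0x1008, 0x2001, 0x3002, 0x4082, 0x5040, 0x6022, 0x7053, 0x80d3, 0x90b1, 0xa271, 0xb322, 0x9400, 0x8c00, 0x7d00, 0x6b00, 0x5800, 0x4760, 0x3b60, 0x26d0, 0x1008, 0x4],
  [0x2003, 0x3005, 0x4027, 0x501a, 0x6012, 0x7023, 0x80c5, 0x904e, 0xa0bc, 0xb0d8, 0x7800, 0x6400, 0x5640, 0x4dc0, 0x3190, 0x22e8, 0x1714, 0xe3c],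
  [0x4, 0x1009, 0x2001, 0x3007, 0x4407, 0x581e, 0x6107, 0x724e, 0x8049, 0x91c7, 0xa019, 0xb437, 0x7200, 0x6100, 0x5800, 0x4400, 0x3af0, 0x25a0, 0x1f58, 0xaf4]]
def cJ : AL V6 := nel (nth [] lJ 0)
def aJ : AL V6 := nel (nth [] lJ 1)
def rJ : AL V6 := nel (nth [] lJ 2)
def sJ : AL V6 := nel (nth [] lJ 3)
def nBJ : AL V6 := nel (nth [] lJ 4)
def nCJ : AL V6 := nel (nth [] lJ 5)
def nJ (i : Nat) : Net := lnet 12 (nth [] lJ i)
theorem lJ_chk {i : Nat} (h : i < 6 := by norm_num) : nelChk (nth [] lJ i) = true :=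
  (by decide +kernel : ∀ i < 6, nelChk (nth [] lJ i) = true) i h
theorem cJ_a : Acts 4096 v6 cJ (nJ 0) := nel_a lJ_chk
theorem aJ_a : Acts 4096 v6 aJ (nJ 1) := nel_a lJ_chk
theorem rJ_a : Acts 4096 v6 rJ (nJ 2) := nel_a lJ_chk
theorem sJ_a : Acts 4096 v6 sJ (nJ 3) := nel_a lJ_chk
theorem nBJ_a : Acts 4096 v6 nBJ (nJ 4) := nel_a lJ_chk
theorem nCJ_a : Acts 4096 v6 nCJ (nJ 5) := nel_a lJ_chk
def NnA : Net := lnet 12 [0x1001, 0x2013, 0x3022, 0x4104, 0x5208, 0x6003, 0x7002, 0x8012, 0x9021, 0xa9e8, 0xb794, 0x9800, 0x8400, 0x7c00, 0x6800, 0x5e00, 0x4900, 0x3e00, 0x2900, 0x1394, 0x1ea]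
theorem nA_a : Acts 4096 v6 nA6 NnA := nA6_c.ful (by decide +kernel)
def gTJ : List (AL V6) := aJ :: rJ :: sJ :: gB6
def nTJ : List Net := nJ 1 :: nJ 2 :: nJ 3 :: fB6
theorem aTJ : ActsL 4096 v6 gTJ nTJ := .cons aJ_a (.cons rJ_a (.cons sJ_a aFB))
theorem aNJ : ActsL 4096 v6 [nCJ, nA6, nBJ] [nJ 5, NnA, nJ 4] := .cons nCJ_a (.cons nA_a (.cons nBJ_a .nil))
def TJ : Subgroup (AL V6) := cl gTJ
def T8 : Subgroup (AL V6) := cl (cJ :: gTJ)
theorem mem_MJ : ∀ g ∈ nA6 :: nBJ :: gTJ, g ∈ MJ := allA (.cons nA_a (.cons nBJ_a aTJ)) mj_of (by decide +kernel)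
theorem mem_NJ : ∀ g ∈ thL :: nA6 :: nBJ :: nCJ :: cJ :: gTJ, g ∈ NJ :=
  allA (.cons th_a (.cons nA_a (.cons nBJ_a (.cons nCJ_a (.cons cJ_a aTJ))))) nj_of (by decide +kernel)
theorem TJ_MJ : TJ ≤ MJ := cl_le fun g h => mem_MJ g (List.mem_cons_of_mem _ (List.mem_cons_of_mem _ h))
theorem T8_NJ : T8 ≤ NJ := cl_le fun g h => mem_NJ g (List.mem_of_mem_drop (i := 4) h)
theorem TJ_T8 : TJ ≤ T8 := cl_drop_le (cJ :: gTJ) 1
theorem B_TJ : B06 ≤ TJ := cl_drop_le gTJ 3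
theorem B_MJ : B06 ≤ MJ := B_TJ.trans TJ_MJ
theorem cJ_not : cJ ∉ MJ := fun a => pne inj6 (cJ_a.mul th_a) (th_a.mul cJ_a) 1 (by decide +kernel) (mem_Cz.1 a.2)
theorem idx_MJ : MJ.relIndex LJ = 2 := index_eq_two_iff.2 ⟨⟨cJ, (mem_NJ _ (by simp)).1⟩, fun b => by
  have c : cJ ∈ LJ := (mem_NJ _ (by simp)).1
  by_cases d : b.1 ∈ MJ
  · exact .inr ⟨d, fun e => cJ_not ((MJ.mul_mem_cancel_left d).1 e)⟩
  · exact .inl ⟨⟨mul_mem b.2 c, mem_Cz.2 (LinearEquiv.ext fun v => by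
      change b.1 (cJ (thL v)) = thL (b.1 (cJ v))
      rw [LJ_semi c cJ_not, LJ_semi b.2 d, LJ_semi b.2 d, th_cube])⟩, d⟩⟩
theorem card_MJ : Nat.card MJ = 1330560 := by
  have := (MJ.subgroupOf LJ).index_mul_card
  rw [H1.card_subgroupOf_of_le MJ_LJ, card_LJ, show (MJ.subgroupOf LJ).index = 2 from idx_MJ] at this
  omega
end
end H13
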