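import Cfsg.Agent.H13.J6
/-! Subgroups of `3.M22:2` in the unitary group. -/
set_option autoImplicit false
namespace H13
noncomputable section
open MulAction Cfsg H27 Subgroup H22
open scoped Pointwise

def pcT : PcCert := [(2, [], [[1, 0], [1], [3, 2], [3], [4], [5, 4, 3]]),
    (2, [0], [[0], [3], [2], [2, 1], [4, 2, 1]]),
    (2, [], [[1, 0], [1], [2, 1], [3, 2, 0]]),
    (2, [], [[0], [1], [2]]),
    (2, [], [[0], [1]]),
    (2, [], [[0]]),
    (2, [], [])]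
theorem pcT_chk : pcChk 12 4096 pcT nTJ = true := by decide +kernel
theorem card_TJ : Nat.card TJ = 2 ^ 7 := aTJ.pc_card fa6 inj6 le_rfl pcT_chk [(90, 1, 3), (256, 1, 3), (1, 1, 1)] (by decide +kernel)
theorem card_T8 : Nat.card T8 = 2 ^ 8 := (ActsL.pc_card (K := 12) fa6 inj6 le_rfl (.cons cJ_a aTJ) (C := [(2, [], [[0], [1], [2], [3], [4], [5], [6, 4]]),
    (2, [], [[1, 0], [1], [3, 2], [3], [4], [5, 4, 3]]),
    (2, [0], [[0], [3], [2], [2, 1], [4, 2, 1]]),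
    (2, [], [[1, 0], [1], [2, 1], [3, 2, 0]]),
    (2, [], [[0], [1], [2]]),
    (2, [], [[0], [1]]),
    (2, [], [[0]]),
    (2, [], [])])
  (by decide +kernel) [(1450, 1, 1), (90, 1, 3), (256, 1, 3), (1, 1, 1)] (by decide +kernel))
theorem fixUJ {g : AL V6} (hg : g ∈ LJ) (h : ∀ u ∈ U6s, g u = u) : g ∈ B06 := by
  have := E6.finite
  have c : Nat.card ↥(LJ ⊓ fixS (AL V6) (uB.map v6)) ≤ 16 := E6.lin_bound (F := uB) (H := LJ ⊓ fixS (AL V6) (uB.map v6)) [32, 16, 96, 144, 8, 4, 264, 516, 2, 1, 1026, 2049]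
    [(1, 8, [(0, 10, true), (0, 11, true), (0, 30, true), (0, 14, false), (0, 2, false)]), (2, 1, [(0, 11, true), (0, 13, true), (0, 34, true), (0, 30, true)]), (16, 2, [(0, 36, true), (0, 37, true), (0, 198, true), (0, 52, true)]), (32, 1, [(0, 46, true), (0, 48, true), (0, 130, true), (0, 359, true)]), (256, 1, [(0, 21, true), (0, 23, true), (0, 132, true), (0, 31, true)]), (512, 1, [(0, 34, true), (0, 35, true), (0, 220, true), (0, 71, true)])]
    (qinvJ inf_le_left) (fun b a => ⟨by revert b; decide, fun g c => c.2 _ (List.mem_map_of_mem a)⟩) (by decide +kernel)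
  have k : ∀ x ∈ uB.map v6, x ∈ U6s := List.forall_mem_map.2 (by decide +kernel)
  exact (eq_of_le_of_card_ge (le_inf (B_MJ.trans MJ_LJ) (show B06 ≤ fixS (AL V6) (uB.map v6) from fun b a x hx => B06_fix a (k x hx)))
    (c.trans card_B06.ge)).ge ⟨hg, fun x hx => h x (k x hx)⟩
theorem B_nrm {g b : AL V6} (a : g ∈ NJ) (h : b ∈ B06) : g * b * g⁻¹ ∈ B06 :=
  fixUJ (mul_mem (mul_mem a.1 (MJ_LJ (B_MJ h))) (inv_mem a.1)) fun u c => by
    change g (b (g⁻¹ u)) = u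
    rw [B06_fix h (NJ_U (inv_mem a) c)]; exact g.apply_symm_apply u
theorem st5 : cl (gLJ.drop 1) = LJ ⊓ stabilizer (AL V6) (v6 5) ∧ Nat.card ↥(LJ ⊓ stabilizer (AL V6) (v6 5)) = 1920 :=
  have := E6.finite
  ActsL.cl_eq (d := 12) inj6 le_rfl [(80, 3, 1), (6, 4, 2), (17, 1, 1)] (List.forall₂_drop 1 aLJ) (H := LJ ⊓ stabilizer (AL V6) (v6 5)) (fun g a => ⟨gLJ_mem g (List.mem_of_mem_drop a),
    ActsL.fix (List.forall₂_drop 1 aLJ) (by norm_num) (by decide +kernel) (mem_cl a)⟩)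
    (card_stab_of_orbit LJ _ ((congrArg _ (orbJ MJ_LJ le_rfl).2).trans cardK) (by norm_num) card_LJ).le (by decide +kernel)
theorem st5_NJ : LJ ⊓ stabilizer (AL V6) (v6 5) ≤ NJ :=
  st5.1.ge.trans (cl_le (allA (List.forall₂_drop 1 aLJ) nj_of (by decide +kernel)))
def XUK : Nat := 0x8000000000000000000000200000000000000000040000000000000000000001000000000000000000000000000000000000000000000000000000000000000000000000000000000000000000000000000000000000000000000000000000000000000000000000000000000000000000000000000000000000000000000000000000000000000000000000000000000000000000000000000000000000000000200000000000000000040000000000000000008000000000000000000000010000000000000000000000000000000000000000000000000000000000000000000000000000000000000000000000000000000000000000000000000000000000000000000000000000000000000000000000000000000000000000000000000000000000000000000000000000000000000000000000000000000000000000040000000000000000008000000000000000000000200000000000000000000100000000000000000000000000000000000000000000000000000000000000000000000000000000000000000000000000000000000000000000000000000000000000000000000000000000000000000000000000000000000000000000000000000000000000000000000000000000000000000000000000000000000000000001000000000000000000010000000000000000000100000000000000008420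
theorem orbN : orbit (cl [nCJ, nA6, nBJ]) (v6 5) = mset 4096 v6 XUK :=
  aNJ.orbit_eq (k := 2) (by norm_num) (by decide +kernel)
theorem gN_NJ : cl [nCJ, nA6, nBJ] ≤ NJ := cl_le fun g a => mem_NJ g (by
  simp only [List.mem_cons, List.not_mem_nil, or_false] at a
  rcases a with rfl | rfl | rfl <;> simp)
theorem trN {u : V6} (a : u ∈ U6s) (b : u ∈ SK) : ∃ n ∈ NJ, n (v6 5) = u := by
  obtain ⟨i, hi, rfl⟩ := E6.surj u
  obtain ⟨n, e⟩ := orbN.ge ((mem_mset inj6 hi).2 (by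
    rw [show XUK = XU &&& XK by decide +kernel, Nat.testBit_and, Bool.and_eq_true]
    exact ⟨(memU hi).1 a, (memK hi).1 b⟩))
  exact ⟨n, gN_NJ n.2, e⟩
theorem U1 {g : AL V6} (h : g ∈ LJ) {u : V6} (a : u ∈ U6s) (b : u ∈ SK) (c : g u ∈ U6s) : g ∈ NJ := by
  obtain ⟨n, d, rfl⟩ := trN a b
  obtain ⟨m, e, f⟩ := trN c (invK h b)
  have := st5_NJ (x := m⁻¹ * g * n) ⟨LJ.mul_mem (LJ.mul_mem (LJ.inv_mem e.1) h) d.1, m.symm_apply_eq.2 f.symm⟩
  rwa [NJ.mul_mem_cancel_right d, NJ.mul_mem_cancel_left (inv_mem e)] at this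
theorem le_NJ : 34560 ≤ Nat.card NJ :=
  have := E6.finite
  chain_step (m := 18) (c := 1920) (v6 5) st5_NJ (fun _ a => a.2) (le_trans (by
    rw [orbN, ncard_mset_pop (d := 12) inj6 le_rfl]; decide +kernel) (Set.ncard_le_ncard
      (s := orbit (cl [nCJ, nA6, nBJ]) (v6 5)) fun _ ⟨g, e⟩ => ⟨⟨g, gN_NJ g.2⟩, e⟩)) st5.2.ge
theorem B_trJ {b : AL V6} (hb : b ∈ B06) (h1 : b ≠ 1) : ∃ k ∈ NJ ⊓ MJ, k * b * k⁻¹ = bb1 := by
  have a : ∀ g ∈ [nA6, nBJ], g ∈ NJ ⊓ MJ := List.forall_mem_cons.2 ⟨⟨mem_NJ _ (by simp), mem_MJ _ (by simp)⟩,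
    List.forall_mem_singleton.2 ⟨mem_NJ _ (by simp), mem_MJ _ (by simp)⟩⟩
  obtain ⟨r, hr, k⟩ := aFB.cls0 (K := 12) (q := 2) (w := 8) (rb := 1) (T := 0x22c1c04fc7c14000c5c3c2e540e0600) (A := ⊤)
    (H := NJ ⊓ MJ) inj6 le_rfl (fun g _ => fa6 g) le_top (C := [(2, [], [[0], [1], [2]]), (2, [], [[0], [1]]), (2, [], [[0]]), (2, [], [])])
    (ActsL.word (.cons nA_a (.cons nBJ_a .nil)) [0, 1, 0, 1, 0, 1, 0]) (.cons (aFB.getD 0) .nil) (fun _ _ => trivial)
    (wordG_mem a _) (fun _ _ => trivial) (by decide +kernel) (by decide +kernel) hb h1 (B06_sq b hb)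
  rwa [List.mem_singleton.1 hr] at k
theorem U2 {g b : AL V6} (h : g ∈ LJ) (hb : b ∈ B06) (h1 : b ≠ 1) (c : g * b * g⁻¹ ∈ B06) : g ∈ NJ := by
  obtain ⟨k, ⟨d, -⟩, rfl⟩ : ∃ k ∈ NJ ⊓ MJ, b = k⁻¹ * bb1 * k := by
    obtain ⟨k, d, e⟩ := B_trJ hb h1
    exact ⟨k, d, by rw [← e]; group⟩
  rw [← NJ.mul_mem_cancel_right (inv_mem d)]
  have e : v6 80 = bb1 (v6 16) + v6 16 := by rw [show bb1 (v6 16) = _ from bb1_c 16 (by norm_num)]; decide +kernel
  refine U1 (mul_mem h (inv_mem d.1)) (u := v6 80) (by decide +kernel) ((memK (by norm_num)).2 (by decide +kernel)) (U_perp fun u a => ?_)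
  have f : (g * k⁻¹) (v6 80) = (g * (k⁻¹ * bb1 * k) * g⁻¹) ((g * k⁻¹) (v6 16)) + (g * k⁻¹) (v6 16) := by
    rw [e, map_add]; simp
  rw [f, qf6.add, ← pol_smul (g := g * (k⁻¹ * bb1 * k) * g⁻¹) (LJ_O6 (MJ_LJ (B_MJ c))) ((g * k⁻¹) (v6 16)) u]
  exact (congrArg (pol q6 _ u + pol q6 _ ·) (B06_fix c a)).trans (z2_two _)
theorem B_relJ : nBJ * bb1 * nBJ⁻¹ = bb3 * bb4 ∧ nBJ * bb2 * nBJ⁻¹ = bb1 * bb3 * bb4 ∧
    nBJ * bb3 * nBJ⁻¹ = bb2 * bb3 ∧ nBJ * bb4 * nBJ⁻¹ = bb1 * bb2 * bb3 * bb4 :=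
  have a := aFB.getD 0
  have b := aFB.getD 1
  have c := aFB.getD 2
  have d := aFB.getD 3
  ⟨fa6.peq 12 ((nBJ_a.mul a).mul nBJ_a.inv) (c.mul d) (by decide +kernel),
    fa6.peq 12 ((nBJ_a.mul b).mul nBJ_a.inv) ((a.mul c).mul d) (by decide +kernel),
    fa6.peq 12 ((nBJ_a.mul c).mul nBJ_a.inv) (b.mul c) (by decide +kernel),
    fa6.peq 12 ((nBJ_a.mul d).mul nBJ_a.inv) (((a.mul b).mul c).mul d) (by decide +kernel)⟩
theorem clsJ {g : AL V6} (h : g ∈ MJ) (o : orderOf g = 2) : ∃ k ∈ MJ, k * g * k⁻¹ = bb1 := by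
  have := E6.finite
  obtain ⟨r, hr, k⟩ := aTJ.cls (K := 12) (p := 2) (j := 0) (k := 7) (w := 19) (rb := 1) (T := 0x38000000000000002adb00000000000000000000000003ade000000000000001bd6a00000016f00000000000000001bd0000000000000000000000000005a000000000000000f7ba0000000000000000d5c000000000000000d6de000000000000000006a0000000000000002bb60000000000000000000000000000000000000000000175b8000007fbc000000bba80000006bc00000000000000000000000000000000000000000000000000000000000000000000000000000000000000000000000000000000000000000000000000000000000000000000000000000000000005ab780000000000000177ad000000000000000000000000002b600000000000000002fa2bfac003f0001e016ae1bea8055f80006000006eedc07d503bb72fad40fab800ff06abf00000) inj6 le_rfl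
    (H := MJ) (fun g _ => fa6 g) Nat.prime_two (by rw [card_MJ]; norm_num) (aMJ.word [0, 1, 0, 1, 0, 1, 0, 1, 0, 1, 0, 1, 0, 1, 0, 1, 0, 1]) (.cons (aFB.getD 0) .nil)
    (fun _ a => TJ_MJ (mem_cl a)) (wordG_mem gMJ_mem _) (List.forall_mem_singleton.2 (B_MJ (mem_cl (by simp [gB6])))) pcT
    [(90, 1, 3), (256, 1, 3), (1, 1, 1)] (by decide +kernel) h o
  rwa [List.mem_singleton.1 hr] at k
theorem cen8 {g : AL V6} (hg : g ∈ TJ) (n : g ∉ B06) {K : Subgroup (AL V6)} (l : K ≤ B06) (h : ∀ b ∈ K, g * b = b * g) :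
    Nat.card K ≤ 4 := by
  obtain ⟨_, vs, Vs, u, rfl, w⟩ := aTJ.pc_forall fa6 pcT_chk (p := fun _ Vs =>
    or' (allL uB fun i => Nat.beq (fnL Vs i) i) (anyL [([0], [3]), ([2], [3])] fun p : List Nat × List Nat =>
      allL [p.1, p.2, List.append p.1 p.2] fun w => not' (eqL 12 4096 (appendL Vs (wordN fB6 w)) (appendL (wordN fB6 w) Vs))))
    (by decide +kernel) hg
  rw [or'_eq, Bool.or_eq_true, allL_iff, anyL_iff] at w
  rcases w with w | ⟨p, -, w⟩
  · exact absurd (fixUJ (MJ_LJ (TJ_MJ hg)) fun _ a => U_ind (K := vs.prod.toAddEquiv.toAddMonoidHom.eqLocus (AddMonoidHom.id _))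
      (fun b hb => (u.prod_act ((by decide : ∀ b ∈ uB, b < 4096) b hb)).trans (congrArg v6 ((beq_iff _ _).1 (w b hb)))) a) n
  have k : ∀ v ∈ [p.1, p.2, List.append p.1 p.2], (wordG gB6 v).prod ∉ K := fun v a b => by
    have := (allL_iff _ _).1 w v a
    rw [ActsL.eqL_of_eq inj6 le_rfl (ActsL.app u (aFB.word v)) (ActsL.app (aFB.word v) u) (by simpa using h _ b)] at this
    exact absurd this (by decide)
  have m : ∀ v, (wordG gB6 v).prod ∈ B06 := wordG_prod_mem fun _ => mem_cl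
  by_contra c
  have d := (K.subgroupOf B06).index_mul_card
  rw [H1.card_subgroupOf_of_le l, card_B06] at d
  have e : Nat.card K ∣ 2 ^ 4 := Dvd.intro_left _ d
  obtain ⟨j, hj, e⟩ := (Nat.dvd_prime_pow Nat.prime_two).1 e
  rw [e] at c d
  rcases (by interval_cases j <;> omega : (K.subgroupOf B06).index = 1 ∨ (K.subgroupOf B06).index = 2) with i | i
  · exact k p.1 (by simp) ((index_eq_one.1 i).ge (mem_top ⟨_, m _⟩))
  · refine k (List.append p.1 p.2) (by simp) ?_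
    have := (mul_mem_iff_of_index_two i (a := ⟨_, m p.1⟩) (b := ⟨_, m p.2⟩)).2 (iff_of_false (k _ (by simp)) (k _ (by simp)))
    simpa [wordG, mem_subgroupOf] using this
theorem cen_BJ {g : AL V6} (hg : g ∈ TJ) (h : ∀ b ∈ B06, g * b = b * g) : g ∈ B06 :=
  not_not.1 fun n => absurd (card_B06.ge.trans (cen8 hg n le_rfl h)) (by norm_num)
theorem relJ : rJ * rJ = sJ ∧ sJ * sJ = 1 ∧ aJ * aJ = 1 ∧ aJ * rJ * (aJ * rJ) = 1 ∧ cJ * cJ = 1 ∧ cJ * aJ * (cJ * aJ) = 1 ∧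
    cJ * (aJ * rJ) * (cJ * (aJ * rJ)) = 1 :=
  ⟨fa6.peq 12 (rJ_a.mul rJ_a) sJ_a (by decide +kernel), fa6.peq 12 (sJ_a.mul sJ_a) .one (by decide +kernel),
    fa6.peq 12 (aJ_a.mul aJ_a) .one (by decide +kernel), fa6.peq 12 ((aJ_a.mul rJ_a).mul (aJ_a.mul rJ_a)) .one (by decide +kernel),
    fa6.peq 12 (cJ_a.mul cJ_a) .one (by decide +kernel), fa6.peq 12 ((cJ_a.mul aJ_a).mul (cJ_a.mul aJ_a)) .one (by decide +kernel),
    fa6.peq 12 ((cJ_a.mul (aJ_a.mul rJ_a)).mul (cJ_a.mul (aJ_a.mul rJ_a))) .one (by decide +kernel)⟩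
theorem ab_TJ {S : Subgroup (AL V6)} (hS : S ≤ TJ) (h : ∀ x ∈ S, ∀ y ∈ S, x * y = y * x) :
    Nat.card S ≤ 4 * Nat.card ↥(S ⊓ B06) := by
  have : (B06.subgroupOf TJ).Normal := ⟨fun b c g => B_nrm (T8_NJ (TJ_T8 g.2)) c⟩
  let φ := QuotientGroup.mk' (B06.subgroupOf TJ)
  have h3 : Nat.card (TJ ⧸ B06.subgroupOf TJ) = 8 := by
    have := (B06.subgroupOf TJ).index_mul_card
    rw [H1.card_subgroupOf_of_le B_TJ, card_B06, card_TJ] at this
    exact Nat.eq_of_mul_eq_mul_right (by norm_num : 0 < 16) this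
  have a := H1.card_map_mul_card_inf_ker (S.subgroupOf TJ) φ
  rw [H1.card_subgroupOf_of_le hS, QuotientGroup.ker_mk', show S.subgroupOf TJ ⊓ B06.subgroupOf TJ = (S ⊓ B06).subgroupOf TJ from rfl,
    H1.card_subgroupOf_of_le (inf_le_left.trans hS)] at a
  have b := ((S.subgroupOf TJ).map φ).card_subgroup_dvd_card
  rw [h3] at b
  have c : Nat.card ((S.subgroupOf TJ).map φ) ≠ 8 := fun c => by
    have t := (card_eq_iff_eq_top _).1 (c.trans h3.symm)
    have m : aJ ∈ TJ ∧ rJ ∈ TJ := ⟨mem_cl (by simp [gTJ]), mem_cl (by simp [gTJ])⟩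
    obtain ⟨x, hx, e⟩ := t.ge (mem_top (φ ⟨_, m.1⟩))
    obtain ⟨y, hy, f⟩ := t.ge (mem_top (φ ⟨_, m.2⟩))
    have k : φ (⟨_, m.1⟩ * ⟨_, m.2⟩) = φ (⟨_, m.2⟩ * ⟨_, m.1⟩) := by
      rw [map_mul, map_mul, ← e, ← f, ← map_mul, ← map_mul, show x * y = y * x from Subtype.ext (h _ hx _ hy)]
    have l : (aJ * rJ)⁻¹ * (rJ * aJ) ∈ B06 := (QuotientGroup.eq (s := B06.subgroupOf TJ)).1 k
    exact absurd (inj6 (by decide +kernel) (by norm_num) (((((aJ_a.mul rJ_a).inv.mul (rJ_a.mul aJ_a)).act 80 (by norm_num)).symm.trans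
      (B06_fix l (by decide +kernel))))) (by decide +kernel)
  have := Nat.le_of_dvd (by norm_num) b
  rw [← a]
  refine Nat.mul_le_mul_right _ ?_
  generalize Nat.card ((S.subgroupOf TJ).map φ) = n at *
  interval_cases n <;> omega
theorem ab16 {S : Subgroup (AL V6)} (hS : S ≤ TJ) (h : ∀ x ∈ S, ∀ y ∈ S, x * y = y * x) : Nat.card S ≤ 16 := by
  have := E6.finite
  by_cases a : S ≤ B06
  · exact (card_le_of_le a).trans card_B06.le
  obtain ⟨s, b, c⟩ := Set.not_subset.1 a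
  have := cen8 (hS b) c (K := S ⊓ B06) inf_le_right fun x d => h s b x d.1
  have := ab_TJ hS h
  omega
theorem half_MJ {S : Subgroup (AL V6)} (hS : S ≤ LJ) : Nat.card S ≤ 2 * Nat.card ↥(S ⊓ MJ) := by
  rw [← ((S ⊓ MJ).subgroupOf S).index_mul_card, H1.card_subgroupOf_of_le inf_le_left]
  exact Nat.mul_le_mul_right _ ((inf_relIndex_left S MJ).trans_le ((relIndex_le_of_le_right hS (by rw [idx_MJ]; omega)).trans idx_MJ.le))
theorem ab32 {S : Subgroup (AL V6)} (hS : S ≤ LJ) (p : IsPGroup 2 S) (h : ∀ x ∈ S, ∀ y ∈ S, x * y = y * x) : Nat.card S ≤ 32 := by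
  have := E6.finite
  obtain ⟨k, -, a⟩ := exists_conj_le_sylow Nat.prime_two TJ_MJ card_TJ (by rw [card_MJ]; norm_num) (Q := S ⊓ MJ) inf_le_right
    p.to_inf_left
  have := ab16 (S := (S ⊓ MJ).map (MulAut.conj k).toMonoidHom) (by rintro _ ⟨x, b, rfl⟩; exact a x b) (by
    rintro _ ⟨x, b, rfl⟩ _ ⟨y, c, rfl⟩
    rw [← map_mul, ← map_mul, h x b.1 y c.1])
  rw [card_map_of_injective (MulAut.conj k).injective] at this
  have := half_MJ hS
  omega
theorem smallJ {F : Subgroup (AL V6)} (p : IsPGroup 2 F) (a : F ≤ LJ ⊓ stabilizer (AL V6) (v6 5))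
    (b : ∀ t ∈ LJ ⊓ stabilizer (AL V6) (v6 5), ∀ f ∈ F, t * f * t⁻¹ ∈ F) : F ≤ B06 := fun f hf => by
  have o : orbit ↥(LJ ⊓ stabilizer (AL V6) (v6 5)) (v6 80) = mset 4096 v6 (orL [80, 160, 240, 1280, 1365, 1455, 1530, 2560, 2655, 2730, 2805, 3840, 3930, 4005, 4095]) :=
    st5.1 ▸ ActsL.orbit_eq (List.forall₂_drop 1 aLJ) (k := 3) (by norm_num) (by decide +kernel)
  have := fix_odd p (S := orbit ↥(LJ ⊓ stabilizer (AL V6) (v6 5)) (v6 80)) (by
    rw [o, ncard_mset_pop (d := 12) inj6 le_rfl]; decide +kernel) (fun f c _ ⟨g, e⟩ => ⟨⟨f, a c⟩ * g, e ▸ mul_smul ..⟩) b subset_rfl f hf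
  rw [o] at this
  refine fixUJ (a hf).1 fun _ c => U_ind (K := f.toAddEquiv.toAddMonoidHom.eqLocus (AddMonoidHom.id _)) (fun b hb => ?_) c
  obtain ⟨m, -, rfl⟩ := (by decide +kernel : ∀ b ∈ uB, ∃ m ∈ [25, 51, 1, 2, 8, 128], xsum [80, 160, 240, 1280, 1365, 1455, 1530, 2560, 2655, 2730, 2805, 3840, 3930, 4005, 4095] m = b) b hb
  exact E6.xsum_mem (fun i hi => this _ ((mem_mset inj6 (by revert i; decide)).2 ((testBit_orL _ _).2 hi))) m

def wB : List Nat := [86, 171, 281, 558, 1082, 2079]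
/-- a complement to the isotropic three-space -/
def WJ : AddSubgroup V6 where
  carrier := {v | ∃ m < 2 ^ 6, v6 (xsum wB m) = v}
  zero_mem' := ⟨0, by norm_num, E6.zero⟩
  add_mem' := by
    rintro _ _ ⟨a, u, rfl⟩ ⟨b, v, rfl⟩
    exact ⟨_, Nat.xor_lt_two_pow u v, by rw [xsum_xor, v6_xor]⟩
  neg_mem' {v} a := (qf6.neg v).symm ▸ a
theorem W_q {v : V6} (a : v ∈ WJ) : q6 v = 0 := by
  obtain ⟨m, b, rfl⟩ := a
  revert m; decide +kernel
theorem W_pol {u v : V6} (a : u ∈ WJ) (b : v ∈ WJ) : pol q6 u v = 0 := by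
  rw [pol, W_q a, W_q b, W_q (add_mem a b)]; rfl
theorem card_W : Nat.card WJ ≤ 64 := (Nat.card_le_card_of_surjective (fun m : Fin (2 ^ 6) => (⟨_, m, m.2, rfl⟩ : WJ))
  fun ⟨_, m, a, b⟩ => ⟨⟨m, a⟩, Subtype.ext b⟩).trans (by simp)
theorem W_inv : ∀ g ∈ [thL, cJ, aJ, rJ, sJ], ∀ v ∈ WJ, g v ∈ WJ := allA (Q := fun g => ∀ v ∈ WJ, g v ∈ WJ)
  (.cons th_a (.cons cJ_a (.cons aJ_a (.cons rJ_a (.cons sJ_a .nil))))) (p := fun N => allL wB fun b => force (N.fn b) fun c =>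
    anyN 64 fun m => Nat.beq (xsum wB m) c) (fun {g N} a c => by
      rintro _ ⟨m, -, rfl⟩
      refine E6.xsum_mem (K := WJ.comap g.toAddEquiv.toAddMonoidHom) (fun b d => ?_) m
      have := (allL_iff _ _).1 c b d
      rw [force_eq, anyN_iff] at this
      obtain ⟨m, e, f⟩ := this
      exact ⟨m, e, ((a.act b ((by decide : ∀ b ∈ wB, b < 4096) b d)).trans (congrArg v6 ((beq_iff _ _).1 f).symm)).symm⟩)
  (by decide +kernel)
theorem UW (v : V6) : v ∈ U6s ⊔ WJ := E6.top_of (fun k hk => by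
  obtain ⟨p, a, b⟩ := (by decide +kernel : ∀ k < 12, ∃ p ∈ [(10, 2), (15, 3), (11, 2), (13, 3), (63, 63), (21, 21), (59, 63), (29, 21), (56, 58), (28, 31), (40, 58), (60, 31)], p.2 < 2 ^ 6 ∧ xsum uB p.1 ^^^ xsum wB p.2 = 2 ^ k) k hk
  rw [← b.2]
  exact E6.xor _ _ ▸ AddSubgroup.add_mem_sup (xs_U _) ⟨_, b.1, rfl⟩) v
end
end H13
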