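import Cfsg.Agent.H13.J6b
import Cfsg.Agent.S0278
import Cfsg.Agent.H27.MCls
/-! Identification of the triple cover of `M22` in the unitary group. -/
set_option autoImplicit false
namespace H13
noncomputable section
open MulAction Cfsg H27 Subgroup H22
open scoped Pointwise

theorem onb_pol {V : Type*} [AddCommGroup V] {q : V → ZMod 2} (h : QF q) {θ : AL V} (hq : ∀ v, q (θ v) = q v)
    (h3 : ∀ v : V, nv θ v = 0) {k : ℕ} {w : Fin k → V} (a : ∀ i, q (w i) = 1)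
    (b : ∀ i j, i ≠ j → pol q (w i) (w j) = 0 ∧ pol q (θ (w i)) (w j) = 0) (c : Fin k → GF4) (j : Fin k) :
    pol q (phi4 h.two (fun _ => θ) w c) (w j) = (c j).im ∧ pol q (phi4 h.two (fun _ => θ) w c) (θ (w j)) = (c j).re := by
  have e : pol q (θ (w j)) (w j) = 1 := by
    rw [pol, add_comm (θ _), show w j + θ (w j) = θ (θ (w j)) from (nv_eq h.two (h3 _)).symm, hq, hq, a]; rfl
  have f : ∀ u v, pol q (θ u) (θ v) = pol q u v := pol_smul (g := θ) hq
  have k : ∀ (n : ZMod 2) u v, pol q (n.val • u) v = n * pol q u v := fun n u v => by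
    rcases z2_cases n with rfl | rfl <;> simp [h.zero, ZMod.val_one]
  change pol q (∑ i, sc4 θ (w i) (c i)) _ = _ ∧ pol q (∑ i, sc4 θ (w i) (c i)) _ = _
  simp only [h.sum, sc4, h.add, k, LinearEquiv.smul_def, f]
  rw [Finset.sum_eq_single j (fun i _ d => by rw [(b i j d).1, (b i j d).2]; simp) (by simp),
    Finset.sum_eq_single j (fun i _ d => by rw [(b i j d).1, pol_comm, (b j i d.symm).2]; simp) (by simp),
    h.self, e, pol_comm, e]
  simp
theorem onb_ex {V : Type*} [AddCommGroup V] {q : V → ZMod 2} (h : QF q) {θ : AL V} (hq : ∀ v, q (θ v) = q v)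
    (h3 : ∀ v : V, nv θ v = 0) (k : ℕ) (hk : 4 ^ k ≤ Nat.card V) : ∃ w : Fin k → V, (∀ i, q (w i) = 1) ∧
      ∀ i j, i ≠ j → pol q (w i) (w j) = 0 ∧ pol q (θ (w i)) (w j) = 0 := by
  induction k with
  | zero => exact ⟨Fin.elim0, by simp⟩
  | succ k ih =>
    obtain ⟨w, a, b⟩ := ih ((Nat.pow_le_pow_right (by norm_num) k.le_succ).trans hk)
    have f : ∀ u v, pol q (θ u) (θ v) = pol q u v := pol_smul (g := θ) hq
    by_cases c : ∃ u, q u = 1 ∧ ∀ j, pol q u (w j) = 0 ∧ pol q u (θ (w j)) = 0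
    · obtain ⟨u, c, d⟩ := c
      refine ⟨Fin.cons u w, fun i => by cases i using Fin.cases <;> simp [*], fun i j e => ?_⟩
      cases i using Fin.cases <;> cases j using Fin.cases
      · exact absurd rfl e
      · refine ⟨(d _).1, ?_⟩
        rename_i j
        have := f (θ u) (w j)
        rw [show θ (θ u) = u + θ u from nv_eq h.two (h3 u), h.add, (d j).2, f, (d j).1] at this
        simpa using this.symm
      · exact ⟨(pol_comm ..).trans (d _).1, (pol_comm ..).trans (d _).2⟩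
      · exact b _ _ fun g => e (congrArg _ g)
    exfalso
    let Φ := phi4 h.two (fun _ => θ) w
    let p : V → V := fun v => v + Φ fun i => ⟨pol q v (θ (w i)), pol q v (w i)⟩
    have p1 : ∀ v j, pol q (p v) (w j) = 0 ∧ pol q (p v) (θ (w j)) = 0 := fun v j => by
      obtain ⟨s, t⟩ := onb_pol h hq h3 a b (fun i => ⟨pol q v (θ (w i)), pol q v (w i)⟩) j
      exact ⟨(h.add ..).trans ((congrArg _ s).trans (z2_two _)), (h.add ..).trans ((congrArg _ t).trans (z2_two _))⟩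
    have p2 : ∀ u, (∀ j, pol q u (w j) = 0 ∧ pol q u (θ (w j)) = 0) → q u = 0 := fun u d =>
      (z2_cases _).resolve_right fun e => c ⟨u, e, d⟩
    have p3 : ∀ v c, pol q (Φ c) (p v) = 0 := fun v c => (h.sum Finset.univ (fun i => sc4 θ (w i) (c i)) (p v)).trans (Finset.sum_eq_zero fun i _ => by
      rcases f4_cases (c i) with d | d | d | d <;> rw [d]
      exacts [by rw [sc4_zero, h.zero], by rw [sc4_one, pol_comm, (p1 v i).1], by rw [sc4_th, pol_comm]; exact (p1 v i).2,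
        by rw [sc4_th2, pol_comm, h.add', (p1 v i).1, zero_add]; exact (p1 v i).2])
    have p4 : Function.Surjective Φ := fun v => ⟨_, (h.eq_of (h.nd (p v) fun y => by
      have e : pol q (p y) (p v) = 0 := by
        rw [pol, p2 _ (p1 y), p2 _ (p1 v), p2 _ fun j => by rw [h.add (p y), h.add (p y), (p1 y j).1, (p1 y j).2, (p1 v j).1, (p1 v j).2]; simp]
        rfl
      rwa [h.add, p3, add_zero, pol_comm] at e)).symm⟩
    have := Nat.card_le_card_of_surjective _ p4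
    rw [Nat.card_fun, Nat.card_eq_fintype_card (α := GF4), card_GF4, Nat.card_fin] at this
    have := Nat.pow_lt_pow_right (show 1 < 4 by norm_num) k.lt_succ_self
    omega
theorem onb {V : Type*} [AddCommGroup V] {q : V → ZMod 2} (h : QF q) {θ : AL V} (hq : ∀ v, q (θ v) = q v)
    (h3 : ∀ v : V, nv θ v = 0) (hV : Nat.card V = 4096) : ∃ ψ : V6 ≃+ V, (∀ v, q (ψ v) = q6 v) ∧ ∀ v, ψ (thL v) = θ (ψ v) := by
  obtain ⟨w, a, b⟩ := onb_ex h hq h3 6 (by rw [hV]; norm_num)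
  have c := onb_pol h hq h3 a b
  have : Finite V := Nat.finite_of_card_ne_zero (by rw [hV]; norm_num)
  refine ⟨AddEquiv.ofBijective (phi4 h.two (fun _ => θ) w) ((Nat.bijective_iff_injective_and_card _).2
    ⟨(injective_iff_map_eq_zero _).2 fun v e => funext fun j => ?_, card_V6.trans hV.symm⟩), fun v => ?_, fun v => ?_⟩
  · have := c v j
    rw [e, h.zero, h.zero] at this
    exact QuadraticAlgebra.ext this.2.symm this.1.symm
  · refine (h.q_sum Finset.univ (t := fun i => sc4 θ (w i) (v i)) fun i j e => ?_).trans (Finset.sum_congr rfl fun i _ => ?_)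
    · obtain ⟨s, t⟩ := c (Pi.single i (v i)) j
      rw [phi4_single, Pi.single_eq_of_ne e.symm] at s t
      rcases f4_cases (v j) with d | d | d | d <;> rw [d]
      exacts [by rw [sc4_zero, h.zero'], by rw [sc4_one, s]; rfl, by rw [sc4_th]; exact t,
        by rw [sc4_th2, h.add', s]; exact (zero_add _).trans t]
    · rcases f4_cases (v i) with d | d | d | d <;> rw [d]
      exacts [by rw [sc4_zero, h.q0]; rfl, by rw [sc4_one, a]; rfl, by rw [sc4_th]; exact (hq _).trans (a i),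
        by rw [sc4_th2, ← nv_eq h.two (h3 _)]; exact (hq _).trans ((hq _).trans (a i))]
  · change ∑ i, sc4 θ (w i) (th * v i) = θ (∑ i, sc4 θ (w i) (v i))
    rw [map_sum]
    exact Finset.sum_congr rfl fun i _ => sc4_mul h.two (h3 _) _

theorem card_SU6 : Nat.card SU6 = 27590492160 := by
  obtain ⟨ι, a, b⟩ := exists_su6 GF4 card_GF4
  have := Cfsg.Agent.S0278.result (F := GF4) (q := 2) card_GF4 6 (by norm_num)
  rw [Nat.card_congr (ι.ofInjective a).toEquiv, b] at this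
  simp [Finset.prod_range_succ, Nat.even_iff] at this
  omega
theorem su_of {g : AL V6} (h : g ∈ GU6) (e : g ^ 55 = 1) : g ∈ SU6 := (mem_SU6 h).2
  ((by decide +kernel : ∀ c : GF4ˣ, c ^ 55 = 1 → c = 1) _ (by
    rw [← map_pow, show (⟨g, h.2⟩ : Cz thL) ^ 55 = 1 from Subtype.ext ((coe_pow ..).trans e), map_one]))
def ΓU : Subgroup (AL V6) := O6 ⊓ NT
theorem GU_ΓU : GU6 ≤ ΓU := fun _ a => ⟨a.1, mem_NT.2 (.inl (mem_Cz.1 a.2))⟩
theorem LJ_ΓU : LJ ≤ ΓU := le_inf LJ_O6 inf_le_right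
theorem MJ_GU : MJ ≤ GU6 := le_inf (MJ_LJ.trans LJ_O6) inf_le_right
theorem th_cen {g t : AL V6} (a : g ∈ Cz thL) (b : t ∈ zpowers thL) : g * t = t * g := by
  obtain ⟨k, rfl⟩ := b
  exact (Commute.zpow_right (mem_Cz.1 a) k).eq
theorem cj_GU {g k : AL V6} (a : g ∈ ΓU) (b : k ∈ GU6) : g * k * g⁻¹ ∈ GU6 :=
  ⟨O6.mul_mem (O6.mul_mem a.1 b.1) (O6.inv_mem a.1), mem_Cz.2 (by
    have := th_cen b.2 ((mem_normalizer_iff''.1 a.2 _).1 (mem_zpowers thL))
    calc g * k * g⁻¹ * thL = g * (k * (g⁻¹ * thL * g)) * g⁻¹ := by group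
      _ = _ := by rw [this]; group)⟩
theorem LJ_of {g : AL V6} (a : g ∈ ΓU) (b : g ∈ normalizer (MJ : Set (AL V6))) : g ∈ LJ := by
  have o := orbJ le_rfl MJ_LJ
  have k : ∀ v, v ∈ SJ ↔ q6 v = 0 ∧ v ≠ 0 ∧ osz MJ v = 693 := fun v => ⟨fun h => ⟨(djJ (.inl h)).2.1, (djJ (.inl h)).1, by
    rw [← o.1] at h; rw [osz_of h, o.1, cardJ]⟩, fun h => (singJ h.1 h.2.1).resolve_right fun c => by
      rw [← o.2] at c; rw [osz_of c, o.2, cardK] at h; omega⟩
  exact ⟨Set.ext fun v => Set.mem_smul_set_iff_inv_smul_mem.trans (by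
    rw [k, k, osz_smul (inv_mem b), smul_ne_zero_iff_ne]
    exact and_congr_left' (by rw [← O6.inv_mem a.1 v]; rfl)), a.2⟩

def lI : List (List Nat) := [[0x4, 0x1008, 0x2022, 0x3010, 0x400a, 0x5007, 0x6082, 0x7041, 0x82c2, 0x9181, 0xa1a9, 0xb6c6, 0xa800, 0x9c00, 0x8800, 0x7a00, 0x6500, 0x5240, 0x43a0, 0x3400, 0x2bb8, 0x19f4, 0x7ac],
  [0x4, 0x1008, 0x200b, 0x3006, 0x4002, 0x5013, 0x6021, 0x7052, 0x84a2, 0x9953, 0xa121, 0xb712, 0xa800, 0x9400, 0x8a00, 0x7200, 0x6380, 0x54c0, 0x4860, 0x37e0, 0x2e90, 0x100c, 0x8],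
  [0x2, 0x1001, 0x2002, 0x3003, 0x4021, 0x5013, 0x60bb, 0x7066, 0x802e, 0x9037, 0xa19c, 0xb2e4, 0xa800, 0x9800, 0x8e00, 0x7400, 0x6880, 0x5e40, 0x47a0, 0x3580, 0x2ac8, 0x1264, 0x3ba],
  [0x4020, 0x5010, 0x8030, 0x9110, 0xab20, 0xb510, 0x9400, 0x8a00, 0x5f00, 0x4a00]]
def xI : AL V6 := nel (nth [] lI 0)
def yI : AL V6 := nel (nth [] lI 1)
def wI : AL V6 := nel (nth [] lI 2)
def dI : AL V6 := nel (nth [] lI 3)
def nI (i : Nat) : Net := lnet 12 (nth [] lI i)
theorem lI_chk {i : Nat} (h : i < 4 := by norm_num) : nelChk (nth [] lI i) = true :=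
  (by decide +kernel : ∀ i < 4, nelChk (nth [] lI i) = true) i h
theorem xI_a : Acts 4096 v6 xI (nI 0) := nel_a lI_chk
theorem yI_a : Acts 4096 v6 yI (nI 1) := nel_a lI_chk
theorem wI_a : Acts 4096 v6 wI (nI 2) := nel_a lI_chk
theorem dI_a : Acts 4096 v6 dI (nI 3) := nel_a lI_chk
def cxI : List Nat := [0x7e4, 0x978, 0x6bc, 0xbd4, 0x142, 0x283, 0x4dd, 0x866, 0x926, 0xe3b, 0xd74, 0x698]
def cyI : List Nat := [0x764, 0x9b8, 0x9b2, 0xed3, 0x8ba, 0xcdf, 0xe1f, 0x725, 0xecf, 0x745, 0x365, 0x1ba]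
def cyJ : List Nat := [0x19d, 0x2e6, 0x58d, 0xac6, 0x591, 0xae2, 0x49d, 0x8e6, 0x51d, 0xa26, 0x59c, 0xae4]
def cθ : List Nat := [0x2, 0x3, 0x8, 0xc, 0x20, 0x30, 0x80, 0xc0, 0x200, 0x300, 0x800, 0xc00]
theorem xI_c : E6.Cols xI cxI := (show lcol (nth [] lI 0) = cxI by decide +kernel) ▸ nel_c lI_chk
theorem yI_c : E6.Cols yI cyI := (show lcol (nth [] lI 1) = cyI by decide +kernel) ▸ nel_c lI_chk
theorem yJ_c : E6.Cols (yI * yI) cyJ := E6.cols_of fun k hk => ((yI_a.mul yI_a).act _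
  (Nat.pow_lt_pow_right one_lt_two hk)).trans (congrArg v6 (by revert k; decide +kernel))
theorem xI_MJ : xI ∈ MJ := mj_of xI_a (by decide +kernel)
theorem yI_MJ : yI ∈ MJ := mj_of yI_a (by decide +kernel)
theorem wI_LJ : wI ∈ LJ := lj_of wI_a (by decide +kernel)
theorem ord_xI : orderOf xI = 11 := have := Fact.mk (show Nat.Prime 11 by norm_num)
  orderOf_eq_prime (fa6.pow 12 11 (.cons xI_a .nil) (by decide +kernel) _ (by simp)) (pne inj6 xI_a .one 1 (by decide +kernel))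
theorem ord_yI : orderOf yI = 5 := have := Fact.mk (show Nat.Prime 5 by norm_num)
  orderOf_eq_prime (fa6.pow 12 5 (.cons yI_a .nil) (by decide +kernel) _ (by simp)) (pne inj6 yI_a .one 4 (by decide +kernel))
theorem relI : wI * xI * wI⁻¹ = xI * xI ∧ yI * xI * yI⁻¹ = xI * xI * xI ∧ wI * yI = yI * wI ∧ dI * xI = xI * dI ∧ dI * yI = yI * dI ∧
    dI * thL = thL * dI :=
  ⟨fa6.peq 12 ((wI_a.mul xI_a).mul wI_a.inv) (xI_a.mul xI_a) (by decide +kernel),
    fa6.peq 12 ((yI_a.mul xI_a).mul yI_a.inv) ((xI_a.mul xI_a).mul xI_a) (by decide +kernel),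
    fa6.peq 12 (wI_a.mul yI_a) (yI_a.mul wI_a) (by decide +kernel), fa6.peq 12 (dI_a.mul xI_a) (xI_a.mul dI_a) (by decide +kernel),
    fa6.peq 12 (dI_a.mul yI_a) (yI_a.mul dI_a) (by decide +kernel), fa6.peq 12 (dI_a.mul th_a) (th_a.mul dI_a) (by decide +kernel)⟩
theorem dI_GU : dI ∈ GU6 := ⟨fun v => by
  have : dI v ∈ S63 ↔ v ∈ S63 := by
    conv_lhs => rw [← show dI • S63 = S63 from st_of dI_a (by decide +kernel)]
    exact Set.smul_mem_smul_set_iff
  rw [mem63, mem63] at this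
  exact (by decide : ∀ a b : ZMod 2, (a = 1 ↔ b = 1) → a = b) _ _ this, mem_Cz.2 relI.2.2.2.2.2⟩

structure Tri (x y u : AL V6) : Prop where
  mx : x ∈ GU6
  my : y ∈ GU6
  mu : u ∈ GU6
  ox : orderOf x = 11
  oy : orderOf y = 5
  r1 : y * x * y⁻¹ = x * x * x
  r2 : u * y * u⁻¹ = y * y
  r3 : (u * x) ^ 5 ∈ zpowers thL
def Gd (x y u : AL V6) : Prop := ∃ g ∈ ΓU, ∀ k ∈ [x, y, u], g * k * g⁻¹ ∈ MJ
theorem Tri.red {x y u g : AL V6} (h : Tri x y u) (a : g ∈ ΓU)
    (b : Tri (g * x * g⁻¹) (g * y * g⁻¹) (g * u * g⁻¹) → Gd (g * x * g⁻¹) (g * y * g⁻¹) (g * u * g⁻¹)) : Gd x y u := by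
  have o : ∀ x, orderOf (g * x * g⁻¹) = orderOf x := fun x => (MulAut.conj g).orderOf_eq x
  obtain ⟨k, c, d⟩ := b ⟨cj_GU a h.mx, cj_GU a h.my, cj_GU a h.mu, (o x).trans h.ox, (o y).trans h.oy,
    by simpa only [map_mul, map_inv, MulAut.conj_apply] using congrArg (MulAut.conj g) h.r1,
    by simpa only [map_mul, map_inv, MulAut.conj_apply] using congrArg (MulAut.conj g) h.r2,
    by simpa [← conj_pow] using (mem_normalizer_iff.1 a.2 _).1 h.r3⟩
  exact ⟨k * g, mul_mem c a, by simpa [mul_assoc] using d⟩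
def RI (u : AL V6) (a b : Nat) : Prop := a < 2 ^ 12 ∧ b < 2 ^ 12 ∧ u (v6 a) = v6 b
theorem RI.step {u g k : AL V6} {A B : List Nat} (e : u * g = k * u) (c : E6.Cols g A) (d : E6.Cols k B)
    (l : ∀ a ∈ A ++ B, a < 2 ^ 12) {a b : Nat} (h : RI u a b) : RI u (xsum A a) (xsum B b) :=
  ⟨xsum_lt (fun _ i => l _ (List.mem_append_left _ i)) _, xsum_lt (fun _ i => l _ (List.mem_append_right _ i)) _,
    (congrArg u (c a h.1).symm).trans ((LinearEquiv.congr_fun e _).trans ((congrArg k h.2.2).trans (d b h.2.1)))⟩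
theorem RI.xs {u : AL V6} {A B : List Nat} (h : List.Forall₂ (RI u) A B) (m : Nat) : RI u (xsum A m) (xsum B m) := by
  induction h generalizing m with
  | nil => exact ⟨by simp [xsum], by simp [xsum], (congrArg u E6.zero).trans ((map_zero u).trans E6.zero.symm)⟩
  | cons a _ ih =>
    obtain ⟨s, t, r⟩ := ih (m >>> 1)
    rw [xsum_cons, xsum_cons]
    rcases Nat.mod_two_eq_zero_or_one m with e | e <;> rw [e]
    · simpa using ⟨s, t, r⟩
    · simpa using ⟨Nat.xor_lt_two_pow a.1 s, Nat.xor_lt_two_pow a.2.1 t, by rw [v6_xor, v6_xor, map_add, a.2.2, r]⟩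
def lsI (A : List Nat) (n : Nat) : Nat → List Nat :=
  Nat.rec (fun _ => []) (fun _ ih c => force c fun c => c :: xsum cθ c :: ih (xsum A c)) n
theorem RI.ls {u g k : AL V6} {A B : List Nat} (e : u * g = k * u) (f : u * thL = thL * u) (c : E6.Cols g A) (d : E6.Cols k B)
    (l : ∀ a ∈ A ++ B, a < 2 ^ 12) (n : Nat) {a b : Nat} (h : RI u a b) : List.Forall₂ (RI u) (lsI A n a) (lsI B n b) := by
  induction n generalizing a b with
  | zero => exact .nil
  | succ n ih =>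
    rw [show lsI A (n + 1) a = a :: xsum cθ a :: lsI A n (xsum A a) from
      force_eq a fun c => c :: xsum cθ c :: lsI A n (xsum A c),
      show lsI B (n + 1) b = b :: xsum cθ b :: lsI B n (xsum B b) from force_eq b fun c => c :: xsum cθ c :: lsI B n (xsum B c)]
    exact .cons h (.cons (h.step (A := cθ) (B := cθ) f thL_c thL_c (by decide)) (ih (h.step e c d l)))
def prI (A : List Nat) (X : Nat) : Bool := allN 4096 fun s => or' (not' (tb X s)) (tb X (xsum A s))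
def srI (c : Nat) : Bool := forceL (lsI cyJ 5 c) fun J => or' (not' (and' (Nat.beq (xsum J 341) 0)
  (allL [1, 5, 6, 18] fun m => Nat.beq (tb X63 (xsum J m)).toNat (tb X63 (xsum (lsI cyI 5 4) m)).toNat)))
  (allL [273, 546, 819, 1296, 2592, 3888] fun a => allL [273, 546, 819, 1296, 2592, 3888] fun b => forceL (mapL (xsum (a :: xsum cθ a :: b :: xsum cθ b :: J)) [2225, 3282, 16, 32, 661, 1002, 1584, 2832, 2597, 3898, 2228, 3288]) fun A =>
    or' (Nat.ble 4 (evw [cxI, cyI, A] [2, 0, 2, 0, 2, 0, 2, 0, 2, 0] 1)) (anyL [XJ, (nI 3).app XJ, (nI 3).app ((nI 3).app XJ)] (prI A)))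
theorem srI_chk : allN 4096 srI = true := by decide +kernel
theorem Tri.gd0 {u : AL V6} (h : Tri xI yI u) : Gd xI yI u := by
  have e : u * yI = yI * yI * u := mul_inv_eq_iff_eq_mul.1 h.r2
  have f := mem_Cz.1 h.mu.2
  have ex : ∀ a < 2 ^ 12, ∃ b, RI u a b := fun a l => by
    obtain ⟨b, c, d⟩ := E6.surj (u (v6 a))
    exact ⟨b, l, c, d.symm⟩
  have q : ∀ {a b}, RI u a b → tb X63 b = tb X63 a := fun {a b} r => by
    rw [tb_eq, tb_eq, Bool.eq_iff_iff, ← mem_mset inj6 r.1, ← mem_mset inj6 r.2.1, mem63, mem63, ← r.2.2, h.mu.1]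
  have st := fun {a b} => RI.step (a := a) (b := b) e yI_c yJ_c (by decide)
  have la : ∀ {a b}, RI u a b → xsum cyI a = a → tb X63 a = true → b ∈ [273, 546, 819, 1296, 2592, 3888] := fun {a b} r s t => by
    have := (allN_iff _ _).1 (by decide +kernel : (allN 4096 fun b => or' (not' (and' (tb X63 b) (Nat.beq (xsum cyJ b) b)))
      (decide (b ∈ [273, 546, 819, 1296, 2592, 3888]))) = true) b r.2.1
    have v := st r
    rw [s] at v
    rw [q r, t, inj6 v.2.1 r.2.1 (v.2.2.symm.trans r.2.2)] at this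
    simpa [and'_eq, or'_eq, not'_eq] using this
  obtain ⟨a, ra⟩ := ex 273 (by norm_num)
  obtain ⟨b, rb⟩ := ex 1296 (by norm_num)
  obtain ⟨c, rc⟩ := ex 4 (by norm_num)
  have l := RI.ls e f yI_c yJ_c (by decide) 5 rc
  have k := (allN_iff _ _).1 srI_chk c rc.2.1
  have tt := fun {a b} => RI.step (a := a) (b := b) (A := cθ) (B := cθ) f thL_c thL_c (by decide)
  have l2 := RI.xs (.cons ra (.cons (tt ra) (.cons rb (.cons (tt rb) l))))
  simp only [srI, forceL_eq, or'_eq, and'_eq, not'_eq, Bool.or_eq_true, Bool.not_eq_true', ← Bool.not_eq_true, Bool.and_eq_true,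
    allL_iff, anyL_iff, beq_iff, Nat.ble_eq] at k
  replace k := k.resolve_left (not_not.2 ⟨by
    have v := RI.xs l 341
    rw [show xsum (lsI cyI 5 4) 341 = 0 by decide +kernel] at v
    exact E6.inj _ v.2.1 (v.2.2.symm.trans ((congrArg u E6.zero).trans (map_zero u))), fun m _ => by rw [q (RI.xs l m)]⟩) a
    (la ra (by decide +kernel) (by decide +kernel)) b (la rb (by decide +kernel) (by decide +kernel))
  generalize a :: xsum cθ a :: b :: xsum cθ b :: lsI cyJ 5 c = I at k l2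
  have cu : ∀ j < 12, RI u (2 ^ j) (nth 0 (mapL (xsum I) [2225, 3282, 16, 32, 661, 1002, 1584, 2832, 2597, 3898, 2228, 3288]) j) := fun j hj => by
    have := l2 (nth 0 [2225, 3282, 16, 32, 661, 1002, 1584, 2832, 2597, 3898, 2228, 3288] j)
    rw [(by decide +kernel : ∀ j < 12, xsum (273 :: xsum cθ 273 :: 1296 :: xsum cθ 1296 :: lsI cyI 5 4) (nth 0 [2225, 3282, 16, 32, 661, 1002, 1584, 2832, 2597, 3898, 2228, 3288] j) = 2 ^ j) j hj] at this
    interval_cases j <;> exact this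
  have cA := E6.cols_of (g := u) fun j hj => (cu j hj).2.2
  have lA : ∀ a ∈ mapL (xsum I) [2225, 3282, 16, 32, 661, 1002, 1584, 2832, 2597, 3898, 2228, 3288], a < 2 ^ 12 := by
    rw [mapL_eq]; exact List.forall_mem_map.2 fun m _ => (l2 m).2.1
  generalize mapL (xsum I) _ = A at k cA lA
  rcases k with k | ⟨X, i, k⟩
  · obtain ⟨s, t⟩ := BE.evw_spec (.cons xI_c (.cons yI_c (.cons cA .nil))) (List.forall_mem_cons.2 ⟨by decide,
      List.forall_mem_cons.2 ⟨by decide, List.forall_mem_singleton.2 lA⟩⟩) [2, 0, 2, 0, 2, 0, 2, 0, 2, 0] (by simp) (a := 1) (by norm_num)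
    rw [show (wordG [xI, yI, u] [2, 0, 2, 0, 2, 0, 2, 0, 2, 0]).prod = (u * xI) ^ 5 by simp [wordG, pow_succ, mul_assoc]] at t
    have c1 : thL (v6 1) = v6 2 ∧ thL (v6 2) = v6 3 := by decide +kernel
    rcases (zp3 thL3).1 h.r3 with o | o | o <;> rw [o] at t
    · have := inj6 (by norm_num) s t; omega
    · have := inj6 (by norm_num) s (c1.1.symm.trans t); omega
    · have := inj6 (by norm_num) s (c1.2.symm.trans ((congrArg thL c1.1.symm).trans t)); omega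
  have su : u ∈ stabilizer (AL V6) (mset 4096 v6 X) := Set.eq_of_subset_of_ncard_le (by
    rintro _ ⟨_, ⟨s, ⟨v, w⟩, rfl⟩, rfl⟩
    have := (allN_iff _ _).1 k s v
    rw [tb_eq, tb_eq, w] at this
    exact ⟨_, ⟨xsum_lt lA s, this⟩, (cA s v).symm⟩) (Set.ncard_smul_set ..).ge (mset_finite ..)
  have fin : ∀ g ∈ GU6, g * xI = xI * g → g * yI = yI * g → g • mset 4096 v6 X = SJ → Gd xI yI u := fun g a b c d =>
    ⟨g, GU_ΓU a, List.forall_mem_cons.2 ⟨by simpa [b] using xI_MJ, List.forall_mem_cons.2 ⟨by simpa [c] using yI_MJ,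
      List.forall_mem_singleton.2 ⟨⟨by
        change (g * u * g⁻¹) • SJ = SJ
        rw [← d, smul_smul, inv_mul_cancel_right, mul_smul, su], (GU_ΓU (cj_GU (GU_ΓU a) h.mu)).2⟩, (cj_GU (GU_ΓU a) h.mu).2⟩⟩⟩⟩
  obtain ⟨-, -, -, d1, d2, -⟩ := relI
  simp only [List.mem_cons, List.not_mem_nil, or_false] at i
  rcases i with rfl | rfl | rfl
  exacts [fin 1 (one_mem _) (by simp) (by simp) (one_smul ..), fin dI dI_GU d1 d2 (dI_a.smul_mset _),
    fin (dI * dI) (mul_mem dI_GU dI_GU) (Commute.mul_left d1 d1) (Commute.mul_left d2 d2)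
      (by rw [mul_smul, dI_a.smul_mset, dI_a.smul_mset])]
theorem cj_pow {G : Type*} [Group G] {w x : G} {n : ℕ} (h : w * x * w⁻¹ = x ^ n) (i : ℕ) : w ^ i * x * (w ^ i)⁻¹ = x ^ n ^ i := by
  induction i with
  | zero => simp
  | succ i ih => rw [pow_succ', pow_succ', pow_mul, ← h, conj_pow, ← ih]; group
theorem Tri.gd1 {x y u : AL V6} (h : Tri x y u) (a : x ∈ zpowers xI) (b : y ∈ zpowers yI) : Gd x y u := by
  classical
  have := E6.finite
  obtain ⟨m, l, rfl⟩ := Finset.mem_image.1 (mem_zpowers_iff_mem_range_orderOf.1 a)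
  obtain ⟨j, k, rfl⟩ := Finset.mem_image.1 (mem_zpowers_iff_mem_range_orderOf.1 b)
  rw [ord_xI, Finset.mem_range] at l
  rw [ord_yI, Finset.mem_range] at k
  obtain ⟨i, c⟩ := (by decide : ∀ m < 11, m ≠ 0 → ∃ i < 10, 2 ^ i * m % 11 = 1) m l fun e => by simpa [e] using h.ox
  refine h.red (LJ_ΓU (pow_mem wI_LJ i)) ?_
  rw [← conj_pow, cj_pow (relI.1.trans (pow_two _).symm), ← pow_mul, ← pow_mod_orderOf, ord_xI, c.2, pow_one,
    ((show Commute wI yI from relI.2.2.1).pow_pow i j).eq, mul_inv_cancel_right]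
  intro t
  have := t.r1
  rw [cj_pow (relI.2.1.trans (pow_three' _).symm), ← pow_three', pow_eq_pow_iff_modEq, ord_xI] at this
  obtain rfl := (by decide : ∀ j < 5, 3 ^ j ≡ 3 [MOD 11] → j = 1) j k this
  rw [pow_one] at t ⊢
  exact t.gd0
theorem Tri.gd {x y u : AL V6} (h : Tri x y u) : Gd x y u := by
  have := E6.finite
  have s : ∀ {g}, g ∈ GU6 → orderOf g = 11 ∨ orderOf g = 5 → g ∈ SU6 := fun a b =>
    su_of a (orderOf_dvd_iff_pow_eq_one.1 (by rcases b with b | b <;> rw [b] <;> norm_num))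
  obtain ⟨k, a, b⟩ := exists_conj_zpowers (H := SU6) (by norm_num) (by rw [card_SU6]; norm_num) (s (MJ_GU xI_MJ) (.inl ord_xI))
    ord_xI (s h.mx (.inl h.ox)) h.ox
  refine h.red (GU_ΓU (SU6_le a)) fun t => ?_
  generalize k * x * k⁻¹ = x, k * y * k⁻¹ = y, k * u * k⁻¹ = u at t b
  have e : zpowers x = zpowers xI := eq_of_le_of_card_ge (zpowers_le.2 b) (by rw [Nat.card_zpowers, Nat.card_zpowers, ord_xI, t.ox])
  have n : ∀ {x y : AL V6}, y * x * y⁻¹ = x * x * x → y ∈ normalizer (zpowers x : Set (AL V6)) := fun e =>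
    mem_nz (e ▸ mul_mem (mul_mem (mem_zpowers _) (mem_zpowers _)) (mem_zpowers _))
  obtain ⟨k, a, c⟩ := exists_conj_zpowers (H := SU6 ⊓ normalizer (zpowers xI : Set (AL V6))) (p := 5) (by norm_num)
    (fun d => absurd (d.trans (card_dvd_of_le inf_le_left)) (by rw [card_SU6]; norm_num))
    ⟨s (MJ_GU yI_MJ) (.inr ord_yI), n relI.2.1⟩ ord_yI ⟨s t.my (.inr t.oy), e ▸ n t.r1⟩ t.oy
  exact t.red (GU_ΓU (SU6_le a.1)) fun t => t.gd1 ((mem_normalizer_iff.1 a.2 _).1 b) c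

def n22 : List Net := [(.cons 1 0x444444 (.cons 2 0x121212 (.cons 4 0xc030c (.cons 8 0xff (.cons 16 0xf (.cons 8 0xf (.cons 2 0x333000 (.cons 1 0x555000 .nil)))))))),
  (.cons 1 0x551500 (.cons 2 0x1102 (.cons 4 0x50502 (.cons 8 0xf5 (.cons 16 0xcb (.cons 8 0xc1 (.cons 4 0x70f00 (.cons 2 0x11000 (.cons 1 0x444010 .nil))))))))),
  (.cons 1 0x114440 (.cons 2 0x303210 (.cons 4 0x10504 (.cons 8 0x7 (.cons 16 0x9 (.cons 8 0x1 (.cons 4 0x90200 (.cons 2 0x202110 (.cons 1 0x144400 .nil)))))))))]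
theorem a22 : ActsL 24 GE.e (n22.map mm) n22 := actsL_mm (by decide +kernel)
theorem cl22 : cl (n22.map mm) = H22 := a22.mm_cl_eq (H22_eq ▸ a22.mem_fixM (by decide +kernel)) card_H22.le
  [([3, 5, 1, 4, 1, 5, 1, 1], (.cons 1 0x151044 (.cons 2 0x100230 (.cons 4 0xd0708 (.cons 8 0x3f (.cons 16 0xd7 (.cons 8 0x43 (.cons 4 0xe0b00 (.cons 2 0x101200 (.cons 1 0x154040 .nil)))))))))),
  ([7, 5, 2, 5, 6, 3, 6], (.cons 1 0x4014 (.cons 2 0x222200 (.cons 4 0xb0c08 (.cons 8 0xb0 (.cons 16 0x7c (.cons 8 0x20 (.cons 4 0xa0000 (.cons 2 0x200210 (.cons 1 0x41540 .nil)))))))))),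
  ([1, 3], (.cons 1 0x144510 (.cons 2 0x130330 (.cons 4 0xe0e08 (.cons 8 0x9d (.cons 16 0xe5 (.cons 8 0x65 (.cons 4 0xd0000 (.cons 2 0x131220 (.cons 1 0x114140 .nil)))))))))),
  ([2, 2, 5, 3, 3, 3, 4, 2, 5], (.cons 1 0x501050 (.cons 2 0x231000 (.cons 4 0x20508 (.cons 8 0xe2 (.cons 16 0x1a (.cons 8 0xa (.cons 2 0x221000 (.cons 1 0x411500 .nil))))))))),
  ([3, 0, 3, 0, 2, 1, 1, 2, 1], (.cons 1 0x44150 (.cons 2 0x200320 (.cons 4 0x60b00 (.cons 8 0x9c (.cons 16 0xac (.cons 8 0xc (.cons 4 0x20000 (.cons 2 0x333300 (.cons 1 0x101040 .nil)))))))))),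
  ([5, 3, 3, 3, 3, 3, 5], (.cons 1 0x500400 (.cons 2 0x100200 (.cons 4 0xb0300 (.cons 8 0xe (.cons 16 0xde (.cons 8 0xe (.cons 4 0xb0800 (.cons 2 0x302000 (.cons 1 0x500400 .nil)))))))))),
  ([7, 4, 4, 6, 4, 6, 5, 6], (.cons 1 0x154140 (.cons 2 0x3210 (.cons 4 0x50900 (.cons 8 0xd2 (.cons 16 0x32 (.cons 8 0x32 (.cons 4 0x20000 (.cons 2 0x3200 (.cons 1 0x140 .nil)))))))))),
  ([4, 1, 2, 2], (.cons 1 0x455440 (.cons 2 0x122000 (.cons 4 0x30800 (.cons 8 0x56 (.cons 16 0xb6 (.cons 8 0xb6 (.cons 4 0xf0000 (.cons 2 0x103000 (.cons 1 0x440500 .nil))))))))))]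
  [8, 9, 10, 7, 6, 5, 4, 3, 2, 1, 0] [(1, 1, 3), (2, 2, 2), (3, 1, 2), (4, 2, 3), (5, 2, 1)] (by decide +kernel)
theorem identJ {K : Subgroup (AL V6)} (a : K ≤ GU6) (f : K →* MM) (r : f.range = H22)
    (k : ∀ g, f g = 1 ↔ g.1 ∈ zpowers thL) (t : thL ∈ K) : ∃ g ∈ ΓU, MulAut.conj g • K = MJ := by
  have := E6.finite
  have c3 : ∀ g : K, f g = 1 → g ^ 3 = 1 := fun g b => Subtype.ext (by
    obtain ⟨n, e⟩ := (k g).1 b
    rw [coe_pow, ← e, ← zpow_natCast, ← zpow_mul, mul_comm, zpow_mul, zpow_natCast, thL3, one_zpow, coe_one])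
  have un : ∀ x y : K, f x = f y → x ^ 55 = 1 → y ^ 55 = 1 → x = y := fun x y e u v => by
    have b : f (x⁻¹ * y) = 1 := by rw [map_mul, map_inv, e, inv_mul_cancel]
    have c : Commute x (x⁻¹ * y) := Subtype.ext (th_cen (a x.2).2 ((k _).1 b))
    rw [← mul_inv_cancel_left x y, c.mul_pow, u, one_mul, pow_succ, show 54 = 3 * 18 from rfl, pow_mul, c3 _ b, one_pow, one_mul,
      inv_mul_eq_one] at v
    exact v
  have lf : ∀ m ∈ n22.map mm, ∀ n, m ^ n = 1 → ∃ x : K, f x = m ^ 111 ∧ x ^ n = 1 := fun m b n c => by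
    obtain ⟨x, rfl⟩ := r.ge (cl22.le (mem_cl b))
    exact ⟨x ^ 111, map_pow .., by
      rw [← pow_mul, mul_comm, pow_mul, show 111 = 3 * 37 from rfl, pow_mul, c3 _ (by rw [map_pow, c]), one_pow]⟩
  have ax := a22.getD 0
  have ay := a22.getD 1
  have au := a22.getD 2
  have ox := ax.mm_order (p := 11) (by norm_num) (by decide +kernel)
  have oy := ay.mm_order (p := 5) (by norm_num) (by decide +kernel)
  have fa : Fa MM 24 GE.e := fun _ => MM_faithful
  have r1 := fa.peq 5 ((ay.mul ax).mul ay.inv) ((ax.mul ax).mul ax) (by decide +kernel)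
  have r2 := fa.peq 5 ((au.mul ay).mul au.inv) (ay.mul ay) (by decide +kernel)
  have r3 := fa.pow 5 5 (.cons (au.mul ax) .nil) (by decide +kernel) _ List.mem_cons_self
  obtain ⟨x, x1, x2⟩ := lf _ (List.getElem_mem (n := 0) (by decide)) 11 (ox ▸ pow_orderOf_eq_one _)
  obtain ⟨y, y1, y2⟩ := lf _ (List.getElem_mem (n := 1) (by decide)) 5 (oy ▸ pow_orderOf_eq_one _)
  obtain ⟨u, u1⟩ := r.ge (cl22.le (mem_cl (List.getElem_mem (n := 2) (by decide))))
  have g0 := cl22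
  rw [show n22.map mm = [(n22.map mm).getD 0 1, (n22.map mm).getD 1 1, (n22.map mm).getD 2 1] from rfl] at g0
  change f x = (n22.map mm).getD 0 1 ^ 111 at x1
  change f y = (n22.map mm).getD 1 1 ^ 111 at y1
  change f u = (n22.map mm).getD 2 1 at u1
  rw [← pow_mod_orderOf, ox, pow_one] at x1
  rw [← pow_mod_orderOf, oy, pow_one] at y1
  generalize (n22.map mm).getD 0 1 = xb, (n22.map mm).getD 1 1 = yb, (n22.map mm).getD 2 1 = ub at *
  subst x1 y1 u1
  have p55 : ∀ {g : K}, g ^ 11 = 1 ∨ g ^ 5 = 1 → g ^ 55 = 1 := by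
    rintro g (b | b)
    exacts [by rw [show 55 = 11 * 5 from rfl, pow_mul, b, one_pow], by rw [show 55 = 5 * 11 from rfl, pow_mul, b, one_pow]]
  have od : ∀ {g : K} {p}, orderOf (f g) = p → g ^ p = 1 → orderOf g.1 = p := fun b c => by
    rw [orderOf_coe]; exact Nat.dvd_antisymm (orderOf_dvd_of_pow_eq_one c) (b ▸ orderOf_map_dvd f _)
  obtain ⟨g, b, c⟩ := Tri.gd ⟨a x.2, a y.2, a u.2, od ox x2, od oy y2,
    congrArg Subtype.val (un (y * x * y⁻¹) (x * x * x) (by simpa using r1) (p55 (.inl (by rw [conj_pow, x2]; simp)))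
      (p55 (.inl (by rw [← pow_three', ← pow_mul, mul_comm, pow_mul, x2, one_pow])))),
    congrArg Subtype.val (un (u * y * u⁻¹) (y * y) (by simpa using r2) (p55 (.inr (by rw [conj_pow, y2]; simp)))
      (p55 (.inr (by rw [← pow_two, ← pow_mul, mul_comm, pow_mul, y2, one_pow])))),
    (k ((u * x) ^ 5)).1 (by rw [map_pow, map_mul, r3])⟩
  refine ⟨g, b, eq_of_le_of_card_ge ?_ ?_⟩
  · let M := (MJ.comap (MulAut.conj g).toMonoidHom).subgroupOf K
    have d : f.ker ≤ M := fun s e => zpowers_le.2 thL_MJ ((mem_normalizer_iff.1 b.2 _).1 ((k s).1 e))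
    have e : H22 ≤ M.map f := g0.ge.trans (cl_le (by
      simp only [List.forall_mem_cons] at c ⊢
      exact ⟨⟨x, c.1, rfl⟩, ⟨y, c.2.1, rfl⟩, ⟨u, c.2.2.1, rfl⟩, by simp⟩))
    rintro _ ⟨s, i, rfl⟩
    exact (comap_map_eq_self d).le (e (r.le ⟨⟨s, i⟩, rfl⟩))
  · have d := f.ker.card_mul_index
    rw [index_ker, r, card_H22, show f.ker = (zpowers thL).subgroupOf K from Subgroup.ext k,
      H1.card_subgroupOf_of_le (zpowers_le.2 t), Nat.card_zpowers, ord_thL] at d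
    rw [card_MJ, H1.card_conj_smul, ← d]
end
end H13
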