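import Cfsg.Agent.H13.JF2
/-! Groups of type `J4`: elements of order seven. -/
set_option autoImplicit false
namespace H13
noncomputable section
open MulAction Cfsg H27 Subgroup
open scoped Pointwise
universe u
variable {G : Type u} [Group G] [Finite G] {z : G} {R : Subgroup G} {π : Cz z →* AL V6} {P : V6 → G → Prop}
omit [Finite G] in
theorem card_cl (C : Subgroup G) (x : G) : {v | ∃ n ∈ C, n * x * n⁻¹ = v}.ncard * Nat.card (C ⊓ Cz x : Subgroup G) = Nat.card C := by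
  rw [@card_eq_orbit_mul G G _ (MulAction.compHom G MulAut.conj) C x]
  congr 1
  · exact congrArg _ (Set.ext fun v => ⟨fun ⟨n, a, b⟩ => ⟨⟨n, a⟩, b⟩, fun ⟨n, b⟩ => ⟨n, n.2, b⟩⟩)
  · exact congrArg (fun K : Subgroup G => Nat.card (C ⊓ K : Subgroup G)) (Subgroup.ext fun _ => mem_Cz')
structure L7 (z q : G) (V : Subgroup G) : Prop where
  le : V ≤ Cz q
  sq : ∀ v ∈ V, v * v = 1
  nz : ∀ v ∈ V, ¬ IsConj z v
  ex : ∃ a ∈ V, ∃ b ∈ V, a ≠ 1 ∧ b ≠ 1 ∧ a ≠ b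
  k4 : ∀ x ∈ V, ∀ y ∈ V, ∀ w ∈ V, x ≠ 1 → y ≠ 1 → x ≠ y → w ≠ 1 → w ≠ x → w ≠ y → w = x * y
  cz : ∀ t ∈ V, t ≠ 1 → Cz q ⊓ Cz t ≤ normalizer (V : Set G)
  cv : Cz q ⊓ centralizer (V : Set G) ≤ zpowers q ⊔ V
  tr : ∀ s ∈ V, ∀ t ∈ V, s ≠ 1 → t ≠ 1 → ∃ g ∈ Cz q ⊓ normalizer (V : Set G), g * s * g⁻¹ = t
  big : 168 ≤ Nat.card (Cz q ⊓ normalizer (V : Set G) : Subgroup G)
namespace L7
variable {q : G} {V : Subgroup G} (l : L7 z q V) (o : orderOf q = 7)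
include l
omit [Finite G] in
theorem cg {r : G} (f : zpowers q = zpowers r) : L7 z r V := by
  have e : Cz q = Cz r := by rw [← cent_zpowers, f, cent_zpowers]
  obtain ⟨l1, l2, l3, l4, l5, l6, l7, l8, l9⟩ := l
  rw [e] at l1 l6 l7 l8 l9
  exact ⟨l1, l2, l3, l4, l5, l6, f ▸ l7, l8, l9⟩
omit [Finite G] in
theorem cen {y s t : G} (a : s ∈ V) (b : t ∈ V) (s1 : s ≠ 1) (t1 : t ≠ 1) (n : s ≠ t) (c : y ∈ Cz s) (d : y ∈ Cz t) :
    y ∈ centralizer (V : Set G) := fun w e => by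
  by_cases e1 : w = 1
  · simp [e1]
  by_cases e2 : w = s
  · exact e2 ▸ (mem_Cz.1 c).symm
  by_cases e3 : w = t
  · exact e3 ▸ (mem_Cz.1 d).symm
  rw [l.k4 s a t b w e s1 t1 n e1 e2 e3]
  exact (Commute.mul_right (mem_Cz.1 c) (mem_Cz.1 d)).symm
omit [Finite G] in
theorem key {g v : G} (a : g ∈ Cz q) (b : v ∈ V) (c : v ≠ 1) (d : g * v * g⁻¹ ∈ V) : g ∈ normalizer (V : Set G) := by
  obtain ⟨n, e, f⟩ := l.tr v b _ d c (by rwa [Ne, conj_eq_one_iff])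
  exact ((normalizer _).mul_mem_cancel_left ((normalizer _).inv_mem e.2)).1 (l.cz v b c ⟨(Cz q).mul_mem ((Cz q).inv_mem e.1) a, mem_Cz'.2 (by
    rw [mul_inv_rev, inv_inv, mul_assoc, mul_assoc, ← mul_assoc v, ← mul_assoc g, ← mul_assoc g, ← f]; group)⟩)
theorem sv {y : G} (a : y ∈ Cz q) (b : y ∈ centralizer (V : Set G)) : ∃ s ∈ zpowers q, ∃ w ∈ V, s * w = y :=
  (coe_mul_of_left_le_normalizer_right _ _ (zpowers_le.2 (centralizer_le_normalizer _ fun _ c => mem_Cz.1 (l.le c)))).le (l.cv ⟨a, b⟩)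
include o
omit l in
theorem sq1 {s : G} (a : s ∈ zpowers q) (b : s * s = 1) : s = 1 := odd_sq (by rw [Nat.card_zpowers, o]; decide) a b
theorem two {t : G} (a : t ∈ V) (t1 : t ≠ 1) : ∃ d, ∀ y ∈ Cz q, y ∈ Cz t → y * y = 1 → y ∈ V ∨ y = d ∨ y = d * t := by
  have cm : ∀ {s y}, s ∈ zpowers q → y ∈ Cz q → y * s = s * y := fun b c => ((cent_zpowers q).ge c _ b).symm
  have k : ∀ {d y}, d ∈ Cz q → d * d = 1 → d ∈ normalizer (V : Set G) → d * y * (d * y) = 1 → y ∈ Cz q →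
      y ∈ centralizer (V : Set G) → y ∈ V ∧ d * y * d⁻¹ = y := fun {d y} b c n e f g => by
    obtain ⟨s, i, w, j, rfl⟩ := l.sv f g
    have m := mul_mem ((mem_normalizer_iff.1 n w).1 j) j
    have e1 : s * s * (d * w * d⁻¹ * w) = 1 := by
      rw [← e, inv_eq_of_mul_eq_one_right c, ← mul_assoc d s, cm i b, mul_assoc (s * d), ← mul_assoc w, ← mul_assoc w, cm i (l.le j),
        mul_assoc s, mul_assoc s, mul_assoc s, mul_assoc s, ← mul_assoc d s, cm i b]; simp only [mul_assoc]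
    obtain rfl := sq1 o i (sq1 o (mul_mem i i) (l.sq _ ((V.mul_mem_cancel_right m).1 (e1 ▸ one_mem _))))
    rw [one_mul, one_mul] at *
    exact ⟨j, (eq_inv_of_mul_eq_one_left e1).trans (inv_eq_of_mul_eq_one_right (l.sq _ j))⟩
  have k1 : ∀ {y v}, y ∈ Cz q → y ∈ Cz t → y * y = 1 → y ∉ V → v ∈ V → v ≠ 1 → v ≠ t → y * v * y⁻¹ = t * v := fun {y v} b c d e f g i =>
    l.k4 t a v f _ ((mem_normalizer_iff.1 (l.cz t a t1 ⟨b, c⟩) v).1 f) t1 g i.symm (by rwa [Ne, conj_eq_one_iff])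
      (fun j => i ((MulAut.conj y).injective (j.trans (mem_Cz'.1 c).symm))) fun j => e (k (one_mem _) (one_mul 1) (one_mem _) (by simpa)
        b (l.cen a f t1 g i.symm c (mem_Cz.2 (mul_inv_eq_iff_eq_mul.1 j)))).1
  by_cases e : ∃ d ∈ Cz q, d ∈ Cz t ∧ d * d = 1 ∧ d ∉ V
  · obtain ⟨d, d1, d2, d3, d4⟩ := e
    refine ⟨d, fun y b c f => or_iff_not_imp_left.2 fun g => ?_⟩
    obtain ⟨v, v1, v2, v3⟩ : ∃ v ∈ V, v ≠ 1 ∧ v ≠ t := by
      obtain ⟨u, u1, v, v1, u2, v2, n⟩ := l.ex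
      exact by_cases (fun e : u = t => ⟨v, v1, v2, e ▸ n.symm⟩) fun e => ⟨u, u1, u2, e⟩
    obtain ⟨w1, w2⟩ := k (y := d⁻¹ * y) d1 d3 (l.cz t a t1 ⟨d1, d2⟩) (by simpa) (mul_mem (inv_mem d1) b) (l.cen a v1 t1 v2 v3.symm
      (mul_mem (inv_mem d2) c) (mem_Cz'.2 (by
        rw [mul_inv_rev, inv_inv, mul_assoc, mul_assoc, ← mul_assoc v, ← mul_assoc y, ← mul_assoc y, k1 b c f g v1 v2 v3,
          ← k1 d1 d2 d3 d4 v1 v2 v3]; group)))
    by_contra! n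
    have := k1 d1 d2 d3 d4 w1 (fun e => n.1 (inv_mul_eq_one.1 e).symm) fun e => n.2 (inv_mul_eq_iff_eq_mul.1 e)
    exact t1 (mul_eq_right.1 (this.symm.trans w2))
  · exact ⟨1, fun y b c f => .inl (by_contra fun g => e ⟨y, b, c, f, g⟩)⟩
theorem core (n : ¬ Cz q ≤ normalizer (V : Set G)) :
    ((normalizer (V : Set G)).subgroupOf (Cz q)).normalCore ≤ (zpowers q).subgroupOf (Cz q) := fun k a => by
  have N := normalCore_normal ((normalizer (V : Set G)).subgroupOf (Cz q))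
  have L := normalCore_le ((normalizer (V : Set G)).subgroupOf (Cz q))
  generalize ((normalizer (V : Set G)).subgroupOf (Cz q)).normalCore = K at *
  have e : ∀ t ∈ K, t.1 ∈ V → t = 1 := fun t b c => by
    by_contra t1
    have m : ∀ w, (d : w ∈ V) → ⟨w, l.le d⟩ ∈ K := fun w d => by
      by_cases w1 : w = 1
      · exact w1 ▸ K.one_mem
      obtain ⟨g, g1, rfl⟩ := l.tr t c w d (fun e => t1 (Subtype.ext e)) w1
      exact N.conj_mem t b ⟨g, g1.1⟩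
    refine n fun g d => by_contra fun f => ?_
    have u := L (N.conj_mem t b ⟨g, d⟩)
    obtain ⟨s, i, w, j, y⟩ := l.sv (y := g * t * g⁻¹) (mul_mem (mul_mem d t.2) (inv_mem d)) fun w j => by
      by_contra r
      have p := mul_mem ((mem_normalizer_iff.1 (L (N.conj_mem _ (m w j) ⟨g, d⟩⁻¹)) t.1).1 c) (inv_mem c)
      refine f (l.key d p (fun e => r ?_) ?_)
      · rw [← mul_inv_eq_one, ← conj_eq_one_iff (a := g⁻¹), ← e]; simp [mul_assoc]
      · simpa [mul_assoc] using mul_mem j ((mem_normalizer_iff.1 u _).1 (inv_mem j))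
    obtain rfl := sq1 o i (by
      have : g * t * g⁻¹ * (g * t * g⁻¹) = 1 := by rw [conj_mul, l.sq _ c]; simp
      rwa [← y, mul_assoc, ← mul_assoc w, ← (cent_zpowers q).ge (l.le j) s i, mul_assoc, l.sq _ j, mul_one] at this)
    exact f (l.key d c (fun e => t1 (Subtype.ext e)) (by rw [← y, one_mul]; exact j))
  obtain ⟨s, i, w, j, y⟩ := l.sv k.2 fun v b => by
    have := e _ (mul_mem a (N.conj_mem _ (inv_mem a) ⟨v, l.le b⟩)) (by
      simpa [mul_assoc] using mul_mem ((mem_normalizer_iff.1 (L a) v).1 b) (inv_mem b))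
    rw [eq_comm, ← mul_inv_eq_one]
    simpa [mul_assoc] using congrArg Subtype.val this
  have c : Commute s w := (cent_zpowers q).ge (l.le j) s i
  have p : k.1 ^ 7 = w := by
    rw [← y, c.mul_pow, ← o, ← Nat.card_zpowers, show s ^ _ = 1 from congrArg Subtype.val (pow_card_eq_one' (x := (⟨s, i⟩ : zpowers q))),
      Nat.card_zpowers, o, one_mul, show 7 = 2 * 3 + 1 from rfl, pow_succ, pow_mul, pow_two, l.sq _ j, one_pow, one_mul]
  have := congrArg Subtype.val (e _ (pow_mem a 7) (p.symm ▸ j :))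
  rw [coe_pow, p] at this
  exact show k.1 ∈ zpowers q by rw [← y, this]; simpa using i
end L7
structure M7 (z q : G) : Prop where
  card : Nat.card (Cz q ⊓ Cz z : Subgroup G) = 84
  few : {u | u ∈ Cz q ∧ u ∈ Cz z ∧ IsConj z u ∧ u ≠ z}.ncard ≤ 3
  ex : ∃ t ∈ Cz q ⊓ Cz z, t * t = 1 ∧ t ≠ 1 ∧ ¬ IsConj z t ∧ ∃ x ∈ Cz q ⊓ Cz z, x * t * x⁻¹ ≠ t
  sq : ∃ n, ∀ y ∈ zpowers q, n * y * n⁻¹ = y ^ 2
  ninv : ∀ g ∈ Cz z, ¬ ∀ y ∈ zpowers q, g * y * g⁻¹ = y⁻¹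
namespace JT0
variable (h : JT0 z R π P) [IsSimpleGroup G] (hG : ¬ IsMulCommutative G)
include h hG
theorem l7' {E : BE (Additive h.A) 11} (rg : h.rho.range = G24 E) (zt : ∀ w, IsConj z (w.toMul : G) ↔ w ∈ mset 2048 E.e XZ)
    {q : normalizer (h.A : Set G)} (o : orderOf q.1 = 7) (a : h.rho q = e24 E 2) : L7 z q.1 (Cz q.1 ⊓ h.A) := by
  let e : ℕ → G := fun i => (E.e i).toMul
  have m : ∀ {y}, y ∈ Cz q.1 ⊓ h.A ↔ ∃ i ∈ [0, 8, 1297, 1305], e i = y := fun {y} => ⟨fun b => by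
    obtain ⟨i, c, d⟩ := List.mem_map.1 ((fx_e7 E (w := Additive.ofMul ⟨y, b.2⟩)).1 (a ▸ Subtype.ext (mul_inv_eq_iff_eq_mul.2 (mem_Cz.1 b.1).symm)))
    exact ⟨i, c, congrArg (fun w : Additive h.A => (w.toMul : G)) d⟩, by
      rintro ⟨i, c, rfl⟩
      exact ⟨mem_Cz.2 (mul_inv_eq_iff_eq_mul.1 (congrArg Subtype.val (a ▸ (fx_e7 E).2 (List.mem_map_of_mem c) : h.rho q _ = _))).symm,
        (E.e i).toMul.2⟩⟩
  have e0 : e 0 = 1 := congrArg (fun w : Additive h.A => (w.toMul : G)) E.zero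
  have ei : ∀ {i j}, i < 2 ^ 11 → j < 2 ^ 11 → (e i = e j ↔ i = j) := fun b c =>
    ⟨fun d => (E.eq_iff b c).1 (Subtype.ext d), congrArg e⟩
  have kp : IsPGroup 2 h.rho.ker := h.ker_rho ▸ h.A_pg.comap_subtype
  have nz : ∀ v ∈ Cz q.1 ⊓ h.A, ¬ IsConj z v := fun v b => by
    obtain ⟨i, c, rfl⟩ := m.1 b
    clear b; rw [zt, mem_mset (n := 2048) E.injOn (by revert i; decide)]; revert i; decide +kernel
  have nN : Cz q.1 ⊓ normalizer (h.A : Set G) ≤ normalizer ((Cz q.1 ⊓ h.A : Subgroup G) : Set G) := fun g b =>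
    mem_normalizer_fintype fun y c => ⟨(Cz q.1).mul_mem ((Cz q.1).mul_mem b.1 c.1) ((Cz q.1).inv_mem b.1), h.cj_mem b.2 c.2⟩
  have lf : ∀ g ∈ G24 E ⊓ Cz (e24 E 2), ∃ k : normalizer (h.A : Set G), k.1 ∈ Cz q.1 ∧ h.rho k = g := fun g b => by
    obtain ⟨k, rfl⟩ := rg.ge b.1
    obtain ⟨n, c, d⟩ := lift_cop h.rho kp (by norm_num) (by norm_num) ((orderOf_coe q).symm.trans o) (j := 1) (k := k)
      (by rw [a, pow_one]; exact mem_Cz'.1 b.2)
    exact ⟨n, mem_Cz'.2 (congrArg Subtype.val (d.trans (pow_one q))), c⟩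
  refine ⟨inf_le_left, fun v b => h.A_sq b.2, nz, ⟨_, m.2 ⟨8, by simp, rfl⟩, _, m.2 ⟨1297, by simp, rfl⟩,
    e0 ▸ (ei (by norm_num) (by norm_num)).not.2 (by norm_num), e0 ▸ (ei (by norm_num) (by norm_num)).not.2 (by norm_num),
    (ei (by norm_num) (by norm_num)).not.2 (by norm_num)⟩, fun x x1 y y1 w w1 => ?_,
    fun t b c => (inf_le_inf_left _ (h.cen_t hG b.2 c (nz t b))).trans nN, fun y b => ?_, fun s s1 t t1 s2 t2 => ?_, ?_⟩
  · obtain ⟨i, i1, rfl⟩ := m.1 x1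
    obtain ⟨j, j1, rfl⟩ := m.1 y1
    obtain ⟨k, k1, rfl⟩ := m.1 w1
    rw [← e0]
    exact fun a b c d f g => (congrArg e ((by decide : ∀ i ∈ [0, 8, 1297, 1305], ∀ j ∈ [0, 8, 1297, 1305], ∀ k ∈ [0, 8, 1297, 1305],
      i ≠ 0 → j ≠ 0 → i ≠ j → k ≠ 0 → k ≠ i → k ≠ j → k = i ^^^ j) i i1 j j1 k k1 (mt (congrArg e) a) (mt (congrArg e) b)
        (mt (congrArg e) c) (mt (congrArg e) d) (mt (congrArg e) f) (mt (congrArg e) g))).trans (JN.mul i j)
  · have t := m.2 ⟨8, by simp, rfl⟩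
    have n := h.cen_t hG t.2 (e0 ▸ (ei (by norm_num) (by norm_num)).not.2 (by norm_num)) (nz _ t) (mem_Cz.2 (b.2 _ t).symm)
    obtain ⟨i, c⟩ := fix_e7 E (rg.le ⟨⟨y, n⟩, rfl⟩) (mem_Cz.2 (by
      rw [← a, ← map_mul, ← map_mul, show (⟨y, n⟩ * q : normalizer (h.A : Set G)) = q * ⟨y, n⟩ from Subtype.ext (mem_Cz.1 b.1)]))
      fun w d => Subtype.ext (mul_inv_eq_iff_eq_mul.2 (b.2 _ ⟨mem_Cz.2 (mul_inv_eq_iff_eq_mul.1
        (congrArg Subtype.val (a ▸ d : h.rho q w = w))).symm, w.toMul.2⟩).symm)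
    have d : q.1 ^ i ∈ zpowers q.1 := zpow_mem (mem_zpowers _) i
    rw [← mul_mem_cancel_left (inv_mem (mem_sup_left d))]
    exact mem_sup_right ⟨(Cz q.1).mul_mem ((Cz q.1).inv_mem (zpowers_le.2 (self_mem_Cz _) d)) b.1, h.ker_rho.le (show h.rho ((q ^ i)⁻¹ * ⟨y, n⟩) = 1 by
      rw [map_mul, map_inv, map_zpow, a, ← c, inv_mul_cancel])⟩
  · obtain ⟨u, u1, u2⟩ := lf _ ⟨(e24_c E).2, mem_Cz.2 (cm7 E).1⟩
    obtain ⟨i, i1, rfl⟩ := m.1 s1
    obtain ⟨j, j1, rfl⟩ := m.1 t1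
    obtain ⟨n, c⟩ := (by decide : ∀ i ∈ [0, 8, 1297, 1305], ∀ j ∈ [0, 8, 1297, 1305], i ≠ 0 → j ≠ 0 → ∃ n ∈ [0, 1, 2],
      i < 2 ^ 11 ∧ itx (nth [] c24 0) n i = j) i i1 j j1 (fun d => s2 (d ▸ e0)) fun d => t2 (d ▸ e0)
    exact ⟨(u ^ n).1, ⟨pow_mem u1 n, nN ⟨pow_mem u1 n, (u ^ n).2⟩⟩, congrArg Subtype.val (show h.rho (u ^ n) (E.e i) = E.e j by
      rw [map_pow, u2, ← c.2.2]; exact (itx_spec (e24_c E).1 (by decide) n c.2.1).2)⟩
  · have c := H1.card_map_mul_card_inf_ker ((Cz q.1).subgroupOf (normalizer (h.A : Set G))) h.rho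
    have c1 := (le42 E).trans (card_le_of_le (Q := ((Cz q.1).subgroupOf (normalizer (h.A : Set G))).map h.rho) fun g b => lf g b)
    have c2 : 4 ≤ Nat.card ((Cz q.1).subgroupOf (normalizer (h.A : Set G)) ⊓ h.rho.ker : Subgroup _) := by
      rw [h.ker_rho, subgroupOf, subgroupOf, ← comap_inf, ← subgroupOf, H1.card_subgroupOf_of_le (inf_le_right.trans le_normalizer)]
      refine (Nat.card_eq_fintype_card (α := Fin 4)).ge.trans (Nat.card_le_card_of_injective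
        (fun i => ⟨_, m.2 ⟨_, List.get_mem [0, 8, 1297, 1305] i, rfl⟩⟩) fun i j d => ?_)
      replace d : e ([0, 8, 1297, 1305].get i) = e ([0, 8, 1297, 1305].get j) :=
        congrArg (fun y : (Cz q.1 ⊓ h.A : Subgroup G) => y.1) d
      rw [ei (by clear d; revert i; decide) (by clear d; revert j; decide)] at d
      revert i j; decide
    refine le_trans ?_ (card_le_of_le (le_inf inf_le_left nN))
    rw [← H1.card_subgroupOf_of_le inf_le_right, inf_subgroupOf_right, ← c]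
    exact Nat.mul_le_mul c1 c2
theorem l7a {q t : G} (o : orderOf q = 7) (t1 : t ∈ h.A) (t0 : t ≠ 1) (nt : ¬ IsConj z t) (b : t ∈ Cz q) : ∃ V, t ∈ V ∧ L7 z q V := by
  have qN := h.cen_t hG t1 t0 nt (mem_Cz.2 (mem_Cz.1 b).symm)
  obtain ⟨x, x1, x2⟩ := h.exists_x
  obtain ⟨E, j⟩ := h.main x1 hG x2
  have := Fact.mk (by norm_num : Nat.Prime 7)
  have p : (⟨q, qN⟩ : normalizer (h.A : Set G)) ^ 7 = 1 := Subtype.ext (o ▸ pow_orderOf_eq_one q)
  have o1 : orderOf (h.rho ⟨q, qN⟩) = 7 := orderOf_eq_prime (by rw [← map_pow, p, map_one]) fun e => by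
    have := orderOf_dvd_iff_pow_eq_one.2 ((pow_two q).trans (h.A_sq (h.ker_rho.le e)))
    rw [o] at this; omega
  obtain ⟨k, e⟩ := cj_zp' (G := G24 E) (q := ⟨_, j.rg.le ⟨⟨q, qN⟩, rfl⟩⟩) (a := ⟨e24 E 2, (e24_c E).2⟩) (p := 7) (by norm_num)
    ((orderOf_coe _).symm.trans o1) ((orderOf_coe _).symm.trans (ord_e7 E)) (by rw [card_G24']; norm_num)
  obtain ⟨i, e1⟩ := e.le (mem_zpowers _)
  replace e1 := congrArg Subtype.val e1
  rw [coe_zpow, coe_mul, coe_mul, coe_inv, (cols_tw (e24_c (i := 2) E).1).ext (e24_c (i := 2) (E.tw k.1)).1] at e1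
  have e2 : h.rho (⟨q, qN⟩ ^ i) = e24 (E.tw k.1) 2 := (map_zpow _ _ _).trans e1
  have o' : orderOf (q ^ i) = 7 := orderOf_eq_prime (by rw [← zpow_natCast, ← zpow_mul, mul_comm, zpow_mul, zpow_natCast, ← o, pow_orderOf_eq_one,
    one_zpow]) fun e => by
      have := ord_e7 (E.tw k.1)
      rw [← e2, show (⟨q, qN⟩ : normalizer (h.A : Set G)) ^ i = 1 from Subtype.ext e, map_one, orderOf_one] at this; omega
  have f : zpowers (q ^ i) = zpowers q := eq_of_le_of_card_ge (zpowers_le.2 ⟨i, rfl⟩)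
    ((Nat.card_zpowers q).trans (o.trans ((Nat.card_zpowers _).trans o').symm)).le
  have g1 : h.rho.range = G24 (E.tw k.1) := j.rg.trans (tw24 E k.2).1.symm
  have g2 : ∀ w, IsConj z (w.toMul : G) ↔ w ∈ mset 2048 (E.tw k.1).e XZ := fun w => by rw [(tw24 E k.2).2]; exact j.zt w
  generalize E.tw k.1 = F at g1 g2 e2
  have l := h.l7' hG g1 g2 (by rw [coe_zpow]; exact o') e2
  rw [coe_zpow] at l
  have := l.cg f
  exact ⟨_, mem_inf.2 ⟨mem_Cz.2 (Commute.zpow_right (mem_Cz.1 b) i), t1⟩, this⟩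
theorem l7 {q t : G} (o : orderOf q = 7) (tt : t * t = 1) (t0 : t ≠ 1) (nt : ¬ IsConj z t) (b : t ∈ Cz q) : ∃ V, t ∈ V ∧ L7 z q V := by
  obtain ⟨v, v1, v2⟩ := h.conj_A hG tt
  obtain ⟨g, rfl⟩ := _root_.isConj_iff.1 v2
  have c := isConj_cj g z
  have h1 := h.cj g
  have t1 : g * v * g⁻¹ ∈ h1.A := h.cj_A g ▸ smul_mem_pointwise_smul _ _ _ v1
  have nt' := mt c.trans nt
  generalize g * v * g⁻¹ = t at *
  revert h1
  generalize MulAut.conj g • R = R', π.comp (cjz g z).toMonoidHom = π', (fun v x => P v (g⁻¹ * x * g)) = P'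
  generalize g * z * g⁻¹ = z' at *
  intro h1 t1
  obtain ⟨V, a, l1, l2, l3, l4, l5, l6, l7, l8, l9⟩ := h1.l7a hG o t1 t0 nt' b
  exact ⟨V, a, l1, l2, fun v a => mt c.symm.trans (l3 v a), l4, l5, l6, l7, l8, l9⟩
theorem inv' {x k : Cz z} (a : π x = thL) (x3 : x ^ 3 = 1) (b : k * x * k⁻¹ = x * x) (c : π k * π k = 1) (d : k.1 ^ 4 = 1) : k * k = 1 := by
  obtain ⟨m, m1, Q, p, l, e⟩ := exists_cj_pg h.A_le (zpowers_le.2 k.2) h.A_pg fun y => ⟨2, Subtype.ext (by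
    obtain ⟨n, e⟩ := y.2
    rw [coe_pow, ← e, ← zpow_natCast, ← zpow_mul, mul_comm, zpow_mul, zpow_natCast]; simp [d])⟩
  lift m to Cz z using m1
  have n : (m * k * m⁻¹).1 ∈ normalizer (h.A : Set G) := h.le_nrm p l (e _ (mem_zpowers _))
  have f : ∀ y : Cz z, π y = thL → y ^ 3 = 1 → m * k * m⁻¹ * y * (m * k * m⁻¹)⁻¹ = y * y → k * k = 1 := fun y u v w => by
    obtain ⟨E, j⟩ := h.main u hG v
    simpa using j.inv hG n (.inr w) (by rw [← map_mul, conj_mul, map_mul, map_mul, map_mul, c]; simp)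
  have g : m * k * m⁻¹ * (m * x * m⁻¹) * (m * k * m⁻¹)⁻¹ = m * x * m⁻¹ * (m * x * m⁻¹) := by rw [conj_mul (a := x) (b := m), ← b]; group
  have g3 : (m * x * m⁻¹) ^ 3 = 1 := by rw [conj_pow, x3]; simp
  rcases mem_NT.1 (h.mem_LJ m).2 with u | u
  · exact f _ (by rw [map_mul, map_mul, map_inv, a, u, mul_inv_cancel_right]) g3 g
  · refine f (m * x * m⁻¹ * (m * x * m⁻¹)) (by
      rw [map_mul, map_mul, map_mul, map_inv, a, u, mul_inv_cancel_right, ← mul_assoc, th_pow, one_mul])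
      (by rw [← pow_two, ← pow_mul, mul_comm, pow_mul, g3, one_pow]) (by rw [← conj_mul, g])
theorem m7' {q : Cz z} (o : orderOf q.1 = 7) (a : π q = q7) : M7 z q.1 := by
  have i := h.im_cen (by norm_num) (by norm_num) o
  have f := h.odd_fix (k := q) (by rw [o]; decide)
  rw [a] at i f
  have m : ∀ {y}, y ∈ Cz q.1 → (b : y ∈ Cz z) → π ⟨y, b⟩ ∈ C7 := fun c b => i.le ⟨_, ⟨c, b⟩, rfl⟩
  have r : ∀ {k : Cz z}, k.1 ∈ Cz q.1 → π k = 1 → k.1 = 1 ∨ k.1 = z := fun {k} b c => by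
    obtain ⟨u, d, e⟩ := f.le ⟨b, (h.ker k).1 c⟩
    exact (h.iff e).2 (fx7 d)
  have r2 : ∀ {k l : Cz z}, k.1 ∈ Cz q.1 → l.1 ∈ Cz q.1 → π k = π l → l = k ∨ l.1 = z * k := fun {k l} b c d =>
    (r (k := l * k⁻¹) (mul_mem c (inv_mem b)) (by rw [map_mul, map_inv, d, mul_inv_cancel])).imp
      (fun e => Subtype.ext (mul_inv_eq_one.1 e)) mul_inv_eq_iff_eq_mul.1
  have sq : ∀ {k : Cz z}, IsConj z k.1 → π k * π k = 1 := fun b => by
    obtain ⟨g, e⟩ := _root_.isConj_iff.1 b; exact h.pi_sq (e ▸ h.conj_sq g)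
  have := E6.finite
  refine ⟨?_, ?_, ?_, ?_, fun g b c => ninv7 (h.mem_LJ ⟨g, b⟩) ?_⟩
  · rw [← h.card_im inf_le_right, i, inf_assoc, inf_eq_right.2 h.le, f, h.card_sub,
      show fx q7 = ⊥ from eq_bot_iff.2 fun _ => fx7, AddSubgroup.card_bot]
    exact congrArg (· * 2) C7_eq.2
  · classical
    have n : ∀ {u}, (b : u ∈ Cz q.1) → (c : u ∈ Cz z) → IsConj z u → u ≠ z → π ⟨u, c⟩ ≠ 1 := fun b c d e f =>
      (r b f).elim (fun g => h.z_ne (isConj_one_left.1 (g ▸ d))) e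
    refine (Set.ncard_le_ncard_of_injOn (fun u => if c : u ∈ Cz z then π ⟨u, c⟩ else 1) (t := [s7, s7 * thL, thL * s7].toFinset)
      ?_ ?_).trans ?_
    · rintro u ⟨b, c, d, e⟩
      simpa only [dif_pos c, List.coe_toFinset, Set.mem_ofPred] using (inv7 (m b c) (sq d) (n b c d e)).2
    · rintro u ⟨b, c, d, e⟩ v ⟨b', c', d', -⟩ g
      simp only [dif_pos c, dif_pos c'] at g
      exact (r2 b b' g).elim (fun g => (congrArg Subtype.val g).symm) fun g =>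
        (h.out hG (inv7 (m b c) (sq d) (n b c d e)).1 d (g ▸ d')).elim
    · rw [Set.ncard_coe_finset]; exact List.toFinset_card_le _
  · obtain ⟨⟨_, g1⟩, g2⟩ := exists_prime_orderOf_dvd_card' (G := C7) 2 (by rw [C7_eq.2]; norm_num)
    obtain ⟨s, s1, rfl⟩ := i.ge g1
    obtain ⟨l, l1, l2⟩ := i.ge (C7_eq.1.le (mem_cl (by simp) : thL ∈ _))
    replace g2 : π s ^ 2 = 1 ∧ π s ≠ 1 := orderOf_eq_prime_iff.1 ((orderOf_coe _).trans g2)
    rw [pow_two] at g2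
    replace s1 : s.1 ∈ Cz q.1 := s1.1
    have nM := (inv7 g1 g2.1 g2.2).1
    have z4 : ∀ {k : Cz z}, k.1 ∈ Cz q.1 → π k = 1 → k * k = 1 := fun b c =>
      Subtype.ext ((r b c).elim (fun e => by rw [coe_mul, e, one_mul, coe_one]) fun e => by rw [coe_mul, e, h.zz, coe_one])
    have x1 : π (l ^ 4) = thL := by rw [map_pow, l2, pow_succ, pow_three', th_pow, one_mul]
    have x2 : (l ^ 4) ^ 3 = 1 := by
      rw [← pow_mul, show 4 * 3 = (3 + 3) * 2 from rfl, pow_mul, pow_add, z4 (pow_mem l1.1 3) (by rw [map_pow, l2, pow_three', th_pow]), one_pow]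
    have x3 : (l ^ 4).1 ∈ Cz q.1 := pow_mem l1.1 4
    generalize l ^ 4 = x at x1 x2 x3
    have e : s * x * s⁻¹ = x * x := (r2 (mul_mem x3 x3) (mul_mem (mul_mem s1 x3) (inv_mem s1)) (by
      rw [map_mul, map_mul, map_mul, map_inv, x1, (mem_NT.1 g1.1.2).resolve_left fun c => nM ⟨g1.1, mem_Cz.2 c⟩,
        mul_inv_cancel_right])).resolve_right fun e => h.z_ne (by
      have := congrArg (· ^ 3) e
      simp only [← coe_pow, conj_pow, x2, (Commute.symm (mem_Cz.1 (x * x).2)).mul_pow] at this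
      rw [← pow_two, ← pow_mul, mul_comm 2, pow_mul, x2, pow_three, h.zz] at this
      simpa using this.symm)
    have ss := h.inv' hG x1 x2 e g2.1 (by
      rw [show 4 = 2 + 2 from rfl, pow_add, pow_two]
      exact congrArg Subtype.val (z4 (k := s * s) (mul_mem s1 s1) ((map_mul _ _ _).trans g2.1)))
    have zq : z ∈ Cz q.1 := mem_Cz.2 (mem_Cz.1 q.2).symm
    have k : ∀ t : Cz z, t.1 ∈ Cz q.1 → t * t = 1 → π t = π s → ¬ IsConj z t.1 → ∃ t ∈ Cz q.1 ⊓ Cz z, t * t = 1 ∧ t ≠ 1 ∧ ¬ IsConj z t ∧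
        ∃ x ∈ Cz q.1 ⊓ Cz z, x * t * x⁻¹ ≠ t := fun t b c d e => ⟨t, ⟨b, t.2⟩, congrArg Subtype.val c,
      fun e => g2.2 (by rw [← d, show t = 1 from Subtype.ext e, map_one]), e, x, ⟨x3, x.2⟩, fun e => nM ⟨g1.1, mem_Cz.2 (by
        rw [← d, ← x1, ← map_mul, ← map_mul, show x * t = t * x from Subtype.ext (mul_inv_eq_iff_eq_mul.1 e)])⟩⟩
    by_cases c : IsConj z s.1
    · refine k (⟨z, self_mem_Cz z⟩ * s) (mul_mem zq s1) (Subtype.ext ?_) (by rw [map_mul, (h.ker _).2 (h.mem h.zero.2), one_mul]) (h.out hG nM c)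
      rw [coe_mul, coe_mul, mul_assoc, ← mul_assoc s.1, mem_Cz.1 s.2, mul_assoc, ← coe_mul, ss, coe_one, mul_one, h.zz]
    · exact k s s1 ss rfl c
  · obtain ⟨k, b⟩ := h.lift (LJ57 n7 (by simp))
    obtain ⟨l, -, c⟩ := lift_cop π h.kpg (by norm_num) (by norm_num) ((orderOf_coe q).symm.trans o) (j := 2) (k := k) (by rw [a, b, n7_rel])
    refine ⟨l, ?_⟩
    rintro _ ⟨n, rfl⟩
    rw [← conj_zpow, show l.1 * q * l.1⁻¹ = q.1 ^ 2 from congrArg Subtype.val c, ← zpow_natCast, ← zpow_natCast, ← zpow_mul, ← zpow_mul, mul_comm]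
  · rw [← a, ← map_inv, ← map_mul, ← map_mul, ← map_pow]
    refine congrArg π (Subtype.ext ((c _ (mem_zpowers _)).trans (inv_eq_of_mul_eq_one_right ?_)))
    rw [coe_pow, ← pow_succ']; exact orderOf_dvd_iff_pow_eq_one.1 (o ▸ dvd_rfl)
theorem m7 {q y : G} (o : orderOf q = 7) (a : IsConj z y) (b : y ∈ Cz q) : M7 y q := by
  obtain ⟨g, rfl⟩ := _root_.isConj_iff.1 a
  obtain ⟨m, c, k, d, e⟩ := (h.cj g).atp (by norm_num) (by norm_num) ord_q7 le_rfl (LJ57 _ (by simp)) (by norm_num) (Q := zpowers q)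
    (by rw [Nat.card_zpowers, o]) (zpowers_le.2 (mem_Cz.2 (mem_Cz.1 b).symm)) ((h.cj g).im_le _)
  have l := ((h.cj g).reb c).m7' hG (q := k) (by rw [← Nat.card_zpowers, e, Nat.card_zpowers, o]) (by simpa using d)
  have f : Cz k.1 = Cz q := by rw [← cent_zpowers, e, cent_zpowers]
  exact ⟨f ▸ l.card, f ▸ l.few, f ▸ l.ex, e ▸ l.sq, e ▸ l.ninv⟩
variable {q : G} (o : orderOf q = 7) (a : z ∈ Cz q)
include o a
theorem seven : Nat.card (Cz q) = 840 ∧ (∀ u ∈ Cz q, IsConj z u → ∃ c ∈ Cz q, c * z * c⁻¹ = u) ∧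
    ∃ f : Cz q →* Equiv.Perm (Fin 5), f.ker ≤ (zpowers q).subgroupOf _ := by
  have M := h.m7 hG o (.refl z) a
  obtain ⟨t, t1, tt, t0, nt, x, x1, x2⟩ := M.ex
  obtain ⟨V, tV, l⟩ := h.l7 hG o tt t0 nt t1.1
  have n : ¬ Cz q ≤ normalizer (V : Set G) := fun n => by
    obtain ⟨s, i, w, j, y⟩ := l.sv a (l.cen tV ((mem_normalizer_iff.1 (n x1.1) t).1 tV) t0 (by rwa [Ne, conj_eq_one_iff]) x2.symm
      (mem_Cz.2 (mem_Cz.1 t1.2).symm) (mem_Cz.2 (mem_Cz.1 (mul_mem (mul_mem x1 t1) (inv_mem x1)).2).symm))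
    have zz := h.zz
    rw [← y, mul_assoc, ← mul_assoc w, ← (cent_zpowers q).ge (l.le j) s i, mul_assoc, l.sq _ j, mul_one] at zz
    rw [L7.sq1 o i zz, one_mul] at y
    exact l.nz w j (y ▸ .refl _)
  let Z : G → Set G := fun w => {u | (u ∈ Cz q ∧ u ∈ Cz w ∧ IsConj z u ∧ u ≠ w) ∧ w ∈ Cz q ∧ w * w = 1 ∧ w ≠ 1}
  have sq : ∀ {y}, IsConj z y → y * y = 1 ∧ y ≠ 1 := fun b => by
    obtain ⟨g, rfl⟩ := _root_.isConj_iff.1 b; exact ⟨h.conj_sq g, h.conj_ne_one g⟩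
  have k : ∀ w, (Z w).ncard ≤ 3 ∧ (¬ IsConj z w → (Z w).ncard ≤ 2) := fun w => by
    by_cases b : w ∈ Cz q ∧ w * w = 1 ∧ w ≠ 1
    · have c : ¬ IsConj z w → (Z w).ncard ≤ 2 := fun c => by
        obtain ⟨U, d, m⟩ := h.l7 hG o b.2.1 b.2.2 c b.1
        obtain ⟨e, f⟩ := m.two o d b.2.2
        exact (Set.ncard_le_ncard (t := {e, e * w}) fun u g =>
          (f u g.1.1 g.1.2.1 (sq g.1.2.2.1).1).resolve_left fun i => m.nz u i g.1.2.2.1).trans ((Set.ncard_insert_le _ _).trans (by simp))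
      exact ⟨by_cases (fun d : IsConj z w => le_trans (Set.ncard_le_ncard fun u g => by exact ⟨g.1.1, g.1.2.1, d.symm.trans g.1.2.2.1, g.1.2.2.2⟩)
        (h.m7 hG o d b.1).few) fun d => (c d).trans (by norm_num), c⟩
    · rw [show Z w = ∅ from Set.eq_empty_of_forall_notMem fun u c => b c.2]; simp
  obtain ⟨v, v1, v2, v3⟩ : ∃ v ∈ V, v ≠ 1 ∧ v ≠ t := by
    obtain ⟨u, u1, v, v1, u2, v2, n⟩ := l.ex
    exact by_cases (fun e : u = t => ⟨v, v1, v2, e ▸ n.symm⟩) fun e => ⟨u, u1, u2, e⟩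
  obtain ⟨d, d1⟩ := l.two o tV t0
  have c10 : {u | u ∈ Cz q ∧ IsConj z u}.ncard ≤ 10 := by
    refine (Set.ncard_le_ncard (t := Z v ∪ Z (t * v) ∪ Z d ∪ Z (d * t)) ?_).trans ?_
    · rintro u ⟨b, c⟩
      obtain ⟨w, w1, w2, w3, w4, w5, w6, w7⟩ := dih (sq c).1 tt (sq c).2 t0 (mt c.trans nt)
      have w8 := zpowers_le.2 (mul_mem b t1.1) w1
      have e : u ∈ Z w := ⟨⟨b, mem_Cz.2 (mem_Cz.1 w6).symm, c, w4.symm⟩, w8, w2, w3⟩
      rcases d1 w w8 w7 w2 with f | rfl | rfl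
      · exact .inl (.inl (by_cases (fun g : w = v => .inl (g ▸ e)) fun g => .inr (l.k4 t tV v v1 w f t0 v2 v3.symm w3 w5 g ▸ e)))
      · exact .inl (.inr e)
      · exact .inr e
    · have := Set.ncard_union_le (Z v ∪ Z (t * v) ∪ Z d) (Z (d * t))
      have := Set.ncard_union_le (Z v ∪ Z (t * v)) (Z d)
      have := Set.ncard_union_le (Z v) (Z (t * v))
      have := (k v).2 (l.nz v v1)
      have := (k _).2 (l.nz _ (mul_mem tV v1))
      have := (k d).1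
      have := (k (d * t)).1
      omega
  have c := card_cl (Cz q) z
  have sub : {v | ∃ n ∈ Cz q, n * z * n⁻¹ = v} ⊆ {u | u ∈ Cz q ∧ IsConj z u} := by
    rintro _ ⟨n, b, rfl⟩; exact ⟨mul_mem (mul_mem b a) (inv_mem b), isConj_cj n z⟩
  have c1 := Set.ncard_le_ncard sub
  rw [M.card] at c
  have kr := (normalCore_eq_ker _).symm.trans_le (l.core o n)
  have b := l.big
  rw [← H1.card_subgroupOf_of_le inf_le_left, inf_subgroupOf_left] at b
  generalize (normalizer (V : Set G)).subgroupOf (Cz q) = K at kr b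
  have c2 := K.card_mul_index
  have c3 := (toPermHom (Cz q) (Cz q ⧸ K)).ker.card_mul_index
  have c4 := card_le_of_le kr
  have c5 := card_le_card_group (toPermHom (Cz q) (Cz q ⧸ K)).range
  rw [H1.card_subgroupOf_of_le (zpowers_le.2 (self_mem_Cz q)), Nat.card_zpowers, o] at c4
  rw [Nat.card_perm, ← index_ker, ← index_eq_card] at c5
  have c6 := (Nat.mul_le_mul_right K.index b).trans (c2.trans c3.symm).le |>.trans (Nat.mul_le_mul c4 c5)
  have c7 := (Nat.mul_le_mul_right K.index b).trans c2.le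
  have c8 : K.index = 5 := by
    have := K.index_ne_zero_of_finite
    have : K.index ≤ 5 := by omega
    generalize K.index = i at *
    interval_cases i <;> simp_all [Nat.factorial]
  have e : Cz q ⧸ K ≃ Fin 5 := Finite.equivFinOfCardEq c8
  refine ⟨by omega, fun u i j => (Set.eq_of_subset_of_ncard_le sub (by omega)).ge ⟨i, j⟩,
    e.permCongrHom.toMonoidHom.comp (toPermHom _ _), ?_⟩
  rwa [MonoidHom.ker_comp_of_injective _ _ e.permCongrHom.injective]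
theorem n49 : ¬ 7 ^ 2 ∣ Nat.card G := no_sq (by norm_num) o (by rw [(h.seven hG o a).1]; norm_num)
theorem cardN7 : Nat.card (normalizer (zpowers q : Set G)) = 2520 := by
  obtain ⟨f, b, c, d⟩ := nc_dvd (by norm_num) o
  have M := h.m7 hG o (.refl z) a
  obtain ⟨n, e⟩ := M.sq
  have n1 : n ∈ normalizer (zpowers q : Set G) := mem_normalizer_fintype fun y i => e y i ▸ pow_mem i 2
  have r := card_subgroup_dvd_card f.range
  rw [c] at r
  have r2 : ¬ Nat.card f.range ∣ 2 := fun i => by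
    have j := congrArg (fun g : f.range => (g.1 ⟨q, mem_zpowers q⟩).1) (orderOf_dvd_iff_pow_eq_one.1
      ((orderOf_dvd_natCard (⟨_, ⟨n, n1⟩, rfl⟩ : f.range)).trans i))
    simp only [pow_two, coe_mul, MulAut.mul_apply, d, e q (mem_zpowers q), e _ (mul_mem (mem_zpowers q) (mem_zpowers q))] at j
    have := orderOf_dvd_iff_pow_eq_one.2 (show q ^ 3 = 1 from mul_right_cancel (b := q) (by simpa [pow_succ, mul_assoc] using j))
    rw [o] at this; omega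
  have r6 : Nat.card f.range ≠ 6 := fun i => by
    obtain ⟨g, j⟩ := (eq_top_of_card_eq _ (i.trans c.symm)).ge (mem_top
      ⟨Equiv.inv _, fun x y => (mul_inv_rev x y).trans (IsMulCommutative.is_comm.comm _ _)⟩)
    have k : ∀ y ∈ zpowers q, g.1 * y * g.1⁻¹ = y⁻¹ := fun y m => (d g ⟨y, m⟩).symm.trans (by rw [j]; rfl)
    obtain ⟨u, u1, u2⟩ := (h.seven hG o a).2.1 _ (mem_Cz.2 (by
      have := (cent_zpowers q).ge a _ ((mem_normalizer_iff''.1 g.2 q).1 (mem_zpowers q))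
      calc _ = g * (z * (g.1⁻¹ * q * g)) * g.1⁻¹ := by group
        _ = _ := by rw [← this]; group)) (isConj_cj g.1 z)
    refine M.ninv (u⁻¹ * g) (mem_Cz'.2 (by rw [mul_inv_rev, inv_inv, mul_assoc, mul_assoc, ← mul_assoc z, ← mul_assoc g.1, ← mul_assoc g.1, ← u2]; group))
      fun y m => ?_
    rw [mul_inv_rev, inv_inv, mul_assoc, mul_assoc, ← mul_assoc y, ← mul_assoc g.1, ← mul_assoc g.1, k y m,
      (cent_zpowers q).ge u1 _ (inv_mem m), inv_mul_cancel_left]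
  rw [b, (h.seven hG o a).1]
  have := Nat.le_of_dvd (by norm_num) r
  generalize Nat.card f.range = i at *
  interval_cases i <;> simp_all
theorem s5_7 : ∃ J, IsInternalDirectProduct (zpowers q) J (Cz q) ∧ Nonempty (J ≃* Equiv.Perm (Fin 5)) ∧ ∀ y ∈ Cz q, y * y = 1 → y ∈ J := by
  obtain ⟨c, -, f, b⟩ := h.seven hG o a
  obtain ⟨J, j, d, e⟩ := cent_split (m := 120) (by norm_num) (by norm_num) o c (by norm_num)
  refine ⟨J, j, ⟨.ofBijective (f.comp (inclusion j.2.1)) ((Nat.bijective_iff_injective_and_card _).2 ⟨(injective_iff_map_eq_one _).2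
    fun y i => Subtype.ext (j.2.2.2.1.le ⟨b i, y.2⟩), ?_⟩)⟩, e⟩
  rw [d, Nat.card_perm, Nat.card_eq_fintype_card, Fintype.card_fin]; rfl
end JT0
end
end H13
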