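import Cfsg.Agent.H13.J7
import Cfsg.Agent.H13.J5W
/-! Groups of type `J4`: the normaliser of a pure elementary abelian subgroup of order eight. -/
set_option autoImplicit false
namespace H13
noncomputable section
open MulAction Cfsg H27 Subgroup H22
open scoped Pointwise MatrixGroups commutatorElement
universe u
theorem nrm_S5 {N : Subgroup (Equiv.Perm (Fin 5))} [N.Normal] (p : IsPGroup 2 N ∨ ∀ a ∈ N, ∀ b ∈ N, a * b = b * a) : N = ⊥ := by
  refine N.bot_or_nontrivial.resolve_right fun n => ?_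
  have l := Equiv.Perm.alternatingGroup_le_of_normal (by simp) n
  have a : Equiv.swap 0 1 * Equiv.swap 1 2 ∈ N := l (Equiv.Perm.mem_alternatingGroup.2 (by decide))
  rcases p with p | p
  · obtain ⟨k, e⟩ := p ⟨_, a⟩
    have := pow_gcd_eq_one.2 ⟨congrArg Subtype.val e, show (Equiv.swap 0 1 * Equiv.swap 1 2 : Equiv.Perm (Fin 5)) ^ 3 = 1 by decide⟩
    rw [Nat.Coprime.gcd_eq_one (Nat.Coprime.pow_left k (by norm_num))] at this
    exact (by decide : (Equiv.swap 0 1 * Equiv.swap 1 2 : Equiv.Perm (Fin 5)) ^ 1 ≠ 1) this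
  · exact absurd (p _ a (Equiv.swap 0 1 * Equiv.swap 1 3) (l (Equiv.Perm.mem_alternatingGroup.2 (by decide)))) (by decide)
theorem core_S5 : pCore 2 (Equiv.Perm (Fin 5)) = ⊥ := nrm_S5 (.inl (H1.isPGroup_pCore 2))
theorem cen_S5 : center (Equiv.Perm (Fin 5)) = ⊥ := nrm_S5 (.inr fun _ _ _ b => mem_center_iff.1 b _)
theorem prod_of' {Γ A B : Type*} [Group Γ] [Group A] [Group B] [Finite Γ] [IsSimpleGroup A]
    (hB : pCore 2 B = ⊥) (hZ : center B = ⊥) {φ : Γ →* A} (s : Function.Surjective φ) {f : φ.ker →* B}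
    (t : Function.Surjective f) (p : IsPGroup 2 f.ker) {q : Γ} (q1 : φ q ≠ 1)
    (q2 : ∀ d : φ.ker, ∃ h, f ⟨q * d * q⁻¹ * d.1⁻¹, h⟩ = 1) : ∃ θ : Γ →* A × B, Function.Surjective θ ∧ (∀ g, (θ g).1 = φ g) ∧
      θ.ker = f.ker.map φ.ker.subtype := by
  have e := H1.comap_pCore_of_surjective 2 t p
  rw [hB, MonoidHom.comap_bot] at e
  have n : (f.ker.map φ.ker.subtype).Normal := e ▸ H1.normal_map_char φ.ker (pCore 2 φ.ker)
  let c := fun (g : Γ) (d : φ.ker) => (⟨g * d * g⁻¹, φ.normal_ker.conj_mem _ d.2 g⟩ : φ.ker)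
  let K := (centralizer (SetLike.coe (φ.ker.map (QuotientGroup.mk' (f.ker.map φ.ker.subtype))))).comap (QuotientGroup.mk' _)
  have k0 : ∀ g (d : φ.ker), QuotientGroup.mk' (f.ker.map φ.ker.subtype) d * QuotientGroup.mk' _ g =
      QuotientGroup.mk' _ g * QuotientGroup.mk' _ d.1 ↔ f (c g d) = f d := fun g d => by
    rw [← map_mul, ← map_mul, eq_comm, ← mul_inv_eq_one, ← map_inv, ← map_mul, ← mul_inv_eq_one (b := f d), ← map_inv, ← map_mul,
      show g * d * (d * g)⁻¹ = (c g d * d⁻¹).1 by simp [c, mul_assoc]]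
    exact (QuotientGroup.eq_one_iff _).trans (mem_map_iff_mem (K := f.ker) (x := c g d * d⁻¹) φ.ker.subtype_injective)
  have k : ∀ g, g ∈ K ↔ ∀ d, f (c g d) = f d := fun g => ⟨fun a d => (k0 g d).1 (a _ ⟨d, d.2, rfl⟩), by
    rintro a _ ⟨d, u, rfl⟩; exact (k0 g ⟨d, u⟩).2 (a _)⟩
  have := φ.normal_ker.map _ (QuotientGroup.mk'_surjective (f.ker.map φ.ker.subtype))
  have sK : ∀ a, ∃ g ∈ K, φ g = a := fun a => (((inferInstance : K.Normal).map φ s).eq_bot_or_eq_top.resolve_left fun b =>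
    q1 (b.le ⟨q, (k q).2 fun d => by
      obtain ⟨h, u⟩ := q2 d
      rwa [← mul_inv_eq_one, ← map_inv, ← map_mul], rfl⟩)).ge (mem_top a)
  have uq : ∀ {b b' : B}, (∀ d, b * f d * b⁻¹ = b' * f d * b'⁻¹) → b = b' := fun {b b'} a => (inv_mul_eq_one.1 (hZ.le
    (mem_center_iff.2 fun y => by
      obtain ⟨d, rfl⟩ := t y
      calc f d * (b'⁻¹ * b) = b'⁻¹ * (b' * f d * b'⁻¹) * b := by group
        _ = _ := by rw [← a]; group))).symm
  have cd : ∀ e d : φ.ker, f (c e d) = f e * f d * (f e)⁻¹ := fun e d => by rw [← map_inv, ← map_mul, ← map_mul]; rfl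
  have cc : ∀ g l d, c (g * l) d = c g (c l d) := fun g l d => Subtype.ext (by simp [c, mul_assoc])
  have ex : ∀ g, ∃ b, ∀ d, f (c g d) = b * f d * b⁻¹ := fun g => by
    obtain ⟨l, a, b⟩ := sK (φ g)
    refine ⟨f ⟨l⁻¹ * g, by simp [b]⟩, fun d => ?_⟩
    rw [← cd, ← (k l).1 a (c (l⁻¹ * g) d), ← cc, mul_inv_cancel_left]
  choose ψ hψ using ex
  have ψ1 : ∀ d : φ.ker, ψ d = f d := fun d => uq fun e => (hψ d e).symm.trans (cd d e)
  let θ := φ.prod (MonoidHom.mk' ψ fun g l => uq fun d => by rw [← hψ, cc, hψ, hψ]; group)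
  have k2 : θ.ker = f.ker.map φ.ker.subtype := Subgroup.ext fun g => Prod.ext_iff.trans ⟨fun a =>
    ⟨⟨g, a.1⟩, (ψ1 ⟨g, a.1⟩).symm.trans a.2, rfl⟩, by rintro ⟨d, a, rfl⟩; exact ⟨d.2, (ψ1 d).trans a⟩⟩
  have s2 : Function.Surjective θ := fun ⟨a, b⟩ => by
    obtain ⟨l, u, rfl⟩ := sK a
    obtain ⟨d, rfl⟩ := t b
    exact ⟨l * d, (map_mul ..).trans <| Prod.ext ((congrArg (φ l * ·) d.2).trans (mul_one _))
      ((congrArg₂ (· * ·) (uq (b := ψ l) (b' := 1) fun e => by rw [← hψ, (k l).1 u]; simp) (ψ1 d)).trans (one_mul _))⟩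
  exact ⟨θ, s2, fun _ => rfl, k2⟩
theorem n21 {Γ : Type*} [Group Γ] [Finite Γ] (c : Nat.card Γ = 168) {a : Γ} (o : orderOf a = 7) :
    21 ≤ Nat.card (normalizer (zpowers a : Set Γ)) := by
  have := Fact.mk (by norm_num : Nat.Prime 7)
  have i := (zpowers a).card_mul_index
  rw [Nat.card_zpowers, o, c] at i
  let S := IsPGroup.toSylow (P := zpowers a) (.of_card (n := 1) ((Nat.card_zpowers a).trans o)) (show ¬ 7 ∣ _ by omega)
  have b := card_sylow_modEq_one 7 Γ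
  have d : Nat.card (Sylow 7 Γ) ∣ (zpowers a).index := S.card_dvd_index
  have e : Nat.card (Sylow 7 Γ) = (normalizer (zpowers a : Set Γ)).index := S.card_eq_index_normalizer
  have f := (normalizer (zpowers a : Set Γ)).card_mul_index
  rw [show (zpowers a).index = 24 by omega] at d
  rw [← e, c] at f
  have := Nat.le_of_dvd (by norm_num) d
  rw [Nat.ModEq] at b
  clear e
  generalize Nat.card (Sylow 7 Γ) = n at *
  interval_cases n <;> omega
section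
variable {Γ : Type*} [Group Γ] [Finite Γ] {θ : Γ →* SL(3, ZMod 2) × Equiv.Perm (Fin 5)} (s : Function.Surjective θ)
theorem card_S5 : Nat.card (Equiv.Perm (Fin 5)) = 120 := by rw [Nat.card_perm, Nat.card_eq_fintype_card, Fintype.card_fin]; rfl
omit [Finite Γ] in
theorem eq_one_cop {a : Γ} {p n : ℕ} (b : a ^ p = 1) (c : Nat.card Γ = n) (d : p.gcd n = 1) : a = 1 := by
  rw [← pow_one a, ← d]; exact pow_gcd_eq_one.2 ⟨b, c ▸ pow_card_eq_one'⟩
include s
theorem g57 {p : ℕ} (hp : p.Prime) (d : p ∣ 168 * 120) : ∃ q : Γ, orderOf q = p ∧ θ q ^ p = 1 :=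
  have := Fact.mk hp
  (exists_prime_orderOf_dvd_card' p (d.trans (by
    rw [← card_sl32, ← card_S5, ← Nat.card_prod]; exact card_dvd_of_surjective θ s))).imp fun q o =>
      ⟨o, by rw [← map_pow, ← o, pow_orderOf_eq_one, map_one]⟩
theorem g5 : ∃ q : Γ, orderOf q = 5 ∧ (θ q).1 = 1 :=
  (g57 s (by norm_num) (by norm_num)).imp fun _ o => ⟨o.1, eq_one_cop (congrArg Prod.fst o.2) card_sl32 (by norm_num)⟩
theorem g7 (k : IsPGroup 2 θ.ker) : ∃ q : Γ, orderOf q = 7 ∧ 2520 ≤ Nat.card (normalizer (zpowers q : Set Γ)) := by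
  obtain ⟨q, o, a⟩ := g57 s (p := 7) (by norm_num) (by norm_num)
  have b : (θ q).2 = 1 := eq_one_cop (congrArg Prod.snd a) card_S5 (by norm_num)
  have := Fact.mk (by norm_num : Nat.Prime 7)
  have c : orderOf (θ q).1 = 7 := orderOf_eq_prime (congrArg Prod.fst a) fun e => by
    obtain ⟨n, f⟩ := k ⟨q, Prod.ext e b⟩
    have := orderOf_dvd_iff_pow_eq_one.2 (congrArg Subtype.val f : q ^ 2 ^ n = 1)
    rw [o] at this
    exact absurd ((by norm_num : Nat.Prime 7).dvd_of_dvd_pow this) (by norm_num)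
  have d := card_le_of_le (P := (normalizer (zpowers (θ q).1 : Set _)).prod ⊤) (Q := (normalizer (zpowers q : Set Γ)).map θ) fun u e => by
    obtain ⟨l, rfl⟩ := s u
    obtain ⟨n, f⟩ := mem_powers_iff_mem_zpowers.2 ((mem_normalizer_iff.1 e.1 _).1 (mem_zpowers _))
    obtain ⟨m, g, i⟩ := lift_cop θ k (by norm_num) (by norm_num) o (k := l) (j := n) (Prod.ext f.symm (by simp [b]))
    refine ⟨m, mem_normalizer_fintype ?_, g⟩
    rintro _ ⟨r, rfl⟩
    exact Set.mem_of_eq_of_mem conj_zpow.symm (zpow_mem (i ▸ pow_mem (mem_zpowers q) n :) r)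
  rw [Nat.card_congr (Subgroup.prodEquiv _ _).toEquiv, Nat.card_prod, card_top, card_S5] at d
  have e := n21 card_sl32 c
  have f := H1.card_map_mul_card_inf_ker (normalizer (zpowers q : Set Γ)) θ
  have := Nat.card_pos (α := (normalizer (zpowers q : Set Γ) ⊓ θ.ker : Subgroup Γ))
  exact ⟨q, o, by nlinarith⟩
theorem g8 (i : Function.Injective θ) : ∃ q : Γ, orderOf q = 5 ∧ (θ q).1 = 1 ∧ ∃ K ≤ Cz q, 8 ∣ Nat.card K := by
  obtain ⟨q, o, a⟩ := g5 s
  refine ⟨q, o, a, ((MonoidHom.snd _ _).comp θ).ker, fun k b => mem_Cz.2 (i (by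
    rw [map_mul, map_mul]; exact Prod.ext (by simp [a]) (by simp [show (θ k).2 = 1 from b]))), ?_⟩
  have c := ((MonoidHom.snd _ _).comp θ).ker.card_mul_index
  rw [index_ker, MonoidHom.range_eq_top.2 (Prod.snd_surjective.comp s), card_top, Nat.card_eq_of_bijective θ ⟨i, s⟩, Nat.card_prod,
    card_sl32, card_S5] at c
  omega
end
variable {G : Type u} [Group G] [Finite G] {z : G} {R : Subgroup G} {π : Cz z →* AL V6} {P : V6 → G → Prop}
namespace JT0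
variable (h : JT0 z R π P)
include h
theorem V_le : h.sub W6 ≤ h.A := fun _ ⟨u, a, b⟩ => h.sub_A ⟨u, W_U a, b⟩
theorem C_le : centralizer (h.sub W6 : Set G) ≤ Cz z := fun _ a => mem_Cz.2 (a z (h.z_sub _)).symm
theorem C_inf : centralizer (h.sub W6 : Set G) ⊓ R = h.sub Wp := le_antisymm (fun x a => by
    obtain ⟨v, b⟩ := h.ex' x a.2
    refine ⟨v, mem_Wp.2 fun u hu => ?_, b⟩
    obtain ⟨y, c⟩ := h.ex u
    exact (h.comm_iff b c).1 (a.1 y ⟨u, hu, c⟩).symm)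
  (le_inf (fun _ ⟨_, a, b⟩ _ ⟨_, c, d⟩ => ((h.comm_iff b d).2 (mem_Wp.1 a _ c)).symm) (h.sub_le _))
theorem C_X {k : Cz z} (a : k.1 ∈ centralizer (h.sub W6 : Set G)) : π k ∈ MJ ⊓ stabilizer (AL V6) (v6 85) := by
  have b : ∀ t : GF4, π k (t • v6 85) = t • v6 85 := fun t => by
    obtain ⟨y, c⟩ := h.ex (t • v6 85)
    exact h.fix_of_comm c (a y ⟨_, ⟨t, rfl⟩, c⟩).symm
  have c : π k (v6 85) = v6 85 := by simpa using b 1
  refine ⟨by_contra fun n => ?_, c⟩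
  have := LJ_semi (h.mem_LJ k) n (v6 85)
  rw [c, thL_apply, b] at this
  exact absurd this (by decide +kernel)
variable {x : Cz z} (hx : π x = thL)
include hx
theorem mem_C {k : Cz z} (a : k * x = x * k) (b : π k ∈ MJ ⊓ stabilizer (AL V6) (v6 85)) :
    k.1 ∈ centralizer (h.sub W6 : Set G) := fun y hy =>
  mem_Cz.1 (h.sub_le_of (W := Cz k.1) (mem_Cz.2 (mem_Cz.1 k.2).symm) (by
    rintro _ ⟨t, rfl⟩
    have := h.mu_cj hx a (t • v6 85)
    rw [lin_smul (MJ_lin b.1), show π k (v6 85) = _ from b.2] at this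
    exact ⟨_, mem_Cz.2 (mul_inv_eq_iff_eq_mul.1 this).symm, h.mu_P hx _⟩) hy)
theorem loc8 (x3 : x ^ 3 = 1) {φ : normalizer (h.sub W6 : Set G) →* SL(3, ZMod 2)} (s : Function.Surjective φ)
    (k : ∀ k, φ k = 1 ↔ k.1 ∈ centralizer (h.sub W6 : Set G)) : ∃ θ : normalizer (h.sub W6 : Set G) →* SL(3, ZMod 2) × Equiv.Perm (Fin 5),
    Function.Surjective θ ∧ (∀ g, (θ g).1 = φ g) ∧ ∀ y, y ∈ θ.ker.map (Subgroup.subtype _) ↔
      y ∈ centralizer (h.sub W6 : Set G) ∧ ∃ a, π ⟨y, a⟩ ∈ BW := by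
  have nR : R ≤ normalizer (h.sub W6 : Set G) := fun y c => h.nrm_sub (k := ⟨y, h.le c⟩) fun u d => by rwa [(h.ker _).2 c]
  obtain ⟨f, t, kf⟩ := quotS5
  let κ : φ.ker →* Cz z := ((Subgroup.subtype _).comp φ.ker.subtype).codRestrict _ fun d => h.C_le ((k _).1 d.2)
  let ψ := (π.comp κ).codRestrict _ fun d => h.C_X ((k _).1 d.2)
  have := simple_sl32
  obtain ⟨r, r1⟩ := h.ex (v6 2)
  have kp : IsPGroup 2 π.ker := by
    rw [show π.ker = R.subgroupOf (Cz z) from Subgroup.ext h.ker]; exact h.pg.comap_subtype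
  obtain ⟨θ, a, b, c⟩ := prod_of' core_S5 cen_S5 s (f := f.comp ψ) (t.comp fun m => by
      obtain ⟨l, u, v⟩ := h.lift_x hx x3 m.2.1
      have w := h.mem_C hx v (u ▸ m.2)
      exact ⟨⟨⟨l, centralizer_le_normalizer _ w⟩, (k _).2 w⟩, Subtype.ext u⟩)
    ((((IsPGroup.of_card (G := BW) (n := 4) card_BW).comap_of_ker_isPGroup π kp).comap_of_injective κ fun a b e =>
      Subtype.ext (Subtype.ext (congrArg Subtype.val e :))).to_le fun d e => (kf _).1 e) (q := ⟨r, nR (h.mem r1)⟩)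
    (fun e => absurd ((h.comm_iff r1 (h.mu_P hx (v6 85))).1 ((k _).1 e _ ⟨_, ⟨1, one_smul ..⟩, h.mu_P hx _⟩).symm)
      (by decide +kernel)) fun d => ⟨mul_mem (φ.normal_ker.conj_mem _ d.2 _) (inv_mem d.2), (kf _).2 (by
        have : π (⟨r, h.le (h.mem r1)⟩ * κ d * ⟨r, h.le (h.mem r1)⟩⁻¹ * (κ d)⁻¹) = 1 := by
          simp [(h.ker ⟨r, h.le (h.mem r1)⟩).2 (h.mem r1)]
        exact Set.mem_of_eq_of_mem this (one_mem BW))⟩
  refine ⟨θ, a, b, fun y => c ▸ ⟨?_, fun ⟨u, v, w⟩ => ⟨⟨y, centralizer_le_normalizer _ u⟩, 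
    ⟨⟨_, (k _).2 u⟩, (kf (ψ ⟨⟨y, centralizer_le_normalizer _ u⟩, (k _).2 u⟩)).2 w, rfl⟩, rfl⟩⟩⟩
  rintro ⟨_, ⟨d, e, rfl⟩, rfl⟩
  exact ⟨(k _).1 d.2, _, (kf _).1 e⟩
theorem spec8 (x3 : x ^ 3 = 1) {S : Subgroup G} (m : ∀ y, y ∈ S ↔ y ∈ centralizer (h.sub W6 : Set G) ∧ ∃ a, π ⟨y, a⟩ ∈ BW) :
    IsSpecial 2 S ∧ Nat.card S = 2 ^ 15 ∧ (center S).map S.subtype = h.sub W6 := by
  have lf : ∀ g ∈ BW, ∃ k : Cz z, π k = g ∧ k * x = x * k ∧ k.1 ∈ S := fun g a => by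
    obtain ⟨k, u, v⟩ := h.lift_x hx x3 (BW_le a).1
    exact ⟨k, u, v, (m _).2 ⟨h.mem_C hx v (u ▸ BW_le a), k.2, u ▸ a⟩⟩
  have l : S ≤ Cz z := fun y a => h.C_le ((m y).1 a).1
  have i : S ⊓ R = h.sub Wp := h.C_inf ▸ le_antisymm (inf_le_inf_right _ fun y a => ((m y).1 a).1) fun y a =>
    ⟨(m y).2 ⟨a.1, h.le a.2, by rw [(h.ker _).2 a.2]; exact one_mem _⟩, a.2⟩
  have c : Nat.card S = 2 ^ 15 := by
    rw [← h.card_im l, i, h.card_sub, card_Wp, show XQ.im π S = BW from le_antisymm (by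
      rintro _ ⟨k, a, rfl⟩; exact ((m _).1 a).2.2) fun g a => by obtain ⟨k, u, -, v⟩ := lf g a; exact ⟨k, v, u⟩, card_BW]
    rfl
  have pS : IsPGroup 2 S := .of_card c
  have lV : h.sub W6 ≤ S := fun y a => (i.ge (by
    obtain ⟨u, b, d⟩ := a; exact ⟨u, mem_Wp.2 fun v e => U_pol (W_U b) (W_U e), d⟩)).1
  have sq : ∀ y ∈ S, y * y ∈ h.sub W6 := fun y a => by
    obtain ⟨b, d, e⟩ := (m y).1 a
    obtain ⟨k, u, v, w⟩ := lf _ e
    obtain ⟨t, f, g⟩ := i.le (x := y * k.1⁻¹) ⟨S.mul_mem a (S.inv_mem w), (h.ker (⟨y, d⟩ * k⁻¹)).1 (by simp [u])⟩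
    have o : k.1 * k ∈ h.sub W6 := by
      rcases h.cen_x hx ((h.ker (k * k)).1 (by rw [map_mul, u, (BW_sq e).1]))
        (congrArg Subtype.val (Commute.mul_left v v).symm) with o | o <;> rw [show k.1 * k = _ from o]
      exacts [one_mem _, h.z_sub _]
    have := mul_mem (show _ ∈ h.sub W6 from ⟨_, add_comm t _ ▸ BW_mv (u ▸ e) t f, h.mul g (h.act k g)⟩) o
    simpa [mul_assoc] using this
  have z1 : (center S).map S.subtype = h.sub W6 := by
    refine le_antisymm ?_ fun y a => ⟨⟨y, lV a⟩, mem_center_iff.2 fun g => Subtype.ext (((m _).1 g.2).1 y a).symm, rfl⟩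
    rintro _ ⟨y, a, rfl⟩
    obtain ⟨b, d, e⟩ := (m y).1 y.2
    have cm : ∀ w ∈ Wp, ∀ s, P w s → y * s = s * y := fun w u s v =>
      (congrArg Subtype.val (mem_center_iff.1 a ⟨s, (i.ge ⟨w, u, v⟩).1⟩)).symm
    obtain ⟨t, f⟩ := h.ex' _ ((h.ker ⟨y, d⟩).1 ((BW_sq e).2 fun w u => by
      obtain ⟨s, v⟩ := h.ex w; exact h.fix_of_comm v (cm w u s v)))
    exact ⟨t, W_perp fun w u => by obtain ⟨s, v⟩ := h.ex w; exact (h.comm_iff f v).1 (cm w u s v), f⟩
  have c1 : ⁅S, S⁆ = h.sub W6 := by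
    refine le_antisymm (commutator_le.2 fun a u b v => ?_) (h.sub_le_of ?_ ?_)
    · have := mul_mem (mul_mem (sq _ (mul_mem u v)) (sq _ (mul_mem (mul_mem (inv_mem v) (inv_mem u)) v))) (sq _ (inv_mem v))
      rwa [show a * b * (a * b) * (b⁻¹ * a⁻¹ * b * (b⁻¹ * a⁻¹ * b)) * (b⁻¹ * b⁻¹) = ⁅a, b⁆ by
        rw [commutatorElement_def]; group] at this
    · obtain ⟨a, u⟩ := h.ex (v6 5)
      obtain ⟨b, v⟩ := h.ex (v6 34)
      have := commutator_mem_commutator (i.ge ⟨_, by decide +kernel, u⟩).1 (i.ge ⟨_, by decide +kernel, v⟩).1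
      rwa [commutatorElement_def, h.cj_zp u v, show pol q6 (v6 5) (v6 34) = 1 by decide +kernel, ZMod.val_one, pow_one,
        h.comm (h.mem v), mul_inv_cancel_right] at this
    · rintro _ ⟨t, rfl⟩
      obtain ⟨g, a, w, d, f⟩ := BW_ex
      obtain ⟨k, rfl, -, u⟩ := lf g a
      obtain ⟨y, v⟩ := h.ex (t • w)
      exact ⟨_, commutator_mem_commutator u (i.ge ⟨_, f t, v⟩).1, by
        simpa [commutatorElement_def, lin_smul (MJ_lin (BW_le a).1), ← smul_add, d] using h.mul (h.act k v) (h.toXQ.inv' v)⟩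
  have c2 : commutator S = center S := map_injective S.subtype_injective (by rw [map_subtype_commutator, c1, z1])
  have := pS.isNilpotent
  exact ⟨⟨pS, le_antisymm (H3.frattini_le_of (p := 2) c2.le fun y => (mem_map_iff_mem S.subtype_injective).1
    (z1 ▸ (pow_two y.1 ▸ sq _ y.2 :))) (c2 ▸ H3.commutator_le_frattini), c2⟩, c, z1⟩
omit hx in
theorem w5 [IsSimpleGroup G] (hG : ¬ IsMulCommutative G) {q : G} (o : orderOf q = 5) (c : q ∈ centralizer (h.sub W6 : Set G)) :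
    z ∈ Cz q ∧ L5 q z (h.sub W6) := by
  have a : z ∈ Cz q := mem_Cz.2 (c z (h.z_sub _))
  obtain ⟨W, l⟩ := h.l5 hG o (.refl z) a
  rw [eq_of_le_of_card_ge (H := h.sub W6) (K := W) (fun y b => by_cases (fun e : y = 1 => e ▸ one_mem _) fun e =>
    h.five_mem hG o a l (mem_Cz.2 (c y b)) (by
      obtain ⟨u, d, f⟩ := b
      exact (W_SJ d).elim (fun g => ((h.iff f).2 g).elim (absurd · e) fun g => g ▸ .refl _) (h.conjJ hG f)))
    (by rw [l.card, h.card_sub, card_W6])]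
  exact ⟨a, l⟩
omit hx in
theorem n7M [IsSimpleGroup G] (hG : ¬ IsMulCommutative G) {M : Subgroup G} {s : M} (o : orderOf s = 7)
    (c : 2520 ≤ Nat.card (normalizer (zpowers s : Set M))) : (∃ S : Sylow 7 G, normalizer (S.1 : Set G) ≤ M) ∧
      ∃ K ≤ M, Nonempty (K ≃* Equiv.Perm (Fin 5)) := by
  have := Fact.mk (by norm_num : Nat.Prime 7)
  obtain ⟨⟨q, a⟩, o1⟩ := exists_prime_orderOf_dvd_card' (G := Cz z) 7 (by
    rw [← h.card_im le_rfl, show XQ.im π (Cz z) = LJ by rw [XQ.im, subgroupOf_self, ← MonoidHom.range_eq_map, h.rng], card_LJ]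
    exact Dvd.dvd.mul_right (by norm_num) _)
  replace o1 : orderOf q = 7 := (orderOf_coe _).trans o1
  rw [← orderOf_coe] at o
  replace a : z ∈ Cz q := mem_Cz.2 (mem_Cz.1 a).symm
  have n := h.n49 hG o1 a
  obtain ⟨g, e⟩ := cj_zp' (by norm_num) o o1 n
  have o2 : orderOf (g * q * g⁻¹) = 7 := ((MulAut.conj g).orderOf_eq _).trans o1
  have b : g * z * g⁻¹ ∈ Cz (g * q * g⁻¹) := mem_Cz.2 (by rw [conj_mul, conj_mul, mem_Cz.1 a])
  have d := (h.cj g).cardN7 hG o2 b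
  obtain ⟨J, f, i, -⟩ := (h.cj g).s5_7 hG o2 b
  rw [← cent_zpowers (g * q * g⁻¹), e] at f
  rw [e] at d
  have l : normalizer (zpowers s.1 : Set G) ≤ M := (eq_of_le_of_card_ge (H := (normalizer (zpowers s : Set M)).map M.subtype)
    (M.subtype.map_zpowers s ▸ le_normalizer_map _) (by rw [d, card_map_of_injective M.subtype_injective]; exact c)).ge.trans (map_subtype_le _)
  have m := (zpowers s.1).card_mul_index
  rw [Nat.card_zpowers, o] at m
  exact ⟨⟨IsPGroup.toSylow (P := zpowers s.1) (.of_card (n := 1) ((Nat.card_zpowers _).trans o)) fun u => n (by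
    rw [← m, pow_two]; exact Nat.mul_dvd_mul_left 7 u), l⟩, J, f.2.1.trans ((centralizer_le_normalizer _).trans l), i⟩
end JT0
namespace JT0.JN
variable {h : JT0 z R π P} {x : Cz z} {E : BE (Additive h.A) 11} (j : h.JN x E)
include j
theorem lowP {a : ℕ} (l : a < 128) : P (v6 (xsum uB (a >>> 1))) (E.e a).toMul := by
  rw [j.lo a l]
  rcases Nat.mod_two_eq_zero_or_one a with e | e <;> rw [e]
  exacts [by simpa using h.mu_P j.hx _, by simpa using h.mul h.zero.2 (h.mu_P j.hx _)]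
theorem memW {y : G} : y ∈ h.sub W6 ↔ ∃ m < 8, (E.e (xsum [1, 10, 20] m)).toMul = y := ⟨by
  rintro ⟨_, ⟨t, rfl⟩, c⟩
  obtain ⟨m, a, b⟩ := (by decide +kernel : ∀ t : GF4, ∃ m < 8, xsum [1, 10, 20] m < 128 ∧ m ^^^ 1 < 8 ∧
    xsum [1, 10, 20] (m ^^^ 1) = xsum [1, 10, 20] m ^^^ 1 ∧ v6 (xsum uB (xsum [1, 10, 20] m >>> 1)) = t • v6 85) t
  rcases (h.uniq (j.lowP b.1) c).2 b.2.2.2 with rfl | rfl
  exacts [⟨m, a, rfl⟩, ⟨_, b.2.1, by rw [b.2.2.1, j.mulz]⟩], by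
  rintro ⟨m, a, rfl⟩
  exact ⟨_, (by decide +kernel : ∀ m < 8, ∃ t : GF4, t • v6 85 = v6 (xsum uB (xsum [1, 10, 20] m >>> 1))) m a,
    j.lowP (by revert m; decide)⟩⟩
theorem phi [IsSimpleGroup G] (hG : ¬ IsMulCommutative G) : ∃ φ : normalizer (h.sub W6 : Set G) →* SL(3, ZMod 2), Function.Surjective φ ∧
    (∀ k, φ k = 1 ↔ k.1 ∈ centralizer (h.sub W6 : Set G)) ∧ ∃ K ≤ normalizer (h.sub W6 : Set G), Nonempty (K ≃* SL(3, ZMod 2)) := by
  let cd : F8 → ℕ := fun c => xsum [1, 10, 20] ((c 0).val + 2 * (c 1).val + 4 * (c 2).val)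
  let ε : F8 → G := fun c => (E.e (cd c)).toMul
  have i : Function.Injective ε := fun a b e => (by decide : ∀ a b, cd a = cd b → a = b) a b
    ((E.eq_iff (xsum_lt (by decide) _) (xsum_lt (by decide) _)).1 (Subtype.ext e))
  obtain ⟨ρ, a, b⟩ := exists_rho (ε := ε) (fun a b => by
    rw [← JN.mul, ← (by decide : ∀ a b, cd (a + b) = cd a ^^^ cd b)]) i (V := h.sub W6) fun y => j.memW.trans
      ⟨fun ⟨m, a, b⟩ => ⟨E3.e m, by rw [← b, ← (by decide : ∀ m < 8, cd (E3.e m) = xsum [1, 10, 20] m) m a]⟩,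
        fun ⟨c, b⟩ => ⟨_, by clear b; revert c; decide, b⟩⟩
  obtain ⟨κ, e⟩ := j.exK hG
  have l : HT E ≤ G24 E := fun _ a => a.1.1.1
  have act : ∀ (g : HT E) w, (κ (inclusion l g)).1 * (w.toMul : h.A) * (κ (inclusion l g)).1⁻¹ = (g.1 w).toMul := fun g w =>
    congrArg Subtype.val (LinearEquiv.congr_fun (e (inclusion l g)) w)
  let ψ : HT E →* normalizer (h.sub W6 : Set G) := (((Subgroup.subtype _).comp κ).comp (inclusion l)).codRestrict _ fun g =>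
    mem_normalizer_fintype fun y c => by
      obtain ⟨m, d, rfl⟩ := j.memW.1 c
      obtain ⟨n, f, o⟩ := (mem_XW E).1 ((mem_stabilizer_set.1 g.2.1.1.2 _).2 ((mem_XW E).2 ⟨m, d, rfl⟩))
      exact j.memW.2 ⟨n, f, (congrArg (fun w : Additive h.A => (w.toMul : G)) o).trans (act g _).symm⟩
  have cl : ∀ {n B} (m : n ∈ [5, 6, 7]), (∀ c < 2 ^ 3, cd (E3.e c) < 2 ^ 11 ∧ xsum (nth [] c24 n) (cd (E3.e c)) = cd (E3.e (xsum B c))) →
      E3.Cols ((ρ.comp ψ) ⟨_, mem_HT E m⟩) B := fun {n B} m d c f => i ((a _ _).trans ((act ⟨_, mem_HT E m⟩ _).trans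
        (congrArg (fun w : Additive h.A => (w.toMul : G)) (((e24_c E (by clear d; revert n; decide)).1 _ (d c f).1).trans (congrArg _ (d c f).2)))))
  have t : (ρ.comp ψ).range = ⊤ := top_F8 (by simp only [List.forall_mem_cons]; exact ⟨⟨_, rfl⟩, ⟨_, rfl⟩, ⟨_, rfl⟩, by simp⟩)
    (cl (n := 5) (by simp) (by decide)) (cl (n := 6) (by simp) (by decide)) (.inl (cl (n := 7) (by simp) (by decide)))
  obtain ⟨f⟩ := al_sl32
  have := E.finite
  have s := (f.symm.surjective.comp (MonoidHom.range_eq_top.1 t)).bijective_of_nat_card_le ((card_HT E).trans card_sl32.ge)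
  have s' : Function.Injective ((Subgroup.subtype _).comp ψ) := (subtype_injective _).comp (Function.Injective.of_comp (f := f.symm ∘ ρ) s.1)
  exact ⟨f.symm.toMonoidHom.comp ρ, Function.Surjective.of_comp (g := ψ) s.2, fun k => (map_eq_one_iff _ f.symm.injective).trans (b k),
    _, by rintro _ ⟨g, rfl⟩; exact (ψ g).2, ⟨(MonoidHom.ofInjective s').symm.trans
      (.ofBijective (f.symm.toMonoidHom.comp (ρ.comp ψ)) s)⟩⟩
end JT0.JN
end
end H13
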