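import Cfsg.Agent.H13.JK
import Cfsg.Agent.H13.J57
import Cfsg.Agent.H13.FV
/-! Groups of type `J4`: elements of order five. -/
set_option autoImplicit false
namespace H13
noncomputable section
open MulAction Cfsg H27 Subgroup
open scoped Pointwise MatrixGroups
universe u
variable {G : Type u} [Group G] [Finite G] {z : G} {R : Subgroup G} {π : Cz z →* AL V6} {P : V6 → G → Prop}
theorem fix_p {p : ℕ} (hp : p.Prime) {q : G} (o : q ^ p = 1) {S : Set G} (a : ∀ y ∈ S, q * y * q⁻¹ ∈ S) (n : ¬ p ∣ S.ncard) :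
    ∃ y ∈ S, y ∈ Cz q := by
  have := Fact.mk hp
  have := Fintype.ofFinite S
  let f : S → S := fun y => ⟨_, a y y.2⟩
  have j : Function.Injective f := fun x y e => Subtype.ext ((MulAut.conj q).injective (congrArg Subtype.val e))
  let σ := Equiv.ofBijective f j.bijective_of_finite
  have k : ∀ n y, ((σ ^ n) y).1 = q ^ n * y * (q ^ n)⁻¹ := fun n y => by
    induction n with
    | zero => simp
    | succ n ih => rw [pow_succ', Equiv.Perm.mul_apply, pow_succ', mul_inv_rev, ← mul_assoc, mul_assoc q, mul_assoc q, ← ih]; rfl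
  obtain ⟨y, e⟩ := Equiv.Perm.exists_fixed_point_of_prime (p := p) (n := 1) (σ := σ) (by rwa [← Nat.card_eq_fintype_card])
    (Equiv.ext fun y => Subtype.ext (by rw [k, pow_one, o]; simp))
  exact ⟨y, y.2, mem_Cz.2 (mul_inv_eq_iff_eq_mul.1 (congrArg Subtype.val e)).symm⟩
theorem ex_eps {W : Subgroup G} (c : ∀ x ∈ W, ∀ y ∈ W, x * y = y * x) (s : ∀ x ∈ W, x * x = 1) {n : ℕ} (d : Nat.card W = 2 ^ n) :
    ∃ ε : (Fin n → ZMod 2) → G, (∀ a b, ε (a + b) = ε a * ε b) ∧ Function.Injective ε ∧ ∀ y, y ∈ W ↔ ∃ c, ε c = y := by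
  letI : CommGroup W := { (inferInstance : Group W) with mul_comm := fun x y => Subtype.ext (c _ x.2 _ y.2) }
  letI : Module (ZMod 2) (Additive W) := AddCommGroup.zmodModule fun x =>
    Additive.toMul.injective (Subtype.ext ((pow_two _).trans (s _ x.toMul.2)))
  haveI : Module.Finite (ZMod 2) (Additive W) := Module.Finite.of_finite
  have : Module.finrank (ZMod 2) (Additive W) = n := Nat.pow_right_injective le_rfl (by
    have := Module.natCard_eq_pow_finrank (K := ZMod 2) (V := Additive W)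
    rw [Nat.card_zmod] at this
    exact this.symm.trans d)
  let e := LinearEquiv.ofFinrankEq (R := ZMod 2) (Fin n → ZMod 2) (Additive W) (by simpa using this.symm)
  exact ⟨fun c => (e c).toMul, fun a b => by simp only [map_add]; rfl, fun a b f => e.injective (Subtype.ext f),
    fun y => ⟨fun a => ⟨e.symm (Additive.ofMul ⟨y, a⟩), by simp⟩, by rintro ⟨c, rfl⟩; exact (e c).toMul.2⟩⟩
theorem ex_phi {W : Subgroup G} (c : ∀ x ∈ W, ∀ y ∈ W, x * y = y * x) (s : ∀ x ∈ W, x * x = 1) (d : Nat.card W = 8) :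
    ∃ φ : normalizer (W : Set G) →* SL(3, ZMod 2), ∀ k, φ k = 1 ↔ k.1 ∈ centralizer (W : Set G) := by
  obtain ⟨ε, a, b, e⟩ := ex_eps (n := 3) c s d
  obtain ⟨ρ, -, f⟩ := exists_rho a b e
  obtain ⟨i⟩ := al_sl32
  exact ⟨i.symm.toMonoidHom.comp ρ, fun k => (map_eq_one_iff _ i.symm.injective).trans (f k)⟩
omit [Finite G] in
theorem cj_nrm {W : Subgroup G} {m : G} (a : m ∈ normalizer (W : Set G)) : MulAut.conj m • W = W := Subgroup.ext fun y => by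
  rw [mem_pointwise_smul_iff_inv_smul_mem, mem_normalizer_iff.1 (inv_mem a) y]; simp
structure L5 (q z : G) (W : Subgroup G) : Prop where
  mem : ∀ y, y ∈ W ↔ y = 1 ∨ (y ∈ Cz q ∧ y ∈ Cz z ∧ IsConj z y)
  card : Nat.card W = 8
  comm : ∀ x ∈ W, ∀ y ∈ W, x * y = y * x
  cz : Nat.card (Cz q ⊓ Cz z : Subgroup G) = 960
  cw : Cz q ⊓ centralizer (W : Set G) ≤ zpowers q ⊔ W
  nt : ∃ t ∈ Cz q ⊓ Cz z, t * t = 1 ∧ t ≠ 1 ∧ ¬ IsConj z t
namespace JT0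
variable (h : JT0 z R π P)
include h
theorem reb_A {m : AL V6} (a : m ∈ NJ) : (h.reb (NJ_LJ a)).A = h.A := congrArg (fun S : Set G => centralizer S) (Set.ext fun _ =>
  ⟨fun ⟨u, b, c⟩ => ⟨_, NJ_U a b, c⟩, fun ⟨u, b, c⟩ => ⟨m⁻¹ u, NJ_U (inv_mem a) b, by simpa using c⟩⟩)
theorem mem_NJ' {k : Cz z} (a : k.1 ∈ normalizer (h.A : Set G)) : π k ∈ NJ := by
  have := E6.finite
  refine ⟨h.mem_LJ k, Set.eq_of_subset_of_ncard_le ?_ (Set.ncard_smul_set _ _).ge⟩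
  rintro _ ⟨u, b, rfl⟩
  obtain ⟨r, c⟩ := h.ex u
  exact (h.mem_sub (h.act k c)).1 (h.A_inf.le ⟨h.cj_mem a (h.sub_A ⟨u, b, c⟩), h.mem (h.act k c)⟩)
theorem kpg : IsPGroup 2 π.ker := by
  rw [show π.ker = R.subgroupOf (Cz z) from Subgroup.ext h.ker]; exact h.pg.comap_subtype
theorem atp {p : ℕ} (hp : p.Prime) (p2 : p ≠ 2) {g : AL V6} (o : orderOf g = p) {H : Subgroup (AL V6)} (l : H ≤ LJ) (a : g ∈ H)
    (n : ¬ p ^ 2 ∣ 2661120) {Q : Subgroup G} (c : Nat.card Q = p) (d : Q ≤ Cz z) (e : XQ.im π Q ≤ H) :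
    ∃ m ∈ H, ∃ q : Cz z, m⁻¹ * π q * m = g ∧ zpowers q.1 = Q := by
  have := E6.finite
  have := Fact.mk hp
  have pQ : IsPGroup p Q := .of_card (n := 1) (by rw [c, pow_one])
  obtain ⟨k, b, f⟩ := exists_conj_le_sylow (k := 1) hp (zpowers_le.2 a) (by rw [Nat.card_zpowers, o, pow_one])
    (fun f => n (card_LJ ▸ f.trans (card_dvd_of_le l))) e (pQ.comap_subtype.map π)
  have i := (h.reb (inv_mem (l b))).card_im d
  rw [(IsPGroup.disjoint_of_ne p 2 p2 Q R pQ h.pg).eq_bot, card_bot, mul_one] at i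
  obtain ⟨q, j, s⟩ := (eq_of_le_of_card_ge (H := XQ.im ((MulAut.conj k⁻¹⁻¹).toMonoidHom.comp π) Q) (K := zpowers g) (by
    rintro _ ⟨y, s, rfl⟩
    simpa using f _ ⟨y, s, rfl⟩) (by rw [i, c, Nat.card_zpowers, o])).ge (mem_zpowers g)
  refine ⟨k⁻¹, inv_mem b, q, by simpa using s, eq_of_le_of_card_ge (zpowers_le.2 j) ?_⟩
  rw [c, Nat.card_zpowers, orderOf_coe, ← o, ← s]
  exact Nat.le_of_dvd (orderOf_pos q) (orderOf_map_dvd _ q)
theorem odd_fix {k : Cz z} (o : Odd (orderOf k.1)) : Cz k.1 ⊓ R = h.sub (fx (π k)) := le_antisymm (fun r a => by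
    obtain ⟨v, b⟩ := h.ex' r a.2
    exact ⟨v, h.fix_of_comm b (mem_Cz.1 a.1).symm, b⟩) fun r ⟨v, a, b⟩ => ⟨mem_Cz'.2 ((h.fx_cases b a).resolve_right fun c => h.z_ne (by
  have := congrArg (· ^ orderOf k.1) c
  obtain ⟨n, e⟩ := o
  simp only [conj_pow, pow_orderOf_eq_one, (Commute.symm (mem_Cz.1 k.2)).mul_pow] at this
  rw [e, pow_succ, pow_mul, pow_two, h.zz] at this
  simpa using this.symm)), h.mem b⟩
theorem im_cen {p : ℕ} (hp : p.Prime) (p2 : p ≠ 2) {q : Cz z} (o : orderOf q.1 = p) : XQ.im π (Cz q.1 ⊓ Cz z) = LJ ⊓ Cz (π q) :=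
  le_antisymm (by
    rintro _ ⟨k, a, rfl⟩
    exact ⟨h.mem_LJ k, mem_Cz.2 (by rw [← map_mul, ← map_mul, show k * q = q * k from Subtype.ext (mem_Cz.1 a.1)])⟩) fun m a => by
    obtain ⟨k, rfl⟩ := h.lift a.1
    obtain ⟨l, b, c⟩ := lift_cop π h.kpg hp p2 ((orderOf_coe q).symm.trans o) (j := 1) ((mem_Cz'.1 a.2).trans (pow_one _).symm)
    exact ⟨l, ⟨mem_Cz'.2 (congrArg Subtype.val (c.trans (pow_one q))), l.2⟩, b⟩
theorem cj_zs {s : Cz z} (a : s * s = 1) {f : V6} (b : pol q6 f (π s f) = 1) : IsConj s.1 (z * s) := by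
  obtain ⟨r, c⟩ := h.ex f
  have d := h.com_P s c
  have e := (h.sq (h.mem d)).resolve_left fun e => by
    have := (h.sq' d).1 e
    rw [pol, this, h.iso, zero_add, z2_two] at b
    exact absurd b (by decide)
  have i : s.1⁻¹ = s := congrArg Subtype.val (inv_eq_of_mul_eq_one_right a)
  refine _root_.isConj_iff.2 ⟨r * s * r⁻¹ * s.1⁻¹, ?_⟩
  refine Eq.trans ?_ (congrArg (· * s.1) e)
  simp [mul_assoc, i, show s.1 * s = 1 from congrArg Subtype.val a]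
variable [IsSimpleGroup G] (hG : ¬ IsMulCommutative G)
include hG
theorem l5' {q : Cz z} (o : orderOf q.1 = 5) (a : π q = q5) : L5 q.1 z (h.sub (Wv (v6 1571))) := by
  have i := h.im_cen (by norm_num) (by norm_num) o
  have f := h.odd_fix (k := q) (by rw [o]; decide)
  rw [a] at i f
  have m : ∀ {y}, y ∈ Cz q.1 → (b : y ∈ Cz z) → π ⟨y, b⟩ ∈ C5 := fun c b => i.le ⟨_, ⟨c, b⟩, rfl⟩
  refine ⟨fun y => ⟨fun ⟨u, b, c⟩ => ?_, ?_⟩, by rw [h.card_sub, card_W5], fun x ⟨u, b, c⟩ y ⟨v, d, e⟩ =>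
    (h.comm_iff c e).2 ((W5_fx b).2.2 v d), ?_, fun y b => ?_, ?_⟩
  · have d : y ∈ Cz q.1 := (f.ge ⟨u, (W5_fx b).1, c⟩).1
    by_cases e : u = 0
    · exact ((h.iff c).2 e).imp_right fun f : y = z => ⟨d, h.le (h.mem c), by rw [f]⟩
    · exact .inr ⟨d, h.le (h.mem c), h.conjJ hG c ((W5_fx b).2.1 e).1⟩
  · rintro (rfl | ⟨b, c, d⟩)
    · exact one_mem _
    have s : (⟨y, c⟩ : Cz z) * ⟨y, c⟩ = 1 := by obtain ⟨g, rfl⟩ := _root_.isConj_iff.1 d; exact Subtype.ext (h.conj_sq g)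
    obtain ⟨u, e, p⟩ := f.le ⟨b, (h.ker ⟨y, c⟩).1 (by_contra fun n => by
      obtain ⟨e1, ⟨v, e2⟩, -⟩ := inv5 (m b c) (by rw [← map_mul, s, map_one]) n
      exact h.out hG e1 d (d.trans (h.cj_zs s e2)))⟩
    exact ⟨u, (h.memJ' p d).elim (· ▸ zero_mem _) (fx5 e).1, p⟩
  · rw [← h.card_im inf_le_right, i, inf_assoc, inf_eq_right.2 h.le, f, h.card_sub, card_fx5]
    exact congrArg (· * 32) C5_eq.2
  · have c : y ∈ Cz z := mem_Cz.2 (b.2 z (h.z_sub _)).symm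
    obtain ⟨n, d⟩ := fix5 (m b.1 c) fun u e => by obtain ⟨r, p⟩ := h.ex u; exact h.fix_of_comm p (b.2 r ⟨u, e, p⟩).symm
    have e : q.1 ^ n ∈ Cz q.1 ⊓ centralizer (h.sub (Wv (v6 1571)) : Set G) := zpow_mem (mem_inf.2 ⟨self_mem_Cz _, fun r ⟨u, e, p⟩ =>
      mem_Cz.1 (f.ge ⟨u, (W5_fx e).1, p⟩).1⟩) n
    have e1 := mul_mem (inv_mem e) b
    obtain ⟨u, e2, p⟩ := f.le ⟨e1.1, (h.ker ((q ^ n)⁻¹ * ⟨y, c⟩)).1 (by rw [map_mul, map_inv, map_zpow, a, ← d, inv_mul_cancel])⟩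
    rw [← mul_mem_cancel_left (inv_mem (mem_sup_left (zpow_mem (mem_zpowers q.1) n)))]
    exact mem_sup_right ⟨u, (fx5 e2).2.2.2 fun v d => by
      obtain ⟨r, s⟩ := h.ex v; exact (h.comm_iff p s).1 (e1.2 r ⟨v, d, s⟩).symm, p⟩
  · obtain ⟨t, p⟩ := h.ex (v6 80)
    exact ⟨t, ⟨(f.ge ⟨_, K5.2, p⟩).1, h.le (h.mem p)⟩, (h.sq' p).2 (djJ (.inr K5.1)).2.1,
      fun e => (djJ (.inr K5.1)).1 ((h.iff p).1 (.inl e)), fun e => by
        obtain ⟨g, rfl⟩ := _root_.isConj_iff.1 e; exact h.notK p K5.1⟩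
theorem l5 {q y : G} (o : orderOf q = 5) (a : IsConj z y) (b : y ∈ Cz q) : ∃ W, L5 q y W := by
  obtain ⟨g, rfl⟩ := _root_.isConj_iff.1 a
  obtain ⟨m, c, k, d, e⟩ := (h.cj g).atp (by norm_num) (by norm_num) ord_q5 le_rfl (LJ57 _ (by simp)) (by norm_num) (Q := zpowers q)
    (by rw [Nat.card_zpowers, o]) (zpowers_le.2 (mem_Cz.2 (mem_Cz.1 b).symm)) ((h.cj g).im_le _)
  have l := ((h.cj g).reb c).l5' hG (q := k) (by rw [← Nat.card_zpowers, e, Nat.card_zpowers, o]) (by simpa using d)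
  have f : Cz k.1 = Cz q := by rw [← cent_zpowers, e, cent_zpowers]
  exact ⟨_, f ▸ l.mem, l.card, l.comm, f ▸ l.cz, f ▸ e ▸ l.cw, f ▸ l.nt⟩
theorem t5' {q : Cz z} (o : orderOf q.1 = 5) (a : π q = q5) {t : G} (t1 : t ∈ h.A) (t0 : t ≠ 1) (nt : ¬ IsConj z t) (b : t ∈ Cz q.1) :
    Cz q.1 ⊓ Cz t ≤ Cz z ∧ ∀ D ≤ Cz q.1 ⊓ Cz t, IsPGroup 2 D → Nat.card D ≤ 16 := by
  have l := h.l5' hG o a
  have k : Cz q.1 ⊓ Cz t ≤ Cz z := fun g c => by
    have d := h.cj_mem (h.cen_t hG t1 t0 nt c.2) h.z_A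
    obtain ⟨u, e, p⟩ := (l.mem _).2 (.inr ⟨mul_mem (mul_mem c.1 (mem_Cz.2 (mem_Cz.1 q.2).symm)) (inv_mem c.1), h.A_le d, isConj_cj g z⟩)
    exact mem_Cz'.2 (((h.iff p).2 (by_contra fun n => ((W5_fx e).2.1 n).2 ((h.mem_sub p).1 (h.A_inf.le ⟨d, h.mem p⟩)))).resolve_left
      (h.conj_ne_one g))
  refine ⟨k, fun D c p => ?_⟩
  have i := h.im_cen (by norm_num) (by norm_num) o
  have f := h.odd_fix (k := q) (by rw [o]; decide)
  rw [a] at i f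
  have tz := h.A_le t1
  obtain ⟨u, u1, u2⟩ := f.le ⟨b, (h.ker ⟨t, tz⟩).1 (by_contra fun n => (inv5 (i.le ⟨_, ⟨b, tz⟩, rfl⟩) (h.pi_sq (h.A_sq t1)) n).1
    (B_MJ (h.A_B t1)))⟩
  have u0 : u ≠ 0 := fun e => ((h.iff u2).2 e).elim t0 fun e => nt (e ▸ .refl _)
  have uK := (singJ ((h.sq' u2).1 (h.A_sq t1)) u0).resolve_left fun e => nt (h.conjJ hG u2 e)
  have DR : D ≤ R := by
    by_contra n
    obtain ⟨y, y1, y2, y3⟩ := exists_sq p n
    have y4 := k (c y1)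
    exact (inv5 (i.le ⟨⟨y, y4⟩, ⟨(c y1).1, y4⟩, rfl⟩) (by rw [← map_mul]; exact (h.ker _).2 y3) (mt (h.ker _).1 y2)).2.2 u uK u1
      (h.fix_of_comm u2 (mem_Cz.1 (c y1).2))
  have l1 : D ≤ h.sub (fx q5) := fun y e => f.le ⟨(c e).1, DR e⟩
  have l2 := card_dvd_of_le l1
  rw [h.card_sub, card_fx5] at l2
  by_contra! n
  obtain ⟨v, v1, v2⟩ := (fx5 u1).2.2.1 u0
  obtain ⟨r, v3⟩ := h.ex v
  have := (h.comm_iff v3 u2).1 (mem_Cz.1 (c ((eq_of_le_of_card_ge l1 (by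
    rw [h.card_sub, card_fx5]
    generalize Nat.card D = d at *
    obtain ⟨m, e⟩ := l2
    rcases m with _ | _ | m <;> nlinarith)).ge ⟨v, v1, v3⟩)).2)
  exact absurd (v2.symm.trans this) (by decide)
theorem t5 {q t : G} (o : orderOf q = 5) (tt : t * t = 1) (t0 : t ≠ 1) (nt : ¬ IsConj z t) (b : t ∈ Cz q) :
    ∃ y ∈ Cz q, IsConj z y ∧ Cz q ⊓ Cz t ≤ Cz y ∧ ∀ D ≤ Cz q ⊓ Cz t, IsPGroup 2 D → Nat.card D ≤ 16 := by
  obtain ⟨v, v1, v2⟩ := h.conj_A hG tt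
  obtain ⟨g, rfl⟩ := _root_.isConj_iff.1 v2
  have c := isConj_cj g z
  have h1 := h.cj g
  have t1 : g * v * g⁻¹ ∈ h1.A := h.cj_A g ▸ smul_mem_pointwise_smul _ _ _ v1
  replace nt := mt c.trans nt
  generalize g * v * g⁻¹ = t at *
  revert h1
  generalize MulAut.conj g • R = R', π.comp (cjz g z).toMonoidHom = π', (fun v x => P v (g⁻¹ * x * g)) = P'
  generalize g * z * g⁻¹ = z' at *
  intro h1 t1
  have qN := h1.cen_t hG t1 t0 nt (mem_Cz.2 (mem_Cz.1 b).symm)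
  obtain ⟨_, φ, j⟩ := h1.exP hG
  obtain ⟨y, ⟨y1, y2⟩, y3⟩ := fix_p (p := 5) (by norm_num) (o ▸ pow_orderOf_eq_one q) (S := {a | a ∈ h1.A ∧ IsConj z' a})
    (fun y a => ⟨h1.cj_mem qN a.1, a.2.trans (isConj_cj q y)⟩) (by rw [j.nz]; norm_num)
  obtain ⟨k, rfl⟩ := _root_.isConj_iff.1 y2
  obtain ⟨m, m1, m2⟩ := h1.fus h1.z_A y1
  rw [← m2] at y2 y3
  have h2 := h1.cj m
  have e : h2.A = h1.A := (h1.cj_A m).trans (cj_nrm m1)
  have l : zpowers q ≤ Cz (m * z' * m⁻¹) := zpowers_le.2 (mem_Cz.2 (mem_Cz.1 y3).symm)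
  obtain ⟨n, n1, s, d, f⟩ := h2.atp (by norm_num) (by norm_num) ord_q5 NJ_LJ q5_NJ (by norm_num) (Q := zpowers q)
    (by rw [Nat.card_zpowers, o]) l (by
      rintro _ ⟨s, a, rfl⟩
      exact h2.mem_NJ' (e ▸ zpowers_le.2 qN a))
  have f1 : Cz s.1 = Cz q := by rw [← cent_zpowers, f, cent_zpowers]
  have := (h2.reb (NJ_LJ n1)).t5' hG (q := s) (by rw [← Nat.card_zpowers, f, Nat.card_zpowers, o]) (by simpa using d)
    (by rw [h2.reb_A n1, e]; exact t1) t0 (mt y2.trans nt) (f1 ▸ b)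
  exact ⟨_, y3, c.trans y2, f1 ▸ this⟩
theorem five {q : G} (o : orderOf q = 5) (a : z ∈ Cz q) {W : Subgroup G} (l : L5 q z W) :
    Cz q ≤ normalizer (W : Set G) ∧ Nat.card (Cz q) = 6720 := by
  have m : ∀ {w}, w ∈ W → w ≠ 1 → w ∈ Cz q ∧ w ∈ Cz z ∧ IsConj z w := fun b c => ((l.mem _).1 b).resolve_left c
  have sq : ∀ {y}, IsConj z y → y * y = 1 ∧ y ≠ 1 := fun b => by
    obtain ⟨g, rfl⟩ := _root_.isConj_iff.1 b; exact ⟨h.conj_sq g, h.conj_ne_one g⟩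
  have k1 : ∀ {w}, w ∈ W → w ≠ 1 → L5 q w W := fun {w} b c => by
    obtain ⟨W', l'⟩ := h.l5 hG o (m b c).2.2 (m b c).1
    rwa [← eq_of_le_of_card_ge (H := W) (K := W') (fun y d => (l'.mem y).2 (or_iff_not_imp_left.2 fun e =>
      ⟨(m d e).1, mem_Cz.2 (l.comm _ d _ b), (m b c).2.2.symm.trans (m d e).2.2⟩)) (by rw [l.card, l'.card])] at l'
  have k2 : ∀ {w}, w ∈ W → w ≠ 1 → Cz q ⊓ Cz w ≤ normalizer (W : Set G) := fun {w} b c g d => mem_normalizer_fintype fun y e =>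
    ((k1 b c).mem _).2 ((((k1 b c).mem _).1 e).imp (fun e => by simp [e]) fun e => ⟨mul_mem (mul_mem d.1 e.1) (inv_mem d.1),
      mul_mem (mul_mem d.2 e.2.1) (inv_mem d.2), e.2.2.trans (isConj_cj g y)⟩)
  have k3 : ∀ {s}, s * s = 1 → s ∈ normalizer (W : Set G) → ∃ w ∈ W, w ≠ 1 ∧ w ∈ Cz s := fun {s} b c => by
    obtain ⟨w, d, e⟩ := fix_p Nat.prime_two ((pow_two s).trans b) (S := W \ {1}) (fun y d =>
      ⟨(mem_normalizer_iff.1 c y).1 d.1, fun e => d.2 (conj_eq_one_iff.1 e)⟩) (by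
        rw [Set.ncard_sdiff_singleton_of_mem W.one_mem, show (W : Set G).ncard = 8 from l.card]; norm_num)
    exact ⟨w, d.1, d.2, e⟩
  have k4 : ∀ {u w}, IsConj z u → u ∈ Cz q → w ∈ W → w ≠ 1 → w ∈ Cz u → u ∈ W := fun b c d e f =>
    ((k1 d e).mem _).2 (.inr ⟨c, mem_Cz.2 (mem_Cz.1 f).symm, (m d e).2.2.symm.trans b⟩)
  have k5 : ∀ {s}, s * s = 1 → s ≠ 1 → s ∈ Cz q → s ∈ normalizer (W : Set G) → Cz q ⊓ Cz s ≤ normalizer (W : Set G) :=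
    fun {s} b c d e => by
      obtain ⟨w, w1, w2, w3⟩ := k3 b e
      by_cases f : IsConj z s
      · exact k2 (k4 f d w1 w2 w3) c
      obtain ⟨y, y1, y2, y3, -⟩ := h.t5 hG o b c f d
      exact (le_inf inf_le_left y3).trans (k2 (k4 y2 y1 w1 w2 (y3 ⟨(m w1 w2).1, w3⟩)) (sq y2).2)
  have zW : z ∈ W := (l.mem z).2 (.inr ⟨a, self_mem_Cz z, .refl z⟩)
  have k6 : Cz q ≤ normalizer (W : Set G) := fun g b => mem_normalizer_fintype fun y c => by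
    by_cases y1 : y = 1
    · simp [y1]
    have u1 := (m c y1).2.2.trans (isConj_cj g y)
    have u2 := mul_mem (mul_mem b (m c y1).1) (inv_mem b)
    generalize g * y * g⁻¹ = u at *
    obtain ⟨t, t1, t2, t3, t4⟩ := l.nt
    obtain ⟨s, s1, s2, s3, -, -, s4, s5⟩ := dih (sq u1).1 t2 (sq u1).2 t3 (mt u1.trans t4)
    have s6 : s ∈ Cz q := zpowers_le.2 (mul_mem u2 t1.1) s1
    obtain ⟨w, w1, w2, w3⟩ := k3 (sq u1).1 (k5 s2 s3 s6 (k5 t2 t3 t1.1 (k2 zW h.z_ne t1) ⟨s6, s5⟩) ⟨u2, mem_Cz.2 (mem_Cz.1 s4).symm⟩)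
    exact k4 u1 u2 w1 w2 w3
  refine ⟨k6, ?_⟩
  obtain ⟨φ, f⟩ := ex_phi l.comm (fun w b => by_cases (fun e => by simp [e]) fun e => (sq (m b e).2.2).1) l.card
  have c1 : Nat.card (zpowers q ⊔ W : Subgroup G) ∣ 40 := by
    have := _root_.H11.card_inf_mul_card_sup_of_le_normalizer (zpowers_le.2 (k6 (self_mem_Cz q)))
    rw [Nat.card_zpowers, o, l.card] at this
    exact Dvd.intro_left _ this
  have c2 : Nat.card (φ.comp (inclusion k6)).ker ∣ 40 := by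
    rw [← card_map_of_injective (Cz q).subtype_injective]
    exact (card_dvd_of_le (by rintro _ ⟨y, b, rfl⟩; exact l.cw ⟨y.2, (f _).1 b⟩)).trans c1
  have c3 := (φ.comp (inclusion k6)).ker.card_mul_index
  have c4 := card_subgroup_dvd_card (φ.comp (inclusion k6)).range
  rw [card_sl32, ← index_ker] at c4
  obtain ⟨n, c5⟩ := l.cz ▸ card_dvd_of_le (inf_le_left : Cz q ⊓ Cz z ≤ _)
  have c6 : 960 * n ∣ 40 * 168 := c5 ▸ c3 ▸ Nat.mul_dvd_mul c2 c4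
  rcases (Nat.dvd_prime (by norm_num)).1 (Nat.dvd_of_mul_dvd_mul_left (n := 7) (by norm_num) c6) with rfl | rfl
  · have : Cz q ≤ zpowers q ⊔ W := fun y b => l.cw ⟨b, fun w d => by_cases (fun e : w = 1 => by simp [e]) fun e =>
      (mem_Cz.1 ((eq_of_le_of_card_ge (inf_le_left : Cz q ⊓ Cz w ≤ _) (by rw [c5, (k1 d e).cz])).ge b).2).symm⟩
    have := Nat.le_of_dvd (by norm_num) ((c5 ▸ card_dvd_of_le this).trans c1)
    omega
  · exact c5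
end JT0
end
end H13
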