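import Cfsg.Agent.H13.JF
import Cfsg.Agent.H13.J24
/-! Groups of type `J4`: the normaliser of a subgroup of order five. -/
set_option autoImplicit false
namespace H13
noncomputable section
open MulAction Cfsg H27 Subgroup
open scoped Pointwise MatrixGroups
universe u
variable {G : Type u} [Group G] [Finite G] {z : G} {R : Subgroup G} {π : Cz z →* AL V6} {P : V6 → G → Prop}
theorem zp_eq {Q : Subgroup G} {p : ℕ} (hp : p.Prime) (c : Nat.card Q = p) : ∃ q, orderOf q = p ∧ zpowers q = Q := by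
  have := Fact.mk hp
  obtain ⟨q, a⟩ := exists_prime_orderOf_dvd_card' (G := Q) p c.symm.dvd
  exact ⟨q, (orderOf_coe q).trans a, eq_of_le_of_card_ge (zpowers_le.2 q.2) (by rw [Nat.card_zpowers, orderOf_coe, a, c])⟩
theorem nc_dvd {q : G} {p : ℕ} (hp : p.Prime) (o : orderOf q = p) : ∃ f : normalizer (zpowers q : Set G) →* MulAut (zpowers q),
    Nat.card (normalizer (zpowers q : Set G)) = Nat.card (Cz q) * Nat.card f.range ∧ Nat.card (MulAut (zpowers q)) = p - 1 ∧
      ∀ g y, (f g y).1 = g * y * g.1⁻¹ := by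
  refine ⟨(zpowers q).normalizerMonoidHom, ?_, by rw [IsCyclic.card_mulAut, Nat.card_zpowers, o, Nat.totient_prime hp], fun _ _ => rfl⟩
  rw [← index_ker, normalizerMonoidHom_ker, ← cent_zpowers, ← H1.card_subgroupOf_of_le (centralizer_le_normalizer _), card_mul_index]
theorem no_sq {q : G} {p : ℕ} (hp : p.Prime) (o : orderOf q = p) (n : ¬ p ^ 2 ∣ Nat.card (Cz q) * (p - 1)) : ¬ p ^ 2 ∣ Nat.card G := fun a => by
  have := Fact.mk hp
  obtain ⟨f, b, c, -⟩ := nc_dvd hp o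
  exact n ((Sylow.prime_pow_dvd_card_normalizer (n := 1) a (by rw [Nat.card_zpowers, o, pow_one])).trans
    (b ▸ c ▸ Nat.mul_dvd_mul_left _ (card_subgroup_dvd_card _)))
theorem cj_zp' {q a : G} {p : ℕ} (hp : p.Prime) (o : orderOf q = p) (o' : orderOf a = p) (n : ¬ p ^ 2 ∣ Nat.card G) :
    ∃ g, zpowers (g * a * g⁻¹) = zpowers q := by
  have := Fact.mk hp
  obtain ⟨g, -, b⟩ := exists_conj_le_sylow (H := ⊤) (Q := zpowers a) (k := 1) hp le_top (by rw [Nat.card_zpowers, o, pow_one])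
    (by rwa [card_top]) le_top (.of_card (n := 1) (by rw [Nat.card_zpowers, o', pow_one]))
  exact ⟨g, eq_of_le_of_card_ge (zpowers_le.2 (b _ (mem_zpowers a))) (by
    rw [Nat.card_zpowers, Nat.card_zpowers, o, ← o']; exact ((MulAut.conj g).orderOf_eq a).ge)⟩
theorem cent_split {q : G} {p m : ℕ} (hp : p.Prime) (p2 : p ≠ 2) (o : orderOf q = p) (c : Nat.card (Cz q) = p * m) (d : p.Coprime m) :
    ∃ J, IsInternalDirectProduct (zpowers q) J (Cz q) ∧ Nat.card J = m ∧ ∀ y ∈ Cz q, y * y = 1 → y ∈ J := by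
  have l : zpowers q ≤ Cz q := zpowers_le.2 (self_mem_Cz q)
  have cm : ∀ a ∈ zpowers q, ∀ b ∈ Cz q, a * b = b * a := fun a u b v => (cent_zpowers q).ge v a u
  have : ((zpowers q).subgroupOf (Cz q)).Normal := ⟨fun a u b => by
    rw [mem_subgroupOf, coe_mul, coe_mul, ← cm a.1 u _ b.2, coe_inv, mul_inv_cancel_right]; exact u⟩
  have c1 : Nat.card ((zpowers q).subgroupOf (Cz q)) = p := by rw [H1.card_subgroupOf_of_le l, Nat.card_zpowers, o]
  have c2 : ((zpowers q).subgroupOf (Cz q)).index = m := Nat.eq_of_mul_eq_mul_left hp.pos (by rw [← c, ← c1, card_mul_index])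
  obtain ⟨K, k⟩ := exists_right_complement'_of_coprime (N := (zpowers q).subgroupOf (Cz q)) (by rwa [c1, c2])
  have i : zpowers q ⊓ K.map (Cz q).subtype = ⊥ := eq_bot_iff.2 (by
    rintro _ ⟨u, y, v, rfl⟩
    exact congrArg Subtype.val (k.disjoint.le_bot ⟨u, v⟩ : y = 1))
  refine ⟨K.map (Cz q).subtype, ⟨l, map_subtype_le _, fun a u b v => cm a u b (map_subtype_le _ v), i, ?_⟩,
    by rw [card_map_of_injective (Cz q).subtype_injective, ← k.symm.index_eq_card, c2], fun y a b => ?_⟩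
  · rw [← map_subgroupOf_eq_of_le l, ← Subgroup.map_sup, k.sup_eq_top, ← MonoidHom.range_eq_map, range_subtype]
  · obtain ⟨s, u, t, v, e⟩ := mem_sup_of_normal_left.1 (k.sup_eq_top.ge (mem_top ⟨y, a⟩))
    obtain rfl : s.1 * t = y := congrArg Subtype.val e
    have f : s.1 * s * (t * t) = 1 := by rw [← b, mul_assoc, mul_assoc, ← mul_assoc t.1, ← cm s.1 u _ t.2, mul_assoc]
    have g : s.1 * s = 1 := i.le ⟨(zpowers q).mul_mem u u, ((K.map (Cz q).subtype).mul_mem_cancel_right (x := t.1 * t)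
      ⟨t * t, mul_mem v v, rfl⟩).1 (f ▸ one_mem _)⟩
    rw [odd_sq (Y := zpowers q) (by rw [Nat.card_zpowers, o]; exact hp.odd_of_ne_two p2) (g := s.1) u g, one_mul]
    exact ⟨t, v, rfl⟩
theorem f20 {a b : G} (o : orderOf a = 5) (b4 : b ^ 4 = 1) (r : b * a * b⁻¹ = a ^ 2) : ∃ R : Subgroup G, zpowers a ≤ R ∧
    R ≤ normalizer (zpowers a : Set G) ∧ Nat.card R = 20 ∧ R ⊓ Cz a = zpowers a := by
  have n : zpowers b ≤ normalizer (zpowers a : Set G) := zpowers_le.2 (mem_nz (r ▸ pow_mem (mem_zpowers a) 2))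
  have k : ∀ j < 4, b ^ j ∈ Cz a → j = 0 := fun j l c => by
    have := (cj_pow r j).symm.trans ((mem_Cz'.1 c).trans (pow_one a).symm)
    rw [pow_eq_pow_iff_modEq, o] at this
    interval_cases j <;> simp_all [Nat.ModEq]
  have ob : orderOf b = 4 := orderOf_eq_prime_pow (p := 2) (n := 1) (fun e => by simpa using k 2 (by norm_num) (e.symm ▸ one_mem _)) b4
  have i : zpowers b ⊓ Cz a = ⊥ := eq_bot_iff.2 fun y c => by
    classical
    obtain ⟨j, l, rfl⟩ := Finset.mem_image.1 (mem_zpowers_iff_mem_range_orderOf.1 c.1)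
    rw [k j (ob ▸ Finset.mem_range.1 l) c.2, pow_zero]; exact one_mem _
  have l : zpowers a ≤ Cz a := zpowers_le.2 (self_mem_Cz a)
  have c := _root_.H11.card_inf_mul_card_sup_of_le_normalizer n
  rw [eq_bot_iff.2 ((inf_le_inf_left _ l).trans i.le), card_bot, one_mul, Nat.card_zpowers, Nat.card_zpowers, o, ob] at c
  refine ⟨_, le_sup_right, sup_le n le_normalizer, c, le_antisymm (fun y d => ?_) (le_inf le_sup_right l)⟩
  obtain ⟨s, u, t, v, rfl⟩ := (coe_mul_of_left_le_normalizer_right _ _ n).le d.1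
  obtain rfl : s = 1 := i.le ⟨u, (mul_mem_cancel_right (l v)).1 d.2⟩
  simpa using v
theorem half_c {W : Subgroup G} (c : ∀ x ∈ W, ∀ y ∈ W, x * y = y * x) (d : ∀ x ∈ W, x * x = 1) {s : G} (a : s * s = 1)
    (b : s ∈ normalizer (W : Set G)) : Nat.card W ≤ Nat.card (W ⊓ Cz s : Subgroup G) * Nat.card (W ⊓ Cz s : Subgroup G) := by
  have m : ∀ w : W, s * w * s⁻¹ ∈ W := fun w => (mem_normalizer_iff.1 b _).1 w.2
  let f : W →* G := MonoidHom.mk' (fun w => w * (s * w * s⁻¹)) fun x y => by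
    rw [coe_mul, ← conj_mul, mul_assoc, ← mul_assoc y.1, c _ y.2 _ (m x)]; simp only [mul_assoc]
  rw [← f.ker.card_mul_index, index_ker, ← card_map_of_injective W.subtype_injective]
  refine Nat.mul_le_mul (card_le_of_le ?_) (card_le_of_le ?_)
  · rintro _ ⟨w, e, rfl⟩
    exact ⟨w.2, mem_Cz.2 (mul_inv_eq_iff_eq_mul.1 ((eq_inv_of_mul_eq_one_right e).trans (inv_eq_of_mul_eq_one_right (d _ w.2)))).symm⟩
  · rintro _ ⟨w, rfl⟩
    refine ⟨mul_mem w.2 (m w), mem_Cz.2 (mul_inv_eq_iff_eq_mul.1 ?_).symm⟩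
    change s * (w * (s * w * s⁻¹)) * s⁻¹ = w * (s * w * s⁻¹)
    rw [← conj_mul, c _ w.2 _ (m w), show s * (s * w * s⁻¹) * s⁻¹ = s * s * w * (s * s)⁻¹ by group, a]; simp
namespace JT0
variable {h : JT0 z R π P} [IsSimpleGroup G] (hG : ¬ IsMulCommutative G)
include hG
theorem JN.exK {x : Cz z} {E : BE (Additive h.A) 11} (j : h.JN x E) : ∃ κ : G24 E →* normalizer (h.A : Set G), ∀ g, h.rho (κ g) = g := by
  obtain ⟨K, a, b, c⟩ := j.split hG
  let f := (h.rho.comp (inclusion a)).codRestrict (G24 E) fun k => j.rg.le ⟨_, rfl⟩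
  have : Function.Bijective f := ⟨(injective_iff_map_eq_one _).2 fun k d =>
    Subtype.ext (b.le ⟨k.2, h.ker_rho.le (congrArg Subtype.val d)⟩), fun g => by
      obtain ⟨n, e⟩ := j.rg.ge g.2
      obtain ⟨k, d, v, i, o⟩ := (coe_mul_of_left_le_normalizer_right K h.A a).le (c.ge n.2)
      refine ⟨⟨k, d⟩, Subtype.ext (Eq.trans ?_ e)⟩
      rw [show n = inclusion a ⟨k, d⟩ * ⟨v, le_normalizer i⟩ from Subtype.ext o.symm, map_mul,
        show h.rho ⟨v, _⟩ = 1 from h.ker_rho.ge i, mul_one]; rfl⟩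
  exact ⟨(inclusion a).comp (MulEquiv.ofBijective f this).symm.toMonoidHom, fun g =>
    congrArg Subtype.val ((MulEquiv.ofBijective f this).apply_symm_apply g)⟩
variable (h) {q : G} (o : orderOf q = 5) (a : z ∈ Cz q) {W : Subgroup G} (l : L5 q z W)
include h o a l
theorem five_mem {u : G} (b : u ∈ Cz q) (c : IsConj z u) : u ∈ W := by
  obtain ⟨W', l'⟩ := h.l5 hG o c b
  have n := (h.five hG o a l).1 b
  obtain ⟨g, rfl⟩ := _root_.isConj_iff.1 c
  obtain ⟨w, d, e⟩ := fix_p Nat.prime_two ((pow_two _).trans (h.conj_sq g)) (S := W \ {1}) (fun y d =>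
    ⟨(mem_normalizer_iff.1 n y).1 d.1, fun e => d.2 (conj_eq_one_iff.1 e)⟩) (by
      rw [Set.ncard_sdiff_singleton_of_mem W.one_mem, show (W : Set G).ncard = 8 from l.card]; norm_num)
  have m := ((l.mem w).1 d.1).resolve_left d.2
  obtain ⟨W'', l''⟩ := h.l5 hG o m.2.2 m.1
  rw [eq_of_le_of_card_ge (H := W) (K := W'') (fun y f => (l''.mem y).2 (((l.mem y).1 f).imp_right fun i =>
    ⟨i.1, mem_Cz.2 (l.comm _ f _ d.1), m.2.2.symm.trans i.2.2⟩)) (by rw [l.card, l''.card])]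
  exact (l''.mem _).2 (.inr ⟨b, mem_Cz.2 (mem_Cz.1 e).symm, m.2.2.symm.trans c⟩)
omit [IsSimpleGroup G] hG o a in
theorem l5_sq {w : G} (b : w ∈ W) : w * w = 1 := ((l.mem w).1 b).elim (fun e => by simp [e]) fun e => by
  obtain ⟨g, rfl⟩ := _root_.isConj_iff.1 e.2.2; exact h.conj_sq g
theorem nosplit {K : Subgroup G} (b : K ≤ Cz q) (c : 8 ∣ Nat.card K) (d : K ⊓ W = ⊥) : False := by
  obtain ⟨T, e⟩ := Sylow.exists_subgroup_card_pow_prime (G := K) 2 (n := 3) c
  rw [← card_map_of_injective K.subtype_injective] at e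
  have tK := map_subtype_le T
  generalize T.map K.subtype = T at *
  have p : IsPGroup 2 T := .of_card e
  have : Nontrivial T := Finite.one_lt_card_iff_nontrivial.1 (by rw [e]; norm_num)
  have := p.center_nontrivial
  obtain ⟨s, s1⟩ := exists_prime_orderOf_dvd_card' (G := center T) 2 ((p.to_subgroup _).card_eq_or_dvd.resolve_left Finite.one_lt_card.ne')
  rw [← orderOf_coe, ← orderOf_coe] at s1
  have s2 : T ≤ Cz s.1.1 := fun y f => mem_Cz.2 (congrArg Subtype.val (mem_center_iff.1 s.2 ⟨y, f⟩))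
  have s3 := s.1.2
  generalize s.1.1 = s at *
  have ss : s * s = 1 := by rw [← pow_two, ← s1, pow_orderOf_eq_one]
  have s0 : s ≠ 1 := fun f => by simp [f] at s1
  have n := (tK.trans b).trans (h.five hG o a l).1
  obtain ⟨-, -, -, -, k⟩ := h.t5 hG o ss s0 (fun f => s0 (d.le ⟨tK s3, h.five_mem hG o a l (b (tK s3)) f⟩)) (b (tK s3))
  have n' : T ≤ normalizer ((W ⊓ Cz s : Subgroup G) : Set G) := fun y f => mem_normalizer_fintype fun w i =>
    ⟨(mem_normalizer_iff.1 (n f) w).1 i.1, (Cz s).mul_mem ((Cz s).mul_mem (s2 f) i.2) ((Cz s).inv_mem (s2 f))⟩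
  have c1 := _root_.H11.card_inf_mul_card_sup_of_le_normalizer n'
  have c2 := half_c l.comm (fun _ => h.l5_sq l) ss (n s3)
  have c3 := k _ (sup_le (le_inf (tK.trans b) s2) (inf_le_inf_right _ fun w i => ((l.mem w).1 i).elim (· ▸ one_mem _) And.left))
    (p.to_sup_of_normal_right' ((IsPGroup.of_card (n := 3) l.card).to_le inf_le_left) n')
  rw [eq_bot_iff.2 ((inf_le_inf tK inf_le_left).trans d.le), card_bot, one_mul, e] at c1
  rw [l.card] at c2
  nlinarith
theorem n25 : ¬ 5 ^ 2 ∣ Nat.card G := no_sq (by norm_num) o (by rw [(h.five hG o a l).2]; norm_num)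
theorem ex20 : ∃ R : Subgroup G, zpowers q ≤ R ∧ R ≤ normalizer (zpowers q : Set G) ∧ Nat.card R = 20 ∧ R ⊓ Cz q = zpowers q := by
  obtain ⟨x, hx, x3⟩ := h.exists_x
  obtain ⟨E, j⟩ := h.main hx hG x3
  obtain ⟨κ, k⟩ := j.exK hG
  let f := (normalizer (h.A : Set G)).subtype.comp κ
  have i : Function.Injective f := (Subgroup.subtype_injective _).comp fun a b e => Subtype.ext (by rw [← k, e, k])
  obtain ⟨u, v, r1, r2, r3⟩ : ∃ u v : G24 E, orderOf u = 5 ∧ v ^ 4 = 1 ∧ v * u * v⁻¹ = u ^ 2 :=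
    ⟨⟨_, (e24_c E).2⟩, ⟨_, (e24_c E).2⟩, (orderOf_coe _).symm.trans (f20_24 E).1, Subtype.ext (f20_24 E).2.1, Subtype.ext (f20_24 E).2.2⟩
  have o' : orderOf (f u) = 5 := (orderOf_injective f i _).trans r1
  obtain ⟨g, e⟩ := cj_zp' (by norm_num) o o' (h.n25 hG o a l)
  have := f20 (b := g * f v * g⁻¹) (((MulAut.conj g).orderOf_eq _).trans o') (by rw [conj_pow, ← map_pow, r2]; simp) (by
      rw [MulAut.conj_apply, conj_pow, ← map_pow, ← r3]; simp [mul_assoc])
  rwa [MulAut.conj_apply, ← cent_zpowers, e, cent_zpowers] at this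
theorem cardN5 : Nat.card (normalizer (zpowers q : Set G)) = 26880 := by
  obtain ⟨R, b, c, d, e⟩ := h.ex20 hG o a l
  obtain ⟨f, i, j, -⟩ := nc_dvd (by norm_num) o
  have k := _root_.H11.card_inf_mul_card_sup_of_le_normalizer (K := Cz q) (cent_zpowers q ▸ c.trans (H1.normalizer_le_normalizer_centralizer _))
  have m := card_le_of_le (sup_le c ((cent_zpowers q).ge.trans (centralizer_le_normalizer _)))
  have n := j ▸ f.range.card_le_card_group
  rw [e, d, Nat.card_zpowers, o] at k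
  rw [(h.five hG o a l).2] at *
  omega
end JT0
end
end H13
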