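import Cfsg.Agent.H13.JS
import Cfsg.Agent.H1.Coprime2
import Cfsg.Agent.S2775
/-! Groups of type `J4`: the centraliser of an involution of the second class. -/
set_option autoImplicit false
namespace H13
noncomputable section
open MulAction Cfsg H27 Subgroup
open scoped Pointwise
universe u
variable {G : Type u} [Group G] [Finite G] {z : G} {R : Subgroup G} {π : Cz z →* AL V6} {P : V6 → G → Prop}

theorem four_gen {K H : Subgroup G} (o : Odd (Nat.card K)) {a b : G} (aa : a * a = 1) (bb : b * b = 1) (c : a * b = b * a)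
    (a1 : a ≠ 1) (b1 : b ≠ 1) (n : a ≠ b) (p : a ∈ normalizer (K : Set G)) (q : b ∈ normalizer (K : Set G))
    (h : ∀ y ∈ [a, b, a * b], K ⊓ Cz y ≤ H) : K ≤ H := by
  let F : Subgroup G :=
    { carrier := {y | y = 1 ∨ y = a ∨ y = b ∨ y = a * b}
      one_mem' := .inl rfl
      mul_mem' := by
        have e1 : a * (a * b) = b := by rw [← mul_assoc, aa, one_mul]
        have e2 : b * (a * b) = a := by rw [c, ← mul_assoc, bb, one_mul]
        have e3 : a * b * a = b := by rw [c, mul_assoc, aa, mul_one]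
        have e4 : a * b * b = a := by rw [mul_assoc, bb, mul_one]
        have e5 : a * b * (a * b) = 1 := by rw [← mul_assoc, e3, bb]
        rintro _ _ (rfl | rfl | rfl | rfl) (rfl | rfl | rfl | rfl) <;> simp [aa, bb, ← c, e1, e2, e3, e4, e5]
      inv_mem' := by
        rintro _ (rfl | rfl | rfl | rfl) <;>
          simp [inv_eq_of_mul_eq_one_right aa, inv_eq_of_mul_eq_one_right bb, c] }
  have sq : ∀ y ∈ F, y * y = 1 := by
    rintro _ (rfl | rfl | rfl | rfl)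
    exacts [mul_one 1, aa, bb, by rw [mul_assoc, ← mul_assoc b, ← c, mul_assoc, bb, mul_one, aa]]
  have : IsMulCommutative F := ⟨⟨fun x y => Subtype.ext (by
    have := inv_eq_of_mul_eq_one_right (sq _ (x * y).2)
    rwa [coe_mul, mul_inv_rev, inv_eq_of_mul_eq_one_right (sq _ x.2), inv_eq_of_mul_eq_one_right (sq _ y.2), eq_comm] at this)⟩⟩
  have pg : IsPGroup 2 F := fun y => ⟨1, Subtype.ext ((pow_two y.1).trans (sq _ y.2))⟩
  obtain ⟨k, e⟩ := IsPGroup.iff_card.1 pg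
  refine H1.le_of_forall_centralizer_le (A := F) (fun ⟨g, u⟩ => ?_) (by
    rintro _ (rfl | rfl | rfl | rfl)
    exacts [one_mem _, p, q, mul_mem p q]) (e ▸ (Nat.coprime_two_left.2 o).pow_left _) (by
    rintro _ (rfl | rfl | rfl | rfl) d
    exacts [absurd rfl d, h _ (by simp), h _ (by simp), h _ (by simp)])
  have v : ∀ y : F, y.1 ≠ 1 → y = g := fun y d => by
    by_cases w : g = 1
    · obtain ⟨m, rfl⟩ := u y; exact absurd (by simp [w]) d
    · exact ((mem_zpowers_two (ord2 (Subtype.ext (sq _ g.2)) w)).1 (u y)).resolve_left fun f => d (congrArg Subtype.val f)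
  exact n (congrArg Subtype.val ((v ⟨a, .inr (.inl rfl)⟩ a1).trans (v ⟨b, .inr (.inr (.inl rfl))⟩ b1).symm))
theorem exists_sq {Q A : Subgroup G} (p : IsPGroup 2 Q) (n : ¬ Q ≤ A) : ∃ y ∈ Q, y ∉ A ∧ y * y ∈ A := by
  obtain ⟨y, a, b⟩ := Set.not_subset.1 n
  obtain ⟨k, c⟩ := p ⟨y, a⟩
  have d : y ^ 2 ^ k ∈ A := (show y ^ 2 ^ k = 1 from congrArg Subtype.val c).symm ▸ one_mem A
  clear c
  induction k with
  | zero => exact absurd (by simpa using d) b
  | succ k i =>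
    by_cases e : y ^ 2 ^ k ∈ A
    exacts [i e, ⟨_, pow_mem a _, e, by rwa [← pow_two, ← pow_mul]⟩]

namespace JT0
variable (h : JT0 z R π P)
include h
theorem odd_cen {O : Subgroup G} (o : Odd (Nat.card O)) {y v : G} (a : y ∈ O) (b : y ∈ normalizer (h.A : Set G)) (c : v ∈ h.A)
    (d : v ∈ normalizer (O : Set G)) : y * v = v * y := by
  have e := mul_mem (h.cj_mem b c) (inv_mem c)
  have := odd_sq o (show y * v * y⁻¹ * v⁻¹ ∈ O by
    simpa [mul_assoc] using mul_mem a ((mem_normalizer_iff.1 d _).1 (inv_mem a))) (h.A_sq e)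
  rwa [mul_inv_eq_one, mul_inv_eq_iff_eq_mul] at this
variable [IsSimpleGroup G] (hG : ¬ IsMulCommutative G)
include hG
theorem odd_bot {t : G} (t1 : t ∈ h.A) (t0 : t ≠ 1) (nt : ¬ IsConj z t) {O : Subgroup G} (o : Odd (Nat.card O)) (a : O ≤ Cz t)
    (b : h.A ≤ normalizer (O : Set G)) : O = ⊥ := by
  obtain ⟨y, p⟩ := h.ex (v6 85)
  have s : v6 85 ∈ SJ := (orbJ le_rfl MJ_LJ).1 ▸ mem_orbit_self _
  have m : y ∈ h.A := h.sub_A ⟨_, by decide +kernel, p⟩
  have n := mt (h.iff p).1 (djJ (.inl s)).1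
  have l := four_gen (H := normalizer (h.A : Set G)) o (h.A_sq m) h.zz (h.comm (h.mem p)) (fun e => n (.inl e)) h.z_ne
    (fun e => n (.inr e)) (b m) (b h.z_A) (by
      simp only [List.forall_mem_cons]
      exact ⟨fun k c => h.S0 hG t1 t0 nt m (h.conjJ hG p s) ⟨c.2, a c.1⟩, fun k c => h.S0 hG t1 t0 nt h.z_A (.refl _) ⟨c.2, a c.1⟩,
        fun k c => h.S0 hG t1 t0 nt (mul_mem m h.z_A) (h.conjJ hG (h.mulz p) s) ⟨c.2, a c.1⟩, by simp⟩)
  exact eq_bot_iff.2 fun k c => odd_sq o c (h.A_sq (h.cen_A.le fun v d => (h.odd_cen o c (l c) d (b d)).symm))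
theorem exSt {t : G} (t1 : t ∈ h.A) (t0 : t ≠ 1) (nt : ¬ IsConj z t) : ∃ φ : normalizer (h.A : Set G) →* MM,
    Function.Surjective φ ∧ (∀ k, φ k = 1 ↔ k.1 ∈ h.A) ∧ ∀ k, k.1 ∈ Cz t ↔ φ k ∈ SDu := by
  obtain ⟨s, φ, j⟩ := h.exP hG
  obtain ⟨i, a, rfl⟩ := (j.ty t).1 ⟨t1, t0, nt⟩
  obtain ⟨k, b, c⟩ := j.tr i a 253 (by norm_num)
  refine ⟨φ.comp (MulAut.conj ⟨k, b⟩).toMonoidHom, j.sj.comp (MulAut.conj _).surjective,
    fun m => (j.kr _).trans (mem_normalizer_iff.1 b _).symm, fun m => ?_⟩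
  rw [mem_stabilizer_iff, ← eDu_i0]
  refine Iff.trans ?_ (j.ac _ 253 (by norm_num) 253 (by norm_num))
  rw [← c, mem_Cz', ← (MulAut.conj k).injective.eq_iff]
  simp [mul_assoc]
theorem cen_t {t : G} (t1 : t ∈ h.A) (t0 : t ≠ 1) (nt : ¬ IsConj z t) : Cz t ≤ normalizer (h.A : Set G) := by
  obtain ⟨φ, sj, kq, st⟩ := h.exSt hG t1 t0 nt
  have l : h.A ≤ Cz t := fun v a => mem_Cz.2 (h.A_comm a t1)
  obtain ⟨S, a⟩ := (h.A_pg.comap_subtype (K := Cz t)).exists_le_sylow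
  let K := normalClosure (h.A.subgroupOf (Cz t) : Set (Cz t))
  let ι : K →* G := (Cz t).subtype.comp K.subtype
  have ij : Function.Injective ι := Subtype.val_injective.comp Subtype.val_injective
  have lK : h.A ≤ ι.range := fun v b => ⟨⟨⟨v, l b⟩, subset_normalClosure b⟩, rfl⟩
  have ob : ∀ N : Subgroup K, N.Normal → Odd (Nat.card N) → N = ⊥ := fun N b c => (map_eq_bot_iff_of_injective _ ij).1
    (h.odd_bot hG t1 t0 nt (by rwa [card_map_of_injective ij]) (by rintro _ ⟨y, -, rfl⟩; exact y.1.2) fun v d =>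
      mem_normalizer_fintype (by
        obtain ⟨v, rfl⟩ := lK d
        rintro _ ⟨y, e, rfl⟩
        exact ⟨_, b.conj_mem y e v, by simp⟩))
  obtain ⟨-, -, ⟨T, b, c⟩, -⟩ := Cfsg.Agent.S2775.result S (h.A.subgroupOf (Cz t)) ⟨⟨fun x y => Subtype.ext (Subtype.ext
    (h.A_comm x.2 y.2))⟩⟩ ⟨a, fun x b g c => h.sc hG t1 t0 nt g.2 b (h.le_nrm (S.2.map (Cz t).subtype)
      (fun v d => ⟨⟨v, l d⟩, a d, rfl⟩) ⟨_, c, rfl⟩)⟩ K rfl K (MonoidHom.id _) Function.surjective_id (by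
        rw [MonoidHom.ker_id, ob _ inferInstance (Nat.coprime_two_right.1 (H1.coprime_card_pPrimeCore 2))])
  rw [map_id] at b c
  have lT : h.A ≤ T.1.map ι := fun v d => by obtain ⟨v, rfl⟩ := lK d; exact ⟨v, b d, rfl⟩
  have eT : T.1.map ι ≤ h.A := by
    by_contra n
    obtain ⟨y, d, e, f⟩ := exists_sq (T.2.map ι) n
    obtain ⟨v, g, i⟩ := h.lift1 hG (h.le_nrm (T.2.map ι) lT d) f
    obtain ⟨w, m, o⟩ := mul_mem (lT g) d
    exact e ((h.A.mul_mem_cancel_left g).1 (o ▸ c.ge (mem_sup_right (subset_closure ⟨m, ij (by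
      rw [map_pow, o, pow_two, i, map_one])⟩))))
  have eA : T.1.map ι = h.A := le_antisymm eT lT
  have nT : ∀ k ∈ normalizer (T : Set K), ι k ∈ normalizer (h.A : Set G) := fun k d => eA ▸ le_normalizer_map ι ⟨k, d, rfl⟩
  let ψ : normalizer (T : Set K) →* MM := φ.comp ((ι.comp (Subgroup.subtype _)).codRestrict _ fun k => nT k k.2)
  have kr : ψ.ker = T.1.subgroupOf _ := Subgroup.ext fun k => (kq _).trans
    ((Subgroup.ext_iff.1 eA _).symm.trans (mem_map_iff_mem ij))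
  have y := odd_nrm (Y := ψ.range) (by
    rw [← index_ker, kr]
    exact Nat.not_even_iff_odd.1 fun e => T.not_dvd_index (e.two_dvd.trans (relIndex_dvd_index_of_le le_normalizer)))
    (by rintro _ ⟨k, rfl⟩; exact (st _).1 k.1.1.2) (by
      rintro g d _ ⟨k, rfl⟩
      obtain ⟨n, rfl⟩ := sj g
      have e := (st n).2 (H22_le d)
      refine ⟨⟨⟨⟨n, e⟩ * k * ⟨n, e⟩⁻¹, (inferInstance : K.Normal).conj_mem _ k.1.2 _⟩, mem_normalizer_fintype fun w f => ?_⟩,
        (map_mul φ (n * ⟨_, nT _ k.2⟩) n⁻¹).trans (by rw [map_mul, map_inv]; rfl)⟩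
      exact (mem_map_iff_mem ij).1 (lT (h.cj_mem (mul_mem (mul_mem n.2 (nT _ k.2)) (inv_mem n.2)) (eT ⟨w, f, rfl⟩))))
  have bs : normalizer (T : Set K) ≤ centralizer (T : Set K) := fun k d w e => ij (by
    rw [map_mul, map_mul]
    exact h.A_comm (eT ⟨w, e, rfl⟩) ((kq _).1 (y.le ⟨⟨k, d⟩, rfl⟩)))
  have e := (MonoidHom.ker_transferSylow_isComplement' T bs).sup_eq_top
  rw [ob _ inferInstance (Nat.not_even_iff_odd.1 fun e => MonoidHom.not_dvd_card_ker_transferSylow T bs e.two_dvd), bot_sup_eq] at e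
  exact fun g d => mem_normalizer_fintype fun v f => eT ⟨⟨⟨g, d⟩ * ⟨v, l f⟩ * ⟨g, d⟩⁻¹,
    (inferInstance : K.Normal).conj_mem _ (subset_normalClosure f) _⟩, e.ge (mem_top _), rfl⟩
end JT0
end
end H13
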