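import Cfsg.Agent.H13.JS
/-! Groups of type `J4`: every involution is conjugate into the subgroup of order `2 ^ 11`. -/
set_option autoImplicit false
namespace H13
noncomputable section
open MulAction Cfsg H27 Subgroup
open scoped Pointwise
universe u
variable {G : Type u} [Group G] [Finite G] {z : G} {R : Subgroup G} {π : Cz z →* AL V6} {P : V6 → G → Prop}
theorem el_inv {W : Type*} [AddCommGroup W] (E : BE W 11) {A : List ℕ}
    (c : (allN 2048 fun a => force (xsum A a) fun b => decide (b < 2048 ∧ xsum A b = a ∧ tb XD b = tb XD a)) = true) :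
    E.Cols (E.el A) A ∧ E.el A ∈ G24 E := by
  simp only [allN_iff, force_eq, decide_eq_true_eq, tb_eq] at c
  have a : E.Cols (E.el A) A := BE.el_cols fun v => by
    obtain ⟨i, b, rfl⟩ := E.surj v
    exact ⟨_, (E.lin_e A (c i b).1).trans (congrArg _ (c i b).2.1)⟩
  refine ⟨a, (mem_G24 E).2 (E.forall_iff.2 fun i b => ?_)⟩
  have j : Set.InjOn E.e {j | j < 2048} := E.injOn
  rw [show E.el A (E.e i) = _ from a i b, mem_mset j (c i b).1, mem_mset j b, (c i b).2.2]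
namespace JT0
theorem conj_R (h : JT0 z R π P) {r : G} (a : r ∈ R) (b : r * r = 1) : ∃ v ∈ h.A, IsConj v r := by
  obtain ⟨u, p⟩ := h.ex' r a
  by_cases c : u = 0
  · exact ⟨r, ((h.iff p).2 c).elim (· ▸ one_mem _) (· ▸ h.z_A), .refl _⟩
  have k : ∀ {w}, w ∈ U6s → u ∈ orbit LJ w → ∃ v ∈ h.A, IsConj v r := fun {w} d e => by
    obtain ⟨y, q⟩ := h.ex w
    exact ⟨y, h.sub_A ⟨w, d, q⟩, _root_.isConj_iff.2 ((h.tr q p (mem_orbit_self _) e c).elim fun k f => ⟨k, f⟩)⟩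
  exact (singJ ((h.sq' p).1 b) c).elim (fun d => k (by decide +kernel) ((orbJ MJ_LJ le_rfl).1 ▸ d))
    fun d => k (by decide +kernel) ((orbJ MJ_LJ le_rfl).2 ▸ d)
variable {h : JT0 z R π P} {x : Cz z} {E : BE (Additive h.A) 11}
namespace JN
variable (j : h.JN x E)
include j
theorem cls0 {k : Cz z} (a : k * k = 1) (b : π k = bb1) (n : k.1 ∉ h.A) : IsConj ((E.e 128).toMul * h.mu x (v6 9)) k.1 := by
  obtain ⟨c, c1, c2, c3⟩ := j.cc 0 (by norm_num)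
  obtain ⟨d, d1, d2, d3⟩ := j.cc 3 (by norm_num)
  have cA : c.1 ∈ h.A := c3 ▸ (E.e _).toMul.2
  have dA : d.1 ∈ h.A := d3 ▸ (E.e _).toMul.2
  rw [show ((E.e 128).toMul : G) = c from c3]
  have m : ∀ {v w} (s : Cz z), s * c = c * s → (∃ r, P v r ∧ IsConj (c * h.mu x (v6 9)) (c * r)) → π s v = w →
      ∃ r, P w r ∧ IsConj (c * h.mu x (v6 9)) (c * r) := fun s e ⟨r, p, q⟩ f =>
    ⟨_, f ▸ h.act s p, q.trans (_root_.isConj_iff.2 ⟨s, by
      rw [← mul_assoc, show s.1 * c = c * s from congrArg Subtype.val e]; simp [mul_assoc]⟩)⟩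
  have m1 : ∀ {a b}, (∃ r, P (v6 a) r ∧ _) → a < 2 ^ 12 ∧ xsum _ a = b → ∃ r, P (v6 b) r ∧ _ := fun e f =>
    m x c1.symm e (by rw [j.hx, ← f.2]; exact thL_c _ f.1)
  have i1 : ∃ r, P (v6 9) r ∧ IsConj (c * h.mu x (v6 9)) (c * r) := ⟨_, h.mu_P j.hx _, .refl _⟩
  have i2 := m1 (b := 14) i1 (by decide)
  have i4 := m (w := v6 6) d (Subtype.ext (h.A_comm dA cA)) i1 (d2 ▸ bb4_c 9 (by norm_num))
  have i5 := m1 (b := 11) i4 (by decide)
  have i : ∀ b ∈ [9, 14, 7, 6, 11, 13], ∃ r, P (v6 b) r ∧ IsConj (c * h.mu x (v6 9)) (c * r) := by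
    simp only [List.forall_mem_cons]
    exact ⟨i1, i2, m1 i2 (by decide), i4, i5, m1 i5 (by decide), by simp⟩
  obtain ⟨v, p⟩ := h.ex' (c⁻¹ * k : Cz z) ((h.ker _).1 (by rw [map_mul, map_inv, b, c2]; exact inv_mul_cancel _))
  obtain ⟨r, rfl⟩ : ∃ r, k = c * r := ⟨c⁻¹ * k, by simp⟩
  rw [inv_mul_cancel_left] at p
  have e1 : c * r * c.1⁻¹ = r.1⁻¹ := by
    rw [h.A_inv cA]; exact eq_inv_of_mul_eq_one_left (by simpa [mul_assoc] using congrArg Subtype.val a)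
  have e2 : π c v = v := (h.uniq (e1 ▸ h.act c p) (h.inv' p)).1 (.inl rfl)
  have e3 : c * r * c.1⁻¹ = r := by
    have := h.mu_cj j.hx c1 v
    rw [e2] at this
    rcases (h.uniq (h.mu_P j.hx v) p).2 rfl with e | e <;> rw [e]
    · exact this
    · rw [← conj_mul, this, mem_Cz'.1 c.2]
  have e4 := (h.sq' p).1 (eq_inv_iff_mul_eq_one.1 (e3.symm.trans e1))
  have e5 : v ∉ U6s := fun e => n (mul_mem cA (h.sub_A ⟨v, e, p⟩))
  obtain ⟨a, ha, rfl⟩ := E6.surj v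
  obtain ⟨b, f, y, g, l⟩ := of_decide_eq_true ((allN_iff _ _).1 (by decide +kernel : (allN 4096 fun a => decide (xsum cbb1 a = a →
    tb XU a = false → q6 (v6 a) = 0 → ∃ b ∈ [9, 14, 7, 6, 11, 13], ∃ y ∈ (List.range 16).map (xsum [16, 32, 256, 512]),
      y < 2 ^ 12 ∧ xsum cbb1 y ^^^ b ^^^ y = a)) = true) a ha) ((E6.eq_iff (xsum_lt (by decide) _) ha).1
        ((bb1_c a ha).symm.trans (by rw [c2] at e2; exact e2))) (by rw [tb_eq]; simpa using mt (memU ha).2 e5) e4 |>.imp fun _ e => e.imp_right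
          fun e => e.imp fun _ e => e.2
  obtain ⟨t, p1, p2⟩ := i b f
  obtain ⟨s, q⟩ := h.ex (v6 y)
  have q1 := h.mul (h.mul (h.act c q) p1) (h.inv' q)
  rw [coe_inv, c2, show nth 1 gB6 0 (v6 y) = _ from bb1_c y g, show E6.e = v6 from rfl, ← v6_xor, ← v6_xor, l] at q1
  refine (p2.trans (isConj_cj s _)).trans ?_
  rw [show s * (c * t) * s⁻¹ = c * (c * s * c.1⁻¹ * t * s⁻¹) by
    rw [h.A_inv cA, ← one_mul (_ * s⁻¹), ← h.A_sq cA]; simp only [mul_assoc]]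
  generalize c * s * c.1⁻¹ * t * s⁻¹ = t at *
  rcases (h.uniq q1 p).2 rfl with e | e <;> rw [coe_mul, e]
  obtain ⟨u, o, w⟩ : ∃ u ∈ U6s, pol q6 u (v6 a) = 1 := by
    by_contra! o
    exact e5 (U_perp fun u s => pol_comm q6 u _ ▸ (z2_cases _).resolve_right (o u s))
  have := h.cj_zp (h.mu_P j.hx u) q1
  rw [w, ZMod.val_one, pow_one] at this
  exact _root_.isConj_iff.2 ⟨h.mu x u, by rw [← this, ← mul_assoc, h.A_comm (h.mu_A j.hx o) cA]; group⟩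
theorem cls {k : Cz z} (a : k * k = 1) (b : π k ∈ B06) (c : k.1 ∉ R) (n : k.1 ∉ h.A) :
    IsConj ((E.e 128).toMul * h.mu x (v6 9)) k.1 := by
  obtain ⟨m, d, e⟩ := B_trJ b fun e => c ((h.ker _).1 e)
  obtain ⟨l, rfl⟩ := h.lift (NJ_LJ d.1)
  exact (j.cls0 (k := l * k * l⁻¹) (by rw [conj_mul, a]; simp) (by rwa [map_mul, map_mul, map_inv]) fun f =>
    n ((mem_normalizer_iff.1 (h.nrm_A fun u => NJ_U d.1) _).2 f)).trans (isConj_cj _ _).symm
theorem exR : ∃ r ∈ R, IsConj r ((E.e 128).toMul * h.mu x (v6 9)) := by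
  obtain ⟨g1, g2⟩ := el_inv E (A := [40, 91, 1960, 33, 128, 32, 208, 16, 1669, 1049, 649]) (by decide +kernel)
  obtain ⟨n, hn⟩ := j.rg.ge g2
  have y := h.mu_P j.hx (v6 1)
  have p := h.mul (h.mu_P j.hx (v6 10)) y
  have m := h.mu_A j.hx (u := v6 10) (by decide +kernel)
  have e1 : h.rho ⟨_, h.R_nA (h.mem p)⟩ = h.rho ⟨_, h.R_nA (h.mem y)⟩ := by
    rw [← one_mul (h.rho ⟨h.mu x (v6 1), _⟩), ← show h.rho ⟨_, le_normalizer m⟩ = 1 from h.ker_rho.ge m, ← map_mul]; rfl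
  have c := e1 ▸ j.cy
  have sq := (h.sq' p).2 (by decide +kernel)
  have nA : _ ∉ h.A := fun e => absurd ((h.mem_sub p).1 (h.A_inf.le ⟨e, h.mem p⟩)) (by decide +kernel)
  obtain ⟨e, eR, c, sq, nA⟩ : ∃ e, ∃ eR : e ∈ R, E.Cols (h.rho ⟨e, h.R_nA eR⟩) cWy ∧ e * e = 1 ∧ e ∉ h.A := ⟨_, h.mem p, c, sq, nA⟩
  have e2 : n * e * n.1⁻¹ * e⁻¹ ∈ h.A := h.ker_rho.le (show h.rho (n * ⟨e, h.R_nA eR⟩ * n⁻¹ * ⟨e, h.R_nA eR⟩⁻¹) = 1 by
    rw [map_mul, map_mul, map_mul, map_inv, map_inv, mul_inv_eq_one, mul_inv_eq_iff_eq_mul, hn]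
    refine LinearEquiv.ext (E.forall_iff.2 fun a b => ?_)
    refine (congrArg _ (c a b)).trans ((g1 _ (xsum_lt (by decide) _)).trans (Eq.trans (congrArg _ ?_)
      ((congrArg _ (g1 a b)).trans (c _ (xsum_lt (by decide) _))).symm))
    exact (beq_iff ..).1 ((allN_iff _ _).1 (by decide +kernel : (allN 2048 fun a => Nat.beq
      (xsum [40, 91, 1960, 33, 128, 32, 208, 16, 1669, 1049, 649] (xsum cWy a))
      (xsum cWy (xsum [40, 91, 1960, 33, 128, 32, 208, 16, 1669, 1049, 649] a))) = true) a b))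
  have w1 : ((E.e 16).toMul : G) ∈ R := by rw [j.lo 16 (by norm_num)]; exact mul_mem (pow_mem h.zm _) (h.mem (h.mu_P j.hx _))
  have w2 : e * (E.e 16).toMul * e⁻¹ = (E.e 16).toMul := congrArg Subtype.val (c 16 (by norm_num))
  have w3 : n.1 * (E.e 16).toMul * n.1⁻¹ = ((E.e 128).toMul : G) := congrArg Subtype.val ((hn ▸ g1) 16 (by norm_num))
  have k : ∀ r ∈ R, r * r = 1 → ∀ v ∈ h.A, n * r * n.1⁻¹ = v * e → v * e ∉ R →
      ∃ r ∈ R, IsConj r ((E.e 128).toMul * h.mu x (v6 9)) := fun r a b v d f g => ⟨r, a, (f ▸ isConj_cj n.1 r : IsConj r (v * e)).trans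
    (j.cls (k := (⟨v, h.A_le d⟩ : Cz z) * ⟨e, h.le eR⟩) (Subtype.ext (show v * e * (v * e) = 1 by rw [← f, conj_mul, b]; simp))
      (by rw [map_mul, (h.ker ⟨e, _⟩).2 eR, mul_one]; exact h.A_B d) g fun i => nA ((h.A.mul_mem_cancel_left d).1 i)).symm⟩
  by_cases l : n * e * n.1⁻¹ ∈ R
  · refine k _ (mul_mem w1 eR) (by
      rw [mul_assoc, ← mul_assoc e, mul_inv_eq_iff_eq_mul.1 w2, mul_assoc, sq, mul_one, h.A_sq (E.e 16).toMul.2]) _
      (mul_mem (E.e 128).toMul.2 e2) (by rw [← conj_mul, w3]; group) fun i => ?_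
    obtain ⟨c, -, c2, c3⟩ := j.cc 0 (by norm_num)
    rw [mul_assoc, inv_mul_cancel_right, R.mul_mem_cancel_right l, show ((E.e 128).toMul : G) = c from c3, ← h.ker, c2] at i
    exact B06_ne.1 i
  · exact k e eR sq _ e2 (by group) (by simpa using l)
end JN
theorem conj_A (h : JT0 z R π P) [IsSimpleGroup G] (hG : ¬ IsMulCommutative G) {y : G} (a : y * y = 1) : ∃ v ∈ h.A, IsConj v y := by
  obtain ⟨x, hx, x3⟩ := h.exists_x
  obtain ⟨E, j⟩ := h.main hx hG x3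
  obtain ⟨g, -, Q, q1, q2, q3⟩ := exists_cj_pg (K := ⊤) (B := zpowers y) le_top le_top h.A_pg
    (IsPGroup.of_card_dvd_pow (n := 1) (by rw [Nat.card_zpowers]; exact orderOf_dvd_of_pow_eq_one (by rwa [pow_one, pow_two])))
  have b : g * y * g⁻¹ * (g * y * g⁻¹) = 1 := by rw [conj_mul, a]; simp
  obtain ⟨m, -, v, c, e, d, -, f⟩ := h.lift2 hG (h.le_nrm q1 q2 (q3 y (mem_zpowers y))) (b.symm ▸ one_mem _)
  suffices ∃ u ∈ h.A, IsConj u (v * e) from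
    this.imp fun u i => ⟨i.1, i.2.trans (f ▸ ((isConj_cj g y).trans (isConj_cj m _)).symm)⟩
  have s : v * e * (v * e) = 1 := by rw [← f, conj_mul, b]; simp
  by_cases i : v * e ∈ R
  · exact h.conj_R i s
  by_cases l : v * e ∈ h.A
  · exact ⟨_, l, .refl _⟩
  obtain ⟨r, o, p⟩ := j.exR
  have q := p.trans (j.cls (k := ⟨v, h.A_le c⟩ * ⟨e, h.le d⟩) (Subtype.ext s)
    (by rw [map_mul, (h.ker ⟨e, _⟩).2 d, mul_one]; exact h.A_B c) i l)
  obtain ⟨u, t, w⟩ := h.conj_R o (by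
    obtain ⟨k, w⟩ := _root_.isConj_iff.1 q
    rwa [show v * e = _ from w.symm, conj_mul, conj_eq_one_iff] at s)
  exact ⟨u, t, w.trans q⟩
end JT0
end
end H13
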