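import Cfsg.Agent.H13.JX
import Cfsg.Agent.H13.JI
/-! Groups of type `J4`: the classes of the involutions normalising the subgroup of order `2 ^ 11`. -/
set_option autoImplicit false
namespace H13
noncomputable section
open MulAction Cfsg H27 Subgroup
open scoped Pointwise
universe u
variable {G : Type u} [Group G] [Finite G] {z : G} {R : Subgroup G} {π : Cz z →* AL V6} {P : V6 → G → Prop}
theorem dih {u t : G} (a : u * u = 1) (b : t * t = 1) (u1 : u ≠ 1) (t1 : t ≠ 1) (c : ¬ IsConj u t) :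
    ∃ w ∈ zpowers (u * t), w * w = 1 ∧ w ≠ 1 ∧ w ≠ u ∧ w ≠ t ∧ w ∈ Cz u ∧ w ∈ Cz t := by
  have iu := inv_eq_of_mul_eq_one_right a
  have it := inv_eq_of_mul_eq_one_right b
  have e : ∀ n : ℕ, t * (u * t) ^ n * t⁻¹ = ((u * t) ^ n)⁻¹ := fun n => by
    rw [← conj_pow, ← inv_pow, mul_inv_rev, iu, it, mul_assoc, mul_assoc, b, mul_one]
  have e' : ∀ n : ℕ, u * (u * t) ^ n * u⁻¹ = ((u * t) ^ n)⁻¹ := fun n => by
    rw [← conj_pow, ← inv_pow, mul_inv_rev, iu, it, ← mul_assoc, a, one_mul]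
  obtain ⟨n, d | d⟩ := Nat.even_or_odd' (orderOf (u * t))
  · have s : (u * t) ^ n * (u * t) ^ n = 1 := by rw [← pow_add, ← two_mul, ← d, pow_orderOf_eq_one]
    have p := orderOf_pos (u * t)
    have i := inv_eq_of_mul_eq_one_right s
    have c1 := (mul_inv_eq_iff_eq_mul.1 ((e' n).trans i)).symm
    have c2 := (mul_inv_eq_iff_eq_mul.1 ((e n).trans i)).symm
    have k : u * t = t * u → n = 1 := fun f => by
      have := Nat.le_of_dvd two_pos (orderOf_dvd_of_pow_eq_one (x := u * t) (by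
        rw [pow_two, mul_assoc, ← mul_assoc t, ← f, mul_assoc, b, mul_one, a]))
      omega
    refine ⟨_, pow_mem (mem_zpowers _) n, s, pow_ne_one_of_lt_orderOf (by omega) (by omega), fun f => t1 ?_, fun f => u1 ?_,
      mem_Cz.2 c1, mem_Cz.2 c2⟩
    · rw [k (by rwa [f] at c2), pow_one] at f; exact mul_eq_left.1 f
    · rw [k (by rw [f] at c1; exact c1.symm), pow_one] at f; exact mul_eq_right.1 f
  · refine absurd (_root_.isConj_iff.2 ⟨((u * t) ^ (n + 1))⁻¹, ?_⟩) c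
    rw [inv_inv, mul_assoc, mul_inv_eq_iff_eq_mul.1 (e' _), ← mul_assoc, ← mul_inv_rev, ← pow_add,
      show n + 1 + (n + 1) = 2 * n + 1 + 1 by omega, pow_succ, ← d, pow_orderOf_eq_one, one_mul, mul_inv_rev, inv_mul_cancel_right, it]
theorem lift_cop {Γ Δ : Type*} [Group Γ] [Group Δ] [Finite Γ] (f : Γ →* Δ) (a : IsPGroup 2 f.ker) {p : ℕ} (hp : p.Prime) (p2 : p ≠ 2)
    {q k : Γ} (o : orderOf q = p) {j : ℕ} (c : f k * f q * (f k)⁻¹ = f q ^ j) : ∃ l, f l = f k ∧ l * q * l⁻¹ = q ^ j := by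
  have := Fact.mk hp
  have d : Disjoint (zpowers q) f.ker := IsPGroup.disjoint_of_ne p 2 p2 _ _ (.of_card (n := 1) (by rw [Nat.card_zpowers, o, pow_one])) a
  obtain ⟨n, hn⟩ := a.exists_card_eq
  have cY : Nat.card (f.ker ⊔ zpowers q : Subgroup Γ) = 2 ^ n * p := by
    have := _root_.H11.card_inf_mul_card_sup_of_le_normalizer (H := zpowers q) (K := f.ker) (normalizer_eq_top f.ker ▸ le_top)
    rwa [d.eq_bot, card_bot, one_mul, sup_comm, Nat.card_zpowers, o, hn, mul_comm] at this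
  obtain ⟨y, b, e⟩ := exists_conj_le_sylow (H := f.ker ⊔ zpowers q) (P := zpowers q) (Q := zpowers (k * q * k⁻¹)) (k := 1) hp le_sup_right
    (by rw [Nat.card_zpowers, o, pow_one]) (by
      rw [cY, pow_succ, pow_one, Nat.mul_dvd_mul_iff_right hp.pos]
      exact fun e => p2 ((Nat.prime_dvd_prime_iff_eq hp Nat.prime_two).1 (hp.dvd_of_dvd_pow e)))
    (zpowers_le.2 (by
      rw [sup_comm, ← comap_map_eq, MonoidHom.map_zpowers, mem_comap, map_mul, map_mul, map_inv, c]; exact pow_mem (mem_zpowers _) j))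
    (.of_card (n := 1) (by rw [Nat.card_zpowers, pow_one, ← o]; exact (MulAut.conj k).orderOf_eq q))
  obtain ⟨s, g, r, i, rfl⟩ := mem_sup_of_normal_right.1 (sup_comm f.ker _ ▸ b)
  have m : r * k * q * (r * k)⁻¹ ∈ zpowers q := by
    simpa [mul_assoc] using mul_mem (mul_mem (inv_mem g) (e _ (mem_zpowers _))) g
  have i' : f r = 1 := i
  refine ⟨r * k, by rw [map_mul, i', one_mul], eq_of_mul_inv_eq_one (disjoint_def.1 d (mul_mem m (inv_mem (pow_mem (mem_zpowers q) j))) ?_)⟩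
  simp only [MonoidHom.mem_ker, map_mul, map_inv, map_pow, i', one_mul, c, mul_inv_cancel]
theorem B_mv {u w : V6} (a : u ∈ SJ) (b : u ∉ U6s) (c : w ∈ U6s) (d : w + u ∈ SJ) : ∃ β ∈ B06, β u = w + u := by
  obtain ⟨i, hi, rfl⟩ := E6.surj u
  obtain ⟨j, hj, rfl⟩ := U_ex c
  have k : ∀ {g A}, g ∈ B06 → E6.Cols g A → (∀ a ∈ A, a < 2 ^ 12) → ∀ {L : List ℕ}, (∀ y ∈ L, y < 2 ^ 12 ∧ ∃ β ∈ B06, β (v6 i) = v6 y) →
      ∀ y ∈ L ++ L.map (xsum A), y < 2 ^ 12 ∧ ∃ β ∈ B06, β (v6 i) = v6 y := fun {g A} g1 g2 g3 L l y m => by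
    rcases List.mem_append.1 m with m | m
    · exact l y m
    · obtain ⟨t, m', rfl⟩ := List.mem_map.1 m
      obtain ⟨e, β, f, o⟩ := l t m'
      exact ⟨xsum_lt g3 _, g * β, mul_mem g1 f, (congrArg g o).trans (g2 t e)⟩
  have l := k (mem_cl (by simp [gB6])) bb4_c (by decide) (k (mem_cl (by simp [gB6])) bb3_c (by decide)
    (k (mem_cl (by simp [gB6])) bb2_c (by decide) (k (mem_cl (by simp [gB6])) bb1_c (by decide) (L := [i])
      (by simpa using ⟨hi, 1, one_mem _, rfl⟩))))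
  rw [show E6.e = v6 from rfl, ← v6_xor] at *
  refine (l _ ?_).2
  have := (allN_iff _ _).1 (by decide +kernel : (allN 4096 fun i => or' (or' (not' (tb XJ i)) (tb XU i))
    (force i fun i => let f := fun (A L : List ℕ) => L ++ L.map (xsum A)
      allN 64 fun t => force (xsum uB t ^^^ i) fun y => or' (not' (tb XJ y)) (decide (y ∈ f cbb4 (f cbb3 (f cbb2 (f cbb1 [i])))))))
        = true) i hi
  simp only [force_eq, or'_eq, not'_eq, tb_eq, (memJ hi).1 a, Bool.eq_false_iff.2 (mt (memU hi).2 b), Bool.not_true, Bool.false_or,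
    allN_iff] at this
  have := this j hj
  rwa [(memJ (Nat.xor_lt_two_pow (n := 12) (xsum_lt (by decide) _) hi)).1 d, Bool.not_true, Bool.false_or, decide_eq_true_eq] at this
namespace JT0
variable {h : JT0 z R π P} {x : Cz z} {E : BE (Additive h.A) 11}
namespace JN
variable (j : h.JN x E)
include j
theorem tau : ¬ IsConj z ((E.e 128).toMul * h.mu x (v6 9)) := fun hc => by
  obtain ⟨g1, g2⟩ := el_inv E (A := [40, 91, 1960, 33, 128, 32, 208, 16, 1669, 1049, 649]) (by decide +kernel)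
  obtain ⟨n, hn⟩ := j.rg.ge g2
  have y := h.mu_P j.hx (v6 1)
  have p := h.mul (h.mu_P j.hx (v6 10)) y
  have m := h.mu_A j.hx (u := v6 10) (by decide +kernel)
  have e1 : h.rho ⟨_, h.R_nA (h.mem p)⟩ = h.rho ⟨_, h.R_nA (h.mem y)⟩ := by
    rw [← one_mul (h.rho ⟨h.mu x (v6 1), _⟩), ← show h.rho ⟨_, le_normalizer m⟩ = 1 from h.ker_rho.ge m, ← map_mul]; rfl
  have c := e1 ▸ j.cy
  have sq := (h.sq' p).2 (by decide +kernel)
  have nA : _ ∉ h.A := fun e => absurd ((h.mem_sub p).1 (h.A_inf.le ⟨e, h.mem p⟩)) (by decide +kernel)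
  obtain ⟨e, eR, c, sq, nA, p⟩ : ∃ e, ∃ eR : e ∈ R, E.Cols (h.rho ⟨e, h.R_nA eR⟩) cWy ∧ e * e = 1 ∧ e ∉ h.A ∧ P (v6 10 + v6 1) e :=
    ⟨_, h.mem p, c, sq, nA, p⟩
  have e2 : n * e * n.1⁻¹ * e⁻¹ ∈ h.A := h.ker_rho.le (show h.rho (n * ⟨e, h.R_nA eR⟩ * n⁻¹ * ⟨e, h.R_nA eR⟩⁻¹) = 1 by
    rw [map_mul, map_mul, map_mul, map_inv, map_inv, mul_inv_eq_one, mul_inv_eq_iff_eq_mul, hn]
    refine LinearEquiv.ext (E.forall_iff.2 fun a b => ?_)
    refine (congrArg _ (c a b)).trans ((g1 _ (xsum_lt (by decide) _)).trans (Eq.trans (congrArg _ ?_)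
      ((congrArg _ (g1 a b)).trans (c _ (xsum_lt (by decide) _))).symm))
    exact (beq_iff ..).1 ((allN_iff _ _).1 (by decide +kernel : (allN 2048 fun a => Nat.beq
      (xsum [40, 91, 1960, 33, 128, 32, 208, 16, 1669, 1049, 649] (xsum cWy a))
      (xsum cWy (xsum [40, 91, 1960, 33, 128, 32, 208, 16, 1669, 1049, 649] a))) = true) a b))
  have w1 : P (v6 2560) ((E.e 64).toMul : G) := by
    rw [j.lo 64 (by norm_num), show xsum uB (64 >>> 1) = 2560 by decide]; simpa using h.mu_P j.hx _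
  have w2 : e * (E.e 64).toMul * e⁻¹ = (E.e 64).toMul := congrArg Subtype.val (c 64 (by norm_num))
  have w3 : n.1 * (E.e 64).toMul * n.1⁻¹ = ((E.e 208).toMul : G) := congrArg Subtype.val ((hn ▸ g1) 64 (by norm_num))
  have k : ∀ {u r}, P u r → u ∈ SK → r * r = 1 → ∀ v ∈ h.A, n * r * n.1⁻¹ = v * e → v * e ∉ R → False := fun {u r} a a' b v d f g => by
    obtain ⟨s, i⟩ := _root_.isConj_iff.1 ((hc.trans (j.cls (k := (⟨v, h.A_le d⟩ : Cz z) * ⟨e, h.le eR⟩)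
      (Subtype.ext (show v * e * (v * e) = 1 by rw [← f, conj_mul, b]; simp)) (by
        rw [map_mul, (h.ker ⟨e, _⟩).2 eR, mul_one]; exact h.A_B d) g fun i => nA ((h.A.mul_mem_cancel_left d).1 i))).trans
          (f ▸ isConj_cj n.1 r : IsConj r (v * e)).symm)
    exact h.notK (i ▸ a) a'
  by_cases l : n * e * n.1⁻¹ ∈ R
  · refine k (h.mul w1 p) (by rw [← v6_xor, ← v6_xor, memK (by decide)]; decide +kernel) (by
      rw [mul_assoc, ← mul_assoc e, mul_inv_eq_iff_eq_mul.1 w2, mul_assoc, sq, mul_one, h.A_sq (E.e 64).toMul.2]) _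
      (mul_mem (E.e 208).toMul.2 e2) (by rw [← conj_mul, w3]; group) fun i => ?_
    obtain ⟨c, -, c2, c3⟩ := j.cc 0 (by norm_num)
    rw [mul_assoc, inv_mul_cancel_right, R.mul_mem_cancel_right l, show ((E.e 208).toMul : G) = _ from JN.mul 128 80,
      R.mul_mem_cancel_right (by rw [j.lo 80 (by norm_num)]; exact mul_mem (pow_mem h.zm _) (h.mem (h.mu_P j.hx _))),
      show ((E.e 128).toMul : G) = c from c3, ← h.ker, c2] at i
    exact B06_ne.1 i
  · exact k p (by rw [← v6_xor, memK (by norm_num)]; decide +kernel) sq _ e2 (by group) (by simpa using l)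
end JN
omit x E
variable (h) [IsSimpleGroup G] (hG : ¬ IsMulCommutative G)
include h hG
theorem inR {v e : G} (a : v ∈ h.A) (b : e ∈ R) (c : IsConj z (v * e)) : v * e ∈ R ∨ v * e ∈ h.A := by
  obtain ⟨x, hx, x3⟩ := h.exists_x
  obtain ⟨E, j⟩ := h.main hx hG x3
  by_contra! d
  obtain ⟨g, f⟩ := _root_.isConj_iff.1 c
  exact j.tau (c.trans (j.cls (k := ⟨v, h.A_le a⟩ * ⟨e, h.le b⟩) (Subtype.ext (f ▸ h.conj_sq g :))
    (by rw [map_mul, (h.ker ⟨e, _⟩).2 b, mul_one]; exact h.A_B a) d.1 d.2).symm)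
omit hG [IsSimpleGroup G] in
theorem memJ' {u : V6} {s : G} (a : P u s) (b : IsConj z s) : u = 0 ∨ u ∈ SJ := by
  obtain ⟨g, rfl⟩ := _root_.isConj_iff.1 b
  exact or_iff_not_imp_left.2 fun c => (singJ ((h.sq' a).1 (h.conj_sq g)) c).resolve_right (h.notK a)
theorem cl1 {s a : G} (b : s ∈ normalizer (h.A : Set G)) (c : s ∉ h.A) (d : a ∈ h.A) (e : IsConj z s) (f : IsConj z (a * s)) :
    ∃ r ∈ h.A, r * s * r⁻¹ = a * s := by
  obtain ⟨m, m1, v, v1, t, t1, -, g⟩ := h.lift2 hG b (by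
    obtain ⟨g, rfl⟩ := _root_.isConj_iff.1 e; rw [h.conj_sq]; exact one_mem _)
  have n : ∀ a ∈ h.A, a * (m * s * m⁻¹) ∉ h.A := fun a d i =>
    c ((mem_normalizer_iff.1 m1 s).2 ((h.A.mul_mem_cancel_left d).1 i))
  have k : ∀ a ∈ h.A, IsConj z (a * (m * s * m⁻¹)) → a * (m * s * m⁻¹) ∈ R := fun a d i => by
    have := n a d
    rw [g, ← mul_assoc] at *
    exact (h.inR hG (mul_mem d v1) t1 i).resolve_right this
  have e' := e.trans (isConj_cj m s)
  have f' := f.trans (isConj_cj m _)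
  rw [← conj_mul] at f'
  have d' := h.cj_mem m1 d
  have s1 := k 1 (one_mem _) (by rwa [one_mul])
  have s2 := k _ d' f'
  have n1 := n 1 (one_mem _)
  rw [one_mul] at s1 n1
  suffices ∃ r ∈ h.A, r * (m * s * m⁻¹) * r⁻¹ = m * a * m⁻¹ * (m * s * m⁻¹) from by
    obtain ⟨r, i, o⟩ := this
    exact ⟨m⁻¹ * r * m, by simpa using h.cj_mem (inv_mem m1) i, (MulAut.conj m).injective (by simpa [mul_assoc] using o)⟩
  generalize m * s * m⁻¹ = s at *
  generalize m * a * m⁻¹ = a at *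
  obtain ⟨u, p⟩ := h.ex' s s1
  obtain ⟨w, w1, q⟩ := h.A_inf.le ⟨d', (R.mul_mem_cancel_right s1).1 s2⟩
  have u1 : u ∉ U6s := fun i => n1 (h.sub_A ⟨u, i, p⟩)
  have u2 : w + u ∉ U6s := fun i => u1 ((U6s.add_mem_cancel_left w1).1 i)
  have i1 := (h.memJ' p e').resolve_left fun i => u1 (i ▸ zero_mem _)
  have i2 := (h.memJ' (h.mul q p) f').resolve_left fun i => u2 (i ▸ zero_mem _)
  obtain ⟨β, b1, b2⟩ := B_mv i1 u1 w1 i2
  obtain ⟨r, r1, rfl⟩ := h.B_A b1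
  rcases (h.uniq (b2 ▸ h.act r p) (h.mul q p)).2 rfl with o | o
  · exact ⟨r, r1, o.symm⟩
  obtain ⟨y, y1, y2⟩ : ∃ y ∈ U6s, pol q6 y (w + u) = 1 := by
    by_contra! o
    exact u2 (U_perp fun y i => pol_comm q6 y _ ▸ (z2_cases _).resolve_right (o y i))
  obtain ⟨l, y3⟩ := h.ex y
  have := h.cj_zp y3 (b2 ▸ h.act r p)
  rw [y2, ZMod.val_one, pow_one] at this
  exact ⟨l * r, mul_mem (h.sub_A ⟨y, y1, y3⟩) r1, by rw [o, ← this]; simp [mul_assoc]⟩
theorem out {s : Cz z} (a : π s ∉ MJ) (b : IsConj z s.1) (c : IsConj z (z * s)) : False := by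
  have ss : s * s = 1 := by obtain ⟨g, e⟩ := _root_.isConj_iff.1 b; exact Subtype.ext (e ▸ h.conj_sq g :)
  obtain ⟨x, hx, -⟩ := h.exists_x
  have e1 : π (s * x * s⁻¹ * x⁻¹) = thL := by
    rw [map_mul, map_mul, map_mul, map_inv, map_inv, hx, show π s * thL = thL * thL * π s from
      LinearEquiv.ext (LJ_semi (h.mem_LJ s) a)]; group
  have e2 : s * (s * x * s⁻¹ * x⁻¹) * s⁻¹ = (s * x * s⁻¹ * x⁻¹)⁻¹ := by
    rw [← mul_assoc, ← mul_assoc, ← mul_assoc, ss, inv_eq_of_mul_eq_one_right ss]; simp [mul_assoc, inv_eq_of_mul_eq_one_right ss]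
  generalize s * x * s⁻¹ * x⁻¹ = y at e1 e2
  have e3 : y ^ 3 * y ^ 3 = 1 := by
    rcases h.cen_x e1 ((h.ker (y ^ 3)).1 (by rw [map_pow, e1, pow_three', th_pow])) (congrArg Subtype.val (Commute.self_pow y 3)) with e | e
    exacts [Subtype.ext (by rw [coe_mul, e, one_mul]; rfl), Subtype.ext (by rw [coe_mul, e, h.zz]; rfl)]
  have hx : π (y ^ 4) = thL := by rw [map_pow, e1, pow_succ, pow_three', th_pow, one_mul]
  have x3 : (y ^ 4) ^ 3 = 1 := by rw [← pow_mul, show 4 * 3 = (3 + 3) * 2 from rfl, pow_mul, pow_add, e3, one_pow]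
  have e4 : s * y ^ 4 * s⁻¹ ∈ zpowers (y ^ 4) := by rw [← conj_pow, e2, inv_pow]; exact inv_mem (mem_zpowers _)
  clear e1 e2 e3
  generalize y ^ 4 = x at *
  obtain ⟨E, j⟩ := h.main hx hG x3
  have := E6.finite
  obtain ⟨m, m1, m2⟩ := exists_conj_le_sylow (Q := zpowers (π s)) Nat.prime_two (T8_NJ.trans NJ_LJ) card_T8 (by rw [card_LJ]; norm_num)
    (zpowers_le.2 (h.mem_LJ s)) (.of_card_dvd_pow (n := 1) (by
      rw [Nat.card_zpowers]; exact orderOf_dvd_of_pow_eq_one (by rw [pow_one, pow_two, ← map_mul, ss, map_one])))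
  obtain ⟨k, rfl, k1⟩ : ∃ k : Cz z, π k = m ∧ k * x * k⁻¹ ∈ zpowers x := by
    by_cases c : m ∈ MJ
    · exact (h.lift_x hx x3 c).imp fun k d => ⟨d.1, by rw [d.2, mul_inv_cancel_right]; exact mem_zpowers x⟩
    · exact (j.lift_n m1 c).imp fun k d => ⟨d.1, by rw [d.2]; exact mul_mem (mem_zpowers x) (mem_zpowers x)⟩
  have n1 : k * s * k⁻¹ ∈ normalizer (zpowers x : Set (Cz z)) := mul_mem (mul_mem (mem_nz k1) (mem_nz e4)) (inv_mem (mem_nz k1))
  have n2 := h.nrm_A (k := k * s * k⁻¹) fun u => NJ_U (T8_NJ (by simpa using m2 _ (mem_zpowers _)))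
  have n3 : π (k * s * k⁻¹) ∉ MJ := fun i => a (by
    have : (MJ.subgroupOf LJ).Normal := normal_of_index_eq_two idx_MJ
    simpa [mem_subgroupOf, mul_assoc] using this.conj_mem ⟨_, h.mem_LJ (k * s * k⁻¹)⟩ i ⟨_, h.mem_LJ k⁻¹⟩)
  have b' := b.trans (isConj_cj k.1 s)
  have c' := c.trans (isConj_cj k.1 _)
  rw [← conj_mul, mem_Cz'.1 k.2] at c'
  have s2 : k * s * k⁻¹ * (k * s * k⁻¹) = 1 := by rw [conj_mul, ss]; simp
  obtain ⟨r, r1, r2⟩ := h.cl1 hG n2 (fun i => n3 (B_MJ (h.A_B i))) h.z_A b' c'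
  change r * (k * s * k⁻¹ : Cz z) * r⁻¹ = z * (k * s * k⁻¹ : Cz z) at r2
  generalize k * s * k⁻¹ = t at *
  have ti : t.1⁻¹ = t := congrArg Subtype.val (inv_eq_of_mul_eq_one_right s2)
  have r3 : t * r * t.1⁻¹ = r * z := by
    rw [h.A_inv r1] at r2
    rw [← mul_right_inj r, ← mul_assoc, ← mul_assoc, r2, mul_inv_cancel_right, ← mul_assoc, h.A_sq r1, one_mul]
  have xA := j.x_nA
  have q1 := h.cj_mem xA r1
  have q2 := h.cj_mem xA q1
  have cz : ∀ y, x * (y * z) * x.1⁻¹ = x * y * x.1⁻¹ * z := fun y => by rw [← conj_mul, mem_Cz'.1 x.2]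
  have xx : x.1 * x * x = 1 := congrArg Subtype.val j.xxx
  have x2 : ∀ {y : G}, x.1 * (x * (x * y * x.1⁻¹) * x.1⁻¹) * x.1⁻¹ = y := fun {y} => by
    rw [show x.1 * (x * (x * y * x.1⁻¹) * x.1⁻¹) * x.1⁻¹ = x.1 * x * x * y * (x.1 * x * x)⁻¹ by group, xx]; simp
  refine j.f1 (mul_mem (mul_mem r1 q1) q2) (mem_Cz.2 ?_) (_root_.isConj_iff.2 ⟨t, ?_⟩)
  · rw [eq_comm, ← mul_inv_eq_iff_eq_mul, ← conj_mul, ← conj_mul, x2, h.A_comm (mul_mem q1 q2) r1, ← mul_assoc r]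
  · have tz : ∀ {a b c}, b ∈ h.A → c ∈ h.A → a * z * (b * z) * (c * z) = a * b * c * z := fun {a b c} hb hc => by
      rw [h.A_comm hb h.z_A, ← mul_assoc, ← mul_assoc, mul_assoc a, h.zz, mul_one]
    rw [← conj_mul, ← conj_mul]
    rcases (zp3 x3).1 ((mem_normalizer_iff.1 n1 x).1 (mem_zpowers x)) with o | o | o
    · exact absurd (by rw [← hx, conj_eq_one_iff.1 o, map_one]) th_ne
    · have o' : ∀ y : G, t * (x * y * x.1⁻¹) * t.1⁻¹ = x * (t * y * t.1⁻¹) * x.1⁻¹ := fun y => by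
        conv_rhs => rw [← o]
        simp [mul_assoc]
      simp only [o', r3, cz]
      exact tz q1 q2
    · have o' : ∀ y : G, t * (x * y * x.1⁻¹) * t.1⁻¹ = x * (x * (t * y * t.1⁻¹) * x.1⁻¹) * x.1⁻¹ := fun y => by
        rw [show x * (x * (t * y * t.1⁻¹) * x.1⁻¹) * x.1⁻¹ = (x * x).1 * (t * y * t.1⁻¹) * (x * x).1⁻¹ by simp [mul_assoc], ← o]
        simp [mul_assoc]
      simp only [o', r3, cz, x2]
      rw [tz q2 q1, mul_assoc r, h.A_comm q2 q1, ← mul_assoc]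
end JT0
end
end H13
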