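import Cfsg.Agent.H13.JC
/-! Groups of type `J4`: the normaliser of the Thompson subgroup. -/
set_option autoImplicit false
namespace H13
noncomputable section
open MulAction Cfsg H27 Subgroup
open scoped Pointwise
universe u
variable {G : Type u} [Group G] [Finite G] {z : G} {R : Subgroup G} {π : Cz z →* AL V6} {P : V6 → G → Prop}
namespace JT0
variable (h : JT0 z R π P)
/-- the section of `R` determined by an element of order three -/
def mu (x : Cz z) (v : V6) : G := (h.ex (thL v)).choose * x * (h.ex (thL v)).choose⁻¹ * x.1⁻¹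
include h
variable {x : Cz z} (hx : π x = thL)
theorem mu_eq {v : V6} {y : G} (a : P (thL v) y) : h.mu x v = y * x * y⁻¹ * x.1⁻¹ := by
  rcases (h.uniq (h.ex (thL v)).choose_spec a).2 rfl with e | e <;> rw [e]
  · rfl
  · rw [mul_assoc _ z, ← mem_Cz.1 x.2, mu]; group
include hx
theorem mu_P (v : V6) : P v (h.mu x v) := by
  have a := (h.ex (thL v)).choose_spec
  have := h.mul a (h.act x (h.inv' a))
  rw [hx, ← qf6.eq_of ((add_assoc ..).symm.trans (th3 v))] at this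
  simpa [mu, mul_assoc] using this
theorem mu_cj {k : Cz z} (a : k * x = x * k) (v : V6) : k * h.mu x v * k.1⁻¹ = h.mu x (π k v) := by
  obtain ⟨y, b⟩ := h.ex (thL v)
  have c := h.act k b
  rw [show π k (thL v) = thL (π k v) from hx ▸ LinearEquiv.ext_iff.1 ((map_mul π ..).symm.trans ((congrArg π a).trans
    (map_mul π ..))) v] at c
  have d : (k : G) * x * k.1⁻¹ = x := mul_inv_eq_iff_eq_mul.2 (congrArg Subtype.val a)
  rw [h.mu_eq b, h.mu_eq c]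
  conv_rhs => rw [← d]
  simp [mul_assoc]
theorem mu_add (v w : V6) : h.mu x (v + w) = h.mu x w * z ^ (pol q6 (thL v) w).val * h.mu x v := by
  obtain ⟨a, b⟩ := h.ex (thL v)
  obtain ⟨c, d⟩ := h.ex (thL w)
  rw [← h.cj_zp b (h.mu_P hx w), h.mu_eq b, h.mu_eq d, h.mu_eq (map_add thL v w ▸ h.mul b d)]
  group
theorem mu_zero : h.mu x 0 = 1 := by rw [h.mu_eq (y := 1) (by simpa using h.zero.1)]; simp
theorem mu_U {u v : V6} (a : u ∈ U6s) (b : v ∈ U6s) : h.mu x (u + v) = h.mu x u * h.mu x v := by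
  rw [add_comm, h.mu_add hx, U_pol (U_th b) a]; simp
theorem cj_x (x3 : x ^ 3 = 1) {y : Cz z} (a : π y = thL) (b : y ^ 3 = 1) : ∃ r : Cz z, r.1 ∈ R ∧ r * x * r⁻¹ = y := by
  obtain ⟨v, c⟩ := h.ex' (y * x⁻¹ : Cz z) ((h.ker _).1 (by rw [map_mul, map_inv, a, hx, mul_inv_cancel]))
  obtain ⟨r, d⟩ := h.ex (thL v)
  refine ⟨⟨r, h.le (h.mem d)⟩, h.mem d, Subtype.ext ?_⟩
  rcases (h.uniq (h.mu_P hx v) c).2 rfl with e | e <;> rw [h.mu_eq d] at e
  · exact (mul_right_cancel e).symm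
  have f : (y : G) = r * x * r⁻¹ * z := by
    rw [mul_assoc _ _ z, mem_Cz.1 ((Cz z).inv_mem x.2), ← mul_assoc] at e; exact mul_right_cancel e
  have := congrArg Subtype.val b
  rw [coe_pow, f, Commute.mul_pow (mem_Cz.1 (mul_mem (mul_mem (h.le (h.mem d)) x.2) (inv_mem (h.le (h.mem d))))), conj_pow,
    ← coe_pow, x3, pow_succ, pow_two, h.zz] at this
  exact absurd (by simpa using this) h.z_ne
theorem lift_x (x3 : x ^ 3 = 1) {m : AL V6} (a : m ∈ MJ) : ∃ k : Cz z, π k = m ∧ k * x = x * k := by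
  obtain ⟨k, rfl⟩ := h.lift (MJ_LJ a)
  obtain ⟨r, b, c⟩ := h.cj_x hx x3 (y := k * x * k⁻¹) (by
    rw [map_mul, map_mul, map_inv, hx, mem_Cz.1 (MJ_lin a), mul_inv_cancel_right]) (by rw [conj_pow, x3]; simp)
  refine ⟨r⁻¹ * k, by rw [map_mul, map_inv, (h.ker _).2 b, inv_one, one_mul], ?_⟩
  calc r⁻¹ * k * x = r⁻¹ * (k * x * k⁻¹) * k := by group
    _ = _ := by rw [← c]; group
theorem uniq_x {k l : Cz z} (a : k * x = x * k) (b : l * x = x * l) (c : π k = π l) : l.1 = k ∨ l.1 = k * z := by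
  have := h.cen_x hx (y := (k⁻¹ * l : Cz z)) ((h.ker _).1 (by rw [map_mul, map_inv, c, inv_mul_cancel]))
    (congrArg Subtype.val ((Commute.inv_left a).mul_left b).symm)
  rwa [coe_mul, coe_inv, inv_mul_eq_one, inv_mul_eq_iff_eq_mul, eq_comm] at this
theorem mu_A {u : V6} (a : u ∈ U6s) : h.mu x u ∈ h.A := h.sub_A ⟨u, a, h.mu_P hx u⟩
theorem mem_A {k : Cz z} (a : k * x = x * k) (b : π k ∈ B06) : k.1 ∈ h.A := fun y hy =>
  mem_Cz.1 (h.sub_le_of (W := Cz k.1) (mem_Cz.2 (mem_Cz.1 k.2).symm) (fun u c => ⟨_, mem_Cz.2 (by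
    have := h.mu_cj hx a u
    rw [B06_fix b c] at this
    exact (mul_inv_eq_iff_eq_mul.1 this).symm), h.mu_P hx u⟩) hy)
theorem mu_k {k : Cz z} (a : k * x = x * k) (v : V6) : h.mu x v * k * (h.mu x v)⁻¹ =
    z ^ (pol q6 (thL (π k v)) v + q6 v).val * h.mu x (π k v + v) * k := by
  have c : ∀ n : ℕ, ∀ y ∈ Cz z, y * z ^ n = z ^ n * y := fun n y d => (Commute.pow_right (mem_Cz.1 d) n).eq
  have m := h.le (h.mem (h.mu_P hx v))
  have e : (h.mu x v)⁻¹ = z ^ (q6 v).val * h.mu x v := inv_eq_of_mul_eq_one_left (by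
    rw [mul_assoc, h.sq_zp (h.mu_P hx v), ← h.zp_add, z2_two]; simp)
  rw [h.mu_add hx, c _ _ m, ← mul_assoc, ← mul_assoc, ← h.zp_add, add_right_comm, z2_two, zero_add, ← h.mu_cj hx a, e,
    ← mul_assoc, c _ _ (mul_mem m k.2)]
  group

instance cgA : CommGroup h.A := { (inferInstance : Group h.A) with mul_comm := fun a b => Subtype.ext (h.A_comm a.2 b.2) }
/-- the action of the normaliser -/
def rho : normalizer (h.A : Set G) →* AL (Additive h.A) := MonoidHom.mk'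
  (fun k => (MulEquiv.toAdditive (h.A.normalizerMonoidHom k)).toIntLinearEquiv) fun a b => by ext; simp
omit hx in
theorem ker_rho : h.rho.ker = h.A.subgroupOf (normalizer (h.A : Set G)) := Subgroup.ext fun k =>
  ⟨fun a => h.cen_A.le fun y b => (mul_inv_eq_iff_eq_mul.1 (congrArg (fun w : Additive h.A => (w.toMul : G))
    (LinearEquiv.ext_iff.1 a (Additive.ofMul ⟨y, b⟩)))).symm, fun a => LinearEquiv.ext fun w =>
      Subtype.ext (mul_inv_eq_iff_eq_mul.2 (h.A_comm a w.toMul.2))⟩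
/-- the enumeration of `A` -/
def eA (c : Fin 4 → h.A) (a : ℕ) : h.A := cond (a.testBit 0) ⟨z, h.sub_A (h.z_sub _)⟩ 1 * ⟨_, h.mu_A hx (xs_U (a >>> 1))⟩ *
  (cond (a.testBit 7) (c 0) 1 * cond (a.testBit 8) (c 1) 1 * cond (a.testBit 9) (c 2) 1 * cond (a.testBit 10) (c 3) 1)
theorem eA_xor (c : Fin 4 → h.A) (a b : ℕ) : h.eA hx c (a ^^^ b) = h.eA hx c a * h.eA hx c b := by
  have k : ∀ (g : h.A) (s t : Bool), cond (s ^^ t) g 1 = cond s g 1 * cond t g 1 := fun g s t => by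
    cases s <;> cases t <;> simp [Subtype.ext_iff, h.A_sq g.2]
  have l : (⟨_, h.mu_A hx (xs_U ((a ^^^ b) >>> 1))⟩ : h.A) = ⟨_, h.mu_A hx (xs_U (a >>> 1))⟩ * ⟨_, h.mu_A hx (xs_U (b >>> 1))⟩ :=
    Subtype.ext ((congrArg (h.mu x) (by rw [Nat.shiftRight_xor_distrib, xsum_xor, v6_xor])).trans (h.mu_U hx (xs_U _) (xs_U _)))
  simp only [eA, Nat.testBit_xor, k, l]
  ac_rfl
theorem eA_mu (c : Fin 4 → h.A) {a : ℕ} (l : a < 128) :
    (h.eA hx c a : G) = z ^ (a % 2) * h.mu x (v6 (xsum uB (a >>> 1))) := by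
  have k : ∀ j ≥ 7, a.testBit j = false := fun j b => Nat.testBit_lt_two_pow (l.trans_le (Nat.pow_le_pow_right two_pos b))
  rw [eA, k 7 le_rfl, k 8 (by norm_num), k 9 (by norm_num), k 10 (by norm_num), Nat.testBit_zero]
  rcases Nat.mod_two_eq_zero_or_one a with e | e <;> simp [e]
theorem mu0 : h.mu x (v6 0) = 1 := (congrArg _ E6.zero).trans (h.mu_zero hx)
theorem eA_val (c : Fin 4 → h.A) {a : ℕ} (u : ℕ) (t b₀ b₁ b₂ b₃ : Bool) (e : xsum uB (a >>> 1) = u ∧ a.testBit 0 = t ∧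
    a.testBit 7 = b₀ ∧ a.testBit 8 = b₁ ∧ a.testBit 9 = b₂ ∧ a.testBit 10 = b₃) : (h.eA hx c a : G) =
    cond t z 1 * h.mu x (v6 u) * (cond b₀ (c 0).1 1 * cond b₁ (c 1).1 1 * cond b₂ (c 2).1 1 * cond b₃ (c 3).1 1) := by
  obtain ⟨rfl, rfl, rfl, rfl, rfl, rfl⟩ := e
  simp [eA, Bool.apply_cond (f := Subtype.val)]
theorem eA_c (c : Fin 4 → h.A) (j : Fin 4) : h.eA hx c (2 ^ (7 + j.1)) = c j := Subtype.ext (by
  rw [h.eA_val hx c 0 false (j = 0) (j = 1) (j = 2) (j = 3) (by revert j; decide), h.mu0 hx]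
  fin_cases j <;> simp)
theorem eA_one (c : Fin 4 → h.A) : (h.eA hx c 1 : G) = z := by
  rw [h.eA_val hx c 0 true false false false false (by decide), h.mu0 hx]; simp
theorem exE {c : Fin 4 → h.A} (hc : ∀ j, π ⟨c j, h.A_le (c j).2⟩ = nth 1 gB6 j) :
    ∃ E : BE (Additive h.A) 11, ∀ a, E.e a = Additive.ofMul (h.eA hx c a) := by
  have z0 : h.eA hx c 0 = 1 := by have := h.eA_xor hx c 0 0; rw [Nat.xor_self] at this; exact left_eq_mul.1 this
  let K : Subgroup G :=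
    { carrier := {y | ∃ a < 2 ^ 11, (h.eA hx c a : G) = y}
      one_mem' := ⟨0, by norm_num, congrArg _ z0⟩
      mul_mem' := by
        rintro _ _ ⟨a, u, rfl⟩ ⟨b, v, rfl⟩
        exact ⟨_, Nat.xor_lt_two_pow u v, congrArg _ (h.eA_xor hx c a b)⟩
      inv_mem' := by
        rintro _ ⟨a, u, rfl⟩
        exact ⟨a, u, eq_inv_of_mul_eq_one_left (h.A_sq (h.eA hx c a).2)⟩ }
  have l : K ≤ h.A := by rintro _ ⟨a, -, rfl⟩; exact (h.eA hx c a).2
  have a1 : h.sub U6s ≤ K := h.sub_le_of ⟨1, by norm_num, h.eA_one hx c⟩ fun u b => by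
      obtain ⟨m, d, rfl⟩ := U_ex b
      exact ⟨_, ⟨2 * m, by omega, by rw [h.eA_mu hx c (by omega), Nat.shiftRight_one]; simp⟩, h.mu_P hx _⟩
  have a2 : B06 ≤ XQ.im π K := cl_le fun b d => by
    obtain ⟨j, rfl⟩ : ∃ j : Fin 4, nth 1 gB6 j = b := by
      simp only [gB6, List.mem_cons, List.not_mem_nil, or_false] at d
      rcases d with rfl | rfl | rfl | rfl
      exacts [⟨0, rfl⟩, ⟨1, rfl⟩, ⟨2, rfl⟩, ⟨3, rfl⟩]
    exact ⟨_, ⟨_, Nat.pow_lt_pow_right one_lt_two (by omega), congrArg _ (h.eA_c hx c j)⟩, hc j⟩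
  have sj : ∀ v : Additive h.A, ∃ a < 2 ^ 11, Additive.ofMul (h.eA hx c a) = v := fun v => by
    obtain ⟨k, a, b⟩ := a2 (h.A_B (k := ⟨v.toMul, h.A_le v.toMul.2⟩) v.toMul.2)
    obtain ⟨i, d, e⟩ := (K.mul_mem_cancel_left (K.inv_mem a)).1 (a1 (h.A_mod (l a) v.toMul.2 b))
    exact ⟨i, d, Subtype.ext e⟩
  have j := ((Nat.bijective_iff_surjective_and_card fun a : Fin (2 ^ 11) => Additive.ofMul (h.eA hx c a)).2
    ⟨fun v => by obtain ⟨a, b, d⟩ := sj v; exact ⟨⟨a, b⟩, d⟩, (Nat.card_fin _).trans h.card_A.symm⟩).1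
  exact ⟨⟨_, h.eA_xor hx c, sj, fun a b d => congrArg Fin.val (@j ⟨a, b⟩ 0 (d.trans z0.symm))⟩, fun _ => rfl⟩
theorem cols {E : BE (Additive h.A) 11} {c : Fin 4 → h.A} (hE : ∀ a, E.e a = Additive.ofMul (h.eA hx c a))
    {k : normalizer (h.A : Set G)} {A : List ℕ} (a : k.1 ∈ Cz z) (b : nth 0 A 0 = 1)
    (d : ∀ j < 6, k * h.mu x (v6 (nth 0 uB j)) * k.1⁻¹ = h.eA hx c (nth 0 A (j + 1)))
    (e : ∀ j : Fin 4, k * (c j : G) * k.1⁻¹ = h.eA hx c (nth 0 A (7 + j))) : E.Cols (h.rho k) A := E.cols_of fun j hj => by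
  rw [hE, hE]
  refine Subtype.ext ?_
  change k * (h.eA hx c (2 ^ j) : G) * k.1⁻¹ = h.eA hx c (nth 0 A j)
  rcases (by revert j; decide : j = 0 ∨ (∃ i < 6, j = i + 1) ∨ ∃ i : Fin 4, j = 7 + i) with rfl | ⟨i, l, rfl⟩ | ⟨i, rfl⟩
  · rw [b, pow_zero, h.eA_one hx, mem_Cz'.1 a]
  · rw [← d i l, h.eA_mu hx c (Nat.pow_lt_pow_right one_lt_two (by omega : _ < 7)), pow_succ, Nat.mul_mod_left,
      Nat.shiftRight_one, Nat.mul_div_cancel _ two_pos, xsum_pow, pow_zero, one_mul]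
  · rw [h.eA_c hx, e]
theorem colsK {E : BE (Additive h.A) 11} {c : Fin 4 → h.A} (hE : ∀ a, E.e a = Additive.ofMul (h.eA hx c a))
    {k : Cz z} (a : k * x = x * k) (n : k.1 ∈ normalizer (h.A : Set G)) {B A : List ℕ} (b : E6.Cols (π k) B)
    (d : nth 0 A 0 = 1 ∧ ∀ j < 6, nth 0 uB j < 2 ^ 12 ∧ nth 0 A (j + 1) < 128 ∧ nth 0 A (j + 1) % 2 = 0 ∧
      xsum uB (nth 0 A (j + 1) >>> 1) = xsum B (nth 0 uB j))
    (e : ∀ j : Fin 4, k * (c j : G) * k.1⁻¹ = h.eA hx c (nth 0 A (7 + j))) : E.Cols (h.rho ⟨k, n⟩) A :=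
  h.cols hx hE k.2 d.1 (fun j l => by
    obtain ⟨s, t, u, v⟩ := d.2 j l
    rw [h.eA_mu hx c t, u, v, pow_zero, one_mul]
    exact (h.mu_cj hx a _).trans (congrArg _ (b _ s))) e
theorem exc (x3 : x ^ 3 = 1) : ∃ k₁ k₂ c₁ c₂ c₃ c₄ : Cz z, (∀ k ∈ [k₁, k₂, c₁, c₂, c₃, c₄], k * x = x * k) ∧
    List.Forall₂ (π · = ·) [k₁, k₂, c₁, c₂, c₃, c₄] (nA6 :: nBJ :: gB6) ∧ k₁ * c₁ * k₁⁻¹ = c₂ ∧ k₁ * c₂ * k₁⁻¹ = c₃ ∧
      k₁ * c₃ * k₁⁻¹ = c₄ ∧ k₁ * c₄ * k₁⁻¹ = c₁ * c₂ * c₃ * c₄ := by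
  obtain ⟨k, k1, k2⟩ := h.lift_x hx x3 (mem_MJ nA6 (by simp))
  obtain ⟨l, l1, l2⟩ := h.lift_x hx x3 (mem_MJ nBJ (by simp))
  obtain ⟨⟨r1, r2, r3, r4⟩, -⟩ := B06_rel
  have cj : ∀ {c : Cz z}, c * x = x * c → k * c * k⁻¹ * x = x * (k * c * k⁻¹) := fun a =>
    (Commute.mul_left k2 a).mul_left (Commute.inv_left k2)
  have pj : ∀ {c b}, π c = b → π (k * c * k⁻¹) = nA6 * b * nA6⁻¹ := fun a => by rw [map_mul, map_mul, map_inv, k1, a]
  suffices ∃ c, π c = bb1 ∧ c * x = x * c ∧ k * (k * (k * (k * c * k⁻¹) * k⁻¹) * k⁻¹) * k⁻¹ =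
      c * (k * c * k⁻¹) * (k * (k * c * k⁻¹) * k⁻¹) * (k * (k * (k * c * k⁻¹) * k⁻¹) * k⁻¹) by
    obtain ⟨c, c1, c2, c3⟩ := this
    refine ⟨k, l, c, _, _, _, by simpa only [List.forall_mem_cons] using ⟨k2, l2, c2, cj c2, cj (cj c2), cj (cj (cj c2)), by simp⟩,
      .cons k1 (.cons l1 (.cons c1 (.cons (r1 ▸ pj c1) (.cons (r2 ▸ pj (r1 ▸ pj c1)) (.cons (r3 ▸ pj (r2 ▸ pj (r1 ▸ pj c1)))
        .nil))))), rfl, rfl, rfl, c3⟩
  obtain ⟨c, c1, c2⟩ := h.lift_x hx x3 (m := bb1) (B_MJ (mem_cl (by simp [gB6])))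
  rcases h.uniq_x hx ((Commute.mul_left (Commute.mul_left c2 (cj c2)) (cj (cj c2))).mul_left (cj (cj (cj c2))))
    (cj (cj (cj (cj c2)))) (by
      rw [map_mul, map_mul, map_mul, pj (pj (pj (pj c1))), pj (pj (pj c1)), pj (pj c1), pj c1, c1, r1, r2, r3, r4]) with e | e
  · exact ⟨c, c1, c2, Subtype.ext e⟩
  let t : Cz z := ⟨z, self_mem_Cz z⟩
  have t1 : ∀ a, t * a = a * t := fun a => Subtype.ext (mem_Cz.1 a.2).symm
  have t2 : t * t = 1 := Subtype.ext h.zz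
  have t3 : ∀ a, k * (a * t) * k⁻¹ = k * a * k⁻¹ * t := fun a => by rw [← mul_assoc, mul_assoc _ t, t1, ← mul_assoc]
  have t4 : ∀ a b, a * t * (b * t) = a * b := fun a b => by rw [mul_assoc, ← mul_assoc t, t1, mul_assoc b, t2, mul_one]
  refine ⟨c * t, by rw [map_mul, (h.ker t).2 h.zm, c1, mul_one], Commute.mul_left c2 (t1 x), ?_⟩
  simp only [t3]
  rw [show k * _ * k⁻¹ = _ * t from Subtype.ext e, mul_assoc _ t t, t2, mul_one, t4, mul_assoc _ (_ * t), t4]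
  simp only [mul_assoc]
omit hx in
theorem conjJ [IsSimpleGroup G] (hG : ¬ IsMulCommutative G) {u : V6} {y : G} (a : P u y) (b : u ∈ SJ) : IsConj z y := by
  obtain ⟨g, c, d⟩ := h.exg hG
  obtain ⟨v, e⟩ := h.ex' _ c
  have n : v ≠ 0 := fun f => ((h.iff e).2 f).elim (h.conj_ne_one g) d
  obtain ⟨k, f⟩ := h.tr e a ((orbJ MJ_LJ le_rfl).1 ▸ (singJ ((h.sq' e).1 (h.conj_sq g)) n).resolve_right (h.notK e))
    ((orbJ MJ_LJ le_rfl).1 ▸ b) (djJ (.inl b)).1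
  exact _root_.isConj_iff.2 ⟨k * g, by rw [← f]; simp [mul_assoc]⟩
omit hx in
theorem R_nA {y : G} (a : y ∈ R) : y ∈ normalizer (h.A : Set G) :=
  h.nrm_A (k := ⟨_, h.le a⟩) fun u b => by rwa [(h.ker _).2 a]
omit hx in
/-- coordinates on `A` -/
structure JN (x : Cz z) (E : BE (Additive h.A) 11) : Prop where
  hx : π x = thL
  x3 : x ^ 3 = 1
  rg : h.rho.range = G24 E
  zt : ∀ w, IsConj z (w.toMul : G) ↔ w ∈ mset 2048 E.e XZ
  lo : ∀ a < 128, ((E.e a).toMul : G) = z ^ (a % 2) * h.mu x (v6 (xsum uB (a >>> 1)))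
  cc : ∀ j < 4, ∃ c : Cz z, c * x = x * c ∧ π c = nth 1 gB6 j ∧ ((E.e (2 ^ (7 + j))).toMul : G) = c
  cy : E.Cols (h.rho ⟨_, h.R_nA (h.mem (h.mu_P hx (v6 1)))⟩) cWy
  zc : z ∈ ⁅Cz z ⊓ Cz x.1, Cz z ⊓ Cz x.1⁆
theorem main [IsSimpleGroup G] (hG : ¬ IsMulCommutative G) (x3 : x ^ 3 = 1) : ∃ E, h.JN x E := by
  obtain ⟨k₁, k₂, c₁, c₂, c₃, c₄, m, p, r1, r2, r3, r4⟩ := h.exc hx x3
  simp only [List.forall_mem_cons] at m
  obtain ⟨m1, m2, m3, m4, m5, m6, -⟩ := m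
  simp only [gB6, List.forall₂_cons] at p
  obtain ⟨p1, p2, p3, p4, p5, p6, -⟩ := p
  obtain ⟨s1, s2, s3, s4⟩ := B_relJ
  have b : ∀ {k b}, k * x = x * k → π k = b → b ∈ gB6 → k.1 ∈ h.A := fun u v w => h.mem_A hx u (v ▸ mem_cl w)
  let c : Fin 4 → h.A := ![⟨_, b m3 p3 (by simp [gB6])⟩, ⟨_, b m4 p4 (by simp [gB6])⟩, ⟨_, b m5 p5 (by simp [gB6])⟩,
    ⟨_, b m6 p6 (by simp [gB6])⟩]
  obtain ⟨E, hE⟩ := h.exE hx (c := c) fun j => by fin_cases j <;> assumption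
  have n1 := h.nrm_A (k := k₁) fun u => NJ_U (p1 ▸ mem_NJ _ (by simp))
  have n2 := h.nrm_A (k := k₂) fun u => NJ_U (p2 ▸ mem_NJ _ (by simp))
  have y1 := h.mu_P hx (v6 1)
  have n3 := h.R_nA (h.mem y1)
  have q1 := h.colsK hx hE m1 n1 (p1 ▸ nA6_c) (A := cW1) (by decide +kernel) fun j => by
    fin_cases j
    exacts [(congrArg Subtype.val r1).trans (congrArg Subtype.val (h.eA_c hx c 1)).symm,
      (congrArg Subtype.val r2).trans (congrArg Subtype.val (h.eA_c hx c 2)).symm,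
      (congrArg Subtype.val r3).trans (congrArg Subtype.val (h.eA_c hx c 3)).symm, (congrArg Subtype.val r4).trans (by
        rw [h.eA_val hx c 0 false true true true true (by decide), h.mu0 hx]; simp [c])]
  have w : ∀ {d e : Cz z} (a : ℕ) (b₀ b₁ b₂ b₃ : Bool), d * x = x * d → e * x = x * e → π e = π k₂ * π d * (π k₂)⁻¹ →
      (∀ t < 2, xsum uB ((a + t) >>> 1) = 0 ∧ (a + t).testBit 0 = decide (t = 1) ∧ (a + t).testBit 7 = b₀ ∧
        (a + t).testBit 8 = b₁ ∧ (a + t).testBit 9 = b₂ ∧ (a + t).testBit 10 = b₃) →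
      e = cond b₀ c₁ 1 * cond b₁ c₂ 1 * cond b₂ c₃ 1 * cond b₃ c₄ 1 → ∃ t < 2, k₂ * d.1 * k₂.1⁻¹ = h.eA hx c (a + t) ∧
        k₂ * d.1 * k₂.1⁻¹ = e * z ^ t := fun {d e} a b₀ b₁ b₂ b₃ u v s t r => by
    have f := fun i j => h.eA_val hx c _ _ _ _ _ _ (t i j)
    have g : (e : G) = cond b₀ (c 0).1 1 * cond b₁ (c 1).1 1 * cond b₂ (c 2).1 1 * cond b₃ (c 3).1 1 := by
      simp [r, c, Bool.apply_cond (f := Subtype.val)]
    rw [← g, h.mu0 hx] at f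
    rcases h.uniq_x hx v ((Commute.mul_left m2 u).mul_left (Commute.inv_left m2)) (by simp [s]) with o | o
    · exact ⟨0, two_pos, by rw [f 0 two_pos]; simpa using o, by simpa using o⟩
    · exact ⟨1, one_lt_two, by rw [f 1 one_lt_two]; simpa [mem_Cz.1 e.2] using o, by simpa using o⟩
  obtain ⟨t1, l1, e1, f1⟩ := w 1536 false false true true m3 (Commute.mul_left m5 m6) (by simp [*]) (by decide) (by simp)
  obtain ⟨t2, l2, e2, -⟩ := w 1664 true false true true m4 ((Commute.mul_left m3 m5).mul_left m6) (by simp [*]) (by decide)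
    (by simp)
  obtain ⟨t3, l3, e3, -⟩ := w 768 false true true false m5 (Commute.mul_left m4 m5) (by simp [*]) (by decide) (by simp)
  obtain ⟨t4, l4, e4, -⟩ := w 1920 true true true true m6 (((Commute.mul_left m3 m4).mul_left m5).mul_left m6) (by simp [*])
    (by decide) (by simp)
  obtain ⟨l, l0, rfl, rfl, rfl, rfl⟩ : ∃ l < 16, l % 2 = t1 ∧ l / 2 % 2 = t2 ∧ l / 4 % 2 = t3 ∧ l / 8 % 2 = t4 :=
    ⟨t1 + 2 * t2 + 4 * t3 + 8 * t4, by omega⟩
  have q2 := h.colsK hx hE m2 n2 (B := lcol (nth [] lJ 4)) (by rw [p2]; exact nel_c (lJ_chk (i := 4))) (A := cW2 l) ⟨rfl, fun j hj => by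
    have := (by decide +kernel : ∀ j < 6, nth 0 uB j < 2 ^ 12 ∧ nth 0 (cW2 0) (j + 1) < 128 ∧ nth 0 (cW2 0) (j + 1) % 2 = 0 ∧
      xsum uB (nth 0 (cW2 0) (j + 1) >>> 1) = xsum (lcol (nth [] lJ 4)) (nth 0 uB j)) j hj
    interval_cases j <;> exact this⟩ fun j => by
    fin_cases j
    exacts [e1, e2, e3, e4]
  have cz : ∀ n : ℕ, ∀ y ∈ R, y * z ^ n = z ^ n * y := fun n y d => (Commute.pow_right (h.comm d) n).eq
  have w' : ∀ {d : Cz z} {B : List ℕ} (a u : ℕ) (t b₀ b₁ b₂ b₃ : Bool), d * x = x * d → E6.Cols (π d) B →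
      (xsum B 1 ^^^ 1 = u ∧ (pol q6 (th • v6 (xsum B 1)) (v6 1) + q6 (v6 1)).val = cond t 1 0) →
      (xsum uB (a >>> 1) = u ∧ a.testBit 0 = t ∧ a.testBit 7 = b₀ ∧ a.testBit 8 = b₁ ∧ a.testBit 9 = b₂ ∧ a.testBit 10 = b₃) →
      d.1 = cond b₀ c₁.1 1 * cond b₁ c₂.1 1 * cond b₂ c₃.1 1 * cond b₃ c₄.1 1 →
      h.mu x (v6 1) * d * (h.mu x (v6 1))⁻¹ = h.eA hx c a := fun a u t b₀ b₁ b₂ b₃ i j k l m => by
    rw [h.mu_k hx i, show π _ (v6 1) = _ from j 1 (by norm_num), h.eA_val hx c u t b₀ b₁ b₂ b₃ l, m, thL_apply]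
    change z ^ (pol q6 (th • v6 _) _ + _).val * h.mu x (v6 _ + _) * _ = _
    rw [k.2, ← v6_xor, k.1]
    cases t <;> simp [c]
  have q3 := h.cols hx hE (k := ⟨_, n3⟩) (A := cWy) (h.le (h.mem y1)) rfl (fun j hj => by
    obtain ⟨u, v, t⟩ := (by decide +kernel : ∀ j < 6, nth 0 cWy (j + 1) < 128 ∧ xsum uB (nth 0 cWy (j + 1) >>> 1) = nth 0 uB j ∧
      nth 0 cWy (j + 1) % 2 = (pol q6 (v6 1) (v6 (nth 0 uB j))).val) j hj
    rw [h.eA_mu hx c u, v, t, ← cz _ _ (h.mem (h.mu_P hx _))]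
    exact h.cj_zp y1 (h.mu_P hx _)) fun j => by
    fin_cases j
    exacts [w' 128 _ false true false false false m3 (p3 ▸ bb1_c) ⟨rfl, by decide +kernel⟩ (by decide +kernel) (by simp),
      w' 344 _ false false true false false m4 (p4 ▸ bb2_c) ⟨rfl, by decide +kernel⟩ (by decide +kernel) (by simp),
      w' 627 _ true false false true false m5 (p5 ▸ bb3_c) ⟨rfl, by decide +kernel⟩ (by decide +kernel) (by simp),
      w' 1027 _ true false false false true m6 (p6 ▸ bb4_c) ⟨rfl, by decide +kernel⟩ (by decide +kernel) (by simp)]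
  have z1 : ((E.e 1).toMul : G) = z := by rw [hE]; exact h.eA_one hx c
  have inv : ∀ g ∈ h.rho.range, ∀ w : Additive h.A, IsConj z ((g w).toMul : G) ↔ IsConj z (w.toMul : G) := by
    rintro _ ⟨k, rfl⟩ w
    have : IsConj (w.toMul : G) ((h.rho k w).toMul : G) := _root_.isConj_iff.2 ⟨k, rfl⟩
    exact ⟨fun a => a.trans this.symm, fun a => a.trans this⟩
  have tr : ∀ w : Additive h.A, IsConj z (w.toMul : G) → ∃ k, h.rho k (E.e 1) = w := fun w a => by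
    obtain ⟨g, e⟩ := _root_.isConj_iff.1 a
    obtain ⟨m, u, v⟩ := h.fus (h.sub_A (h.z_sub _)) (e ▸ w.toMul.2)
    exact ⟨⟨m, u⟩, Subtype.ext ((congrArg (m * · * m⁻¹) z1).trans (v.trans e))⟩
  have mu : ∀ a < 64, ((E.e (2 * a)).toMul : G) = h.mu x (v6 (xsum uB a)) := fun a b => by
    rw [hE]; exact (h.eA_mu hx c (by omega)).trans (by simp [Nat.shiftRight_one])
  obtain ⟨rfl, e⟩ := pin11 E (Z := {w | IsConj z (w.toMul : G)}) inv (fun w a => by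
      obtain ⟨k, b⟩ := tr w a; exact ⟨_, ⟨k, rfl⟩, b⟩)
    (by simp only [List.forall_mem_cons]; exact ⟨⟨_, rfl⟩, ⟨_, rfl⟩, ⟨_, rfl⟩, by simp⟩) l0 q1 q2 q3
    (fun a => h.z_ne (by simpa [E.zero] using a)) (z1.symm ▸ IsConj.refl z : IsConj z _)
    (fun a => by
      obtain ⟨g, e⟩ := _root_.isConj_iff.1 a
      have u := h.mu_P hx (v6 5)
      rw [← show _ = h.mu x (v6 5) from mu 1 (by norm_num), ← e] at u
      exact h.notK u ((orbJ le_rfl MJ_LJ).2 ▸ mem_orbit_self _))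
    (mu 5 (by norm_num) ▸ h.conjJ hG (h.mu_P hx _) ((orbJ le_rfl MJ_LJ).1 ▸ mem_orbit_self (v6 85)) : IsConj z _)
  refine ⟨E, hx, x3, ?_, Set.ext_iff.1 e, fun a b => by rw [hE]; exact h.eA_mu hx c b, fun j b => by
    rw [hE, h.eA_c hx c ⟨j, b⟩]
    interval_cases j
    exacts [⟨_, m3, p3, rfl⟩, ⟨_, m4, p4, rfl⟩, ⟨_, m5, p5, rfl⟩, ⟨_, m6, p6, rfl⟩], q3, ?_⟩
  · have := E.finite
    have le : h.rho.range ≤ G24 E := fun g a => (mem_G24 E).2 fun w => by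
      have u := inv g a w
      rw [show IsConj z _ ↔ _ from Set.ext_iff.1 e w, show IsConj z _ ↔ _ from Set.ext_iff.1 e (g w), mem_XZ, mem_XZ, Ne,
        map_eq_zero_iff _ g.injective] at u
      by_cases d : w = 0
      · rw [d, map_zero]
      · tauto
    refine eq_of_le_of_card_ge le ((card_G24 E).trans ?_)
    let _ := MulAction.compHom (Additive h.A) h.rho
    have a1 := card_ker_mul _ h.rho.rangeRestrict_surjective
    have a2 := (stabilizer (normalizer (h.A : Set G)) (E.e 1)).index_mul_card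
    rw [index_stabilizer, show orbit (normalizer (h.A : Set G)) (E.e 1) = _ from Eq.trans (Set.ext fun w => ⟨by
      rintro ⟨k, rfl⟩; exact (inv _ ⟨k, rfl⟩ _).2 (z1.symm ▸ IsConj.refl z), tr w⟩) e, card_XZ] at a2
    rw [MonoidHom.ker_rangeRestrict, h.ker_rho, H1.card_subgroupOf_of_le le_normalizer, h.card_A] at a1
    have l1 : (NJ.comap π).map (Cz z).subtype ≤ normalizer (h.A : Set G) := by
      rintro _ ⟨k, a, rfl⟩; exact h.nrm_A fun u => NJ_U a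
    have a3 := h.card_im (map_subtype_le (NJ.comap π))
    rw [XQ.im, subgroupOf, comap_map_eq_self_of_injective (Cz z).subtype_injective, map_comap_eq_self (h.rng ▸ NJ_LJ),
      inf_eq_right.2 fun y a => ⟨⟨y, h.le a⟩, by simp [(h.ker ⟨y, h.le a⟩).2 a], rfl⟩, h.card,
      ← H1.card_subgroupOf_of_le l1] at a3
    have a4 := card_le_of_le (Q := stabilizer (normalizer (h.A : Set G)) (E.e 1))
      (P := ((NJ.comap π).map (Cz z).subtype).subgroupOf _) fun k a => Subtype.ext (by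
        change k * ((E.e 1).toMul : G) * k.1⁻¹ = ((E.e 1).toMul : G)
        rw [z1]; exact mem_Cz'.1 (map_subtype_le _ a))
    have := le_NJ
    omega
  · let C := Cz z ⊓ Cz x.1
    have m : ∀ {k : Cz z}, k * x = x * k → k.1 ∈ C := fun {k} a => ⟨k.2, mem_Cz.2 (congrArg Subtype.val a)⟩
    have d : ∀ {k c : Cz z}, k * x = x * k → c * x = x * c → (c.1 ∈ ⁅C, C⁆ ↔ (k * c * k⁻¹).1 ∈ ⁅C, C⁆) := fun a b =>
      ((⁅C, C⁆).mul_mem_cancel_left (commutator_mem_commutator (m a) (m b))).symm.trans (by simp [commutatorElement_def])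
    have d1 := d m1 m3
    have d2 := d m1 m4
    have d3 := d m1 m5
    have d4 := d m2 m3
    have d5 := commutator_mem_commutator (m m1) (m m3)
    have d6 := commutator_mem_commutator (m m1) (m m6)
    rw [r1] at d1
    rw [r2] at d2
    rw [r3] at d3
    rw [commutatorElement_def, show _ * _ * k₁.1⁻¹ = _ from congrArg Subtype.val r1, inv_eq_of_mul_eq_one_right
      (show c₁.1 * c₁ = 1 from h.A_sq (c 0).2), show c₂.1 * c₁ = c₁ * c₂ from h.A_comm (c 1).2 (c 0).2] at d5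
    rw [commutatorElement_def, show _ * _ * k₁.1⁻¹ = _ from congrArg Subtype.val r4, coe_mul, mul_inv_cancel_right, coe_mul] at d6
    have d7 := (mul_mem_cancel_left d5).1 d6
    have d8 := d4.1 (d1.2 (d2.2 d7))
    rw [show (k₂ * c₁ * k₂⁻¹).1 = _ from f1, coe_mul, mul_mem_cancel_left (mul_mem d7 (d3.1 d7))] at d8
    simpa using d8
end JT0
end
end H13
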