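import Cfsg.Agent.H13.JV
import Cfsg.Agent.H1.Gasch
/-! Groups of type `J4`: the normaliser of the subgroup of order `2 ^ 11` splits. -/
set_option autoImplicit false
namespace H13
noncomputable section
open MulAction Cfsg H27 Subgroup
open scoped Pointwise
universe u
variable {G : Type u} [Group G] [Finite G] {z : G} {R : Subgroup G} {π : Cz z →* AL V6} {P : V6 → G → Prop}
theorem th_pow : thL * thL * thL = 1 := LinearEquiv.ext th_cube
namespace JT0
variable {h : JT0 z R π P} {x : Cz z} {E : BE (Additive h.A) 11}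
namespace JN
variable (j : h.JN x E)
theorem mul (a b : ℕ) : ((E.e (a ^^^ b)).toMul : G) = (E.e a).toMul * (E.e b).toMul := by rw [E.xor]; rfl
include j
theorem one : ((E.e 1).toMul : G) = z := by rw [j.lo 1 (by norm_num)]; exact (congrArg (z ^ 1 * ·) (h.mu0 j.hx)).trans ((mul_one _).trans (pow_one z))
theorem mulz (a : ℕ) : ((E.e (a ^^^ 1)).toMul : G) = (E.e a).toMul * z := by rw [mul, j.one]
theorem ty {a : ℕ} (b : a < 2048) : IsConj z ((E.e a).toMul : G) ↔ XZ.testBit a = true := (j.zt _).trans (xz_iff E b)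
theorem xxx : x * x * x = 1 := by rw [← pow_three', j.x3]
theorem x_nA : x.1 ∈ normalizer (h.A : Set G) := h.nrm_A fun _ a => j.hx ▸ U_th a
theorem to_c {k : Cz z} (a : k * x = x * k) (b : π k = bb1) : k.1 = (E.e 128).toMul ∨ k.1 = (E.e 129).toMul := by
  obtain ⟨c, c1, c2, c3⟩ := j.cc 0 (by norm_num)
  rw [show 129 = 128 ^^^ 1 from rfl, j.mulz, show ((E.e 128).toMul : G) = c from c3]
  exact h.uniq_x j.hx c1 a (c2.trans b.symm)
theorem f1 {r : G} (a : r ∈ h.A) (b : r ∈ Cz x.1) : ¬ IsConj r (r * z) := fun c => by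
  by_cases d : r ∈ R
  · rcases h.cen_x j.hx d (mem_Cz.1 b).symm with e | e <;> rw [e] at c
    · exact h.z_ne (by simpa [eq_comm] using c)
    · exact h.z_ne (by simpa [h.zz] using c)
  obtain ⟨n, e, f⟩ := B_trJ (h.A_B (k := ⟨r, h.A_le a⟩) a) fun e => d ((h.ker _).1 e)
  obtain ⟨l, rfl, g⟩ := h.lift_x j.hx j.x3 e.2
  have i := j.to_c (k := l * ⟨r, h.A_le a⟩ * l⁻¹) ((Commute.mul_left g (Subtype.ext (mem_Cz.1 b))).mul_left (Commute.inv_left g))
    (by rwa [map_mul, map_mul, map_inv])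
  have m : IsConj (l * r * l.1⁻¹) (l * r * l.1⁻¹ * z) :=
    (isConj_cj _ _).symm.trans (c.trans (_root_.isConj_iff.2 ⟨l, by rw [← conj_mul, mem_Cz'.1 l.2]⟩))
  have o : ¬ (IsConj z ((E.e 128).toMul : G) ↔ IsConj z ((E.e 129).toMul : G)) := by
    rw [j.ty (by norm_num), j.ty (by norm_num)]; decide +kernel
  rcases i with i | i <;> rw [show l * r * l.1⁻¹ = _ from i, ← j.mulz] at m
  exacts [o ⟨fun s => s.trans m, fun s => s.trans m.symm⟩, o ⟨fun s => s.trans m.symm, fun s => s.trans m⟩]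
theorem lift_n {m : AL V6} (a : m ∈ LJ) (b : m ∉ MJ) : ∃ k : Cz z, π k = m ∧ k * x * k⁻¹ = x * x := by
  obtain ⟨k, rfl⟩ := h.lift a
  have c := (mem_NT.1 a.2).resolve_left fun c => b ⟨a, mem_Cz.2 c⟩
  obtain ⟨r, d, e⟩ := h.cj_x j.hx j.x3 (y := k * (x * x) * k⁻¹) (by
    rw [map_mul, map_mul, map_mul, map_inv, j.hx, ← mul_assoc, c, mul_assoc _ _ thL, c, ← mul_assoc, mul_inv_cancel_right,
      ← mul_assoc, th_pow, one_mul]) (by rw [conj_pow, ← pow_two, ← pow_mul, mul_comm, pow_mul, j.x3]; simp)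
  refine ⟨r⁻¹ * k, by rw [map_mul, map_inv, (h.ker _).2 d, inv_one, one_mul], ?_⟩
  calc r⁻¹ * k * x * (r⁻¹ * k)⁻¹ = r⁻¹ * k * (x * x * x * x) * (r⁻¹ * k)⁻¹ := by rw [j.xxx, one_mul]
    _ = r⁻¹ * (k * (x * x) * k⁻¹ * (k * (x * x) * k⁻¹)) * r := by group
    _ = _ := by rw [← e]; group
variable [IsSimpleGroup G] (hG : ¬ IsMulCommutative G)
include hG
theorem inv {k : Cz z} (a : k.1 ∈ normalizer (h.A : Set G)) (b : k * x * k⁻¹ = x ∨ k * x * k⁻¹ = x * x) (c : π k * π k = 1) :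
    k * k = 1 := Subtype.ext <| (h.cen_x j.hx ((h.ker (k * k)).1 (by rwa [map_mul])) (congrArg Subtype.val
      (show x * (k * k) = k * k * x from (mul_inv_eq_iff_eq_mul.1 (by
        rw [show k * k * x * (k * k)⁻¹ = k * (k * x * k⁻¹) * k⁻¹ by group]
        rcases b with b | b
        · rw [b, b]
        · rw [b, ← conj_mul, b, ← mul_assoc, j.xxx, one_mul])).symm))).resolve_right fun d => by
  obtain ⟨v, e, f⟩ := h.lift1 hG a ((show k.1 * k = z from d).symm ▸ h.z_A)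
  let s := h.rho ⟨k, a⟩
  let t := h.rho ⟨x, j.x_nA⟩
  let w : Additive h.A := Additive.ofMul ⟨v, e⟩
  let y : Additive h.A := Additive.ofMul ⟨z, h.z_A⟩
  have e1 : s w = w + y := Subtype.ext (by
    calc k * v * k.1⁻¹ = v⁻¹ * (v * k * (v * k)) * (k.1 * k)⁻¹ := by group
      _ = v * z := by rw [f, show k.1 * k = z from d, h.A_inv e, h.z_inv, mul_one])
  have e2 : t y = y := Subtype.ext (mem_Cz'.1 x.2)
  have e3 : ∀ u, t (t (t u)) = u := fun u => by
    change (t * t * t) u = u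
    rw [← map_mul, ← map_mul]
    exact (congrArg (h.rho · u) (Subtype.ext (congrArg (fun y : Cz z => y.1) j.xxx))).trans (by rw [map_one]; rfl)
  have e4 : s (w + t w + t (t w)) = w + t w + t (t w) + y := by
    have : (∀ u, s (t u) = t (s u)) ∨ ∀ u, s (t u) = t (t (s u)) := b.imp (fun b u => by
      change (s * t) u = (t * s) u
      rw [← map_mul, ← map_mul]
      exact congrArg (h.rho · u) (Subtype.ext (congrArg (fun y : Cz z => y.1) (mul_inv_eq_iff_eq_mul.1 b)))) fun b u => by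
      change (s * t) u = (t * t * s) u
      rw [← map_mul, ← map_mul, ← map_mul]
      exact congrArg (h.rho · u) (Subtype.ext (congrArg (fun y : Cz z => y.1) (mul_inv_eq_iff_eq_mul.1 b)))
    rcases this with i | i <;> simp only [map_add, i, e1, e2, e3] <;> linear_combination (norm := abel) E.two y
  have e5 : t (w + t w + t (t w)) = w + t w + t (t w) := by rw [map_add, map_add, e3]; abel
  exact j.f1 (w + t w + t (t w)).toMul.2 (mem_Cz.2 (mul_inv_eq_iff_eq_mul.1 (congrArg Subtype.val e5)).symm)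
    (_root_.isConj_iff.2 ⟨k, congrArg Subtype.val e4⟩)
theorem split : ∃ K : Subgroup G, K ≤ normalizer (h.A : Set G) ∧ K ⊓ h.A = ⊥ ∧ K ⊔ h.A = normalizer (h.A : Set G) := by
  have hx := j.hx
  let M : Subgroup G :=
    { carrier := h.mu x '' WJ
      one_mem' := ⟨0, zero_mem _, h.mu_zero hx⟩
      mul_mem' := by
        rintro _ _ ⟨u, a, rfl⟩ ⟨v, b, rfl⟩
        exact ⟨v + u, add_mem b a, by rw [h.mu_add hx, W_pol (W_inv _ (by simp) _ b) a]; simp⟩
      inv_mem' := by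
        rintro _ ⟨u, a, rfl⟩
        exact ⟨u, a, eq_inv_of_mul_eq_one_left ((h.sq' (h.mu_P hx u)).2 (W_q a))⟩ }
  have cM : Nat.card M ≤ 64 := (Set.ncard_image_le (Set.toFinite _)).trans card_W
  have mt : ∀ g ∈ gTJ, g ∈ MJ := fun g a => mem_MJ g (by simp [a])
  have nt : ∀ {k : Cz z}, π k ∈ T8 → k.1 ∈ normalizer (h.A : Set G) := fun b => h.nrm_A fun u => NJ_U (T8_NJ b)
  obtain ⟨a, a1, a2⟩ := h.lift_x hx j.x3 (mt aJ (by simp [gTJ]))
  obtain ⟨r, r1, r2⟩ := h.lift_x hx j.x3 (mt rJ (by simp [gTJ]))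
  obtain ⟨c, c1, c2⟩ := j.lift_n (NJ_LJ (mem_NJ cJ (by simp))) cJ_not
  have a3 : π a ∈ T8 := a1 ▸ mem_cl (by simp [gTJ])
  have r3 : π r ∈ T8 := r1 ▸ mem_cl (by simp [gTJ])
  have c3 : π c ∈ T8 := c1 ▸ mem_cl (by simp)
  obtain ⟨s1, s2, s3, s4, s5, s6, s7⟩ := relJ
  have ar : a * r * x = x * (a * r) := Commute.mul_left a2 r2
  have i1 : ∀ {k : Cz z}, π k ∈ T8 → k * x = x * k → π k * π k = 1 → k * k = 1 := fun u v =>
    j.inv hG (nt u) (.inl (mul_inv_eq_iff_eq_mul.2 v))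
  have i2 : ∀ {k : Cz z}, π k ∈ T8 → k * x = x * k → cJ * π k * (cJ * π k) = 1 → c * k * (c * k) = 1 := fun {k} u v w =>
    j.inv hG (nt (by rw [map_mul]; exact mul_mem c3 u)) (.inr (by rw [mul_assoc c, v, ← c2]; group)) (by rwa [map_mul, c1])
  have e1 := i1 (k := r * r) (by rw [map_mul]; exact mul_mem r3 r3) (Commute.mul_left r2 r2) (by rw [map_mul, r1, s1, s2])
  have e2 := i1 a3 a2 (by rw [a1, s3])
  have e3 := i1 (by rw [map_mul]; exact mul_mem a3 r3) ar (by rw [map_mul, a1, r1, s4])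
  have e4 := j.inv hG (nt c3) (.inr c2) (by rw [c1, s5])
  have e5 := i2 a3 a2 (by rw [a1, s6])
  have e6 := i2 (by rw [map_mul]; exact mul_mem a3 r3) ar (by rw [map_mul, a1, r1, s7])
  have iv : ∀ {k l : Cz z}, k * k = 1 → k * l * (k * l) = 1 → k * l * k⁻¹ = l⁻¹ := fun u v => by
    rw [inv_eq_of_mul_eq_one_right u]; exact eq_inv_of_mul_eq_one_left (by rwa [← mul_assoc] at v)
  have d1 := card_cons_le (g := r) (ks := []) (p := 4) (by norm_num) (by rw [show r ^ 4 = r * r * (r * r) by simp [pow_succ, mul_assoc], e1]; exact one_mem _)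
    (by simp)
  have d2 := card_cons_le (g := a) (ks := [r]) two_pos (by rw [pow_two, e2]; exact one_mem _)
    (by simpa [iv e2 e3] using mem_cl (by simp))
  have d3 := card_cons_le (g := c) (ks := [a, r]) two_pos (by rw [pow_two, e4]; exact one_mem _) (by
    have ma : a ∈ cl [a, r] := mem_cl (by simp)
    have mr : r ∈ cl [a, r] := mem_cl (by simp)
    simp only [List.forall_mem_cons]
    refine ⟨iv e4 e5 ▸ inv_mem ma, (mul_mem_cancel_left (iv e4 e5 ▸ inv_mem ma)).1 ?_, by simp⟩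
    rw [conj_mul, iv e4 e6]; exact inv_mem (mul_mem ma mr))
  rw [show cl ([] : List (Cz z)) = ⊥ from eq_bot_iff.2 (cl_le (by simp)), card_bot] at d1
  let D := (cl [c, a, r]).map (Cz z).subtype
  have cD : Nat.card D ≤ 16 := by rw [card_map_of_injective (Cz z).subtype_injective]; omega
  have n1 : ∀ {k : Cz z}, k * x = x * k → (∀ v ∈ WJ, π k v ∈ WJ) → k.1 ∈ normalizer (M : Set G) := fun u v =>
    mem_normalizer_fintype (by rintro _ ⟨w, b, rfl⟩; exact ⟨_, v w b, (h.mu_cj hx u w).symm⟩)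
  have DM : D ≤ normalizer (M : Set G) := map_le_iff_le_comap.2 (cl_le (by
    simp only [List.forall_mem_cons]
    refine ⟨mem_normalizer_fintype ?_, n1 a2 (a1 ▸ W_inv _ (by simp)), n1 r2 (r1 ▸ W_inv _ (by simp)), by simp⟩
    rintro _ ⟨w, b, rfl⟩
    obtain ⟨y, p⟩ := h.ex (thL w)
    have q := h.act c p
    have tw : ∀ {v}, v ∈ WJ → thL v ∈ WJ := W_inv _ (by simp) _
    have m : thL (thL (π c (thL w))) ∈ WJ := tw (tw (c1 ▸ W_inv _ (by simp) _ (tw b)))
    rw [← th_cube (π c _)] at q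
    have := M.mul_mem ⟨_, m, rfl⟩ ⟨_, tw m, rfl⟩
    have e := h.mu_cj hx (k := x) rfl (thL (thL (π c (thL w))))
    rw [hx] at e
    rw [← e, h.mu_eq q] at this
    refine (M.mul_mem_cancel_left (M.inv_mem this)).1 (Eq.mpr (congrArg (· ∈ M) (inv_mul_eq_one.2 (Eq.symm ?_))) M.one_mem)
    rw [h.mu_eq p]
    calc c * (y * x * y⁻¹ * x.1⁻¹) * c.1⁻¹ = c * y * c.1⁻¹ * (c * x * c.1⁻¹) * (c * y * c.1⁻¹)⁻¹ * (c * x * c.1⁻¹)⁻¹ := by group
      _ = _ := by rw [show c * x * c.1⁻¹ = x * x from congrArg Subtype.val c2, coe_inv]; group))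
  have k1 := H11.card_inf_mul_card_sup_of_le_normalizer DM
  have KN : D ⊔ M ≤ normalizer (h.A : Set G) := sup_le (map_le_iff_le_comap.2 (cl_le (by
    simp only [List.forall_mem_cons]; exact ⟨nt c3, nt a3, nt r3, by simp⟩)))
    (by rintro _ ⟨w, -, rfl⟩; exact h.R_nA (h.mem (h.mu_P hx w)))
  have k2 := H11.card_inf_mul_card_sup_of_le_normalizer KN
  have UC : D ⊔ M ⊔ h.A ≤ Cz z := sup_le (sup_le (map_subtype_le _) (by
    rintro _ ⟨w, -, rfl⟩; exact h.le (h.mem (h.mu_P hx w)))) h.A_le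
  have k3 := h.card_im UC
  have RU : R ≤ D ⊔ M ⊔ h.A := fun y b => by
    obtain ⟨v, p⟩ := h.ex' y b
    obtain ⟨u, s, w, t, rfl⟩ := AddSubgroup.mem_sup.1 (UW v)
    have m := mul_mem (mem_sup_right (h.mu_A hx s)) (mem_sup_left (S := D ⊔ M) (T := h.A) (mem_sup_right ⟨w, t, rfl⟩))
    rcases (h.uniq (h.mul (h.mu_P hx u) (h.mu_P hx w)) p).2 rfl with e | e <;> rw [e]
    exacts [m, mul_mem m (mem_sup_right h.z_A)]
  have TU : T8 ≤ XQ.im π (D ⊔ M ⊔ h.A) := cl_le (by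
    have m : ∀ k ∈ [c, a, r], π k ∈ XQ.im π (D ⊔ M ⊔ h.A) := fun k b =>
      ⟨k, mem_sup_left (mem_sup_left ⟨k, mem_cl b, rfl⟩), rfl⟩
    simp only [gTJ, List.forall_mem_cons] at m ⊢
    rw [← s1, ← c1, ← a1, ← r1]
    exact ⟨m.1, m.2.1, m.2.2.1, mul_mem m.2.2.1 m.2.2.1, fun b d => map_mono (subgroupOf_mono _ le_sup_right) (h.im_A.ge (mem_cl d))⟩)
  obtain ⟨n, k4⟩ := card_dvd_of_le TU
  rw [inf_eq_right.2 RU, h.card, k4, card_T8] at k3
  have k5 : Nat.card (D ⊔ M : Subgroup G) ≤ 1024 := by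
    have := Nat.mul_le_mul cD cM
    have := Nat.card_pos (α := (D ⊓ M : Subgroup G))
    nlinarith
  have k6 : (D ⊔ M) ⊓ h.A = ⊥ := (card_le_one_iff_eq_bot _).1 (by
    have := Nat.card_pos (α := (D ⊔ M ⊔ h.A : Subgroup G))
    rw [h.card_A, ← k3] at k2
    have : 0 < n := by rw [← k3] at this; exact Nat.pos_of_ne_zero (by rintro rfl; simp at this)
    by_contra! l
    have := Nat.mul_le_mul l (Nat.mul_le_mul_right (2 ^ (2 * 6 + 1)) (Nat.mul_le_mul_left (2 ^ 8) this))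
    omega)
  obtain ⟨φ, p⟩ := j.jp
  have k7 := card_ker_mul φ p.sj
  have e : φ.ker = h.A.subgroupOf _ := Subgroup.ext p.kr
  rw [e, H1.card_subgroupOf_of_le le_normalizer, h.card_A, card_MM] at k7
  have : IsMulCommutative (h.A.subgroupOf (normalizer (h.A : Set G))) := ⟨⟨fun u v => Subtype.ext (Subtype.ext (h.A_comm u.2 v.2))⟩⟩
  obtain ⟨K, k8⟩ := H1.gaschutz_exists (A := h.A.subgroupOf (normalizer (h.A : Set G))) (H := (D ⊔ M).subgroupOf _)
    (eq_bot_iff.2 fun y b => Subtype.ext (k6.le b)) rfl (by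
      have := (h.A.subgroupOf (normalizer (h.A : Set G)) ⊔ (D ⊔ M).subgroupOf _).index_mul_card
      rw [← subgroupOf_sup le_normalizer KN, H1.card_subgroupOf_of_le (sup_le le_normalizer KN), sup_comm, ← k3, ← k7] at this
      rw [H1.card_subgroupOf_of_le le_normalizer, h.card_A, ← subgroupOf_sup le_normalizer KN, sup_comm]
      refine Nat.Coprime.pow_left _ (Nat.coprime_two_left.2 (Nat.not_even_iff_odd.1 ?_))
      rintro ⟨i, l⟩
      rw [l] at this
      have : (i + i) * n * 2 ^ 21 = 239085 * 2 ^ 21 := 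
        calc _ = (i + i) * (2 ^ 8 * n * 2 ^ (2 * 6 + 1)) := by ring
          _ = _ := this.trans (by norm_num)
      have := Nat.eq_of_mul_eq_mul_right (by norm_num) this
      rw [add_mul] at this
      omega)
  refine ⟨K.map (Subgroup.subtype _), map_subtype_le _, eq_bot_iff.2 ?_, ?_⟩
  · rintro _ ⟨⟨y, s, rfl⟩, t⟩
    exact congrArg Subtype.val (mem_bot.1 (k8.disjoint.le_bot ⟨t, s⟩))
  · have := congrArg (map (Subgroup.subtype _)) k8.sup_eq_top
    rwa [Subgroup.map_sup, map_subgroupOf_eq_of_le le_normalizer, ← MonoidHom.range_eq_map, range_subtype, sup_comm] at this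
end JN
theorem JP.res {t : ℕ → G} {φ : normalizer (h.A : Set G) →* MM} (p : h.JP t φ) {K : Subgroup G} (a : K ≤ normalizer (h.A : Set G))
    (b : K ⊓ h.A = ⊥) (c : K ⊔ h.A = normalizer (h.A : Set G)) : Function.Bijective (φ.comp (inclusion a)) := by
  refine ⟨(injective_iff_map_eq_one _).2 fun k d => Subtype.ext (b.le ⟨k.2, (p.kr _).1 d⟩), fun g => ?_⟩
  obtain ⟨n, rfl⟩ := p.sj g
  obtain ⟨k, d, v, e, f⟩ := (coe_mul_of_left_le_normalizer_right K h.A a).le (c.ge n.2)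
  refine ⟨⟨k, d⟩, ?_⟩
  rw [show n = inclusion a ⟨k, d⟩ * ⟨v, le_normalizer e⟩ from Subtype.ext f.symm, map_mul, (p.kr ⟨v, _⟩).2 e, mul_one]; rfl
end JT0
end
end H13
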