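import Cfsg.Agent.H13.J6i
import Cfsg.Agent.H13.FM
import Cfsg.Agent.H29.M22Out
import Cfsg.Prelude.Def_JankoFourType
/-! Groups of type `J4`: the action of the centraliser on its extraspecial subgroup. -/
set_option autoImplicit false
namespace H13
noncomputable section
open MulAction Cfsg H27 Subgroup
open scoped Pointwise
universe u

theorem nc_H22 : ¬ ∀ x y : H22, x * y = y * x := fun a => by
  have := simple_H22
  let _ : CommGroup H22 := { (inferInstance : Group H22) with mul_comm := a }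
  exact absurd (card_H22 ▸ IsSimpleGroup.prime_card (α := H22)) (by norm_num)
theorem top_of_sq {Γ : Type*} [Group Γ] (ι : H22 →* Γ) {J : Subgroup Γ} [J.Normal] (h : ∀ g, ι g * ι g ∈ J) : ι.range ≤ J := by
  have := simple_H22
  rcases (inferInstance : (J.comap ι).Normal).eq_bot_or_eq_top with e | e
  · have k : ∀ g : H22, g⁻¹ = g := fun g => inv_eq_of_mul_eq_one_right (mem_bot.1 (e.le (by simpa [mem_comap] using h g)))
    exact absurd (fun x y => by rw [← k (x * y), mul_inv_rev, k, k]) nc_H22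
  · rintro _ ⟨g, rfl⟩; exact e.ge (mem_top g)
def ι22 : H22 →* MulAut Spor.M22 := MulAut.conj.comp m22Equiv.toMonoidHom
theorem ι22_range : ι22.range = Inn Spor.M22 := by
  rw [ι22, MonoidHom.range_comp, MonoidHom.range_eq_top.2 m22Equiv.surjective, ← MonoidHom.range_eq_map]
theorem ι22_inj : Function.Injective ι22 := by
  have := simple_H22
  refine (MonoidHom.ker_eq_bot_iff _).1 (ι22.normal_ker.eq_bot_or_eq_top.resolve_right fun e => nc_H22 fun x y => ?_)
  have := MulEquiv.congr_fun (show ι22 x = 1 from e.ge (mem_top x)) (m22Equiv y)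
  exact m22Equiv.injective (by rw [map_mul, map_mul]; exact mul_inv_eq_iff_eq_mul.1 this)
theorem idx_ι22 : ι22.range.index = 2 := ι22_range ▸ H29.m22_out
instance : Finite (MulAut Spor.M22) := Finite.of_injective (fun g => (g : Spor.M22 → Spor.M22)) DFunLike.coe_injective
theorem inn_eq {J : Subgroup (MulAut Spor.M22)} (h : J.index = 2) : J = ι22.range := by
  have := normal_of_index_eq_two h
  have a := top_of_sq ι22 fun g => mul_self_mem_of_index_two h (ι22 g)
  have b := relIndex_mul_index a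
  rw [h, idx_ι22] at b
  exact le_antisymm (relIndex_eq_one.1 (by omega)) a

variable {G : Type u} [Group G] [Finite G] {z : G} {R : Subgroup G} {π : Cz z →* AL V6} {P : V6 → G → Prop}
structure JT0 (z : G) (R : Subgroup G) (π : Cz z →* AL V6) (P : V6 → G → Prop) : Prop extends XQ z R 6 q6 π P where
  rng : π.range = LJ
  quo : ∃ f : MJ →* MM, f.range = H22 ∧ ∀ g, f g = 1 ↔ g.1 ∈ zpowers thL

theorem exists_jt0 {Q : Subgroup G} (hJ : IsOfJankoFourTypeWith z Q) : ∃ π P, JT0 z (twoCoreOfCentralizer z) π P ∧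
    ∃ x : Cz z, π x = thL ∧ x ^ 3 = 1 ∧ zpowers x.1 = Q := by
  obtain ⟨z2, es, cE, cen, ⟨N, EN, NH, HN, cN, ⟨_, ⟨i⟩⟩, QN⟩, cQ, cEQ, ne, -⟩ := hJ
  have hn : Cz z ≤ normalizer (twoCoreOfCentralizer z : Set G) := H1.le_normalizer_map_subtype_iff.2 inferInstance
  generalize twoCoreOfCentralizer z = R at *
  have hm : z ∈ R := (cEQ.ge (mem_zpowers z)).1
  have hm' : z ∈ centralizer (R : Set G) := fun y hy => mem_Cz.1 (NH (EN hy))
  obtain ⟨w, -, hS⟩ := xs_of es (z := z) (eq_of_le_of_card_ge (zpowers_le.2 (mem_inf.2 ⟨hm, hm'⟩))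
    (by rw [H7.extraspecial_card_center es, Nat.card_zpowers, z2])).symm
    (fun x hx => cen ⟨mem_Cz.2 (hx z hm).symm, hx⟩) hn
  obtain rfl := hS.w_eq (w' := 6) cE
  obtain ⟨V, _, q, π, P, h, cV⟩ := hS.exists_xq
  have := Fact.mk Nat.prime_three
  obtain ⟨x0, rfl⟩ := (Subgroup.isCyclic_iff_exists_zpowers_eq_top Q).1 (isCyclic_of_prime_card cQ)
  have xN := QN (mem_zpowers x0)
  obtain ⟨x, rfl⟩ : ∃ x : Cz z, x.1 = x0 := ⟨⟨_, NH xN⟩, rfl⟩
  rw [Nat.card_zpowers, orderOf_coe] at cQ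
  have x3 : x ^ 3 = 1 := cQ ▸ pow_orderOf_eq_one x
  have fp : ∀ v, π x v = v → v = 0 := fun v e => by
    obtain ⟨y, a⟩ := h.ex v
    refine (h.iff a).1 ((mem_zpowers_two z2).1 (cEQ.le ⟨h.mem a, ?_⟩))
    rw [cent_zpowers]
    refine mem_Cz.2 (mul_inv_eq_iff_eq_mul.1 (((h.uniq a (h.act x a)).2 e.symm).resolve_right fun b => ?_)).symm
    have c : ∀ y : G, x * (y * z) * x.1⁻¹ = x * y * x.1⁻¹ * z := fun y => by
      rw [← mul_assoc, mul_assoc _ z, ← mem_Cz.1 (inv_mem x.2), ← mul_assoc]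
    have : x * (x * (x * y * x.1⁻¹) * x.1⁻¹) * x.1⁻¹ = (x ^ 3).1 * y * (x ^ 3).1⁻¹ := by simp [pow_three, mul_assoc]
    rw [show x * y * x.1⁻¹ = _ from b, c, show x * y * x.1⁻¹ = _ from b, mul_assoc y, h.zz, mul_one, x3] at this
    exact h.ne_mul y (b.symm.trans (by simpa using this))
  obtain ⟨ψ, a, b⟩ := onb h.qf (h.iso x) (fun v => fp _ (by
    have : π x (π x (π x v)) = v := by
      simpa [pow_three] using LinearEquiv.congr_fun (congrArg π x3) v
    simp only [nv, LinearEquiv.smul_def, map_add, this]; abel)) cV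
  have h' := h.twist ψ (π' := (cjA ψ).comp π) (fun k => cjA_apply ψ _) a qf6
  have hx : (cjA ψ).comp π x = thL := LinearEquiv.ext fun v => ψ.injective ((cjA_apply ..).trans (b v).symm)
  clear a b fp cV
  generalize (cjA ψ).comp π = π' at h' hx
  generalize (fun v x => P (ψ v) x) = P' at h'
  clear h
  have := E6.finite
  have e1 : XQ.im π' N = zpowers thL := (eq_of_le_of_card_ge (zpowers_le.2 (show thL ∈ XQ.im π' N from ⟨x, xN, hx⟩)) (by
    have := h'.card_im NH
    rw [inf_eq_right.2 EN, cN] at this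
    rw [Nat.card_zpowers, ord_thL]
    exact (Nat.eq_of_mul_eq_mul_right Nat.card_pos this).le)).symm
  have e2 : ∀ k : Cz z, π' k ∈ zpowers thL ↔ k.1 ∈ N := fun k => by
    rw [← e1]
    exact Subgroup.ext_iff.1 (comap_map_eq_self (f := π') (H := N.subgroupOf (Cz z)) fun k a => EN ((h'.ker k).1 a)) k
  have lΓ : π'.range ≤ ΓU := by
    rintro _ ⟨k, rfl⟩
    exact ⟨h'.iso k, mem_nz (by
      rw [← hx, ← map_inv, ← map_mul, ← map_mul, hx, e2]; exact (mem_normalizer_iff.1 (HN k.2) _).1 xN)⟩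
  have k2 : ∀ k, (i.toMonoidHom.comp (QuotientGroup.mk' _)) k = 1 ↔ k.1 ∈ N := fun x =>
    (map_eq_one_iff _ i.injective).trans (QuotientGroup.eq_one_iff x)
  obtain ⟨c, hc⟩ := lift_surj _ π'.rangeRestrict_surjective _ fun k a => (k2 k).2 (EN ((h'.ker k).1 (congrArg Subtype.val a)))
  have s3 : Function.Surjective c := fun y => by
    obtain ⟨x, rfl⟩ := i.surjective.comp (QuotientGroup.mk'_surjective (N.subgroupOf (Cz z))) y; exact ⟨_, hc x⟩
  have k3 : ∀ g, c g = 1 ↔ g.1 ∈ zpowers thL := fun g => by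
    obtain ⟨k, rfl⟩ := π'.rangeRestrict_surjective g
    exact (hc k ▸ k2 k).trans (e2 k).symm
  have ix : ((Cz thL).subgroupOf π'.range).index = 2 := by
    obtain ⟨k, k1, k4⟩ := SetLike.exists_of_lt (lt_of_le_of_ne (inf_le_inf_left (Cz z) (centralizer_le_normalizer _)) ne.symm)
    have k5 : π' ⟨k, k1.1⟩ ∉ Cz thL := fun a => k4 ⟨k1.1, by
      rw [cent_zpowers]
      have := (zp3 (congrArg Subtype.val x3)).1 ((mem_normalizer_iff.1 k1.2 _).1 (mem_zpowers x.1))
      have d : π' (⟨k, k1.1⟩ * x * ⟨k, k1.1⟩⁻¹) = thL := by rw [map_mul, map_mul, map_inv, hx, mem_Cz'.1 a]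
      rcases this with e | e | e
      · exact absurd (by rw [← d, show _ * x * _ = 1 from Subtype.ext e, map_one]) thL_ne
      · exact mem_Cz'.2 e
      · rw [show _ * x * _ = x * x from Subtype.ext e, map_mul, hx] at d
        exact absurd (mul_eq_left.1 d) thL_ne⟩
    refine index_eq_two_iff.2 ⟨⟨_, ⟨k, k1.1⟩, rfl⟩, fun g => ?_⟩
    by_cases d : g.1 ∈ Cz thL
    · exact .inr ⟨d, fun e => k5 (((Cz thL).mul_mem_cancel_left d).1 e)⟩
    · refine .inl ⟨mem_Cz.2 ?_, d⟩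
      have s : ∀ {g}, g ∈ π'.range → g ∉ Cz thL → g * thL = thL * thL * g := fun a b =>
        (mem_NT.1 (lΓ a).2).resolve_left fun c => b (mem_Cz.2 c)
      have t : thL * thL * (thL * thL) = thL := by
        rw [show thL * thL * (thL * thL) = thL ^ 3 * thL by simp only [pow_three, mul_assoc], thL3, one_mul]
      change g.1 * π' ⟨k, k1.1⟩ * thL = thL * (g.1 * π' ⟨k, k1.1⟩)
      rw [mul_assoc, s ⟨_, rfl⟩ k5, ← mul_assoc, ← mul_assoc, s g.2 d, mul_assoc _ g.1, s g.2 d, ← mul_assoc _ _ g.1, t, mul_assoc]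
  have j := inn_eq ((index_map_eq _ s3 fun g a => zpowers_le.2 (self_mem_Cz thL) ((k3 g).1 a)).trans ix)
  obtain ⟨φ, hφ⟩ := exists_hom_of_range ι22 ι22_inj (c.comp (inclusion (inf_le_left : π'.range ⊓ Cz thL ≤ _)))
    fun g => j.le ⟨_, g.2.2, rfl⟩
  have r : (H22.subtype.comp φ).range = H22 := by
    rw [MonoidHom.range_comp, MonoidHom.range_eq_top.2 fun y => ?_, ← MonoidHom.range_eq_map, range_subtype]
    obtain ⟨g, u, v⟩ := j.ge ⟨y, rfl⟩
    exact ⟨⟨g, g.2, u⟩, ι22_inj ((hφ _).trans v)⟩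
  have k : ∀ g, (H22.subtype.comp φ) g = 1 ↔ g.1 ∈ zpowers thL := fun g => by
    rw [MonoidHom.comp_apply, map_eq_one_iff _ H22.subtype_injective, ← map_eq_one_iff _ ι22_inj, hφ]; exact k3 _
  obtain ⟨g, u, v⟩ := identJ (K := π'.range ⊓ Cz thL) (fun g a => ⟨(lΓ a.1).1, a.2⟩) _ r k ⟨⟨x, hx⟩, self_mem_Cz _⟩
  have rg : ((MulAut.conj g⁻¹⁻¹).toMonoidHom.comp π').range = MulAut.conj g • π'.range := by
    rw [MonoidHom.range_comp, inv_inv]; rfl
  have nK : π'.range ≤ normalizer ((π'.range ⊓ Cz thL : Subgroup _) : Set (AL V6)) := fun l a =>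
    mem_normalizer_fintype fun m b => ⟨π'.range.mul_mem (π'.range.mul_mem a b.1) (inv_mem a), (cj_GU (lΓ a) ⟨(lΓ b.1).1, b.2⟩).2⟩
  refine ⟨_, _, { h'.reb (O6.inv_mem u.1) with rng := rg.trans (eq_of_le_of_card_ge ?_ ?_), quo := ?_ }, ?_⟩
  · rintro _ ⟨l, a, rfl⟩
    exact LJ_of (mul_mem (mul_mem u (lΓ a)) (inv_mem u)) (v ▸ le_normalizer_map (MulAut.conj g).toMonoidHom ⟨l, nK a, rfl⟩)
  · have d := ((Cz thL).subgroupOf π'.range).index_mul_card
    rw [ix, ← inf_subgroupOf_left, H1.card_subgroupOf_of_le inf_le_left, ← H1.card_conj_smul g, v, card_MJ] at d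
    rw [H1.card_conj_smul, card_LJ, ← d]
  · let e : MJ ≃* ↥(π'.range ⊓ Cz thL) := conjEquiv g⁻¹ fun a => by rw [← v, mem_cj, inv_inv]
    refine ⟨(H22.subtype.comp φ).comp e.toMonoidHom, by
      rw [MonoidHom.range_comp _ e.toMonoidHom, (MonoidHom.range_eq_top (f := e.toMonoidHom)).2 e.surjective, ← MonoidHom.range_eq_map, r], fun m => (k _).trans ?_⟩
    exact (mem_normalizer_iff.1 (NT.inv_mem u.2) _).symm
  · rcases mem_NT.1 u.2 with e | e
    · exact ⟨x, by simp [hx, e], x3, rfl⟩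
    · refine ⟨x⁻¹, ?_, by rw [inv_pow, x3, inv_one], zpowers_inv⟩
      rw [map_inv, inv_eq_iff_mul_eq_one]
      simp [hx, e, ← pow_three', thL3]
end
end H13
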