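import Cfsg.Agent.H13.JW
/-! Groups of type `J4`: conjugates of the subgroup of order `2 ^ 11`. -/
set_option autoImplicit false
namespace H13
noncomputable section
open MulAction Cfsg H27 Subgroup
open scoped Pointwise
universe u
variable {G : Type u} [Group G] [Finite G] {z : G} {R : Subgroup G} {π : Cz z →* AL V6} {P : V6 → G → Prop}

theorem exists_cj_pg {K A B : Subgroup G} (a : A ≤ K) (b : B ≤ K) (p : IsPGroup 2 A) (q : IsPGroup 2 B) :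
    ∃ k ∈ K, ∃ Q : Subgroup G, IsPGroup 2 Q ∧ A ≤ Q ∧ ∀ x ∈ B, k * x * k⁻¹ ∈ Q := by
  obtain ⟨S, s⟩ := (p.comap_subtype (K := K)).exists_le_sylow
  obtain ⟨T, t⟩ := (q.comap_subtype (K := K)).exists_le_sylow
  obtain ⟨k, rfl⟩ := exists_smul_eq K T S
  exact ⟨k, k.2, _, (k • T).2.map K.subtype, fun x c => ⟨⟨x, a c⟩, s c, rfl⟩, fun x c =>
    ⟨k * ⟨x, b c⟩ * k⁻¹, mem_cj.2 (by simpa [mul_assoc] using t (show ⟨x, b c⟩ ∈ B.comap K.subtype from c)), rfl⟩⟩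
omit [Finite G] in
theorem isConj_cj (g x : G) : IsConj x (g * x * g⁻¹) := _root_.isConj_iff.2 ⟨g, rfl⟩
theorem ea_cj {W : Subgroup G} (a : IsElementaryAbelian 2 W) (g : G) : IsElementaryAbelian 2 (MulAut.conj g • W) :=
  ⟨⟨⟨fun x y => Subtype.ext ((MulAut.conj g⁻¹).injective (by
    simpa [mul_assoc] using congrArg Subtype.val (a.1.1.1 ⟨_, mem_cj.1 x.2⟩ ⟨_, mem_cj.1 y.2⟩)))⟩⟩, fun x b => by
      have := a.2 _ (mem_cj.1 b)
      rwa [show g⁻¹ * x * g = g⁻¹ * x * g⁻¹⁻¹ by simp, conj_pow, conj_eq_one_iff] at this⟩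

namespace JT0
variable (h : JT0 z R π P)
include h
theorem cj_A (g : G) : (h.cj g).A = MulAut.conj g • h.A := Subgroup.ext fun y => Iff.trans
  ⟨fun a x ⟨u, b, c⟩ => (MulAut.conj g).injective (by
    simpa [mul_assoc] using a (g * x * g⁻¹) ⟨u, b, by simpa [mul_assoc] using c⟩), fun a x ⟨u, b, c⟩ =>
      (MulAut.conj g⁻¹).injective (by simpa [mul_assoc] using a _ ⟨u, b, c⟩)⟩ mem_cj.symm
theorem EA_cj {W : Subgroup G} (a : IsElementaryAbelian 2 W) (b : 2 ^ 11 ≤ Nat.card W) :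
    ∃ z', IsConj z z' ∧ ∃ R π P, ∃ h' : JT0 z' R π P, W = h'.A := by
  obtain ⟨T, t⟩ := (show IsPGroup 2 W from fun x => ⟨1, Subtype.ext (a.2 _ x.2)⟩).exists_le_sylow
  obtain ⟨y, c, R, π, P, h', d⟩ := h.atT T
  exact ⟨y, c, R, π, P, h', h'.EA_eq d t a b⟩
theorem eq_of_pg {Q W : Subgroup G} (p : IsPGroup 2 Q) (l : h.A ≤ Q) (m : W ≤ Q) (a : IsElementaryAbelian 2 W)
    (b : 2 ^ 11 ≤ Nat.card W) : W = h.A := by
  obtain ⟨T, t⟩ := p.exists_le_sylow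
  obtain ⟨y, -, R, π, P, h', d⟩ := h.atT T
  exact (h'.EA_eq d (m.trans t) a b).trans (h'.EA_eq d (l.trans t) h.A_ea h.card_A.ge).symm
theorem nrm_eq {W : Subgroup G} (a : IsElementaryAbelian 2 W) (b : 2 ^ 11 ≤ Nat.card W) (c : W ≤ normalizer (h.A : Set G)) :
    W = h.A := h.eq_of_pg ((show IsPGroup 2 W from fun x => ⟨1, Subtype.ext (a.2 _ x.2)⟩).to_sup_of_normal_right' h.A_pg c)
  le_sup_right le_sup_left a b
theorem le_nrm {Q : Subgroup G} (p : IsPGroup 2 Q) (l : h.A ≤ Q) : Q ≤ normalizer (h.A : Set G) := fun g a =>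
  mem_normalizer_fintype fun x b => (h.eq_of_pg (W := MulAut.conj g • h.A) p l (fun y c => by
    simpa [mul_assoc] using mul_mem (mul_mem a (l (mem_cj.1 c))) (inv_mem a)) (ea_cj h.A_ea g)
      (by rw [H1.card_conj_smul, h.card_A])).le (mem_cj.2 (by simpa [mul_assoc] using b))
theorem z_A : z ∈ h.A := h.sub_A (h.z_sub _)
theorem cj_mem {n a : G} (b : n ∈ normalizer (h.A : Set G)) (c : a ∈ h.A) : n * a * n⁻¹ ∈ h.A := (mem_normalizer_iff.1 b a).1 c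
theorem A_inv {a : G} (b : a ∈ h.A) : a⁻¹ = a := inv_eq_of_mul_eq_one_right (h.A_sq b)
/-- the action on duads -/
structure JP (t : ℕ → G) (φ : normalizer (h.A : Set G) →* MM) : Prop where
  sj : Function.Surjective φ
  kr : ∀ k, φ k = 1 ↔ k.1 ∈ h.A
  ty : ∀ a, (a ∈ h.A ∧ a ≠ 1 ∧ ¬ IsConj z a) ↔ ∃ i < 276, t i = a
  ac : ∀ k : normalizer (h.A : Set G), ∀ i < 276, ∀ j < 276, k * t i * k.1⁻¹ = t j ↔ φ k • eDu i = eDu j
  tr : ∀ i < 276, ∀ j < 276, ∃ k ∈ normalizer (h.A : Set G), k * t i * k⁻¹ = t j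
  inj : Set.InjOn t {i | i < 276}
  dj : ∀ i < 276, ∀ j < 276, Disjoint (eDu i) (eDu j) → IsConj z (t i * t j)
  tri : ∀ u ∈ h.A, ∀ v ∈ h.A, (∀ w ∈ [u, t 0 * u, v, t 0 * v, u * v, t 0 * u * v], ¬ IsConj z w) →
    u = 1 ∨ u = t 0 ∨ v = 1 ∨ v = t 0 ∨ v = u ∨ v = t 0 * u
  nz : {a | a ∈ h.A ∧ IsConj z a}.ncard = 1771
  fx : ∀ n ∈ normalizer (h.A : Set G), n * n ∈ h.A → 46 ≤ Nat.card (h.A ⊓ Cz n : Subgroup G)
omit h in
theorem JN.jp {h : JT0 z R π P} {x : Cz z} {E : BE (Additive h.A) 11} (j : h.JN x E) : ∃ φ, h.JP (fun i => (tD E i).toMul) φ := by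
  have e := j.rg
  have c := j.zt
  obtain ⟨a, ψ, b⟩ := iso24 E
  have z0 : 0 ∉ mset 2048 E.e XD := fun d => absurd ((mem_mset (show Set.InjOn E.e {j | j < 2048} from E.injOn)
    (by norm_num)).1 (E.zero ▸ d)) (by decide +kernel)
  have tr : ∀ j < 276, ∃ k ∈ normalizer (h.A : Set G), k * (tD E 0).toMul * k⁻¹ = (tD E j).toMul := fun j d => by
    obtain ⟨g, u, v⟩ := a j d
    obtain ⟨k, rfl⟩ := e.ge u
    exact ⟨k, k.2, congrArg (fun w : Additive h.A => (w.toMul : G)) v⟩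
  have inj : Function.Injective fun w : Additive h.A => (w.toMul : G) := fun _ _ e => Subtype.ext e
  refine ⟨ψ.toMonoidHom.comp (h.rho.codRestrict _ fun k => e.le ⟨k, rfl⟩),
    ψ.surjective.comp fun g => by obtain ⟨k, d⟩ := e.ge g.2; exact ⟨k, Subtype.ext d⟩,
    fun k => (map_eq_one_iff _ ψ.injective).trans (Subtype.ext_iff.trans (Subgroup.ext_iff.1 h.ker_rho k)),
    fun y => ⟨fun ⟨u, v, w⟩ => ?_, ?_⟩, fun k i u j v => Subtype.ext_iff.symm.trans (b ⟨_, e.le ⟨k, rfl⟩⟩ i u j v),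
    fun i u j v => ?_, fun i u j v w => tD_inj E u v (inj w), fun i u j v w => (c _).2 (tD_dj E u v w), fun u s v t w => ?_, ?_,
    fun n s t => ?_⟩
  · obtain ⟨i, d, f⟩ := (mem_XD E).1 (not_not.1 fun d => w ((c (Additive.ofMul ⟨y, u⟩)).2 ((mem_XZ E).2
      ⟨fun f => v (congrArg Subtype.val f), d⟩)))
    exact ⟨i, d, congrArg Subtype.val f⟩
  · rintro ⟨i, u, rfl⟩
    have d := (mem_XD E).2 ⟨i, u, rfl⟩
    exact ⟨(tD E i).toMul.2, fun f => z0 ((show tD E i = 0 from Subtype.ext f) ▸ d), fun f => ((mem_XZ E).1 ((c _).1 f)).2 d⟩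
  · obtain ⟨k, p, q⟩ := tr i u
    obtain ⟨l, r, s⟩ := tr j v
    exact ⟨l * k⁻¹, mul_mem r (inv_mem p), by simp only [← q, ← s]; group⟩
  · simp only [List.forall_mem_cons] at w
    simpa only [← inj.eq_iff] using! tri0 E (u := Additive.ofMul ⟨u, s⟩) (v := Additive.ofMul ⟨v, t⟩) (by
      simp only [List.forall_mem_cons, ← c]; exact w.imp_right fun w => w.imp_right fun w => w.imp_right fun w =>
        w.imp_right fun w => w.imp_right fun w => w.imp_right fun _ => by simp)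
  · rw [← card_XZ E, ← Set.ncard_image_of_injective _ inj]
    exact congrArg _ (Set.ext fun y => ⟨fun ⟨u, v⟩ => ⟨Additive.ofMul ⟨y, u⟩, (c _).1 v, rfl⟩,
      by rintro ⟨w, u, rfl⟩; exact ⟨w.toMul.2, (c _).2 u⟩⟩)
  · have d := card_fx' E (s := h.rho ⟨n, s⟩) fun v => by
      change (h.rho ⟨n, s⟩ * h.rho ⟨n, s⟩) v = v
      rw [← map_mul, show h.rho _ = 1 from h.ker_rho.ge t]; rfl
    have f : Nat.card (fx (h.rho ⟨n, s⟩)) ≤ Nat.card (h.A ⊓ Cz n : Subgroup G) := Nat.card_le_card_of_injective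
      (fun v => ⟨v.1.toMul, v.1.toMul.2, mem_Cz.2 (mul_inv_eq_iff_eq_mul.1 (congrArg Subtype.val v.2)).symm⟩)
      fun _ _ e => Subtype.ext (inj (congrArg (fun y : (h.A ⊓ Cz n : Subgroup G) => y.1) e))
    nlinarith
variable [IsSimpleGroup G] (hG : ¬ IsMulCommutative G)
include hG
theorem exP : ∃ t φ, h.JP t φ := by
  obtain ⟨x, a, b⟩ := h.exists_x
  obtain ⟨E, j⟩ := h.main a hG b
  exact ⟨_, j.jp⟩
theorem S0 {t y : G} (a : t ∈ h.A) (b : t ≠ 1) (c : ¬ IsConj z t) (d : y ∈ h.A) (e : IsConj z y) :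
    Cz y ⊓ Cz t ≤ normalizer (h.A : Set G) := by
  have k : ∀ {t}, t ∈ h.A → t ≠ 1 → ¬ IsConj z t → ∀ k : Cz z, k.1 ∈ Cz t → k.1 ∈ normalizer (h.A : Set G) :=
    fun {t} a b c k d => h.nrm_A fun u => NJ_U (by
      by_cases f : t ∈ R
      · obtain ⟨v, i, j⟩ := h.A_inf.le ⟨a, f⟩
        refine U1 (h.mem_LJ k) i ((singJ (U_q i) fun l => ?_).resolve_left fun l => c (h.conjJ hG j l))
          ((h.fix_of_comm j (mem_Cz.1 d)).symm ▸ i)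
        exact ((h.iff j).2 l).elim b fun l => c (l ▸ IsConj.refl _)
      · have i := h.A_B (k := ⟨t, h.A_le a⟩) a
        refine U2 (h.mem_LJ k) i (fun l => f ((h.ker _).1 l)) ?_
        rwa [← map_inv, ← map_mul, ← map_mul, show k * ⟨t, h.A_le a⟩ * k⁻¹ = ⟨t, h.A_le a⟩ from Subtype.ext (mem_Cz'.1 d)])
  obtain ⟨g, rfl⟩ := _root_.isConj_iff.1 e
  obtain ⟨n, i, j⟩ := h.fus h.z_A d
  intro m l
  have := k (h.cj_mem (inv_mem i) a) (by rwa [Ne, conj_eq_one_iff]) (fun f => c (f.trans (isConj_cj _ _).symm))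
    ⟨n⁻¹ * m * n, conj_mem_Cz.2 (j ▸ l.1)⟩ (conj_mem_Cz.2 (by simpa [mul_assoc] using l.2))
  simpa [mul_assoc] using mul_mem (mul_mem i this) (inv_mem i)
theorem small {D : Subgroup G} (a : D ≤ h.A) (b : ∀ d ∈ D, ¬ IsConj z d) : Nat.card D ≤ 4 := by
  obtain ⟨t, φ, j⟩ := h.exP hG
  by_contra! n
  obtain ⟨d, d1, d2⟩ := exists_notMem (D := D) [1] (show 1 < _ by omega)
  obtain ⟨u, u1, u2⟩ := exists_notMem (D := D) [1, d] (show 2 < _ by omega)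
  obtain ⟨v, v1, v2⟩ := exists_notMem (D := D) [1, d, u, d * u] n
  simp only [List.mem_cons, List.not_mem_nil, or_false, not_or] at d2 u2 v2
  obtain ⟨i, hi, rfl⟩ := (j.ty d).1 ⟨a d1, d2, b d d1⟩
  obtain ⟨k, c, e⟩ := j.tr i hi 0 (by norm_num)
  have := j.tri _ (h.cj_mem c (a u1)) _ (h.cj_mem c (a v1)) (by
    simp only [← e, conj_mul, List.forall_mem_cons]
    have f : ∀ {d}, d ∈ D → ¬ IsConj z (k * d * k⁻¹) := fun s l => b _ s (l.trans (isConj_cj _ _).symm)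
    exact ⟨f u1, f (mul_mem d1 u1), f v1, f (mul_mem d1 v1), f (mul_mem u1 v1), f (mul_mem (mul_mem d1 u1) v1), by simp⟩)
  simp only [← e, conj_mul, conj_eq_one_iff, mul_left_inj, mul_right_inj] at this
  tauto
theorem exZ {n : G} (a : n ∈ normalizer (h.A : Set G)) (b : n * n ∈ h.A) : ∃ x ∈ h.A ⊓ Cz n, IsConj z x := by
  obtain ⟨t, φ, j⟩ := h.exP hG
  by_contra! c
  have := h.small hG inf_le_left c
  have := j.fx n a b
  omega
theorem star {z' : G} {R' : Subgroup G} {π' : Cz z' →* AL V6} {P' : V6 → G → Prop} (h' : JT0 z' R' π' P') (c : IsConj z z')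
    {t : G} (t1 : t ∈ h.A) (t2 : t ∈ h'.A) (t0 : t ≠ 1) (nt : ¬ IsConj z t) {y : G} (y1 : y ∈ h'.A) (y2 : IsConj z y)
    (y3 : y ∈ normalizer (h.A : Set G)) : h'.A = h.A := by
  by_contra ne
  have D : ∀ d ∈ h'.A ⊓ h.A, ¬ IsConj z d := fun d a b => ne (h.nrm_eq h'.A_ea h'.card_A.ge fun v e =>
    h.S0 hG t1 t0 nt a.2 b ⟨mem_Cz.2 (h'.A_comm e a.1), mem_Cz.2 (h'.A_comm e t2)⟩)
  have X : h.A ⊓ Cz y ≤ normalizer (h'.A : Set G) := fun v e =>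
    h'.S0 hG t2 t0 (mt c.trans nt) y1 (c.symm.trans y2) ⟨e.2, mem_Cz.2 (h.A_comm e.1 t1)⟩
  obtain ⟨x, x1, x2⟩ := h.exZ hG y3 (h'.A_sq y1 ▸ one_mem _)
  obtain ⟨s', φ', j'⟩ := h'.exP hG
  obtain ⟨s, φ, j⟩ := h.exP hG
  have c1 := j'.fx x (X x1) (h.A_sq x1.1 ▸ one_mem _)
  have Y : h'.A ⊓ Cz x ≤ normalizer (h.A : Set G) := fun v e => h.S0 hG t1 t0 nt x1.1 x2 ⟨e.2, mem_Cz.2 (h'.A_comm e.1 t2)⟩
  obtain ⟨v, v1, v2, v3⟩ : ∃ v ∈ h'.A ⊓ Cz x, v ∉ h.A ∧ y * v ∉ h.A := by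
    by_contra! e
    have c2 := half_of (X := h'.A ⊓ Cz x) (Y := h.A) fun u a v b i l => by
      have := mul_mem (e u a i) (e v b l)
      rwa [h'.A_comm y1 a.1, mul_assoc, ← mul_assoc y, h'.A_sq y1, one_mul] at this
    have := (card_le_of_le (inf_le_inf_right _ inf_le_left : h'.A ⊓ Cz x ⊓ h.A ≤ _)).trans (h.small hG inf_le_right D)
    omega
  have sq : ∀ {a} (b : a ∈ normalizer (h.A : Set G)), a ∈ h'.A → φ ⟨a, b⟩ * φ ⟨a, b⟩ = 1 := fun b d => by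
    rw [← map_mul, j.kr]; exact ((h'.A_sq d).symm ▸ one_mem h.A : _ * _ ∈ h.A)
  obtain ⟨p, q, e1, e2, e3⟩ := mv_duad (sq y3 y1) (sq (Y v1) v1.1) (by
    rw [← map_mul, ← map_mul]; exact congrArg φ (Subtype.ext (h'.A_comm y1 v1.1))) (fun e => D y ⟨y1, (j.kr _).1 e⟩ y2)
    (fun e => v2 ((j.kr _).1 e)) fun e => v3 ((j.kr (⟨y, y3⟩ * ⟨v, Y v1⟩)).1 (by rwa [map_mul]))
  obtain ⟨a, a1, a2⟩ := ex_duad e1
  obtain ⟨b, b1, b2⟩ := ex_duad (p := φ ⟨v, Y v1⟩ • p) (q := φ ⟨v, Y v1⟩ • q) fun e => e1 (smul_left_cancel _ e)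
  have f1 := (j.ac ⟨y, y3⟩ a a1 a a1).2 (by rwa [a2])
  have f2 := (j.ac ⟨v, Y v1⟩ a a1 b b1).2 (by rw [a2, b2, Set.smul_set_insert, Set.smul_set_singleton])
  have m := ((j.ty _).2 ⟨a, a1, rfl⟩).1
  refine D _ ⟨?_, mul_mem m ((j.ty _).2 ⟨b, b1, rfl⟩).1⟩ (j.dj a a1 b b1 (by rwa [a2, b2]))
  have := mul_mem (h'.cj_mem (X ⟨m, mem_Cz.2 (mul_inv_eq_iff_eq_mul.1 f1).symm⟩) v1.1) (inv_mem v1.1)
  rwa [h.A_inv m, mul_assoc, mul_assoc, ← mul_assoc v, show v * s a * v⁻¹ = s b from f2] at this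
theorem sc {t g v : G} (t1 : t ∈ h.A) (t0 : t ≠ 1) (nt : ¬ IsConj z t) (a : g ∈ Cz t) (b : v ∈ h.A)
    (c : g * v * g⁻¹ ∈ normalizer (h.A : Set G)) : g * v * g⁻¹ ∈ h.A := by
  have m : ∀ {g v : G}, v ∈ h.A → g * v * g⁻¹ ∈ (h.cj g).A := fun b => by
    rw [h.cj_A]; exact mem_cj.2 (by simpa [mul_assoc] using b)
  have y1 := m (g := g) b
  have t2 : ∀ {g : G}, g ∈ Cz t → t ∈ (h.cj g).A := fun a => mem_Cz'.1 a ▸ m t1
  obtain ⟨x, x1, x2⟩ := h.exZ hG c ((h.cj g).A_sq y1 ▸ one_mem _)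
  obtain ⟨k, k1, Q, q1, q2, q3⟩ := exists_cj_pg (K := Cz t ⊓ Cz (g * v * g⁻¹)) (A := (h.cj g).A) (B := h.A ⊓ Cz (g * v * g⁻¹))
    (fun u e => ⟨mem_Cz.2 ((h.cj g).A_comm e (t2 a)), mem_Cz.2 ((h.cj g).A_comm e y1)⟩)
    (fun u e => ⟨mem_Cz.2 (h.A_comm e.1 t1), e.2⟩) (h.cj g).A_pg h.A_pg.to_inf_left
  have := (h.cj g).star hG (h.cj k) ((isConj_cj g z).symm.trans (isConj_cj k z)) (t2 a) (t2 k1.1) t0
    (mt (isConj_cj g z).trans nt) (m x1.1) ((isConj_cj g z).symm.trans (x2.trans (isConj_cj k x)))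
    ((h.cj g).le_nrm q1 q2 (q3 x x1))
  rw [← this, h.cj_A, mem_cj, mul_assoc, ← mem_Cz.1 k1.2, inv_mul_cancel_left] at y1
  exact y1
theorem lift2 {n : G} (a : n ∈ normalizer (h.A : Set G)) (b : n * n ∈ h.A) :
    ∃ m ∈ normalizer (h.A : Set G), ∃ v ∈ h.A, ∃ e ∈ R, e * e = 1 ∧ m * n * m⁻¹ = v * e := by
  by_cases c : n ∈ h.A
  · exact ⟨1, one_mem _, n, c, 1, one_mem _, by simp, by simp⟩
  obtain ⟨t, φ, j⟩ := h.exP hG
  have l : R ≤ normalizer (h.A : Set G) := fun _ => h.R_nA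
  have d := card_ker_mul _ (φ.comp (inclusion l)).rangeRestrict_surjective
  rw [MonoidHom.ker_rangeRestrict, show (φ.comp (inclusion l)).ker = (h.A ⊓ R).subgroupOf R from Subgroup.ext fun r =>
    (j.kr _).trans ⟨fun e => ⟨e, r.2⟩, fun e => e.1⟩, H1.card_subgroupOf_of_le inf_le_right, h.A_inf, h.card_sub, card_U, h.card] at d
  obtain ⟨_, ⟨r, rfl⟩, k, e⟩ := both_cls (F := (φ.comp (inclusion l)).range) (by omega) (by
    rintro _ ⟨r, rfl⟩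
    rw [← map_mul]
    exact (j.kr _).2 ((h.sq r.2).elim (fun e => (e.symm ▸ one_mem h.A : r.1 * r ∈ h.A)) fun e => (e.symm ▸ h.z_A : r.1 * r ∈ h.A)))
    (ord2 (g := φ ⟨n, a⟩) (by rw [← map_mul]; exact (j.kr _).2 b) fun e => c ((j.kr _).1 e))
  obtain ⟨m, rfl⟩ := j.sj k
  obtain ⟨v, p⟩ := h.ex' r r.2
  have f := (j.kr (m * ⟨n, a⟩ * m⁻¹ * (inclusion l r)⁻¹)).1 (by
    rw [map_mul, map_mul, map_mul, map_inv, map_inv, e]; exact mul_inv_cancel _)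
  obtain ⟨u, s, i⟩ : ∃ u ∈ U6s, q6 (u + v) = 0 := by
    rcases z2_cases (q6 v) with i | i
    · exact ⟨0, zero_mem _, by rwa [zero_add]⟩
    by_contra! l
    refine absurd ((U_q (U_perp fun u s => ?_)).symm.trans i) zero_ne_one
    have := l u s
    rw [q_add q6, U_q s, i, pol_comm] at this
    exact (z2_cases _).resolve_right fun e => this (by rw [e]; rfl)
  obtain ⟨y, o⟩ := h.ex u
  exact ⟨m, m.2, _, mul_mem f (inv_mem (h.sub_A ⟨u, s, o⟩)), _, h.mem (h.mul o p), (h.sq' (h.mul o p)).2 i, by simp [mul_assoc]⟩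
theorem lift1 {n : G} (a : n ∈ normalizer (h.A : Set G)) (b : n * n ∈ h.A) : ∃ v ∈ h.A, v * n * (v * n) = 1 := by
  obtain ⟨m, c, v, d, e, -, f, g⟩ := h.lift2 hG a b
  refine ⟨_, h.cj_mem (inv_mem c) (inv_mem d), ?_⟩
  rw [show m⁻¹ * v⁻¹ * m⁻¹⁻¹ * n = m⁻¹ * (v⁻¹ * (m * n * m⁻¹)) * m⁻¹⁻¹ by group, g, inv_mul_cancel_left, conj_mul, f]
  simp
end JT0
end
end H13
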