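import Cfsg.Agent.H13.JM
import Cfsg.Agent.S5599
/-! Facts on `M24` and on the coordinates of the eleven dimensional module. -/
set_option autoImplicit false
namespace H13
noncomputable section
open MulAction Cfsg H27 Subgroup
open scoped Pointwise
universe u

theorem fix_cases {g : MM} (o : orderOf g = 2) : (fixF g).card = 8 ∨ (fixF g).card = 0 := by
  rcases cls2 o with ⟨k, rfl⟩ | ⟨k, rfl⟩ <;> rw [fixF_conj, Finset.card_smul_finset]
  · exact .inl (fix_z2a ▸ card_eO0)
  · exact .inr (fix_z2b ▸ rfl)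
theorem ord2 {Γ : Type*} [Group Γ] {g : Γ} (a : g * g = 1) (b : g ≠ 1) : orderOf g = 2 := orderOf_eq_prime (by rwa [pow_two]) b
theorem odd_sq {Γ : Type*} [Group Γ] {Y : Subgroup Γ} (o : Odd (Nat.card Y)) {g : Γ} (a : g ∈ Y) (b : g * g = 1) : g = 1 :=
  not_not.1 fun c => o.not_two_dvd_nat (ord2 b c ▸ Y.orderOf_dvd_natCard a)
theorem mv_duad {g k : MM} (gg : g * g = 1) (kk : k * k = 1) (c : g * k = k * g) (g1 : g ≠ 1) (k1 : k ≠ 1) (n : g * k ≠ 1) :
    ∃ p q : GolayPt, p ≠ q ∧ g • ({p, q} : Set GolayPt) = {p, q} ∧ Disjoint ({p, q} : Set GolayPt) {k • p, k • q} := by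
  by_contra! a
  have s : ∀ {x : MM}, x * x = 1 → ∀ p : GolayPt, x • x • p = p := fun e p => by rw [← mul_smul, e, one_smul]
  have b : ∀ p q : GolayPt, p ≠ q → (g • p = p ∧ g • q = q ∨ g • p = q ∧ g • q = p) →
      k • p = p ∨ k • q = p ∨ k • p = q ∨ k • q = q := fun p q i j => by
    have := a p q i (by
      rw [Set.smul_set_insert, Set.smul_set_singleton]
      rcases j with ⟨j, l⟩ | ⟨j, l⟩ <;> rw [j, l]
      exact Set.pair_comm ..)
    simp only [Set.disjoint_insert_left, Set.disjoint_singleton_left, Set.mem_insert_iff, Set.mem_singleton_iff] at this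
    tauto
  obtain ⟨x, hx⟩ : ∃ x : GolayPt, ∀ p : GolayPt, g • p = p → k • p = p ∨ p = x ∨ p = k • x := by
    by_cases e : ∃ x : GolayPt, g • x = x ∧ k • x ≠ x
    · obtain ⟨x, e, f⟩ := e
      refine ⟨x, fun p i => ?_⟩
      by_cases j : p = x
      · exact .inr (.inl j)
      rcases b p x j (.inl ⟨i, e⟩) with l | l | l | l
      exacts [.inl l, .inr (.inr l.symm), .inr (.inr (by rw [← l, s kk])), absurd l f]
    · exact ⟨none, fun p i => .inl (not_not.1 fun j => e ⟨p, i, j⟩)⟩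
  have d : Finset.univ ⊆ fixF k ∪ fixF (g * k) ∪ {x, k • x} := fun p _ => by
    simp only [Finset.mem_union, mem_fixF, Finset.mem_insert, Finset.mem_singleton]
    by_cases e : g • p = p
    · rcases hx p e with l | l
      exacts [.inl (.inl l), .inr l]
    rcases b p (g • p) (Ne.symm e) (.inr ⟨rfl, s gg p⟩) with l | l | l | l
    exacts [.inl (.inl l), .inl (.inr (by rw [c, mul_smul, l])), .inl (.inr (by rw [mul_smul, l, s gg])),
      .inl (.inl (smul_left_cancel g (by rw [← mul_smul, c, mul_smul, l])))]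
  have e := (Finset.card_le_card d).trans ((Finset.card_union_le ..).trans (Nat.add_le_add (Finset.card_union_le ..)
    Finset.card_le_two))
  have := fix_cases (ord2 kk k1)
  have := fix_cases (ord2 (by rw [mul_assoc, ← mul_assoc k, ← c, mul_assoc g, kk, mul_one, gg]) n)
  rw [show Finset.univ.card = 24 by decide +kernel] at e
  omega
theorem both_cls {F : Subgroup MM} (c : Nat.card F = 64) (s : ∀ g ∈ F, g * g = 1) {g : MM} (o : orderOf g = 2) :
    ∃ f ∈ F, ∃ k, k * g * k⁻¹ = f := by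
  classical
  have := Fintype.ofFinite F
  have := Fintype.ofFinite (Quotient (orbitRel F GolayPt))
  by_contra! n
  have key : ∀ m, (∀ f : F, f ≠ 1 → (fixF f.1).card = m) → 64 ∣ 24 + 63 * m := fun m a => by
    have b := sum_card_fixedBy_eq_card_orbits_mul_card_group F GolayPt
    have d : ∀ f : F, Fintype.card (fixedBy GolayPt f) = (fixF f.1).card := fun f =>
      Fintype.card_of_subtype _ fun p => mem_fixF
    rw [← Nat.card_eq_fintype_card (α := F), c, ← Finset.add_sum_erase _ _ (Finset.mem_univ 1),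
      Finset.sum_const_nat (m := m) fun f e => (d f).trans (a f (Finset.ne_of_mem_erase e)), Finset.card_erase_of_mem (Finset.mem_univ _),
      Finset.card_univ, ← Nat.card_eq_fintype_card (α := F), c, d, show fixF (1 : F).1 = Finset.univ from
        Finset.eq_univ_of_forall fun p => mem_fixF.2 (one_smul _ p), show Finset.univ.card = 24 by decide +kernel] at b
    exact Dvd.intro_left _ b.symm
  have t : ∀ f : F, f ≠ 1 → orderOf f.1 = 2 := fun f e => ord2 (s _ f.2) fun d => e (Subtype.ext d)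
  have u : ∀ {f : F} {a b y : MM}, f.1 = a * y * a⁻¹ → g = b * y * b⁻¹ → False := fun {f a b y} i j =>
    n _ f.2 (a * b⁻¹) (by rw [i, j]; group)
  by_cases e : (fixF g).card = 0
  · obtain ⟨b, j⟩ := conj_z2b o e
    exact absurd (key 8 fun f d => (fix_cases (t f d)).resolve_right fun l => by
      obtain ⟨a, i⟩ := conj_z2b (t f d) l; exact u i j) (by norm_num)
  · obtain ⟨b, j⟩ := conj_z2a o e
    exact absurd (key 0 fun f d => not_not.1 fun l => by
      obtain ⟨a, i⟩ := conj_z2a (t f d) l; exact u i j) (by norm_num)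
theorem ex_duad {p q : GolayPt} (a : p ≠ q) : ∃ i < 276, eDu i = {p, q} := by
  have := (allN_iff _ _).1 ((allN_iff _ _).1 (by decide +kernel : (allN 24 fun i => allN 24 fun j => or' (Nat.beq i j)
    (force (2 ^ i ||| 2 ^ j) fun m => anyN 276 fun n => Nat.beq (ent 24 TDu n) m)) = true) _ (GE.ix_lt p)) _ (GE.ix_lt q)
  rw [or'_eq, Bool.or_eq_true, force_eq, anyN_iff, beq_iff] at this
  obtain ⟨i, b, c⟩ := this.resolve_left fun e => a (by rw [← GE.e_ix p, e, GE.e_ix])
  refine ⟨i, b, Set.ext fun r => ?_⟩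
  rw [← GE.e_ix r, eDu, setE, mem_mset GE.injOn (GE.ix_lt r), (beq_iff ..).1 c, Nat.testBit_or, Nat.testBit_two_pow, Nat.testBit_two_pow,
    GE.e_ix]
  simp only [Bool.or_eq_true, decide_eq_true_eq, Set.mem_insert_iff, Set.mem_singleton_iff]
  exact or_congr ⟨fun e => by rw [← GE.e_ix p, e, GE.e_ix], fun e => e ▸ rfl⟩ ⟨fun e => by rw [← GE.e_ix q, e, GE.e_ix], fun e => e ▸ rfl⟩
/-- the stabiliser of a duad -/
abbrev SDu : Subgroup MM := stabilizer MM ({none, some 0} : Set GolayPt)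
theorem SDu_cases {g : MM} (a : g ∈ SDu) : g ∈ H22 ∨ (g.1 none = some 0 ∧ g.1 (some 0) = none) := by
  have b : g • none ∈ ({none, some 0} : Set GolayPt) := a ▸ Set.smul_mem_smul_set (by simp)
  have c : g • some 0 ∈ ({none, some 0} : Set GolayPt) := a ▸ Set.smul_mem_smul_set (by simp)
  have d : g • (none : GolayPt) ≠ g • some 0 := fun e => by simpa using smul_left_cancel g e
  rcases b with b | b <;> rcases c with c | c
  exacts [absurd (b.trans c.symm) d, .inl ⟨b, c⟩, .inr ⟨b, c⟩, absurd (b.trans c.symm) d]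
theorem H22_le : H22 ≤ SDu := fun g a => by
  rw [mem_stabilizer_iff, Set.smul_set_insert, Set.smul_set_singleton, show g • (none : GolayPt) = none from a.1,
    show g • (some 0 : GolayPt) = some 0 from a.2]
theorem SDu_nrm {g x : MM} (a : g ∈ SDu) (b : x ∈ H22) : g * x * g⁻¹ ∈ H22 := by
  rcases SDu_cases a with c | ⟨c, d⟩
  · exact mul_mem (mul_mem c b) (inv_mem c)
  · exact (mem_M22 _).1 ((Agent.S5599.result g.1 g.2 c d).2.1 x ((mem_M22 x).2 b))
theorem SDu_sq {g : MM} (a : g ∈ SDu) : g * g ∈ H22 := by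
  rcases SDu_cases a with c | ⟨c, d⟩
  · exact mul_mem c c
  · exact ⟨(congrArg g.1 c).trans d, (congrArg g.1 d).trans c⟩
theorem odd_nrm {Y : Subgroup MM} (o : Odd (Nat.card Y)) (a : Y ≤ SDu) (b : ∀ g ∈ H22, ∀ y ∈ Y, g * y * g⁻¹ ∈ Y) : Y = ⊥ := by
  have := simple_H22
  rcases (⟨fun y c g => b g g.2 y c⟩ : (Y.subgroupOf H22).Normal).eq_bot_or_eq_top with e | e
  · exact eq_bot_iff.2 fun y c => odd_sq o c (congrArg Subtype.val (mem_bot.1 (e.le (show (⟨_, SDu_sq (a c)⟩ : H22) ∈
      Y.subgroupOf H22 from mul_mem c c))))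
  · exact absurd (dvd_trans (by norm_num) (card_H22 ▸ card_dvd_of_le (subgroupOf_eq_top.1 e))) o.not_two_dvd_nat
theorem card_SDu : Nat.card SDu = 887040 := by
  rw [← card_stab_eP2, ← stabilizer_coe_finset, show eP2 0 = {none, some 0} by rw [eP2_zero]; decide +kernel]
  simp [SDu]
theorem SDu_iso : Nonempty (SDu ≃* MulAut Spor.M22) := by
  have n : SDu ≤ normalizer (H22 : Set MM) := fun g a => mem_normalizer_fintype fun x => SDu_nrm a
  let f : SDu →* MulAut Spor.M22 := (MulAut.congr m22Equiv).toMonoidHom.comp (H22.normalizerMonoidHom.comp (inclusion n))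
  refine ⟨MulEquiv.ofBijective f ((Nat.bijective_iff_injective_and_card f).2 ⟨(injective_iff_map_eq_one f).2 fun g a => ?_, ?_⟩)⟩
  · have b : ∀ x ∈ H22, g * x * g.1⁻¹ = x := fun x d => congrArg Subtype.val (MulEquiv.congr_fun
      ((map_eq_one_iff _ (MulAut.congr m22Equiv).injective).1 a) ⟨x, d⟩)
    rcases SDu_cases g.2 with d | ⟨d, e⟩
    · refine Subtype.ext (congrArg (fun y : H22 => y.1) (ι22_inj (a₁ := ⟨_, d⟩) (a₂ := 1) (MulEquiv.ext fun y => ?_)))
      obtain ⟨y, rfl⟩ := m22Equiv.surjective y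
      simp only [ι22, MonoidHom.comp_apply, MulEquiv.coe_toMonoidHom, MulAut.conj_apply, map_one, MulAut.one_apply]
      rw [← map_inv, ← map_mul, ← map_mul]
      exact congrArg _ (Subtype.ext (b _ y.2))
    · refine absurd ⟨1, one_mem _, fun x i => ?_⟩ (Agent.S5599.result g.1.1 g.1.2 d e).2.2
      have j : x ∈ M24 := i.1.1
      simpa using congrArg Subtype.val (b ⟨x, j⟩ ((mem_M22 ⟨x, j⟩).1 i))
  · rw [card_SDu, ← ι22.range.index_mul_card, idx_ι22, ← Nat.card_congr (MonoidHom.ofInjective ι22_inj).toEquiv, card_H22]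

variable {W : Type*} [AddCommGroup W] (E : BE W 11)
theorem xz_iff {a : ℕ} (h : a < 2048) : E.e a ∈ mset 2048 E.e XZ ↔ XZ.testBit a = true := mem_mset E.injOn h
theorem tD_dj {i j : ℕ} (a : i < 276) (b : j < 276) (c : Disjoint (eDu i) (eDu j)) : tD E i + tD E j ∈ mset 2048 E.e XZ := by
  have := (allN_iff _ _).1 (by decide +kernel :
    (allN 276 fun i => force (ent 11 TDl i) fun u => force (ent 24 TDu i) fun v => allN 276 fun j =>
      or' (tb XZ (u ^^^ ent 11 TDl j)) (force (v &&& ent 24 TDu j) fun m => anyN 24 (tb m))) = true) i a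
  rw [force_eq, force_eq, allN_iff] at this
  replace this := this j b
  rw [or'_eq, Bool.or_eq_true, force_eq, anyN_iff, tb_eq] at this
  rw [tD, BE.tab, BE.tab, ← E.xor, xz_iff E (Nat.xor_lt_two_pow (ent_lt 11 ..) (ent_lt 11 ..))]
  refine this.resolve_right fun ⟨n, d, e⟩ => ?_
  rw [tb_eq, Nat.testBit_and, Bool.and_eq_true] at e
  exact Set.disjoint_left.1 c ((mem_mset GE.injOn d).2 e.1) ((mem_mset GE.injOn d).2 e.2)
theorem tri0 {u v : W} (a : ∀ w ∈ [u, tD E 0 + u, v, tD E 0 + v, u + v, tD E 0 + u + v], w ∉ mset 2048 E.e XZ) :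
    u = 0 ∨ u = tD E 0 ∨ v = 0 ∨ v = tD E 0 ∨ v = u ∨ v = tD E 0 + u := by
  obtain ⟨i, hi, rfl⟩ := E.surj u
  obtain ⟨j, hj, rfl⟩ := E.surj v
  have l := ent_lt 11 TDl 0
  have x := fun {a b : ℕ} => @Nat.xor_lt_two_pow a b 11
  have := (by decide +kernel : (force (ent 11 TDl 0) fun t => allN 2048 fun b =>
    or' (or' (tb XZ b) (tb XZ (t ^^^ b))) (or' (or' (Nat.beq b 0) (Nat.beq b t)) (allN 2048 fun c => or' (tb XZ c)
      (or' (tb XZ (t ^^^ c)) (or' (tb XZ (b ^^^ c)) (or' (tb XZ (t ^^^ b ^^^ c)) (or' (Nat.beq c 0) (or' (Nat.beq c t)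
        (or' (Nat.beq c b) (Nat.beq c (t ^^^ b))))))))))) = true)
  rw [force_eq, allN_iff] at this
  replace this := this i hi
  simp only [tD, BE.tab, ← E.xor, List.forall_mem_cons, xz_iff E hi, xz_iff E hj, xz_iff E (x l hi), xz_iff E (x l hj),
    xz_iff E (x hi hj), xz_iff E (x (x l hi) hj)] at a ⊢
  simp only [or'_eq, Bool.or_eq_true, allN_iff, tb_eq, beq_iff] at this
  obtain ⟨a1, a2, a3, a4, a5, a6, -⟩ := a
  rcases this with (e | e) | (e | e) | e
  exacts [absurd e a1, absurd e a2, .inl (e ▸ E.zero), .inr (.inl (congrArg _ e)), .inr (.inr (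
    ((((e j hj).resolve_left a3).resolve_left a4).resolve_left a5 |>.resolve_left a6).imp (fun e => (congrArg _ e).trans E.zero)
      (Or.imp (congrArg _) (Or.imp (congrArg _) (congrArg _)))))]
theorem card_fx' {d : ℕ} (E : BE W d) {s : AL W} (a : ∀ v, s (s v) = v) : 2 ^ d ≤ Nat.card (fx s) * Nat.card (fx s) := by
  have := E.finite
  let φ : W →+ W := AddMonoidHom.id _ + s.toAddEquiv.toAddMonoidHom
  have b := φ.ker.index_mul_card
  have c : φ.range ≤ fx s := by
    rintro _ ⟨v, rfl⟩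
    change s (v + s v) = v + s v
    rw [map_add, a, add_comm]
  have d : φ.ker ≤ fx s := fun v e => add_left_cancel ((show v + s v = 0 from e).trans (E.two v).symm)
  rw [AddSubgroup.index_ker, E.card] at b
  exact b ▸ Nat.mul_le_mul (AddSubgroup.card_le_of_le c) (AddSubgroup.card_le_of_le d)
end
end H13
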