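import Cfsg.Agent.H13.JG
import Cfsg.Agent.H11.Iso
/-! Groups of type `J4`: the centraliser of an element of order three. -/
set_option autoImplicit false
namespace H13
noncomputable section
open MulAction Cfsg H27 Subgroup
open scoped Pointwise
universe u
variable {G : Type u} [Group G] [Finite G] {z : G} {R : Subgroup G} {π : Cz z →* AL V6} {P : V6 → G → Prop}
theorem th_ne : thL ≠ 1 := fun e => absurd (th_fix (v := v6 1) (by rw [e]; rfl)) (by decide +kernel)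
theorem th_sq {g : AL V6} (a : g ∈ zpowers thL) (b : g * g = 1) : g = 1 :=
  odd_sq (by rw [Nat.card_zpowers, orderOf_eq_prime (p := 3) (by rw [pow_three', th_pow]) th_ne]; decide) a b
namespace JT0
omit [Finite G] in
theorem pi_sq (_ : JT0 z R π P) {k : Cz z} (a : k.1 * k = 1) : π k * π k = 1 := by
  rw [← map_mul, show k * k = 1 from Subtype.ext a, map_one]
theorem com_R (h : JT0 z R π P) {x s : Cz z} (a : π x = thL) (b : s * x * s⁻¹ * x⁻¹ * (s * x * s⁻¹ * x⁻¹) = 1) :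
    (s * x * s⁻¹ * x⁻¹).1 ∈ R := (h.ker _).1 (th_sq (by
  rw [map_mul, map_mul, map_mul, map_inv, map_inv, a]
  exact mul_mem ((mem_normalizer_iff.1 (h.mem_LJ s).2 _).1 (mem_zpowers _)) (inv_mem (mem_zpowers _))) (by rw [← map_mul, b, map_one]))
theorem mem_MJ (h : JT0 z R π P) {x k : Cz z} (a : π x = thL) (b : k * x = x * k) : π k ∈ MJ :=
  ⟨h.mem_LJ k, mem_Cz.2 (by rw [← a, ← map_mul, b, map_mul])⟩
variable {h : JT0 z R π P} {x : Cz z} {E : BE (Additive h.A) 11}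
namespace JN
variable (j : h.JN x E)
include j
theorem iso {y : G} (a : y ∈ Cz x.1) (b : y * z * y⁻¹ ∈ Cz z) : y * z * y⁻¹ = z := by
  by_contra n
  have zx : z ∈ Cz x.1 := mem_Cz.2 (mem_Cz.1 x.2).symm
  have c : (⟨_, b⟩ : Cz z) * x = x * ⟨_, b⟩ := Subtype.ext (mem_Cz.1 (mul_mem (mul_mem a zx) (inv_mem a)))
  obtain ⟨m, d, e⟩ := clsJ (h.mem_MJ j.hx c) (ord2 (h.pi_sq (h.conj_sq y))
    fun e => (h.cen_x j.hx ((h.ker _).1 e) (congrArg Subtype.val c).symm).elim (h.conj_ne_one y) n)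
  obtain ⟨l, rfl, f⟩ := h.lift_x j.hx j.x3 d
  have g : l * y * z * (l * y)⁻¹ = ((E.e 129).toMul : G) := Eq.trans (by simp [mul_assoc])
    ((j.to_c (k := l * (⟨_, b⟩ : Cz z) * l⁻¹)
    ((Commute.mul_left f c).mul_left (Commute.inv_left f)) (by rwa [map_mul, map_mul, map_inv])).resolve_left fun e => absurd
      ((j.ty (a := 128) (by norm_num)).1 (by rw [← e]; exact (isConj_cj y z).trans (isConj_cj _ _))) (by decide +kernel))
  have i : l * y ∈ Cz x.1 := mul_mem (mem_Cz.2 (congrArg Subtype.val f)) a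
  generalize l * y = y at g i
  have u : v6 5 ∈ U6s := by decide +kernel
  obtain ⟨s, p⟩ := h.ex (thL (v6 5))
  have xw : x.1 ∈ Cz (y * z * y⁻¹) := mem_Cz.2 (mem_Cz.1 (mul_mem (mul_mem i zx) (inv_mem i))).symm
  have sw : s ∈ Cz (y * z * y⁻¹) := mem_Cz.2 (g ▸ h.A_comm (h.sub_A ⟨_, U_th u, p⟩) (E.e 129).toMul.2)
  have e2 : ((E.e 2).toMul : G) = s * x * s⁻¹ * x.1⁻¹ := by
    rw [j.lo 2 (by norm_num), ← h.mu_eq p]; exact (congrArg (· * _) (pow_zero z)).trans (one_mul _)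
  have m := (h.cj y).com_R (x := ⟨_, xw⟩) (s := ⟨s, sw⟩) ((congrArg π (Subtype.ext (by
    change y⁻¹ * x * y = x
    rw [mul_assoc, ← mem_Cz.1 i, inv_mul_cancel_left]))).trans j.hx) (Subtype.ext (e2 ▸ h.A_sq (E.e 2).toMul.2 :))
  have t := j.ty (a := 2) (by norm_num)
  have nz : ¬ IsConj z ((E.e 2).toMul : G) := fun e => absurd (t.1 e) (by decide +kernel)
  obtain ⟨r, -, o⟩ := (h.cj y).exists_nc (e2 ▸ m : ((E.e 2).toMul : G) ∈ _)
    (fun e => absurd (E.inj 2 (by norm_num) (Subtype.ext e)) two_ne_zero) fun e => nz (e ▸ isConj_cj y z)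
  rw [g, ← mul] at o
  exact nz (((j.ty (a := 2 ^^^ 129) (by decide)).2 (by decide +kernel)).trans (o ▸ isConj_cj r _).symm)
theorem exψ : ∃ ψ : (Cz z ⊓ Cz x.1 : Subgroup G) →* H22, Function.Surjective ψ ∧ ∀ k, ψ k = 1 ↔ π ⟨k, k.2.1⟩ ∈ zpowers thL := by
  obtain ⟨f, a, b⟩ := h.quo
  let p : (Cz z ⊓ Cz x.1 : Subgroup G) →* MJ := (π.comp (inclusion inf_le_left)).codRestrict _ fun k =>
    h.mem_MJ j.hx (Subtype.ext (mem_Cz.1 k.2.2))
  refine ⟨(f.comp p).codRestrict _ fun k => a.le ⟨_, rfl⟩, fun g => ?_, fun k => Subtype.ext_iff.trans (b _)⟩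
  obtain ⟨m, c⟩ := a.ge g.2
  obtain ⟨k, d, e⟩ := h.lift_x j.hx j.x3 m.2
  exact ⟨⟨k, k.2, mem_Cz.2 (congrArg Subtype.val e)⟩, Subtype.ext ((congrArg f (Subtype.ext d)).trans c)⟩
theorem ker6 {k : Cz z} (a : k * x = x * k) : π k ∈ zpowers thL ↔ k.1 ∈ zpowers (x.1 * z) := by
  have c : Commute x.1 z := mem_Cz.1 x.2
  have x3 : x.1 ^ 3 = 1 := congrArg Subtype.val j.x3
  have mz : z ∈ zpowers (x.1 * z) := ⟨(3 : ℕ), by simp only [zpow_natCast]; rw [c.mul_pow, x3, one_mul, pow_three, h.zz, mul_one]⟩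
  have mx : x.1 ∈ zpowers (x.1 * z) := (mul_mem_cancel_right mz).1 (mem_zpowers _)
  refine ⟨fun ⟨n, e⟩ => ?_, fun ⟨n, e⟩ => ⟨n, ?_⟩⟩
  · rcases h.uniq_x j.hx (k := x ^ n) (Commute.self_zpow x n).symm a (by rw [map_zpow, j.hx]; exact e) with e | e <;> rw [e]
    exacts [zpow_mem mx n, mul_mem (zpow_mem mx n) mz]
  · rw [show k = (x * ⟨z, self_mem_Cz z⟩) ^ n from Subtype.ext e.symm, map_zpow, map_mul, (h.ker ⟨z, _⟩).2 h.zm, j.hx, mul_one]
theorem cen_ψ {k : (Cz z ⊓ Cz x.1 : Subgroup G)} : k ∈ center _ ↔ π ⟨k, k.2.1⟩ ∈ zpowers thL := by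
  obtain ⟨ψ, a, b⟩ := j.exψ
  have := simple_H22
  refine ⟨fun c => (b k).1 (mem_bot.1 (((inferInstance : (center H22).Normal).eq_bot_or_eq_top.resolve_right fun e =>
    nc_H22 fun u v => mem_center_iff.1 (e.ge (mem_top v)) u).le (mem_center_iff.2 fun g => ?_))), fun c => mem_center_iff.2 fun g => ?_⟩
  · obtain ⟨g, rfl⟩ := a g
    rw [← map_mul, ← map_mul, mem_center_iff.1 c]
  · obtain ⟨n, e⟩ := (j.ker6 (Subtype.ext (mem_Cz.1 k.2.2))).1 c
    have := ((Commute.mul_right (mem_Cz.1 g.2.2) (mem_Cz.1 g.2.1)).zpow_right n).eq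
    rw [show (x.1 * z) ^ n = k from e] at this
    exact Subtype.ext this
variable [IsSimpleGroup G] (hG : ¬ IsMulCommutative G)
include hG
theorem cx : Cz x.1 ≤ Cz z := by
  have zx : z ∈ Cz x.1 := mem_Cz.2 (mem_Cz.1 x.2).symm
  have i : IsIsolated (⟨z, zx⟩ : Cz x.1) := fun g c => Subtype.ext (j.iso g.2 (mem_Cz.2 (congrArg Subtype.val c.eq).symm))
  have o : orderOf (⟨z, zx⟩ : Cz x.1) = 2 := (orderOf_coe _).symm.trans h.z2
  obtain ⟨T, a⟩ := (IsPGroup.of_card (p := 2) (n := 1) ((Nat.card_zpowers _).trans o)).exists_le_sylow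
  obtain ⟨N, b, c, d⟩ := Cfsg.Agent.S0215.result T _ o (a (mem_zpowers _)) fun g e =>
    i g (mem_centralizer_singleton_iff.1 (H16.H11.iso_cent i T.2.isNilpotent (a (mem_zpowers _)) e)).symm
  have nO : Cz x.1 ≤ normalizer (N.map (Cz x.1).subtype : Set G) := H1.le_normalizer_map_subtype_iff.2 b
  have od : Odd (Nat.card (N.map (Cz x.1).subtype)) := by rwa [card_map_of_injective (Cz x.1).subtype_injective]
  have k : ∀ a < 2048, a ≠ 0 → XZ.testBit a = false → N.map (Cz x.1).subtype ⊓ Cz ((E.e a).toMul : G) ≤ Cz z :=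
    fun a u v w y e => mem_Cz.2 (h.odd_cen od e.1 (h.cen_t hG (E.e a).toMul.2 (fun f => v (E.inj a u (Subtype.ext f)))
      (by rw [j.ty u, w]; simp) e.2) h.z_A (nO zx))
  have m : ∀ i < 4, ((E.e (2 ^ (7 + i))).toMul : G) ∈ Cz x.1 := fun i u => by
    obtain ⟨c, c1, -, c3⟩ := j.cc i u
    exact c3 ▸ mem_Cz.2 (congrArg Subtype.val c1)
  have l := four_gen (H := Cz z) od (h.A_sq (E.e 128).toMul.2) (h.A_sq (E.e 512).toMul.2) (h.A_comm (E.e _).toMul.2 (E.e _).toMul.2)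
    (fun e => absurd (E.inj _ (by norm_num) (Subtype.ext e)) (by norm_num))
    (fun e => absurd (E.inj _ (by norm_num) (Subtype.ext e)) (by norm_num))
    (fun e => absurd ((E.eq_iff (by norm_num) (by norm_num)).1 (Subtype.ext e)) (by norm_num))
    (nO (m 0 (by norm_num))) (nO (m 2 (by norm_num))) (by
      simp only [List.forall_mem_cons, ← mul]
      exact ⟨k _ (by norm_num) (by norm_num) (by decide +kernel), k _ (by norm_num) (by norm_num) (by decide +kernel),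
        k _ (by decide) (by decide) (by decide +kernel), by simp⟩)
  intro g e
  have : z * g * z⁻¹ * g⁻¹ ∈ Cz z := l ⟨_, d ⟨g, e⟩, rfl⟩
  rw [h.z_inv, mul_assoc z, mul_assoc z, mul_mem_cancel_left (self_mem_Cz z)] at this
  exact mem_Cz'.2 (j.iso e this)
theorem nx : normalizer (zpowers x.1 : Set G) ≤ Cz z := fun n a => by
  have b := H1.normalizer_le_normalizer_centralizer _ a
  rw [cent_zpowers] at b
  have c := (mem_normalizer_iff.1 b z).1 (mem_Cz.2 (mem_Cz.1 x.2).symm)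
  have d := th_sq (j.cen_ψ.1 (show (⟨_, j.cx hG c, c⟩ : (Cz z ⊓ Cz x.1 : Subgroup G)) ∈ center _ from mem_center_iff.2 fun g =>
    Subtype.ext (mem_Cz.1 (conj_mem_Cz.1 (j.cx hG (by simpa using (mem_normalizer_iff.1 (inv_mem b) _).1 g.2.2))))))
    (h.pi_sq (h.conj_sq n))
  exact mem_Cz'.2 ((h.cen_x j.hx ((h.ker _).1 d) (mem_Cz.1 c).symm).resolve_left (h.conj_ne_one n))
end JN
end JT0
end
end H13
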