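import Cfsg.Agent.H13.JX
import Cfsg.Agent.H13.J3
import Cfsg.Agent.H13.Ess3
/-! Groups of type `J4`: Sylow three subgroups. -/
set_option autoImplicit false
namespace H13
noncomputable section
open MulAction Cfsg H27 Subgroup
open scoped Pointwise
universe u
variable {G : Type u} [Group G] [Finite G] {z : G} {R : Subgroup G} {π : Cz z →* AL V6} {P : V6 → G → Prop}
namespace JT0
variable (h : JT0 z R π P)
include h
theorem card_H : Nat.card (Cz z) = 2661120 * 2 ^ 13 := by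
  have := h.card_im (A := Cz z) le_rfl
  rwa [XQ.im, subgroupOf_self, ← MonoidHom.range_eq_map, h.rng, card_LJ, inf_eq_right.2 h.le, h.card, eq_comm] at this
theorem cjA {x a : G} (c : a ∈ h.A) (d : x ^ 3 = 1) (e : (a * x) ^ 3 = 1) : IsConj x (a * x) := by
  refine _root_.isConj_iff.2 ⟨x * a * x⁻¹, ?_⟩
  calc _ = x * a * x * a⁻¹ * x⁻¹ := by group
    _ = a⁻¹ * (a * x * (a * x) * (a * x)) * (x * x * x)⁻¹ * x := by conv_lhs => rw [h.A_inv c]
                                                                    group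
    _ = a * x := by rw [← pow_three', ← pow_three', d, e, h.A_inv c]; simp
variable {Q : Subgroup G} (p : IsPGroup 3 Q)
include p
theorem inf3 : Q ⊓ R = ⊥ := (IsPGroup.disjoint_of_ne 3 2 (by norm_num) Q R p h.pg).eq_bot
theorem at3 (a : Q ≤ Cz z) (c : 27 ≤ Nat.card Q) : ∃ π P, JT0 z R π P ∧ XQ.im π Q = S3 := by
  have := E6.finite
  obtain ⟨k, b, e⟩ := exists_conj_le_sylow Nat.prime_three (S3_NJ.trans NJ_LJ) card_S3 (by rw [card_LJ]; norm_num) (h.im_le Q)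
    (p.comap_subtype.map π)
  have d := (h.reb (inv_mem b)).card_im a
  rw [h.inf3 p, card_bot, mul_one] at d
  refine ⟨_, _, h.reb (inv_mem b), eq_of_le_of_card_ge ?_ (by rw [d, card_S3]; exact c)⟩
  rintro _ ⟨y, s, rfl⟩
  simpa using e _ ⟨y, s, rfl⟩
theorem inj3 {k l : Cz z} (a : k.1 ∈ Q) (b : l.1 ∈ Q) (c : π k = π l) : k = l := Subtype.ext (eq_of_inv_mul_eq_one
  ((h.inf3 p).le ⟨Q.mul_mem (Q.inv_mem a) b, (h.ker (k⁻¹ * l)).1 (by rw [map_mul, map_inv, c, inv_mul_cancel])⟩))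
variable (l : Q ≤ Cz z) (e : XQ.im π Q = S3)
include l e
theorem card3 : Nat.card Q = 27 := by rw [← h.card_im l, h.inf3 p, card_bot, e, card_S3]; rfl
theorem exp3 {y : G} (a : y ∈ Q) : y ^ 3 = 1 := congrArg Subtype.val (h.inj3 p (k := ⟨y, l a⟩ ^ 3) (l := 1) (pow_mem a 3) (one_mem _)
  (by rw [map_pow, map_one, S3_exp (e.le ⟨_, a, rfl⟩)]))
theorem ncomm3 : ¬ IsMulCommutative Q := fun a => nc3 (im_comm (π := π) (fun x b y c => congrArg Subtype.val (a.1.1 ⟨x, b⟩ ⟨y, c⟩))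
  _ (e.ge (mem_cl (by simp))) _ (e.ge (mem_cl (by simp))))
omit l in
theorem com3 {x y : Cz z} (a : x.1 ∈ Q) (b : π x = thL) (c : y.1 ∈ Q) : y * x = x * y := h.inj3 p (mul_mem c a) (mul_mem a c) (by
  rw [map_mul, map_mul, b, mem_Cz.1 (MJ_lin (S3_MJ (e.le ⟨_, c, rfl⟩)))])
theorem lift3 {m : AL V6} (a : m ∈ N3) [IsSimpleGroup G] (hG : ¬ IsMulCommutative G) :
    ∃ k : Cz z, k.1 ∈ normalizer (Q : Set G) ∧ π k = m := by
  obtain ⟨x, b, hx⟩ := e.ge (show thL ∈ S3 from mem_cl (by simp))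
  have x3 : x ^ 3 = 1 := Subtype.ext (h.exp3 p l e b)
  obtain ⟨E, j⟩ := h.main hx hG x3
  obtain ⟨k, rfl, c⟩ : ∃ k : Cz z, π k = m ∧ k * x * k⁻¹ ∈ zpowers x := by
    by_cases c : m ∈ MJ
    · exact (h.lift_x hx x3 c).imp fun k d => ⟨d.1, by rw [d.2, mul_inv_cancel_right]; exact mem_zpowers x⟩
    · exact (j.lift_n a.1 c).imp fun k d => ⟨d.1, by rw [d.2]; exact mul_mem (mem_zpowers x) (mem_zpowers x)⟩
  have d := H1.normalizer_le_normalizer_centralizer _ (mem_nz c)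
  rw [cent_zpowers] at d
  refine ⟨k, mem_normalizer_fintype fun y f => ?_, rfl⟩
  obtain ⟨w, g, i⟩ := e.ge ((mem_normalizer_iff.1 a.2 _).1 (e.le ⟨⟨y, l f⟩, f, rfl⟩))
  rcases h.uniq_x hx (h.com3 p e b hx g) (mem_Cz.1 ((mem_normalizer_iff.1 d ⟨y, l f⟩).1 (mem_Cz.2 (h.com3 p e b hx f))))
    (by rw [i, map_mul, map_mul, map_inv]) with o | o
  · exact (show k.1 * y * k.1⁻¹ = w.1 from o) ▸ (show w.1 ∈ Q from g)
  · have := congrArg (· ^ 3) o
    simp only [coe_mul, coe_inv] at this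
    rw [conj_pow, h.exp3 p l e f, Commute.mul_pow (mem_Cz.1 w.2), h.exp3 p l e (show w.1 ∈ Q from g), pow_three, h.zz] at this
    exact absurd (by simpa using this.symm) h.z_ne
variable [IsSimpleGroup G] (hG : ¬ IsMulCommutative G)
include hG
theorem nrm3 : normalizer (Q : Set G) ≤ Cz z := fun n a => by
  obtain ⟨x, b, hx⟩ := e.ge (show thL ∈ S3 from mem_cl (by simp))
  have x3 : x ^ 3 = 1 := Subtype.ext (h.exp3 p l e b)
  obtain ⟨E, j⟩ := h.main hx hG x3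
  have c := (mem_normalizer_iff.1 a _).1 b
  have d : ∀ s ∈ S3, s * π ⟨_, l c⟩ = π ⟨_, l c⟩ * s := fun s f => by
    obtain ⟨y, f', rfl⟩ := e.ge f
    have g := (mem_normalizer_iff.1 (inv_mem a) y.1).1 f'
    have := congrArg Subtype.val (h.com3 p e b hx (y := ⟨_, l g⟩) g)
    rw [← map_mul, ← map_mul]
    exact congrArg π (Subtype.ext ((MulAut.conj n⁻¹).injective (by simpa [mul_assoc] using this)))
  obtain ⟨k, f, g⟩ := cls3J (e.le ⟨⟨_, l c⟩, c, rfl⟩) fun f => th_ne (by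
    have := congrArg Subtype.val (h.inj3 p (k := ⟨_, l c⟩) (l := 1) c (one_mem _) (f.trans (map_one π).symm))
    rw [← hx, show x = 1 from Subtype.ext (conj_eq_one_iff.1 this), map_one])
  rcases g with g | g
  · obtain ⟨i, o⟩ := (mem_normalizer_iff.1 f.1.2 (π ⟨_, l c⟩)).2 (by rw [g]; exact mem_zpowers thL)
    exact j.nx hG (mem_nz ⟨i, congrArg Subtype.val (h.inj3 p (k := x ^ i) (l := ⟨_, l c⟩) (zpow_mem b i) c (by
      rw [map_zpow, hx]; exact o))⟩)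
  · refine absurd ((MulAut.conj k⁻¹).injective ?_) nc3
    simpa [← g, mul_assoc] using (d _ ((mem_normalizer_iff.1 (inv_mem f.2) w3).1 (mem_cl (by simp)))).symm
theorem cardN3 : Nat.card (normalizer (Q : Set G)) = 864 := by
  obtain ⟨x, b, hx⟩ := e.ge (show thL ∈ S3 from mem_cl (by simp))
  rw [← h.card_im (h.nrm3 p l e hG), show XQ.im π (normalizer (Q : Set G)) = N3 from le_antisymm ?_ fun m a => h.lift3 p l e a hG,
    card_N3, show normalizer (Q : Set G) ⊓ R = zpowers z from le_antisymm (fun r a => (mem_zpowers_two h.z2).2 (h.cen_x hx a.2 ?_))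
      (zpowers_le.2 ⟨mem_normalizer_fintype fun y a => by rwa [← mem_Cz.1 (l a), mul_inv_cancel_right], h.zm⟩), Nat.card_zpowers, h.z2]
  · have := mem_bot.1 ((h.inf3 p).le ⟨Q.mul_mem ((mem_normalizer_iff.1 a.1 x.1).1 b) (Q.inv_mem b), by
      simpa [mul_assoc] using R.mul_mem a.2 (h.nrm x x.2 _ (R.inv_mem a.2))⟩)
    rwa [mul_inv_eq_one, mul_inv_eq_iff_eq_mul, eq_comm] at this
  · have := E6.finite
    rintro _ ⟨k, a, rfl⟩
    refine ⟨h.mem_LJ k, mem_normalizer_fintype fun s c => ?_⟩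
    obtain ⟨y, c', rfl⟩ := e.ge c
    exact e.le ⟨k * y * k⁻¹, (mem_normalizer_iff.1 a y.1).1 c', by simp⟩
theorem cls3Q {x : Cz z} (b : x.1 ∈ Q) (hx : π x = thL) {y : G} (a : y ∈ Q) (n : y ≠ 1) : IsConj x.1 y := by
  have x3 : x ^ 3 = 1 := Subtype.ext (h.exp3 p l e b)
  obtain ⟨E, j⟩ := h.main hx hG x3
  obtain ⟨r, c, d⟩ := e.ge (show u3 ∈ S3 from mem_cl (by simp))
  have k : ∀ {y} (a : y ∈ Q), y ≠ 1 → (π ⟨y, l a⟩ ∈ zpowers thL ∧ IsConj x.1 y) ∨ IsConj r.1 y := fun {y} a n => by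
    obtain ⟨m, f, g⟩ := cls3J (e.le ⟨⟨_, l a⟩, a, rfl⟩) fun f =>
      n (congrArg Subtype.val (h.inj3 p (k := ⟨_, l a⟩) (l := 1) a (one_mem _) (f.trans (map_one π).symm)))
    obtain ⟨k, i, rfl⟩ := h.lift3 p l e f hG
    have o := (mem_normalizer_iff.1 i _).1 a
    rw [← map_inv, ← map_mul, ← map_mul] at g
    rcases g with g | g
    · refine Or.inl ⟨(mem_normalizer_iff.1 f.1.2 _).2 (by rw [← map_inv, ← map_mul, ← map_mul, g]; exact mem_zpowers _), ?_⟩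
      rw [← h.inj3 p (k := k * ⟨y, l a⟩ * k⁻¹) o b (g.trans hx.symm)]
      exact (isConj_cj k.1 y).symm
    · refine Or.inr ?_
      rw [← h.inj3 p (k := k * ⟨y, l a⟩ * k⁻¹) o c (g.trans d.symm)]
      exact (isConj_cj k.1 y).symm
  refine (k a n).elim And.right (IsConj.trans ?_)
  have lN : Q ≤ normalizer (h.A : Set G) := fun y a => h.nrm_A (k := ⟨y, l a⟩) fun u => NJ_U (S3_NJ (e.le ⟨_, a, rfl⟩))
  obtain ⟨φ, sj, kr, st⟩ := h.exSt hG (E.e 128).toMul.2 (fun e => absurd (E.inj _ (by norm_num) (Subtype.ext e)) (by norm_num))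
    (by rw [j.ty (by norm_num)]; decide +kernel)
  let ψ := φ.comp (inclusion lN)
  have ij : Function.Injective ψ := (injective_iff_map_eq_one _).2 fun y a => Subtype.ext
    ((IsPGroup.disjoint_of_ne 3 2 (by norm_num) Q h.A p h.A_pg).le_bot ⟨y.2, (kr _).1 a⟩)
  have o : ∀ y : Q, y ≠ 1 → orderOf (ψ y) = 3 := fun y a => (orderOf_injective ψ ij y).trans
    (orderOf_eq_prime (Subtype.ext (h.exp3 p l e y.2)) a)
  have x1 : (⟨x, b⟩ : Q) ≠ 1 := fun f => th_ne (by rw [← hx, show x = 1 from Subtype.ext (congrArg (fun y : Q => y.1) f), map_one])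
  have f1 : none ∈ fixF (ψ ⟨x, b⟩) := by
    obtain ⟨c, c1, -, c3⟩ := j.cc 0 (by norm_num)
    have := SDu_sq ((st ⟨x, lN b⟩).1 (mem_Cz.2 (c3 ▸ (congrArg Subtype.val c1).symm)))
    have := mul_mem this this
    rw [← mul_assoc, ← pow_three', show φ ⟨x, lN b⟩ ^ 3 = 1 from o _ x1 ▸ pow_orderOf_eq_one (ψ ⟨x, b⟩), one_mul] at this
    exact mem_fixF.2 this.1
  obtain ⟨u, f2⟩ := conj_x3a (o _ x1) (Finset.card_ne_zero_of_mem f1)
  obtain ⟨y, f3, f4⟩ : ∃ y : Q, ψ y • (none : GolayPt) = none ∧ y ∉ zpowers ⟨x, b⟩ := by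
    by_contra! f
    have := card_le_step ψ.range none ((fixF (ψ (⟨x.1, b⟩ : Q)) : Finset GolayPt) : Set GolayPt) (Set.toFinite _) (by
      rintro _ ⟨y, rfl⟩
      refine mem_fixF.2 ?_
      rw [← mul_smul, ← map_mul, show (⟨x, b⟩ : Q) * y = y * ⟨x, b⟩ from
        Subtype.ext (congrArg (fun y : Cz z => y.1) (h.com3 p e b hx (y := ⟨y, l y.2⟩) y.2)).symm, map_mul, mul_smul, mem_fixF.1 f1])
      (m := 6) (by rw [Set.ncard_coe_finset, show ψ ⟨x, b⟩ = _ from f2, fixF_conj, Finset.card_smul_finset, fix_x3a, card_hex0])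
      (c := 3) ((card_le_of_le (Q := zpowers (ψ ⟨x, b⟩)) (by
        rintro _ ⟨⟨y, rfl⟩, a⟩
        exact MonoidHom.map_zpowers ψ _ ▸ mem_map_of_mem ψ (f y a))).trans (by rw [Nat.card_zpowers, o _ x1]))
    rw [← Nat.card_congr (MonoidHom.ofInjective ij).toEquiv, h.card3 p l e] at this
    omega
  have y1 : y ≠ 1 := fun f => f4 (f ▸ one_mem _)
  obtain ⟨v, f5⟩ := conj_x3a (o _ y1) (Finset.card_ne_zero_of_mem (mem_fixF.2 f3))
  obtain ⟨m, f6⟩ := sj (u * v⁻¹)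
  have f7 := (kr (m * ⟨y, lN y.2⟩ * m⁻¹ * ⟨x, lN b⟩⁻¹)).1 (by
    rw [map_mul, map_mul, map_mul, map_inv, map_inv, f6, show φ ⟨y, _⟩ = _ from f5, show φ ⟨x, _⟩ = _ from f2]; group)
  have f8 := h.cjA f7 (congrArg Subtype.val x3) (by simp [conj_pow, h.exp3 p l e y.2])
  refine (f8.trans (by simpa using (isConj_cj m.1 y).symm)).trans ((k y.2 fun f => y1 (Subtype.ext f)).resolve_left ?_).symm
  rintro ⟨⟨i, f⟩, -⟩
  exact f4 ⟨i, Subtype.ext (congrArg (fun y : Cz z => y.1) (h.inj3 p (k := x ^ i) (l := ⟨_, l y.2⟩) (zpow_mem b i) y.2 (by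
    rw [map_zpow, hx]; exact f)))⟩
end JT0
end
end H13
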