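import Cfsg.Agent.H13.BE
import Cfsg.Agent.H27.NRef
/-! Upper bounds for the order of a linear group over `F_2` that leaves some sets of vectors invariant. -/
set_option autoImplicit false
namespace H13
noncomputable section
open MulAction Cfsg H27

/-- new fixed vector, orbit bound, conditions (set index, combination of fixed vectors, side) -/
abbrev LStep := Nat × Nat × List (Nat × Nat × Bool)
def lsP (Cs F : List Nat) (W : List (Nat × Nat × Bool)) (k : (Nat → Bool) → Bool) : Bool :=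
  List.rec (motive := fun _ => ((Nat → Bool) → Bool) → Bool) (fun k => k fun _ => true)
    (fun t _ ih k => force (nth 0 Cs t.1) fun X => force (xsum F t.2.1) fun c =>
      ih fun p => k fun j => and' (ite' t.2.2 (tb X (Nat.xor j c)) (not' (tb X (Nat.xor j c)))) (p j)) W k
def lbRun (d : Nat) (Cs C : List Nat) (S : List LStep) : List Nat → Bool :=
  List.rec (motive := fun _ => List Nat → Bool)
    (fun F => allN d fun k => Nat.beq (xsum F (nth 0 C k)) (Nat.shiftLeft 1 k))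
    (fun s _ ih F => and' (and' (Nat.ble (Nat.succ s.1) (Nat.shiftLeft 1 d))
      (lsP Cs F s.2.2 fun p => and' (p s.1) (Nat.beq (cnt (Nat.shiftLeft 1 d) p) s.2.1))) (ih (s.1 :: F))) S
def lbOrd (S : List LStep) : Nat := List.rec 1 (fun s _ ih => Nat.mul s.2.1 ih) S

theorem lsP_spec (Cs F : List Nat) (W : List (Nat × Nat × Bool)) (k : (Nat → Bool) → Bool) :
    lsP Cs F W k = k fun j => decide (∀ t ∈ W, (nth 0 Cs t.1).testBit (j ^^^ xsum F t.2.1) = t.2.2) := by
  induction W generalizing k with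
  | nil => simp [lsP]
  | cons t W ih =>
    change force (nth 0 Cs t.1) (fun X => force (xsum F t.2.1) fun c => lsP Cs F W fun p => k fun j =>
      and' (ite' t.2.2 (tb X (Nat.xor j c)) (not' (tb X (Nat.xor j c)))) (p j)) = _
    rw [force_eq, force_eq, ih]
    refine congrArg k (funext fun j => ?_)
    simp only [List.forall_mem_cons, and'_eq, Bool.decide_and, tb_eq, not'_eq, Nat.xor_eq]
    congr 1
    cases t.2.2 <;> simp

variable {V : Type*} [AddCommGroup V] {d : Nat} (E : BE V d) {G : Type*} [Group G] [DistribMulAction G V]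
theorem BE.lin_bound' {Cs : List Nat} (C : List Nat) (S : List LStep) {H : Subgroup G} {c : Nat}
    (hf : ∀ K ≤ H, (∀ g ∈ K, ∀ v : V, g • v = v) → Nat.card K ≤ c)
    (hC : ∀ X ∈ Cs, QInv H (2 ^ d) E.e X) {F : List Nat} (hF : ∀ b ∈ F, b < 2 ^ d ∧ ∀ g ∈ H, g • E.e b = E.e b)
    (h : lbRun d Cs C S F = true) : Nat.card H ≤ lbOrd S * c := by
  have fx : ∀ {H : Subgroup G} {F : List Nat}, (∀ b ∈ F, b < 2 ^ d ∧ ∀ g ∈ H, g • E.e b = E.e b) → ∀ a,
      xsum F a < 2 ^ d ∧ ∀ g ∈ H, g • E.e (xsum F a) = E.e (xsum F a) := fun {H F} hF =>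
    xsum_ind (fun b => b < 2 ^ d ∧ ∀ g ∈ H, g • E.e b = E.e b) ⟨by positivity, fun _ _ => by rw [E.zero, smul_zero]⟩
      (fun x y u v => ⟨Nat.xor_lt_two_pow u.1 v.1, fun g hg => by rw [E.xor, smul_add, u.2 g hg, v.2 g hg]⟩) F hF
  have sh : Nat.shiftLeft 1 d = 2 ^ d := Nat.one_shiftLeft d
  induction S generalizing H F with
  | nil =>
    simp only [lbRun, allN_iff, beq_iff] at h
    rw [show lbOrd [] = 1 from rfl, one_mul]
    refine hf H le_rfl fun g hg => E.top_of (K := (DistribSMul.toAddMonoidHom V g).eqLocus (AddMonoidHom.id V))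
      fun k hk => ?_
    rw [← Nat.one_shiftLeft, ← show _ = 1 <<< k from h k hk]
    exact (fx hF _).2 g hg
  | cons s S ih =>
    change and' (and' _ (lsP _ _ _ _)) (lbRun d Cs C S (s.1 :: F)) = true at h
    simp only [lsP_spec, and'_eq, Bool.and_eq_true, Nat.ble_eq, sh, beq_iff, decide_eq_true_eq] at h
    obtain ⟨⟨h1, h2, h3⟩, h4⟩ := h
    rw [show lbOrd (s :: S) = s.2.1 * lbOrd S from rfl, mul_assoc]
    refine card_le_step H (E.e s.1) {y | ∃ j < 2 ^ d,
      decide (∀ t ∈ s.2.2, (nth 0 Cs t.1).testBit (j ^^^ xsum F t.2.1) = t.2.2) = true ∧ E.e j = y}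
      (have := E.finite; Set.toFinite _) (fun g hg => ?_) ((ncard_image_cnt E.injOn _ _ fun _ => Iff.rfl).trans h3).le
      (ih (fun K a => hf K (a.trans inf_le_left)) (fun X a => (hC X a).mono inf_le_left)
        (List.forall_mem_cons.2 ⟨⟨h1, fun g a => a.2⟩, fun b a => ⟨(hF b a).1, fun g u => (hF b a).2 g u.1⟩⟩) h4)
    refine ⟨E.ix (g • E.e s.1), E.ix_lt _, decide_eq_true fun t ht => ?_, E.e_ix _⟩
    rw [← h2 t ht, nth_eq]
    have a := fx hF t.2.1
    rcases lt_or_ge t.1 Cs.length with u | u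
    · rw [List.getD_eq_getElem _ _ u, Bool.eq_iff_iff]
      refine ((hC _ (List.getElem_mem u)).iff hg (Nat.xor_lt_two_pow h1 a.1) (Nat.xor_lt_two_pow (E.ix_lt _) a.1) ?_).symm
      rw [E.xor, E.xor, smul_add, a.2 g hg, E.e_ix]
    · rw [List.getD_eq_default _ _ u]; simp
theorem BE.lin_bound {Cs : List Nat} (C : List Nat) (S : List LStep) {H : Subgroup (AL V)}
    (hC : ∀ X ∈ Cs, QInv H (2 ^ d) E.e X) {F : List Nat} (hF : ∀ b ∈ F, b < 2 ^ d ∧ ∀ g ∈ H, g • E.e b = E.e b) {m : Nat}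
    (h : and' (lbRun d Cs C S F) (Nat.beq (lbOrd S) m) = true) : Nat.card H ≤ m := by
  simp only [and'_eq, Bool.and_eq_true, beq_iff] at h
  have := E.lin_bound' (c := 1) C S (fun K _ a => by
    rw [(Subgroup.eq_bot_iff_forall K).2 fun g hg => LinearEquiv.ext (a g hg), Subgroup.card_bot]) hC hF h.1
  rwa [mul_one, h.2] at this
theorem BE.qinv_one (H : Subgroup G) : QInv H (2 ^ d) E.e 1 := fun k _ i hi j hj a b => by
  rw [Nat.testBit_one_eq_true_iff_self_eq_zero] at b ⊢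
  rw [b, E.zero, smul_zero] at a
  exact E.inj j hj a.symm
omit E in
theorem qinv_of {G Ω : Type*} [Group G] [MulAction G Ω] {n : Nat} {e : Nat → Ω} (he : Set.InjOn e {j | j < n})
    {H : Subgroup G} {X : Nat} (h : ∀ g ∈ H, ∀ y ∈ mset n e X, g • y ∈ mset n e X) : QInv H n e X :=
  fun k hk i hi j hj a b => (mem_mset he hj).1 (a ▸ h k hk _ ((mem_mset he hi).2 b))
/-- a subset of a table as a set of codes -/
def toM (d n T Z : Nat) : Nat :=
  Nat.rec 0 (fun i r => ite' (tb Z i) (Nat.lor r (Nat.shiftLeft 1 (ent d T i))) r) n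
omit E in
theorem testBit_toM (d n T Z a : Nat) : (toM d n T Z).testBit a = true ↔ ∃ i < n, Z.testBit i = true ∧ ent d T i = a := by
  induction n with
  | zero => simp [toM]
  | succ n ih =>
    change (ite' (tb Z n) (toM d n T Z ||| Nat.shiftLeft 1 (ent d T n)) (toM d n T Z)).testBit a = true ↔ _
    rw [Nat.exists_lt_succ_right, ← ih, tb_eq]
    cases Z.testBit n
    · simp
    · rw [ite'_true, Nat.testBit_or, Bool.or_eq_true, testBit_one_shiftLeft, eq_comm (a := a), eq_self, true_and]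
theorem BE.mset_toM (n T Z : Nat) : mset n (E.tab T) Z = mset (2 ^ d) E.e (toM d n T Z) := Set.ext fun _ =>
  ⟨fun ⟨i, h, a⟩ => ⟨_, ⟨ent_lt d T i, (testBit_toM ..).2 ⟨i, h.1, h.2, rfl⟩⟩, a⟩, fun ⟨_, h, a⟩ => by
    obtain ⟨i, u, v, rfl⟩ := (testBit_toM ..).1 h.2
    exact ⟨i, ⟨u, v⟩, a⟩⟩
open scoped Pointwise in
theorem BE.qinv_set {H : Subgroup G} {n m T U : Nat} (h : ∀ g ∈ H, ∀ j < m, g • setE n (E.tab T) U j = setE n (E.tab T) U j)
    {J : List Nat} (hJ : ∀ j ∈ J, j < m) : ∀ X ∈ mapL (fun j => toM d n T (ent n U j)) J, QInv H (2 ^ d) E.e X := by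
  rw [mapL_eq, List.forall_mem_map]
  refine fun j hj => qinv_of E.injOn fun g hg y hy => ?_
  rw [← E.mset_toM] at hy ⊢
  exact (h g hg j (hJ j hj)).le (Set.smul_mem_smul_set hy)
omit E in
theorem card_cons_le {G : Type*} [Group G] {g : G} {ks : List G} [Finite (cl ks)] {p : Nat} (hp : 0 < p)
    (hpow : g ^ p ∈ cl ks) (hn : ∀ k ∈ ks, g * k * g⁻¹ ∈ cl ks) : Nat.card (cl (g :: ks)) ≤ p * Nat.card (cl ks) := by
  have hs : Function.Surjective (fun y : Fin p × cl ks => (⟨y.2 * g ^ y.1.1, Subgroup.mul_mem _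
      (cl_le (fun _ h => mem_cl (List.mem_cons_of_mem _ h)) y.2.2)
      (Subgroup.pow_mem _ (mem_cl List.mem_cons_self) _)⟩ : cl (g :: ks))) := by
    rintro ⟨x, hx⟩
    obtain ⟨a, ha, k, hk, rfl⟩ := pc_step rfl hp hpow hn hx
    exact ⟨(⟨a, ha⟩, ⟨k, hk⟩), rfl⟩
  simpa [Nat.card_prod] using Nat.card_le_card_of_surjective _ hs
end
end H13
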