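import Cfsg.Agent.H29.Lee
/-! The Leech lattice modulo two: short representatives, the invariant quadratic form, stabilisers of classes. -/
set_option autoImplicit false
namespace H13
noncomputable section
open MulAction Cfsg H27 H29
attribute [-simp] Fintype.sum_option

/-- congruence modulo twice the lattice -/
def Cg (v w : LL) : Prop := ∃ u : LL, v = w + (u + u)
abbrev nm (v : LL) : ℤ := sqNorm (v : VV)
abbrev dt (v w : LL) : ℤ := dotInt (v : VV) (w : VV)

theorem Cg.refl (v : LL) : Cg v v := ⟨0, by simp⟩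
theorem Cg.symm {v w : LL} (h : Cg v w) : Cg w v := by
  obtain ⟨u, rfl⟩ := h; exact ⟨-u, by abel⟩
theorem Cg.trans {v w x : LL} (h : Cg v w) (h' : Cg w x) : Cg v x := by
  obtain ⟨u, rfl⟩ := h; obtain ⟨u', rfl⟩ := h'; exact ⟨u + u', by abel⟩
theorem Cg.add {v w x y : LL} (h : Cg v w) (h' : Cg x y) : Cg (v + x) (w + y) := by
  obtain ⟨u, rfl⟩ := h; obtain ⟨u', rfl⟩ := h'; exact ⟨u + u', by abel⟩
theorem cg_neg (v : LL) : Cg (-v) v := ⟨-v, by abel⟩
theorem Cg.smul {v w : LL} (h : Cg v w) (g : CC) : Cg (g • v) (g • w) := by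
  obtain ⟨u, rfl⟩ := h; exact ⟨g • u, by rw [smul_add, smul_add]⟩
theorem cg_smul_iff {v w : LL} (g : CC) : Cg (g • v) (g • w) ↔ Cg v w :=
  ⟨fun h => by simpa using h.smul g⁻¹, fun h => h.smul g⟩
theorem cg_zero_iff {v : LL} : Cg v 0 ↔ ∃ u : LL, v = u + u := by simp [Cg]
theorem cg_iff_add {v w : LL} : Cg v w ↔ Cg (v + w) 0 :=
  ⟨fun ⟨u, h⟩ => ⟨u + w, by rw [h]; abel⟩, fun ⟨u, h⟩ => ⟨u - w, by
    rw [← sub_eq_zero] at h ⊢; rw [← h]; abel⟩⟩
theorem cg_self_add (v : LL) : Cg (v + v) 0 := ⟨v, by simp⟩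
theorem Cg.ex {v w : LL} (h : Cg v w) : ∃ z ∈ leechLattice, (v : VV) - (w : VV) = 2 • z := by
  obtain ⟨u, rfl⟩ := h; exact ⟨u, u.2, by simp [two_smul]⟩
theorem cg_of_sub {v w z : LL} (h : v - w = 2 • z) : Cg v w := ⟨z, by rw [← two_smul ℕ z, ← h]; abel⟩
theorem Cg.sub {v w : LL} (h : Cg v w) : ∃ z : LL, v - w = 2 • z := by
  obtain ⟨u, rfl⟩ := h; exact ⟨u, by simp [two_smul]⟩

theorem nm_add (v w : LL) : nm (v + w) = nm v + nm w + 2 * dt v w := sqNorm_add _ _
theorem nm_neg (v : LL) : nm (-v) = nm v := sqNorm_neg _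
theorem nm_zero : nm 0 = 0 := by simp [nm, sqNorm]
theorem nm_smul (g : CC) (v : LL) : nm (g • v) = nm v := co_norm _ _
theorem dt_smul (g : CC) (v w : LL) : dt (g • v) (g • w) = dt v w := co_dot _ _ _
theorem dt_add (v w x : LL) : dt v (w + x) = dt v w + dt v x := dot_add _ _ _
theorem add_dt (v w x : LL) : dt (v + w) x = dt v x + dt w x := add_dot _ _ _
theorem dt_comm (v w : LL) : dt v w = dt w v := dot_comm _ _
theorem dt_self (v : LL) : dt v v = nm v := (sqNorm_eq_dot _).symm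
theorem nm16 (v : LL) : 16 ∣ nm v := sixteen_dvd v.2
theorem dt8 (v w : LL) : 8 ∣ dt v w := eight_dvd_dot v.2 w.2
theorem Cg.nm32 {v w : LL} (h : Cg v w) : (32 : ℤ) ∣ nm v - nm w := by
  obtain ⟨u, rfl⟩ := h
  have a := nm16 u; have b := dt8 w u
  rw [nm_add, nm_add, dt_add, dt_self]; omega
theorem Cg.dt16 {v w : LL} (h : Cg v w) (x : LL) : (16 : ℤ) ∣ dt v x - dt w x := by
  obtain ⟨u, rfl⟩ := h
  have b := dt8 u x
  rw [add_dt, add_dt]; omega
theorem eq_zero_of_nm {v : LL} (h : nm v = 0) : v = 0 := Subtype.ext (sqNorm_eq_zero h)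
theorem Cg.short {v w : LL} (h : Cg v w) (hv : nm v ≤ 64) (hw : nm w ≤ 64) :
    v = w ∨ v = -w ∨ (nm v = 64 ∧ nm w = 64) := by
  by_cases e : v = w
  · exact Or.inl e
  rcases short_congr v.2 w.2 (fun a => e (Subtype.ext a)) hv hw h.ex with a | a
  · exact Or.inr (Or.inl (Subtype.ext a))
  · exact Or.inr (Or.inr ⟨a.1, a.2.1⟩)
theorem Cg.nm_eq {v w : LL} (h : Cg v w) (hv : nm v ≤ 64) (hw : nm w ≤ 64) : nm v = nm w := by
  rcases h.short hv hw with rfl | rfl | a
  · rfl
  · exact nm_neg _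
  · omega
theorem Cg.pm {v w : LL} (h : Cg v w) (hv : nm v ≤ 64) (hw : nm w < 64) : v = w ∨ v = -w := by
  rcases h.short hv hw.le with a | a | a
  exacts [Or.inl a, Or.inr a, by omega]
theorem not_cg_zero {v : LL} (h0 : 0 < nm v) (hv : nm v ≤ 64) : ¬ Cg v 0 := fun h => by
  have := h.nm_eq hv (by rw [nm_zero]; norm_num)
  rw [nm_zero] at this; omega
theorem cg_e8 {v : LL} (hv : nm v = 64) (j : GolayPt) : Cg v (e8 j) ↔ v ∈ SC :=
  ⟨fun h => by obtain ⟨z, a⟩ := h.sub; exact mem_SC_of_congr hv a,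
    fun h => by obtain ⟨z, a⟩ := exists_congr_of_SC h j; exact cg_of_sub a⟩
theorem cg_e8_iff {g : CC} : Cg (g • e8 none) (e8 none) ↔ g ∈ NN := by
  rw [cg_e8 ((nm_smul _ _).trans (e8_norm _))]
  exact ⟨fun h => mem_NN_of (e8_mem_SC _) h, fun h => mem_NN.1 h _ (e8_mem_SC _)⟩

/-- reduction modulo two in coordinates -/
def red : LL →+ (Fin 24 → ZMod 2) where
  toFun v i := ((leeB.repr v i : ℤ) : ZMod 2)
  map_zero' := by ext i; simp
  map_add' v w := by ext i; simp
theorem red_apply (v : LL) (i : Fin 24) : red v i = ((leeB.repr v i : ℤ) : ZMod 2) := rfl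
theorem red_surj : Function.Surjective red := fun c =>
  ⟨leeB.repr.symm (Finsupp.equivFunOnFinite.symm fun i => ((c i).val : ℤ)), by ext i; simp [red_apply]⟩
theorem red_eq_zero {v : LL} : red v = 0 ↔ Cg v 0 := by
  rw [cg_zero_iff]
  constructor
  · intro h
    refine ⟨leeB.repr.symm (Finsupp.equivFunOnFinite.symm fun i => leeB.repr v i / 2), leeB.repr.injective ?_⟩
    ext i
    have := (ZMod.intCast_zmod_eq_zero_iff_dvd _ 2).1 (congrFun h i)
    simp only [map_add, LinearEquiv.apply_symm_apply, Finsupp.add_apply, Finsupp.equivFunOnFinite_symm_apply_apply]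
    push_cast at this
    omega
  · rintro ⟨u, rfl⟩
    ext i
    rw [map_add, Pi.add_apply, CharTwo.add_self_eq_zero]; rfl
theorem red_eq_iff {v w : LL} : red v = red w ↔ Cg v w := by
  rw [cg_iff_add, ← red_eq_zero, map_add]
  constructor
  · intro h; rw [h]; ext i; exact CharTwo.add_self_eq_zero _
  · intro h; ext i; have := congrFun h i
    rwa [Pi.add_apply, Pi.zero_apply, CharTwo.add_eq_zero] at this

theorem ncard_le_mul_image {α β : Type*} {s : Set α} (hs : s.Finite) (f : α → β) (k : ℕ)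
    (h : ∀ a ∈ s, {x | x ∈ s ∧ f x = f a}.ncard ≤ k) : s.ncard ≤ k * (f '' s).ncard := by
  classical
  lift s to Finset α using hs
  rw [← Finset.coe_image, Set.ncard_coe_finset, Set.ncard_coe_finset]
  refine Finset.card_le_mul_card_image s k fun b hb => ?_
  obtain ⟨a, ha, rfl⟩ := Finset.mem_image.1 hb
  have := h a ha
  rwa [show {x | x ∈ (s : Set α) ∧ f x = f a} = ((s.filter fun x => f x = f a : Finset α) : Set α) by ext; simp,
    Set.ncard_coe_finset] at this

theorem ncard_SC : SC.ncard = 48 := by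
  have : SC = Set.range e8 ∪ Set.range fun i => -e8 i := Set.ext fun v => by
    simp only [mem_SC, Set.mem_union, Set.mem_range, exists_or, eq_comm]
  rw [this, Set.ncard_union_eq (Set.disjoint_left.2 (by rintro _ ⟨i, rfl⟩ ⟨j, h⟩; exact e8_ne_neg _ _ h.symm)),
    Set.ncard_range_of_injective (fun _ _ => e8_inj), Set.ncard_range_of_injective (fun _ _ h => e8_inj (neg_injective h)),
    Nat.card_eq_fintype_card, card_pt]

theorem fib_lt {n : ℤ} (hn : n < 64) (a : LL) (ha : a ∈ shell n) : {x | x ∈ shell n ∧ red x = red a}.ncard ≤ 2 := by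
  refine (Set.ncard_le_ncard (t := {a, -a}) (fun x hx => ?_)).trans ((Set.ncard_insert_le _ _).trans (by rw [Set.ncard_singleton]))
  have h1 : nm x = n := hx.1
  have h2 : nm a = n := ha
  exact (red_eq_iff.1 hx.2).pm (by omega) (by omega)
theorem fib_64 (a : LL) (ha : a ∈ shell 64) : {x | x ∈ shell 64 ∧ red x = red a}.ncard ≤ 48 := by
  obtain ⟨g, rfl⟩ := exists_smul_e8 ha
  rw [← ncard_SC, ← Set.ncard_image_of_injective SC (MulAction.injective g)]
  refine Set.ncard_le_ncard (fun x hx => ⟨g⁻¹ • x, ?_, smul_inv_smul _ _⟩) (finite_SC.image _)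
  rw [← cg_e8 ((nm_smul _ _).trans hx.1) none, ← cg_smul_iff g, smul_inv_smul]
  exact red_eq_iff.1 hx.2

theorem exists_short (v : LL) : ∃ u : LL, Cg v u ∧ (u = 0 ∨ nm u = 32 ∨ nm u = 48 ∨ nm u = 64) := by
  have h2 := ncard_le_mul_image (finite_shell' 32) red 2 (fib_lt (by norm_num))
  have h3 := ncard_le_mul_image (finite_shell' 48) red 2 (fib_lt (by norm_num))
  have h4 := ncard_le_mul_image (finite_shell' 64) red 48 fib_64
  have d : ∀ m n : ℤ, m ≤ 64 → n ≤ 64 → m ≠ n → Disjoint (red '' shell m) (red '' shell n) := fun m n a b c =>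
    Set.disjoint_left.2 (by
      rintro _ ⟨x, hx, rfl⟩ ⟨y, hy, e⟩
      have h1 : nm x = m := hx
      have h2 : nm y = n := hy
      have := (red_eq_iff.1 e).nm_eq (by omega) (by omega)
      omega)
  have h0 : 1 ≤ (red '' shell 0).ncard := (Set.ncard_pos (Set.toFinite _)).2 ⟨_, 0, nm_zero, rfl⟩
  change (shell 32).ncard ≤ 2 * (red '' shell 32).ncard at h2
  change (shell 48).ncard ≤ 2 * (red '' shell 48).ncard at h3
  change (shell 64).ncard ≤ 48 * (red '' shell 64).ncard at h4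
  rw [ncard_shell32] at h2; rw [ncard_shell48] at h3; rw [ncard_shell64] at h4
  have e : red '' shell 0 ∪ (red '' shell 32 ∪ (red '' shell 48 ∪ red '' shell 64)) = Set.univ := by
    refine Set.eq_of_subset_of_ncard_le (Set.subset_univ _) ?_
    rw [Set.ncard_union_eq, Set.ncard_union_eq, Set.ncard_union_eq, Set.ncard_univ, Nat.card_eq_fintype_card,
      Fintype.card_fun, ZMod.card, Fintype.card_fin]
    · omega
    · exact d _ _ (by norm_num) (by norm_num) (by norm_num)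
    · exact Set.disjoint_union_right.2 ⟨d _ _ (by norm_num) (by norm_num) (by norm_num),
        d _ _ (by norm_num) (by norm_num) (by norm_num)⟩
    · exact Set.disjoint_union_right.2 ⟨d _ _ (by norm_num) (by norm_num) (by norm_num), Set.disjoint_union_right.2
        ⟨d _ _ (by norm_num) (by norm_num) (by norm_num), d _ _ (by norm_num) (by norm_num) (by norm_num)⟩⟩
  have : red v ∈ red '' shell 0 ∪ (red '' shell 32 ∪ (red '' shell 48 ∪ red '' shell 64)) := e ▸ Set.mem_univ _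
  rcases this with ⟨u, a, b⟩ | ⟨u, a, b⟩ | ⟨u, a, b⟩ | ⟨u, a, b⟩ <;> refine ⟨u, red_eq_iff.1 b.symm, ?_⟩
  exacts [Or.inl (eq_zero_of_nm a), Or.inr (Or.inl a), Or.inr (Or.inr (Or.inl a)), Or.inr (Or.inr (Or.inr a))]

theorem exists_smul_of_nm {v w : LL} (h : nm v = nm w) (hw : nm w = 32 ∨ nm w = 48 ∨ nm w = 64) : ∃ g : CC, g • v = w := by
  rcases hw with a | a | a
  · obtain ⟨g, rfl⟩ := exists_smul_lU (h.trans a); obtain ⟨k, rfl⟩ := exists_smul_lU a
    exact ⟨k * g⁻¹, by rw [mul_smul, inv_smul_smul]⟩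
  · obtain ⟨g, rfl⟩ := exists_smul_lV (h.trans a); obtain ⟨k, rfl⟩ := exists_smul_lV a
    exact ⟨k * g⁻¹, by rw [mul_smul, inv_smul_smul]⟩
  · obtain ⟨g, rfl⟩ := exists_smul_e8 (h.trans a); obtain ⟨k, rfl⟩ := exists_smul_e8 a
    exact ⟨k * g⁻¹, by rw [mul_smul, inv_smul_smul]⟩

def tu : LL := lv 0x42108421084210842108421084218c
def tv' : LL := lv 0x4a5294a5294a5294a5294a5294a4a9
def tw : LL := lv 0x31908418c641906421084210842106
theorem coe_tu : (tu : VV) = vc 0x42108421084210842108421084218c := coe_lv (by decide +kernel)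
theorem coe_tv' : (tv' : VV) = vc 0x4a5294a5294a5294a5294a5294a4a9 := coe_lv (by decide +kernel)
theorem coe_tw : (tw : VV) = vc 0x31908418c641906421084210842106 := coe_lv (by decide +kernel)
theorem t_facts : nm tu = 32 ∧ nm tv' = 32 ∧ nm tw = 32 ∧ dt tu tv' = -8 ∧ dt tu tw = -8 ∧ dt tv' tw = -16 := by
  simp only [nm, dt, coe_tu, coe_tv', coe_tw]; decide +kernel
theorem t_facts' : dt lV lU = -24 ∧ dt lV lU' = -16 ∧ dt lU lU' = 0 := by
  simp only [dt]; decide +kernel

/-- the invariant quadratic form is unique -/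
theorem quad_unique (Q : LL → ZMod 2) (hcoset : ∀ v w, Q (v + (w + w)) = Q v)
    (hquad : ∀ u v w, Q (u + v + w) + Q u + Q v + Q w = Q (u + v) + Q (u + w) + Q (v + w))
    (hinv : ∀ (g : CC) v, Q (g • v) = Q v) (hne : ∃ v, Q v ≠ 0) (v : LL) : Q v = 0 ↔ 32 ∣ nm v := by
  have h0 : Q 0 = 0 := by
    have := hquad 0 0 0
    simp only [add_zero] at this
    revert this; generalize Q 0 = a; revert a; decide
  have hs : ∀ v w, nm v = nm w → (nm w = 32 ∨ nm w = 48 ∨ nm w = 64) → Q v = Q w := fun v w a b => by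
    obtain ⟨g, rfl⟩ := exists_smul_of_nm a b; rw [hinv]
  have h2 : ∀ v, nm v = 32 → Q v = Q lU := fun v a => hs _ _ (a.trans norm_lU.symm) (Or.inl norm_lU)
  have h3 : ∀ v, nm v = 48 → Q v = Q lV := fun v a => hs _ _ (a.trans norm_lV.symm) (Or.inr (Or.inl norm_lV))
  have h4 : ∀ v, nm v = 64 → Q v = Q (e8 none) := fun v a =>
    hs _ _ (a.trans (e8_norm _).symm) (Or.inr (Or.inr (e8_norm _)))
  have q2 : Q lU = 0 := by
    obtain ⟨a, b, c, d, e, f⟩ := t_facts
    have := hquad tu tv' tw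
    rw [h2 (tu + tv' + tw) (by rw [nm_add, nm_add, add_dt]; omega), h2 _ a, h2 _ b, h2 _ c,
      h3 (tu + tv') (by rw [nm_add]; omega), h3 (tu + tw) (by rw [nm_add]; omega),
      h2 (tv' + tw) (by rw [nm_add]; omega)] at this
    revert this; generalize Q lU = a; generalize Q lV = b; revert a b; decide
  have q4 : Q (e8 none) = 0 := by
    obtain ⟨d, e, f⟩ := t_facts'
    have a : nm lV = 48 := norm_lV
    have b : nm lU = 32 := norm_lU
    have c : nm lU' = 32 := norm_lU'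
    have := hquad lV lU lU'
    rw [h2 (lV + lU + lU') (by rw [nm_add, nm_add, add_dt]; omega), h2 _ c,
      h2 (lV + lU) (by rw [nm_add]; omega), h3 (lV + lU') (by rw [nm_add]; omega),
      h4 (lU + lU') (by rw [nm_add]; omega)] at this
    revert this; generalize Q lU = a; generalize Q lV = b; generalize Q (e8 none) = c; revert a b c; decide
  have key : ∀ v, (32 ∣ nm v → Q v = 0) ∧ (¬ 32 ∣ nm v → Q v = Q lV) := fun v => by
    obtain ⟨u, a, b⟩ := exists_short v
    have c := a.nm32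
    obtain ⟨w, rfl⟩ := a
    rw [hcoset]
    rcases b with rfl | b | b | b
    · rw [nm_zero] at c; exact ⟨fun _ => h0, fun h => by omega⟩
    · exact ⟨fun _ => (h2 _ b).trans q2, fun h => by omega⟩
    · exact ⟨fun h => by omega, fun _ => h3 _ b⟩
    · exact ⟨fun _ => (h4 _ b).trans q4, fun h => by omega⟩
  refine ⟨fun h => by_contra fun h' => ?_, (key v).1⟩
  obtain ⟨w, hw⟩ := hne
  by_cases e : 32 ∣ nm w
  · exact hw ((key w).1 e)
  · exact hw (((key w).2 e).trans (((key v).2 h').symm.trans h))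

theorem pm_of_cg {g : CC} (h : ∀ v, Cg (g • v) v) : g = 1 ∨ g = neg1 :=
  eq_of_pm fun x hx => by
    have a : nm x = 32 := hx
    exact (h x).pm (by rw [nm_smul]; omega) (by omega)

theorem mk_eq_iff {g k : CC} : (QuotientGroup.mk g : Spor.Co1) = QuotientGroup.mk k ↔ g = k ∨ g = neg1 * k := by
  rw [eq_comm, QuotientGroup.eq, mem_center_iff, inv_mul_eq_one, inv_mul_eq_iff_eq_mul, eq_comm,
    Subgroup.mem_center_iff.1 neg1_center]

/-- every non-zero class is not orthogonal to some class -/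
theorem exists_dt {v : LL} (h : ¬ Cg v 0) : ∃ w : LL, ¬ 16 ∣ dt v w := by
  obtain ⟨u, a, b⟩ := exists_short v
  suffices ∃ w : LL, ¬ 16 ∣ dt u w by
    obtain ⟨w, c⟩ := this
    have := a.dt16 w
    exact ⟨w, by omega⟩
  obtain ⟨c, d, e⟩ := t_facts'
  rcases b with rfl | b | b | b
  · exact absurd a h
  · obtain ⟨g, rfl⟩ := exists_smul_lU b
    exact ⟨g • lV, by rw [dt_smul, dt_comm, c]; norm_num⟩
  · obtain ⟨g, rfl⟩ := exists_smul_lV b
    exact ⟨g • lU, by rw [dt_smul, c]; norm_num⟩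
  · obtain ⟨g, rfl⟩ := exists_smul_e8 b
    exact ⟨g • lV, by rw [dt_smul, dt_comm, ← lU_add, dt_add, c, d]; norm_num⟩

end
end H13
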