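import Cfsg.Agent.H13.F6e
/-! Networks of linear maps, and words evaluated on vectors. -/
set_option autoImplicit false
namespace H13
noncomputable section
open MulAction Cfsg H27

def lids (d : Nat) : Nat → List Nat := Nat.rec [] fun k ih => force (idp (Nat.sub (Nat.pred d) k) d) fun m => m :: ih
def lnet (d : Nat) (L : List Nat) : Net := forceL (lids d d) fun I => force (ones (Nat.shiftLeft 1 d)) fun o =>
  List.rec .nil (fun c _ ih => force (Nat.shiftRight c d) fun i =>
    force (Nat.land (Nat.xor (nth 0 I i) o) (xsum I c)) fun m => .cons (Nat.shiftLeft 1 i) m ih) L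
def evw (As : List (List Nat)) (w : List Nat) (a : Nat) : Nat :=
  List.rec a (fun i _ r => force r fun r => xsum (nth [] As i) r) w
theorem xsum_lt {d : Nat} {l : List Nat} (h : ∀ b ∈ l, b < 2 ^ d) (a : Nat) : xsum l a < 2 ^ d :=
  xsum_ind (· < 2 ^ d) (by positivity) (fun _ _ => Nat.xor_lt_two_pow) l h a

namespace BE
variable {V : Type*} [AddCommGroup V] {d : Nat} (E : BE V d)
theorem ful_cols {A : List Nat} {N : Net} (c : fulChk d A N = true) : E.Cols (E.el A) A := el_cols fun v => by
  simp only [fulChk, force_eq, forceL_eq, and'_eq, Bool.and_eq_true, allN_iff, beq_iff, Nat.shiftLeft_eq', Nat.one_shiftLeft] at c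
  obtain ⟨a, ha, rfl⟩ := E.surj v
  have o := Net.ok_of_valid c.1
  have l := Net.fn_lt (Net.ok_rev o) ha
  exact ⟨_, by rw [E.lin_e _ l, c.2 _ l, Net.fn_fn_rev o]⟩
theorem ful_acts {A : List Nat} {N : Net} (c : fulChk d A N = true) : E.Cols (E.el A) A ∧ Acts (2 ^ d) E.e (E.el A) N :=
  ⟨E.ful_cols c, (E.ful_cols c).ful c⟩
variable {E}
theorem evw_spec {gs : List (AL V)} {As : List (List Nat)} (h : List.Forall₂ E.Cols gs As)
    (b : ∀ A ∈ As, ∀ a ∈ A, a < 2 ^ d) (w : List Nat) (hw : ∀ i ∈ w, i < As.length) {a : Nat} (ha : a < 2 ^ d) :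
    evw As w a < 2 ^ d ∧ (wordG gs w).prod (E.e a) = E.e (evw As w a) := by
  induction w with
  | nil => exact ⟨ha, rfl⟩
  | cons i w ih =>
    obtain ⟨u, v⟩ := ih fun j k => hw j (List.mem_cons_of_mem _ k)
    have l := hw i List.mem_cons_self
    have l' : i < gs.length := h.length_eq ▸ l
    have e : nth [] As i = As[i] := by rw [nth_eq, List.getD_eq_getElem _ _ l]
    have := List.forall₂_iff_get.1 h |>.2 i l' l
    have k : evw As (i :: w) a = xsum (nth [] As i) (evw As w a) := force_eq _ _
    refine ⟨k ▸ xsum_lt (e ▸ b _ (List.getElem_mem l)) _, ?_⟩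
    change (gs.getD i 1 * (wordG gs w).prod) (E.e a) = _
    rw [k, LinearEquiv.mul_apply, v, e, List.getD_eq_getElem _ _ l']
    exact this _ u
end BE
def lcol (L : List Nat) : List Nat := mapL (lnet 12 L).fn [1, 2, 4, 8, 16, 32, 64, 128, 256, 512, 1024, 2048]
/-- the automorphism with a given factorisation into transvections -/
def nel (L : List Nat) : AL V6 := E6.el (lcol L)
def nelChk (L : List Nat) : Bool := fulChk 12 (lcol L) (lnet 12 L)
theorem nel_c {L : List Nat} (h : nelChk L = true) : E6.Cols (nel L) (lcol L) := E6.ful_cols h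
theorem nel_a {L : List Nat} (h : nelChk L = true) : Acts 4096 v6 (nel L) (lnet 12 L) := (nel_c h).ful h
theorem nel_aL {Ls : List (List Nat)} (h : allL Ls nelChk = true) : ActsL 4096 v6 (Ls.map nel) (mapL (lnet 12) Ls) := by
  rw [allL_iff] at h
  rw [mapL_eq, ActsL, List.forall₂_map_left_iff, List.forall₂_map_right_iff, List.forall₂_same]
  exact fun L a => nel_a (h L a)
end
end H13
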