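import Cfsg.Agent.H29.U0
import Cfsg.Agent.Lead.Hom4
import Cfsg.Agent.H13.JG
import Cfsg.Agent.H13.JS
import Cfsg.Agent.H7.J4b

/-! The subgroup `2^11 : M24` of a group of Janko-four type in the matrix model. -/

set_option autoImplicit false
set_option maxRecDepth 100000
set_option linter.unusedSectionVars false

namespace H13.Md
open Cfsg Cfsg.Spor H7.J4 H29 H29.J4m H29.U Subgroup H27 H28
open scoped Pointwise

universe u
variable {G : Type u} [Group G] [Finite G]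

def LX : List ℕ := [255, 1, 253, 138, 270, 136, 233, 275, 231, 248, 93, 267, 91, 150, 245, 23, 260, 21, 143, 238, 98, 17, 259, 15, 142, 237, 97, 27, 68, 265, 66, 148, 243, 103, 73, 72, 192, 273, 190, 207, 251, 204, 197, 196, 202, 107, 268, 105, 151, 246, 119, 112, 111, 117, 205, 155, 271, 153, 170, 249, 167, 160, 159, 165, 208, 168, 30, 261, 28, 144, 239, 99, 35, 34, 74, 198, 113, 161, 122, 269, 120, 152, 247, 134, 127, 126, 132, 206, 135, 169, 128, 12, 258, 10, 141, 236, 96, 26, 20, 71, 195, 110, 158, 33, 125, 47, 263, 45, 146, 241, 101, 52, 51, 76, 200, 115, 163, 53, 130, 50, 80, 266, 78, 149, 244, 104, 85, 84, 90, 203, 118, 166, 86, 133, 83, 88, 5, 256, 3, 139, 234, 94, 24, 18, 69, 193, 108, 156, 31, 123, 13, 48, 81, 57, 264, 55, 147, 242, 102, 62, 61, 77, 201, 116, 164, 63, 131, 60, 65, 89, 58, 212, 274, 210, 227, 252, 224, 217, 216, 222, 230, 225, 228, 218, 226, 215, 220, 223, 213, 221, 38, 262, 36, 145,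 240, 100, 43, 42, 75, 199, 114, 162, 44, 129, 41, 54, 87, 39, 64, 219, 173, 272, 171, 188, 250, 185, 178, 177, 183, 209, 186, 189, 179, 187, 176, 181, 184, 174, 182, 229, 180, 8, 257, 6, 140, 235, 95, 25, 19, 70, 194, 109, 157, 32, 124, 14, 49, 82, 9, 59, 214, 40, 175, 2, 254, 0, 137, 232, 92, 22, 16, 67, 191, 106, 154, 29, 121, 11, 46, 79, 4, 56, 211, 37, 172, 7]
def LY : List ℕ := [0, 210, 211, 136, 137, 227, 153, 154, 228, 170, 15, 16, 216, 142, 159, 45, 46, 220, 146, 163, 51, 21, 22, 217, 143, 160, 27, 52, 6, 7, 214, 140, 157, 19, 49, 25, 36, 37, 219, 145, 162, 42, 54, 43, 40, 10, 11, 215, 141, 158, 20, 50, 26, 14, 41, 171, 172, 229, 188, 189, 177, 181, 178, 175, 180, 176, 66, 67, 222, 148, 165, 72, 76, 73, 70, 75, 71, 183, 190, 191, 230, 207, 208, 196, 200, 197, 194, 199, 195, 209, 202, 91, 92, 224, 150, 167, 97, 101, 98, 95, 100, 96, 185, 103, 204, 55, 56, 221, 147, 164, 61, 65, 62, 59, 64, 60, 182, 77,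 201, 102, 1, 2, 212, 138, 155, 17, 47, 23, 8, 38, 12, 173, 68, 192, 93, 57, 231, 232, 252, 248, 249, 237, 241, 238, 235, 240, 236, 250, 243, 251, 245, 242, 233, 28, 29, 218, 144, 161, 34, 53, 35, 32, 44, 33, 179, 74, 198, 99, 63, 30, 239, 105, 106, 225, 151, 168, 111, 115, 112, 109, 114, 110, 186, 117, 205, 119, 116, 107, 246, 113, 253, 254, 274, 270, 271, 259, 263, 260, 257, 262, 258, 272, 265, 273, 267, 264, 255, 275, 261, 268, 120, 121, 226, 152, 169, 126, 130, 127, 124, 129, 125, 187, 132, 206, 134, 131, 122, 247, 128, 135, 269, 3, 4, 213, 139, 156, 18, 48, 24, 9, 39, 13, 174, 69, 193, 94, 58, 5, 234, 31, 108, 256, 123, 78, 79, 223, 149, 166, 84, 88, 85, 82, 87, 83, 184, 90, 203, 104, 89, 80, 244, 86, 118, 266, 133, 81]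
def dA : List ℕ := [84, 114, 208, 67, 261, 247, 136, 8, 182, 220, 104]
def dB : List ℕ := [63, 252, 149, 40, 201, 211, 266, 129, 190, 2, 272]
def ms : List ℕ := [651, 1729, 1037, 997, 455, 766, 160, 902, 1787, 1769, 320]
def iv : List ℕ := [381, 1442, 937, 292, 1698, 806, 1905, 870, 881, 1692, 1012]

theorem du {g : MM} {N : Net} (a : Acts 24 GE.e g N) {i j : ℕ}
    (c : ∀ p < 24, (ent 24 TDu j).testBit (N.fn p) = (ent 24 TDu i).testBit p) : g • eDu i = eDu j := by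
  ext q
  obtain ⟨p, hp, e⟩ : ∃ p < 24, GE.e p = g⁻¹ • q := ⟨_, GE.ix_lt _, GE.e_ix _⟩
  have e2 : q = g • GE.e p := by rw [e, smul_inv_smul]
  rw [e2, Set.smul_mem_smul_set_iff, a.act p hp]
  change GE.e p ∈ mset 24 GE.e _ ↔ GE.e _ ∈ mset 24 GE.e _
  rw [mem_mset GE.injOn hp, mem_mset GE.injOn (Net.fn_lt a.ok hp), c p hp]

theorem cX : ∀ i < 276, LX.getD i 0 < 276 ∧ ∀ p < 24,
    (ent 24 TDu (LX.getD i 0)).testBit ((mN.getD 0 .nil).fn p) = (ent 24 TDu i).testBit p := by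
  decide +kernel
theorem cYY : ∀ i < 276, LY.getD i 0 < 276 ∧ ∀ p < 24,
    (ent 24 TDu (LY.getD i 0)).testBit ((mN.getD 1 .nil).fn p) = (ent 24 TDu i).testBit p := by
  decide +kernel

def evx : Ex → ℕ
  | .v i => ms.getD i 0
  | .m a b => evx a ^^^ evx b
  | .p a k => if k % 2 = 0 then 0 else evx a

def cmb : List ℕ → ℕ → ℕ
  | [], _ => 0
  | a :: L, c => (if c % 2 = 1 then a else 0) ^^^ cmb L (c / 2)

theorem spn : ∀ a < 2048, cmb ms (cmb iv a) = a := by decide +kernel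

def dd (L : List ℕ) (j : ℕ) : ℕ :=
  ent 11 TDl (L.getD (dA.getD j 0) 0) ^^^ ent 11 TDl (L.getD (dB.getD j 0) 0)

theorem c1 : ∀ j < 11, dA.getD j 0 < 276 ∧ dB.getD j 0 < 276 ∧
    ms.getD j 0 = ent 11 TDl (dA.getD j 0) ^^^ ent 11 TDl (dB.getD j 0) ∧
    dd LX j = evx (nx.getD j (.v 0)) ∧ dd LY j = evx (ny.getD j (.v 0)) := by decide +kernel
theorem c2 : ∀ j < 10, dA.getD (j + 1) 0 = LX.getD (LY.getD (dA.getD j 0) 0) 0 ∧
    dB.getD (j + 1) 0 = LX.getD (LY.getD (dB.getD j 0) 0) 0 := by decide +kernel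

theorem evF (F : ℕ → G) (F0 : F 0 = 1) (Fm : ∀ a b, F (a ^^^ b) = F a * F b) (e : Ex) :
    e.g (ms.map F) = F (evx e) := by
  induction e with
  | v i =>
    change (ms.map F).getD i 1 = F (ms.getD i 0)
    rw [← F0, List.getD_map]
  | m a b ia ib => change _ * _ = F (_ ^^^ _); rw [ia, ib, Fm]
  | p a k ia =>
    change _ ^ k = F (if k % 2 = 0 then 0 else evx a)
    have s : F (evx a) ^ 2 = 1 := by rw [sq, ← Fm, Nat.xor_self, F0]
    rw [ia, pow_eq_pow_mod k s]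
    rcases Nat.mod_two_eq_zero_or_one k with c | c <;> simp [c, F0]

theorem cmF (F : ℕ → G) (F0 : F 0 = 1) (Fm : ∀ a b, F (a ^^^ b) = F a * F b) (C : Subgroup G)
    (L : List ℕ) (h : ∀ a ∈ L, F a ∈ C) (c : ℕ) : F (cmb L c) ∈ C := by
  induction L generalizing c with
  | nil => change F 0 ∈ C; rw [F0]; exact one_mem _
  | cons a L ih =>
    change F (_ ^^^ _) ∈ C
    rw [Fm]
    refine mul_mem ?_ (ih (fun b hb => h b (List.mem_cons_of_mem _ hb)) _)
    split_ifs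
    · exact h a List.mem_cons_self
    · rw [F0]; exact one_mem _

theorem cjs {M : Model G} (s : Std M) {a b : ℕ} {g : G} (ha : M.R a g⁻¹) (hb : M.R b g)
    (h : H29.J4m.cj a b = true) (u : G)
    (hu : ∃ c ∈ dL, M.R c u) : ∃ c ∈ dL, M.R c (g⁻¹ * u * g) := by
  obtain ⟨c, hc, hr⟩ := hu
  have := allL_spec h c hc
  simp only [H29.force_eq, H27.force_eq] at this
  obtain ⟨c', h1, h2⟩ := anyL_iff.1 this
  have k := M.R_mul (M.R_mul ha hr) hb
  rw [s.1, Nat.eq_of_beq_eq_true h2] at k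
  exact ⟨c', h1, k⟩

theorem md' [IsSimpleGroup G] (hG : ¬ IsMulCommutative G) (hJ : IsOfJankoFourType G)
    (hom : ∀ {x y e : G} (h1 : x ^ 2 = 1) (h2 : y ^ 3 = 1) (h3 : (x * y) ^ 23 = 1) (h4 : (x⁻¹ * y⁻¹ * x * y) ^ 12 = 1) (h5 : (x⁻¹ * (y * x * y)⁻¹ * x * (y * x * y)) ^ 5 = 1) (h6 : (x * y * ((x * y * x * (y⁻¹)) ^ 3)) ^ 4 = 1) (h7 : ((x * y * x * y * x * (y⁻¹)) ^ 3) * ((x * y * x * (y⁻¹) * x * (y⁻¹)) ^ 3) = 1) (eg : List G) (he : eg = eK.map (Ex.g [x, y, y⁻¹, e])) (s2 : ∀ a ∈ eg, a * a = 1) (cm : ∀ a ∈ eg, ∀ b ∈ eg, a * b = b * a) (hx : ∀ j < 11, x * eg.getD j 1 * x⁻¹ = (nx.getD j (.v 0)).g eg) (hy : ∀ j < 11, y * eg.getD j 1 * y⁻¹ = (ny.getD j (.v 0)).g eg) (hc : Nat.card (closure ({x, y, e} : Set G)) = 2048 * 244823040), ∃ M : Model G, H29.U.Md M x y e)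
    (tri : (∀ r : G, orderOf r = 3 → ∃ t R N, H29.U.XS t R N ∧ r ∈ N ∧ normalizer (zpowers r : Set G) ≤ centralizer {t}) ∧ ∀ z : G, IsOfJankoFourTypeAt z → ∃ R N, H29.U.XS z R N ∧ R = twoCoreOfCentralizer z) :
    ∃ (M : Model G) (x y e : G), H29.U.Fr M x y e := by
  obtain ⟨z, Q, hJ⟩ := hJ
  obtain ⟨R0, N0, xs, rfl⟩ := tri.2 z ⟨Q, hJ⟩
  obtain ⟨π, P, h, -⟩ := H13.exists_jt0 hJ
  obtain ⟨x0, a0, b0⟩ := h.exists_x
  obtain ⟨E, j⟩ := h.main a0 hG b0
  obtain ⟨K, k1, k2, k3⟩ := j.split hG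
  obtain ⟨φ, p⟩ := j.jp
  let ε := MulEquiv.ofBijective _ (p.res k1 k2 k3)
  let ι : MM →* G := K.subtype.comp ε.symm.toMonoidHom
  have ιK : ∀ m, ι m ∈ K := fun m => (ε.symm m).2
  have ιφ : ∀ m, φ ⟨ι m, k1 (ιK m)⟩ = m := fun m => ε.apply_symm_apply m
  let F : ℕ → G := fun a => ((E.e a).toMul : G)
  have Fm : ∀ a b, F (a ^^^ b) = F a * F b := fun a b => by
    change ((E.e (a ^^^ b)).toMul : G) = _; rw [E.xor]; rfl
  have F0 : F 0 = 1 := by change ((E.e 0).toMul : G) = 1; rw [E.zero]; rfl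
  have FA : ∀ a, F a ∈ h.A := fun a => (E.e a).toMul.2
  obtain ⟨x, hx⟩ : ∃ x, x = ι z2b := ⟨_, rfl⟩
  obtain ⟨y, hy⟩ : ∃ y, y = ι my := ⟨_, rfl⟩
  have act := mN_acts
  have aX : ∀ i < 276, x * F (ent 11 TDl i) * x⁻¹ = F (ent 11 TDl (LX.getD i 0)) := fun i hi => by
    rw [hx]
    refine (p.ac ⟨_, k1 (ιK z2b)⟩ i hi _ (cX i hi).1).2 ?_
    rw [ιφ]
    cases act with | cons a _ => exact du a (cX i hi).2
  have aY : ∀ i < 276, y * F (ent 11 TDl i) * y⁻¹ = F (ent 11 TDl (LY.getD i 0)) := fun i hi => by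
    rw [hy]
    refine (p.ac ⟨_, k1 (ιK my)⟩ i hi _ (cYY i hi).1).2 ?_
    rw [ιφ]
    cases act with | cons _ a => cases a with | cons a _ => exact du a (cYY i hi).2
  have hr : ∀ w ∈ j4m_R, ev [x, y, y⁻¹] w = 1 := fun w hw => by
    have := ev_map ι [z2b, my, my⁻¹] w
    rw [← mN_eq, mN_rels w hw, mN_eq, map_one] at this
    rw [← this, hx, hy, ← map_inv]; rfl
  have r := fun i (hi : i < 11) => hr (j4m_R.getD i []) (by revert i; decide)
  have x2 : x * x = 1 := by simpa [j4m_R, ev_cons, ev_nil] using r 0 (by norm_num)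
  have xi : x⁻¹ = x := inv_eq_of_mul_eq_one_right x2
  have y3' : y ^ 3 = 1 := by simpa [j4m_R, ev_cons, ev_nil, pow_succ, mul_assoc] using r 5 (by norm_num)
  have cj2' : ∀ (g : G) (a b : ℕ), g * F (a ^^^ b) * g⁻¹ = g * F a * g⁻¹ * (g * F b * g⁻¹) := fun g a b => by
    rw [Fm]; group
  have eg1 : ∀ i < 11, (x * y) ^ i * F 651 * (y⁻¹ * x) ^ i = F (ms.getD i 0) := fun i hi => by
    induction i with
    | zero => simp [ms]
    | succ i ih =>
      obtain ⟨l1, l2, l3, -⟩ := c1 i (by omega)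
      rw [pow_succ', pow_succ, (c1 _ hi).2.2.1, (c2 i (by omega)).1, (c2 i (by omega)).2, Fm,
        ← aX _ (cYY _ l1).1, ← aX _ (cYY _ l2).1, ← aY _ l1, ← aY _ l2]
      have := ih (by omega)
      rw [l3, Fm] at this
      calc _ = x * y * ((x * y) ^ i * F 651 * (y⁻¹ * x) ^ i) * (y⁻¹ * x⁻¹) := by rw [xi]; group
        _ = _ := by rw [this]; group
  have eg2 : ms.map F = eK.map (Ex.g [x, y, y⁻¹, F 651]) := by
    refine List.ext_getElem (by simp [ms, eK]) fun i h1 h2 => ?_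
    have hi : i < 11 := by simpa [ms] using h1
    simp only [eK, List.getElem_map, List.getElem_range]
    refine Eq.trans ?_ (eg1 i hi).symm
    rw [List.getD_eq_getElem]
  have gd : ∀ i, (ms.map F).getD i 1 = F (ms.getD i 0) := fun i => by rw [← F0, List.getD_map]
  have eC : ∀ a ∈ ms, F a ∈ closure ({x, y, F 651} : Set G) := fun a ha => by
    obtain ⟨i, hi, rfl⟩ := List.getElem_of_mem ha
    have x1 : x ∈ closure ({x, y, F 651} : Set G) := subset_closure (by simp)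
    have y1 : y ∈ closure ({x, y, F 651} : Set G) := subset_closure (by simp)
    rw [← List.getD_eq_getElem _ 0 hi, ← eg1 i hi]
    exact mul_mem (mul_mem (pow_mem (mul_mem x1 y1) _) (subset_closure (by simp)))
      (pow_mem (mul_mem (inv_mem y1) x1) _)
  have AC : ∀ C : Subgroup G, (∀ a ∈ ms, F a ∈ C) → h.A ≤ C := fun C hC v hv => by
    obtain ⟨a, ha, e⟩ := E.surj (Additive.ofMul ⟨v, hv⟩)
    have := cmF F F0 Fm C ms hC (cmb iv a)
    rw [spn a ha] at this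
    have e2 : F a = v := by change ((E.e a).toMul : G) = v; rw [e]; rfl
    exact e2 ▸ this
  have nC : normalizer (h.A : Set G) = closure ({x, y, F 651} : Set G) := by
    refine le_antisymm ?_ ((closure_le _).2 ?_)
    · rw [← k3]
      refine sup_le (fun k hk => ?_) (AC _ eC)
      have t : (closure ({x, y, F 651} : Set G)).comap ι = ⊤ := by
        rw [eq_top_iff, ← mN_top, mN_eq]
        refine (closure_le _).2 fun g hg => ?_
        have y1 : ι my ∈ closure ({x, y, F 651} : Set G) := hy ▸ subset_closure (by simp)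
        simp only [List.mem_cons, List.not_mem_nil, or_false, Set.mem_ofPred_eq] at hg
        rcases hg with rfl | rfl | rfl
        · exact (hx ▸ subset_closure (by simp) : ι z2b ∈ closure ({x, y, F 651} : Set G))
        · exact y1
        · exact inv_mem (s := (closure ({x, y, F 651} : Set G)).comap ι) y1
      have : ι (ε ⟨k, hk⟩) ∈ closure ({x, y, F 651} : Set G) := t.ge (mem_top _)
      have e : ι (ε ⟨k, hk⟩) = k := congrArg Subtype.val (ε.symm_apply_apply ⟨k, hk⟩)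
      exact e ▸ this
    · rintro _ (rfl | rfl | rfl)
      exacts [hx ▸ k1 (ιK _), hy ▸ k1 (ιK _), le_normalizer (FA _)]
  have cN : Nat.card (normalizer (h.A : Set G)) = 2048 * 244823040 := by
    rw [← φ.ker.card_mul_index, index_ker, MonoidHom.range_eq_top.2 p.sj, card_top, card_MM,
      show φ.ker = h.A.subgroupOf _ from Subgroup.ext fun k => p.kr k,
      Nat.card_congr (subgroupOfEquivOfLe le_normalizer).toEquiv, h.card_A]
    norm_num
  obtain ⟨M, md⟩ := hom (x := x) (y := y) (e := F 651) (by rw [sq, x2]) y3'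
    (by simpa [j4m_R, ev_cons, ev_nil, pow_succ, mul_assoc] using r 6 (by norm_num))
    (by simpa [j4m_R, ev_cons, ev_nil, pow_succ, mul_assoc, xi] using r 7 (by norm_num))
    (by simpa [j4m_R, ev_cons, ev_nil, pow_succ, mul_assoc, xi] using r 8 (by norm_num))
    (by simpa [j4m_R, ev_cons, ev_nil, pow_succ, mul_assoc, xi] using r 9 (by norm_num))
    (by simpa [j4m_R, ev_cons, ev_nil, pow_succ, mul_assoc, xi] using r 10 (by norm_num))
    _ eg2 (fun a ha => by obtain ⟨b, -, rfl⟩ := List.mem_map.1 ha; exact h.A_sq (FA b))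
    (fun a ha b hb => by
      obtain ⟨c, -, rfl⟩ := List.mem_map.1 ha
      obtain ⟨d, -, rfl⟩ := List.mem_map.1 hb
      exact h.A_comm (FA c) (FA d))
    (fun i hi => by
      obtain ⟨l1, l2, l3, l4, -⟩ := c1 i hi
      rw [gd, evF F F0 Fm, ← l4, l3, cj2', aX _ l1, aX _ l2, ← Fm]; rfl)
    (fun i hi => by
      obtain ⟨l1, l2, l3, -, l4⟩ := c1 i hi
      rw [gd, evF F F0 Fm, ← l4, l3, cj2', aY _ l1, aY _ l2, ← Fm]; rfl)
    (by rw [← nC, cN])
  have s := md.s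
  have rx : M.R cx x := R_getD md.h 0
  have ry : M.R cy y := R_getD md.h 1
  have rY : M.R H7.J4.cY y⁻¹ := R_getD md.h 2
  have re : M.R ce (F 651) := R_getD md.h 3
  have eLe : eL = eK.map (Ex.c kmul kone L4) := by decide +kernel
  have RL : ∀ w : Ex, M.R (w.c kmul kone L4) (w.g [x, y, y⁻¹, F 651]) := fun w => by
    rw [← s.1, ← s.2.1]; exact Ex.R md.h w
  have clA : M.cl eL = h.A := by
    refine le_antisymm ((closure_le _).2 ?_) (AC _ fun a ha => ?_)
    · rintro g ⟨c, hc, hg⟩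
      rw [eLe] at hc
      obtain ⟨w, hw, rfl⟩ := List.mem_map.1 hc
      rw [M.unique hg (RL w)]
      have : w.g [x, y, y⁻¹, F 651] ∈ ms.map F := eg2 ▸ List.mem_map_of_mem hw
      obtain ⟨b, -, e⟩ := List.mem_map.1 this
      exact e ▸ FA b
    · have : F a ∈ eK.map (Ex.g [x, y, y⁻¹, F 651]) := eg2 ▸ List.mem_map_of_mem ha
      obtain ⟨w, hw, e⟩ := List.mem_map.1 this
      exact subset_closure ⟨_, eLe ▸ List.mem_map_of_mem hw, e ▸ RL w⟩
  have hE : ∀ c ∈ eL, M.In (M.cl eL) c := fun c hc => by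
    have hc' := hc
    rw [eLe] at hc'
    obtain ⟨w, hw, rfl⟩ := List.mem_map.1 hc'
    exact ⟨_, subset_closure ⟨_, hc, RL w⟩, RL w⟩
  obtain ⟨d, dE, rd⟩ : M.In (M.cl eL) cd := s.slp hE [xd] (by decide +kernel)
  rw [clA] at dE
  have ei : (F 651)⁻¹ = F 651 := h.A_inv (FA _)
  have y3 : y * y = y⁻¹ := eq_inv_of_mul_eq_one_left (by rw [← y3', pow_three'])
  have rX : M.R cx x⁻¹ := xi.symm ▸ rx
  have rE : M.R ce (F 651)⁻¹ := ei.symm ▸ re
  have orb : ∀ k ∈ closure {x, y, F 651}, ∀ u, (∃ c ∈ dL, M.R c u) → ∃ c ∈ dL, M.R c (k⁻¹ * u * k) := fun k hk => by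
    have ml : ∀ a b : G, (∀ u, (∃ c ∈ dL, M.R c u) → ∃ c ∈ dL, M.R c (a⁻¹ * u * a)) →
        (∀ u, (∃ c ∈ dL, M.R c u) → ∃ c ∈ dL, M.R c (b⁻¹ * u * b)) →
        ∀ u, (∃ c ∈ dL, M.R c u) → ∃ c ∈ dL, M.R c ((a * b)⁻¹ * u * (a * b)) := fun a b ia ib u hu => by
      simpa only [mul_inv_rev, mul_assoc] using ib _ (ia u hu)
    induction hk using closure_induction'' with
    | one => intro u hu; simpa using hu
    | mem a ha =>
      rcases ha with rfl | rfl | rfl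
      exacts [cjs s rX rx cj1, cjs s rY ry cj2, cjs s rE re cj3]
    | inv_mem a ha =>
      rcases ha with rfl | rfl | rfl
      · rw [xi]; exact cjs s rX rx cj1
      · rw [← y3]; exact ml _ _ (cjs s rY ry cj2) (cjs s rY ry cj2)
      · rw [ei]; exact cjs s rE re cj3
    | mul a b _ _ ia ib => exact ml a b ia ib
  have dD : ∃ c ∈ dL, M.R c d := ⟨cd, List.mem_append_left _ List.mem_cons_self, rd⟩
  have orb' : ∀ k ∈ normalizer (h.A : Set G), ∃ c ∈ dL, M.R c (k * d * k⁻¹) := fun k hk => by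
    simpa using orb k⁻¹ (nC ▸ inv_mem hk) d dD
  have d1 : d ≠ 1 := M.ne_of rd M.R_one (by rw [s.2.1, s.2.2]; decide +kernel)
  have cD : {u : G | ∃ c ∈ dL, M.R c u}.ncard ≤ 276 := by
    classical
    let f : ℕ → G := fun c => if hc : ∃ u, M.R c u then hc.choose else 1
    have sub : {u : G | ∃ c ∈ dL, M.R c u} ⊆ f '' (dL.toFinset : Set ℕ) := by
      rintro u ⟨c, hc, hu⟩
      refine ⟨c, by simpa using hc, ?_⟩
      have : ∃ u, M.R c u := ⟨u, hu⟩
      simp only [f, dif_pos this]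
      exact M.unique this.choose_spec hu
    refine (Set.ncard_le_ncard sub (Set.toFinite _)).trans ((Set.ncard_image_le (Set.toFinite _)).trans ?_)
    rw [Set.ncard_coe_finset]
    exact (List.toFinset_card_le _).trans (by decide +kernel)
  have nd : ¬ IsConj z d := fun c => by
    have sub : {a | a ∈ h.A ∧ IsConj z a} ⊆ {u : G | ∃ c ∈ dL, M.R c u} := by
      rintro a ⟨ha, hb⟩
      obtain ⟨g, rfl⟩ := _root_.isConj_iff.1 (c.symm.trans hb)
      obtain ⟨m, hm, e⟩ := h.fus dE ha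
      exact e ▸ orb' m hm
    have := (Set.ncard_le_ncard sub (Set.toFinite _)).trans cD
    rw [p.nz] at this
    omega
  obtain ⟨i0, hi0, e0⟩ := (p.ty d).1 ⟨dE, d1, nd⟩
  have DT : (fun i => ((tD E i).toMul : G)) '' {i | i < 276} = {u : G | ∃ c ∈ dL, M.R c u} := by
    refine Set.eq_of_subset_of_ncard_le ?_ (cD.trans ?_) (Set.toFinite _)
    · rintro _ ⟨i, hi, rfl⟩
      obtain ⟨k, hk, e⟩ := p.tr i0 hi0 i hi
      have := orb' k hk
      rw [← e0] at this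
      rw [e] at this
      exact this
    · rw [p.inj.ncard_image]; exact (Set.ncard_Iio_nat 276).ge
  refine ⟨M, x, y, F 651, ⟨md, by rw [clA, nC], by rw [clA]; exact h.cen_A.le, fun c hc u hu => ?_, ?_, tri.1⟩⟩
  · obtain ⟨i, hi, e⟩ := DT.ge ⟨c, hc, hu⟩
    obtain ⟨u1, u2, u3⟩ := (p.ty u).2 ⟨i, hi, e⟩
    rw [← nC]; exact h.cen_t hG u1 u2 u3
  · obtain ⟨g, hg⟩ := _root_.isConj_iff.1 ((j.ty (a := 651) (by norm_num)).2 (by decide +kernel))
    obtain ⟨m, hm, e⟩ := h.fus (g := g) h.z_A (hg ▸ FA 651)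
    refine ⟨_, _, (e.trans hg) ▸ xs.cj m, ?_⟩
    rw [← nC]
    rintro _ ⟨v, hv, rfl⟩
    exact mul_mem (mul_mem hm (h.R_nA hv)) (inv_mem hm)

theorem md1 [IsSimpleGroup G] (hG : ¬ IsMulCommutative G) (hJ : IsOfJankoFourType G)
    (tri : (∀ r : G, orderOf r = 3 → ∃ t R N, H29.U.XS t R N ∧ r ∈ N ∧ normalizer (zpowers r : Set G) ≤ centralizer {t}) ∧ ∀ z : G, IsOfJankoFourTypeAt z → ∃ R N, H29.U.XS z R N ∧ R = twoCoreOfCentralizer z) :
    ∃ (M : Model G) (x y e : G), H29.U.Fr M x y e :=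
  md' hG hJ (fun h1 h2 h3 h4 h5 h6 h7 eg he s2 cm hx hy hc =>
    LeadHom.hom h1 h2 h3 h4 h5 h6 h7 eg he s2 cm hx hy hc) tri

end H13.Md
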