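import Cfsg.Agent.H13.Md
import Cfsg.Agent.H25.TriJ

/-! The frame of a group of Janko-four type. -/

set_option autoImplicit false

namespace H13.Md
open Cfsg H29

universe u
variable {G : Type u} [Group G] [Finite G]

theorem md [IsSimpleGroup G] (hG : ¬ IsMulCommutative G) (hJ : IsOfJankoFourType G) :
    ∃ (M : Model G) (x y e : G), H29.U.Fr M x y e :=
  md1 hG hJ (H25.TriJ.tri hG hJ)

end H13.Md
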