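import Cfsg.Agent.H13.Wt
/-! Relations between group elements read off from a faithful table. -/
set_option autoImplicit false
namespace H13
noncomputable section
open MulAction Cfsg Subgroup H27

variable {G Ω : Type*} [Group G] [MulAction G Ω] {n : Nat} {e : Nat → Ω}
abbrev Fa (G : Type*) {Ω : Type*} [Group G] [MulAction G Ω] (n : Nat) (e : Nat → Ω) : Prop :=
  ∀ g : G, (∀ i < n, g • e i = e i) → g = 1
theorem fa_fin (m : Nat) [NeZero m] : Fa (Equiv.Perm (Fin m)) m (finEnum m).e :=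
  fun _ u => Equiv.ext ((finEnum m).forall_iff.2 u)
theorem Fa.leq (hf : Fa G n e) (K : Nat) {gs hs : List G} {Ns Ms : List Net} (a : ActsL n e gs Ns) (b : ActsL n e hs Ms)
    (c : eqL K n Ns Ms = true) : gs.prod = hs.prod := a.eqA (A := ⊤) (fun g _ => hf g) b trivial trivial c
theorem Fa.peq (hf : Fa G n e) (K : Nat) {g h : G} {N M : Net} (a : Acts n e g N) (b : Acts n e h M)
    (c : eqL K n [N] [M] = true) : g = h := by simpa using hf.leq K (.cons a .nil) (.cons b .nil) c
theorem pne (he : Set.InjOn e {j | j < n}) {g h : G} {N M : Net} (a : Acts n e g N) (b : Acts n e h M) (i : Nat)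
    (c : and' (Nat.ble (Nat.succ i) n) (not' (Nat.beq (N.fn i) (M.fn i))) = true) : g ≠ h := by
  rintro rfl
  simp only [and'_eq, Bool.and_eq_true, Nat.ble_eq, not'_eq, Bool.not_eq_true', ← Bool.not_eq_true, beq_iff] at c
  exact c.2 (he (Net.fn_lt a.ok c.1) (Net.fn_lt b.ok c.1) ((a.act i c.1).symm.trans (b.act i c.1)))
theorem Fa.comm (hf : Fa G n e) (K : Nat) {cs ts : List G} {Cs Ts : List Net} (b : ActsL n e cs Cs) (a : ActsL n e ts Ts)
    (h : commL K n Cs Ts = true) : ∀ c ∈ cs, ∀ t ∈ ts, c * t = t * c := fun c hc t ht => by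
  obtain ⟨N, hN, u⟩ := b.exists_right hc
  obtain ⟨M, hM, v⟩ := a.exists_right ht
  simpa using hf.leq K (.cons u (.cons v .nil)) (.cons v (.cons u .nil)) ((allL_iff _ _).1 ((allL_iff _ _).1 h N hN) M hM)
theorem Fa.words (hf : Fa G n e) (K : Nat) {gs ks : List G} {Ns Ms : List Net} (h : ActsL n e gs Ns) (a : ActsL n e ks Ms)
    (ws : List (List Nat)) (c : all2 (fun w M => eqL K n (wordN (symN Ns) w) [M]) ws Ms = true) {H : Subgroup G}
    (hH : ∀ g ∈ gs, g ∈ H) : ∀ g ∈ ks, g ∈ H := fun g hg => by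
  obtain ⟨N, hN, u⟩ := a.exists_right hg
  rw [all2_iff] at c
  obtain ⟨i, hi, rfl⟩ := List.getElem_of_mem hN
  exact h.mem_of_word u (A := ⊤) (fun g _ => hf g) hH le_top trivial _ (c.get (c.length_eq ▸ hi) hi)
theorem Fa.pow (hf : Fa G n e) (K p : Nat) {gs : List G} {Ns : List Net} (h : ActsL n e gs Ns) (c : powChk K n p Ns = true) :
    ∀ g ∈ gs, g ^ p = 1 := fun _ hg => hf _ fun _ hi => h.pow_fix c hg hi
theorem Fa.ea (hf : Fa G n e) (K : Nat) {gs : List G} {Ns : List Net} (h : ActsL n e gs Ns)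
    (c : and' (commL K n Ns Ns) (powChk K n 3 Ns) = true) : EA (cl gs) := by
  rw [and'_eq, Bool.and_eq_true] at c
  exact EA.of_gens (hf.comm K h h c.1) fun x hx => (pow_three' x).symm.trans (hf.pow K 3 h c.2 x hx)
theorem fix_all {gs : List G} {Ns : List Net} (h : ActsL n e gs Ns) (c : allN n (fixChk Ns) = true) :
    ∀ g ∈ cl gs, ∀ i < n, g • e i = e i := fun _ hg i hi => h.fix hi ((allN_iff _ _).1 c i hi) hg
def neL (n : Nat) (Vs Ws : List Net) : Bool := anyN n fun i => not' (Nat.beq (fnL Vs i) (fnL Ws i))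
theorem lne (he : Set.InjOn e {j | j < n}) {gs hs : List G} {Ns Ms : List Net} (a : ActsL n e gs Ns) (b : ActsL n e hs Ms)
    (c : neL n Ns Ms = true) : gs.prod ≠ hs.prod := fun h => by
  simp only [neL, anyN_iff, not'_eq, Bool.not_eq_true', ← Bool.not_eq_true, beq_iff] at c
  obtain ⟨i, hi, c⟩ := c
  exact c (he (fnL_lt (fun _ => a.ok) hi) (fnL_lt (fun _ => b.ok) hi) ((a.prod_act hi).symm.trans (h ▸ b.prod_act hi)))
theorem ActsL.app {gs hs : List G} {Ns Ms : List Net} (a : ActsL n e gs Ns) (b : ActsL n e hs Ms) :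
    ActsL n e (gs ++ hs) (appendL Ns Ms) := appendL_eq Ns Ms ▸ List.rel_append a b
/-- some member of `Ws` does not commute with the product of `Vs` -/
def ncL (n : Nat) (Vs Ws : List Net) : Bool := anyL Ws fun W => neL n (appendL Vs [W]) (W :: Vs)
theorem lnc (he : Set.InjOn e {j | j < n}) {vs ws : List G} {Vs Ws : List Net} (a : ActsL n e vs Vs) (b : ActsL n e ws Ws)
    (c : ncL n Vs Ws = true) : ∃ w ∈ ws, vs.prod * w ≠ w * vs.prod := by
  obtain ⟨W, hW, c⟩ := (anyL_iff _ _).1 c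
  obtain ⟨w, hw, u⟩ := b.exists_left hW
  exact ⟨w, hw, by simpa using lne he (ActsL.app a (.cons u .nil)) (.cons u a) c⟩
theorem netGrp_alt {m : Nat} [NeZero m] {Ms : List Net} (h : 2 * Nat.card (netGrp m Ms) = m.factorial) :
    netGrp m Ms = alternatingGroup (Fin m) := Equiv.Perm.eq_alternatingGroup_of_index_eq_two (by
  have a := (netGrp m Ms).card_mul_index
  rw [Nat.card_eq_fintype_card (α := Equiv.Perm _), Fintype.card_perm, Fintype.card_fin, ← h, mul_comm 2] at a
  exact Nat.eq_of_mul_eq_mul_left Nat.card_pos a)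
theorem acts_val {m : Nat} [NeZero m] {N : Net} (h : N.valid m = true) : Acts m (finEnum m).e ((finEnum m).perm N) N :=
  (finEnum m).acts_perm (Net.ok_of_valid h)

end
end H13
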