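import Cfsg.Agent.H3.R7d

/-! A four-group lifted over two noncentral chief factors gives a section of rank five. -/

set_option autoImplicit false
set_option linter.unusedSectionVars false
open Subgroup Cfsg.Agent.H3.R4

namespace H13P4

universe u

variable {Y : Type u} {K : Type*} [Group Y] [Finite Y] [Group K] {π : Y →* K} {N Ω A : Subgroup Y}
  [N.Normal] [Ω.Normal] [A.Normal] {ψ : Y → C3} {ρ : Y →* MulAut C3} (H : CX π N Ω A ψ ρ)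
  {w k : C3} {t h : Y} (co : Co w k (ρ t) (ρ h)) (h3 : h ^ 3 = 1) (T : Tr A h t)

theorem cj {B : Subgroup Y} [B.Normal] (y : Y) {x : Y} (hx : x ∈ B) : y * x * y⁻¹ ∈ B :=
  Normal.conj_mem inferInstance x hx y

theorem cA (y : Y) {x : Y} (hx : x ∈ A) : y * x * y⁻¹ * x⁻¹ ∈ A := mul_mem (cj y hx) (inv_mem hx)

/-- the fixed points of `h` in `N` -/
abbrev D (N : Subgroup Y) (h : Y) : Subgroup Y := N ⊓ centralizer {h}

/-- the fixed points of `h` and `t` in `A` -/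
abbrev Z (A : Subgroup Y) (h t : Y) : Subgroup Y := A ⊓ centralizer {h} ⊓ centralizer {t}

theorem mZ {z : Y} : z ∈ Z A h t ↔ z ∈ A ∧ h * z = z * h ∧ t * z = z * t := by
  simp only [mem_inf, mem_centralizer_singleton_iff, and_assoc, eq_comm]

theorem mD {z : Y} : z ∈ D N h ↔ z ∈ N ∧ h * z = z * h := by
  simp only [mem_inf, mem_centralizer_singleton_iff, eq_comm]

include H

theorem NA : N ≤ A := H.NΩ.trans H.ΩA

theorem sqc {y a : Y} (ha : a ∈ A) : y * (a * a) = a * a * y ↔ ρ y (ψ a) = ψ a := by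
  rw [← H.cj y a ha, ← H.sqi _ (cj y ha) a ha, conj_mul, mul_inv_eq_iff_eq_mul]

theorem x4 {a : Y} (ha : a ∈ A) : a ^ 4 = 1 := by
  rw [← H.e2 _ (H.NΩ (H.sqA a ha))]; simp [pow_succ, mul_assoc]

include co

theorem sqD {a : Y} (ha : a ∈ A) : a * a ∈ D N h ↔ ψ a = 1 ∨ ψ a = w := by
  rw [mD, sqc H ha]
  exact ⟨fun e => co.of_fix e.2, fun e => ⟨H.sqA a ha, co.fix e⟩⟩

theorem DZ' : D N h ≤ Z A h t := fun m hm => by
  obtain ⟨a, ha, rfl⟩ := H.sur m hm.1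
  refine mZ.2 ⟨mul_mem ha ha, (mD.1 hm).2, (sqc H ha).2 ?_⟩
  rcases (sqD H co ha).1 hm with e | e <;> rw [e]
  exacts [map_one _, co.tw]

theorem cardD : Nat.card (D N h) ≤ 2 := by
  obtain ⟨a, ha, ea⟩ := H.surj w
  have : D N h ≤ zpowers (a * a) := fun m hm => by
    obtain ⟨b, hb, rfl⟩ := H.sur m hm.1
    rcases (sqD H co hb).1 hm with e | e
    · rw [H.e2 b ((H.ker b hb).1 e)]; exact one_mem _
    · rw [(H.sqi b hb a ha).2 (e.trans ea.symm)]; exact mem_zpowers _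
  refine (card_le_of_le this).trans ?_
  rw [Nat.card_zpowers]
  exact orderOf_le_of_pow_eq_one (by norm_num) (by rw [pow_two, H.e2 _ (H.NΩ (H.sqA a ha))])

theorem tN {y : Y} (hy : ∀ v, ρ y v * v = 1 ∨ ρ y v * v = w) {m : Y} (hm : m ∈ N) :
    y * m * y⁻¹ * m⁻¹ ∈ D N h := by
  obtain ⟨a, ha, rfl⟩ := H.sur m hm
  have := (sqD H co (cA y ha)).2 (by rw [H.toFr.comm y ha]; exact hy _)
  rwa [(show Commute a⁻¹ (y * a * y⁻¹) from H.ab _ (inv_mem ha) _ (cj y ha)).mul_mul_mul_comm,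
    conj_mul, ← mul_inv_rev] at this

theorem tv2 (v : C3) : ρ (h * t * h⁻¹) v * v = 1 ∨ ρ (h * t * h⁻¹) v * v = w := by
  rw [map_mul, map_mul, map_inv]; exact co.tv2 v

theorem tA2 {y : Y} (hy : ∀ v, ρ y v * v = 1 ∨ ρ y v * v = w) (hz : ∀ z ∈ Z A h t, y * z = z * y)
    {x : Y} (hx : x ∈ Z A h t ⊔ N) : y * x * y⁻¹ * x⁻¹ ∈ D N h := by
  obtain ⟨z, hz1, m, hm, rfl⟩ := mem_sup_of_normal_right.1 hx
  have h1 := tN H co hy hm
  have : y * (z * m) * y⁻¹ * (z * m)⁻¹ = z * (y * m * y⁻¹ * m⁻¹) * z⁻¹ := by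
    rw [← mul_assoc y, hz z hz1]; group
  rwa [this, H.ab z hz1.1.1 _ (NA H h1.1), mul_inv_cancel_right]

omit co in
theorem nA2 {y : Y} (hz : ∀ z ∈ Z A h t, y * z = z * y) {x : Y} (hx : x ∈ Z A h t ⊔ N) :
    y * x * y⁻¹ ∈ Z A h t ⊔ N := by
  obtain ⟨z, hz1, m, hm, rfl⟩ := mem_sup_of_normal_right.1 hx
  rw [← mul_assoc y, hz z hz1, mul_assoc, mul_assoc, ← mul_assoc y]
  exact mul_mem (mem_sup_left hz1) (mem_sup_right (cj y hm))

omit H co in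
theorem z2 : ∀ z ∈ Z A h t, h * t * h⁻¹ * z = z * (h * t * h⁻¹) := fun _ hz =>
  comm_conj (mZ.1 hz).2.1 (mZ.1 hz).2.2

theorem A2le {x : Y} (hx : x ∈ Z A h t ⊔ N) : x ∈ A ∧ (ψ x = 1 ∨ ψ x = w) := by
  obtain ⟨z, hz1, m, hm, rfl⟩ := mem_sup_of_normal_right.1 hx
  refine ⟨mul_mem hz1.1.1 (NA H hm), ?_⟩
  rw [H.mul z hz1.1.1 m (NA H hm), (H.ker m (NA H hm)).2 (H.NΩ hm), mul_one]
  have := H.cj h z hz1.1.1
  rw [(mZ.1 hz1).2.1, mul_inv_cancel_right] at this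
  exact co.of_fix this.symm

include h3

theorem hfix {x : Y} (hx : x ∈ A) (e : ψ x = 1 ∨ ψ x = w) : h * x * h⁻¹ * x⁻¹ ∈ N := by
  have h1 : h * x * h⁻¹ * x⁻¹ ∈ Ω := by
    rw [← H.ker _ (cA h hx), H.toFr.comm h hx, co.fix e, c3_two]
  let q := QuotientGroup.mk' N
  have h2 : q (h * (h * x * h⁻¹ * x⁻¹) * h⁻¹ * (h * x * h⁻¹ * x⁻¹)⁻¹) = 1 :=
    (QuotientGroup.eq_one_iff _).2 (H.tΩ h _ h1)
  rw [map_mul, map_mul, map_mul, map_inv, map_inv, mul_inv_eq_one, mul_inv_eq_iff_eq_mul] at h2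
  exact (QuotientGroup.eq_one_iff _).1 (HF (h := q h) (x := q x) (c := q (h * x * h⁻¹ * x⁻¹))
    (by rw [← map_pow, h3, map_one]) (by simp only [map_mul, map_inv]; group) h2
    (by rw [← map_pow, x4 H (H.ΩA h1), map_one]))

include T

theorem lemA : (ψ (t * t) = 1 ∨ ψ (t * t) = w) ∧
    (ψ (t * (h * t * h⁻¹) * t⁻¹ * (h * t * h⁻¹)⁻¹) = 1 ∨
      ψ (t * (h * t * h⁻¹) * t⁻¹ * (h * t * h⁻¹)⁻¹) = w) := by
  let q := QuotientGroup.mk' Ω
  have qc : ∀ y, ∀ x ∈ A, q y * q x = q x * q y ↔ ρ y (ψ x) = ψ x := fun y x hx => by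
    rw [← mul_inv_eq_iff_eq_mul, ← mul_inv_eq_one, ← map_inv, ← map_inv, ← map_mul, ← map_mul,
      ← map_mul, QuotientGroup.mk'_apply, QuotientGroup.eq_one_iff, ← H.ker _ (cA y hx),
      H.toFr.comm y hx, mul_eq_one_iff_eq_inv, c3_inv]
  obtain ⟨k1, -, k3, -⟩ := DZ (h := q h) (t := q t) (Q := A.map q) (by rw [← map_pow, h3, map_one])
    (by rintro _ ⟨x, hx, rfl⟩ _ ⟨y, hy, rfl⟩; rw [← map_mul, H.ab x hx y hy, map_mul])
    (by rintro _ ⟨x, hx, rfl⟩; rw [← map_pow, x4 H hx, map_one])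
    (by rintro _ ⟨x, hx, rfl⟩; exact ⟨_, cj h hx, by simp only [map_mul, map_inv]⟩)
    (by
      rintro _ ⟨x, hx, rfl⟩
      refine ⟨⟨_, cA t hx, by simp only [map_mul, map_inv]⟩, ?_⟩
      have := (qc h _ (cA t hx)).2 (co.fix (by rw [H.toFr.comm t hx]; exact co.tv' _))
      simpa only [map_mul, map_inv] using this)
    ⟨_, T.1, by simp only [map_mul]⟩ ⟨_, T.2.1, by simp only [map_mul, map_inv]⟩
    ⟨_, T.2.2, by simp only [map_mul, map_inv]⟩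
    (by
      rintro _ ⟨x, hx, rfl⟩ e1 e2 _ ⟨z, hz, rfl⟩ e3
      rw [← map_mul q z z, show q (z * z) = 1 from (QuotientGroup.eq_one_iff _).2 (H.NΩ (H.sqA z hz)),
        mul_inv_eq_one, mul_inv_eq_iff_eq_mul, ← map_inv, ← map_mul, ← map_mul, qc _ x hx] at e3
      rw [Ne, qc _ x hx] at e1
      rw [qc _ x hx] at e2
      rcases co.mv (ψ x) with e | e | e | e
      · exact e1 (co.fix (Or.inl e))
      · exact e1 (co.fix (Or.inr e))
      · exact e e2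
      · exact e (by simpa using e3))
  exact ⟨co.of_fix ((qc h _ T.1).1 (by simpa only [map_mul] using k1)),
    co.of_fix ((qc h _ T.2.2).1 (by simpa only [map_mul, map_inv] using k3))⟩

theorem lemK {x : Y} (hx : x ∈ A) (e : ψ x = 1 ∨ ψ x = w) (ht : t * x * t⁻¹ * x⁻¹ ∈ D N h) :
    x ∈ Z A h t ⊔ N := by
  have d1 := hfix H co h3 hx e
  obtain ⟨m, hm⟩ : ∃ m, m = h * x * h⁻¹ * (h * (h * x * h⁻¹) * h⁻¹) := ⟨_, rfl⟩
  have mN : m ∈ N := by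
    have := mul_mem (mul_mem d1 (cj x (mul_mem (cj h d1) d1))) (H.sqA x hx)
    rwa [show h * x * h⁻¹ * x⁻¹ * (x * (h * (h * x * h⁻¹ * x⁻¹) * h⁻¹ * (h * x * h⁻¹ * x⁻¹)) * x⁻¹) *
      (x * x) = m by rw [hm]; group] at this
  have x0A : x * m ∈ A := mul_mem hx (NA H mN)
  have a1 : h * (x * m) = x * m * h := by
    apply comm_of_conj
    calc _ = m * (h ^ 3 * x * (h ^ 3)⁻¹) := by rw [hm]; simp only [pow_three]; group
      _ = _ := by rw [h3, H.ab x hx m (NA H mN)]; group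
  obtain ⟨c, hc⟩ : ∃ c, c = t * x * t⁻¹ * x⁻¹ * (t * m * t⁻¹ * m⁻¹) := ⟨_, rfl⟩
  have cD : c ∈ D N h := hc ▸ mul_mem ht (tN H co co.tv' mN)
  have cZ := mZ.1 (DZ' H co cD)
  have b1 : t * (x * m) * t⁻¹ = c * (x * m) := by
    calc _ = t * x * t⁻¹ * x⁻¹ * (x * (t * m * t⁻¹ * m⁻¹)) * m := by group
      _ = _ := by rw [H.ab x hx _ (cA t (NA H mN)), hc]; group
  have st : ∀ s, s * (x * m) * s⁻¹ = c * (x * m) →
      h * s * h⁻¹ * (x * m) * (h * s * h⁻¹)⁻¹ = c * (x * m) := fun s e => by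
    calc _ = h * (s * (h⁻¹ * (x * m * h)) * s⁻¹) * h⁻¹ := by group
      _ = h * c * (x * m) * h⁻¹ := by rw [← a1, inv_mul_cancel_left, e]; group
      _ = _ := by rw [cZ.2.1, mul_assoc c, a1]; group
  have c1 := T3 b1 (st _ b1) (st _ (st _ b1)) cZ.2.2 (comm_conj cZ.2.1 cZ.2.2)
    (H.ab _ T.2.1 _ x0A) (x4 H cZ.1)
  rw [c1, one_mul] at b1
  have := mul_mem (mem_sup_left (mZ.2 ⟨x0A, a1, comm_of_conj b1⟩))
    (mem_sup_right (S := Z A h t) (inv_mem mN))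
  rwa [mul_inv_cancel_right] at this

theorem uA2 : t * t ∈ Z A h t ⊔ N :=
  lemK H co h3 T T.1 (lemA H co h3 T).1 (by
    rw [show t * (t * t) * t⁻¹ * (t * t)⁻¹ = 1 by group]; exact one_mem _)

theorem cardA2 : 2 * Nat.card Ω ≤ Nat.card (Z A h t ⊔ N : Subgroup Y) := by
  have zt : ∀ z ∈ Z A h t, t * z = z * t := fun z hz => (mZ.1 hz).2.2
  have zh : ∀ z ∈ Z A h t, h * z = z * h := fun z hz => (mZ.1 hz).2.1
  have nn : ∀ y, (∀ z ∈ Z A h t, y * z = z * y) → y ∈ normalizer ((Z A h t ⊔ N : Subgroup Y) : Set Y) :=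
    fun y hy => mem_normalizer_fintype fun x hx => nA2 H hy hx
  have c1 : ∀ a ∈ A, t * a * t⁻¹ * a⁻¹ ∈ Z A h t ⊔ N := fun a ha => by
    have e : ψ (t * a * t⁻¹ * a⁻¹) = 1 ∨ ψ (t * a * t⁻¹ * a⁻¹) = w := by
      rw [H.toFr.comm t ha]; exact co.tv' _
    refine lemK H co h3 T (cA t ha) e ?_
    have := inv_mem ((sqD H co (cA t ha)).2 e)
    rwa [show (t * a * t⁻¹ * a⁻¹ * (t * a * t⁻¹ * a⁻¹))⁻¹ =
      t * (t * a * t⁻¹ * a⁻¹) * t⁻¹ * (t * a * t⁻¹ * a⁻¹)⁻¹ by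
        calc _ = a * (t * t) * (t⁻¹ * a⁻¹ * t⁻¹ * (t * a * t⁻¹ * a⁻¹)⁻¹) := by group
          _ = _ := by rw [H.ab a ha _ T.1]; group] at this
  have a1 := five_sec H.hy.sc (L := A) (M := Z A h t ⊔ N) (t1 := t) (t2 := h * t * h⁻¹)
    (fun a ha => norm_of_comm fun m hm => H.ab a ha m (A2le H co hm).1) (nn t zt) (nn _ z2)
    (fun a ha => mem_sup_right (H.sqA a ha)) (uA2 H co h3 T)
    (by rw [conj_mul]; exact nA2 H zh (uA2 H co h3 T)) H.ab c1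
    (fun a ha => by
      have := nA2 H zh (c1 _ (cj h⁻¹ ha))
      rwa [show h * (t * (h⁻¹ * a * h⁻¹⁻¹) * t⁻¹ * (h⁻¹ * a * h⁻¹⁻¹)⁻¹) * h⁻¹ =
        h * t * h⁻¹ * a * (h * t * h⁻¹)⁻¹ * a⁻¹ by group] at this)
    (lemK H co h3 T T.2.2 (lemA H co h3 T).2 (by
      have := mul_mem (inv_mem (tA2 H co (tv2 H co) z2 (uA2 H co h3 T)))
        (inv_mem ((sqD H co T.2.2).2 (lemA H co h3 T).2))
      generalize h * t * h⁻¹ = s at this ⊢
      rwa [show (s * (t * t) * s⁻¹ * (t * t)⁻¹)⁻¹ * (t * s * t⁻¹ * s⁻¹ * (t * s * t⁻¹ * s⁻¹))⁻¹ =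
        t * (t * s * t⁻¹ * s⁻¹) * t⁻¹ * (t * s * t⁻¹ * s⁻¹)⁻¹ by
          simp only [mul_inv_rev, inv_inv, mul_assoc, inv_mul_cancel_left]] at this))
  have a2 := H.toFr.card4 co H.AQ
  have a3 := H.toCH.cardA
  omega

theorem all {x : Y} (hx : x ∈ A) (e : ψ x = 1 ∨ ψ x = w) : x ∈ Z A h t ⊔ N := by
  let A1 : Subgroup Y :=
    { carrier := {x | x ∈ A ∧ ρ h (ψ x) = ψ x}
      one_mem' := ⟨one_mem _, co.fix (Or.inl ((H.ker 1 (one_mem _)).2 (one_mem _)))⟩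
      mul_mem' := by
        rintro a b ⟨a1, a2⟩ ⟨b1, b2⟩
        exact ⟨mul_mem a1 b1, by rw [H.mul a a1 b b1, map_mul, a2, b2]⟩
      inv_mem' := by
        rintro a ⟨a1, a2⟩
        exact ⟨inv_mem a1, by rw [H.inv a a1, a2]⟩ }
  have a1 : Ω.relIndex A1 ≤ 2 := H12.SR.idx_two fun a ha b hb a1 b1 => by
    have f : ∀ a ∈ A1, a ∉ Ω → ψ a = w := fun a a2 a1 =>
      (co.of_fix a2.2).resolve_left fun e => a1 ((H.ker a a2.1).1 e)
    rw [← H.ker _ (mul_mem (inv_mem ha.1) hb.1), H.mul _ (inv_mem ha.1) _ hb.1, H.inv a ha.1,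
      f a ha a1, f b hb b1, c3_two]
  have a2 := H12.SR.card_le_idx A1 le_rfl a1
  have a3 : Nat.card ↥(Ω ⊓ A1) ≤ Nat.card Ω := card_le_of_le inf_le_left
  have a4 := cardA2 H co h3 T
  have a5 : Z A h t ⊔ N = A1 := eq_of_le_of_card_ge
    (fun y hy => ⟨(A2le H co hy).1, co.fix (A2le H co hy).2⟩) (by omega)
  rw [a5]; exact ⟨hx, co.fix e⟩

theorem lemF (hu : h * (t * t) = t * t * h) : False := by
  have zt : ∀ z ∈ Z A h t, t * z = z * t := fun z hz => (mZ.1 hz).2.2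
  have zh : ∀ z ∈ Z A h t, h * z = z * h := fun z hz => (mZ.1 hz).2.1
  have uZ : t * t ∈ Z A h t := mZ.2 ⟨T.1, hu, (mul_assoc _ _ _).symm⟩
  obtain ⟨k1, k2⟩ := ab_mod (N0 := Z A h t) (Q := Z A h t ⊔ N) rfl rfl h3 zt
    (fun x hx => DZ' H co (tA2 H co co.tv' zt hx)) (fun x hx => DZ' H co (tA2 H co (tv2 H co) z2 hx))
    z2 (fun x hx e => by
      obtain ⟨z, hz1, m, hm, rfl⟩ := mem_sup_of_normal_right.1 hx
      have a : h * (z * m) * h⁻¹ * (z * m)⁻¹ = h * m * h⁻¹ * m⁻¹ := by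
        calc _ = z * (h * m * h⁻¹ * m⁻¹) * z⁻¹ := by rw [← mul_assoc h, zh z hz1]; group
          _ = _ := by rw [H.ab z hz1.1.1 _ (cA h (NA H hm)), mul_inv_cancel_right]
      rw [a] at e
      have := HF h3 (x := m) (c := h * m * h⁻¹ * m⁻¹) (by group) (zh _ e) (x4 H e.1.1)
      rw [mul_inv_eq_one, mul_inv_eq_iff_eq_mul] at this
      exact mul_mem hz1 (DZ' H co (mD.2 ⟨hm, this⟩)))
    (all H co h3 T T.2.1 (co.fpf _ (by
      have pA := T.2.1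
      obtain ⟨p, hp⟩ : ∃ p, p = t * (h * t * h⁻¹) * (h * (h * t * h⁻¹) * h⁻¹) := ⟨_, rfl⟩
      rw [← hp] at pA ⊢
      have a : t * (h * p * h⁻¹) * t⁻¹ = p := by
        calc _ = p * (h ^ 3 * t * (h ^ 3)⁻¹ * t⁻¹) := by rw [hp]; simp only [pow_three]; group
          _ = _ := by rw [h3]; group
      have b := H.cj t _ (cj h pA)
      rw [a, H.cj h p pA] at b
      rw [c3_inv, mul_comm]
      nth_rewrite 1 [b]
      nth_rewrite 3 [b]
      exact co.tv' _)))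
    (all H co h3 T T.2.2 (lemA H co h3 T).2)
  obtain ⟨k3, k4⟩ := ZZ (N0 := Z A h t) rfl rfl zh zt (fun n hn m hm => H.ab n hn.1.1 m hm.1.1)
    (fun n hn => x4 H hn.1.1) uZ k1 k2
  have sq : ∀ x ∈ A, x * x = 1 → x ∈ Ω := fun x hx e => by
    rw [← H.ker x hx, ← (H.ker 1 (one_mem _)).2 (one_mem _), ← H.sqi x hx 1 (one_mem _), e, mul_one]
  have DM : D N h ≤ Z A h t ⊓ Ω := fun x hx => ⟨DZ' H co hx, H.NΩ hx.1⟩
  have uM : t * t ∈ Z A h t ⊓ Ω := ⟨uZ, sq _ T.1 (by rw [← k3]; simp [pow_succ, mul_assoc])⟩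
  have a1 := five_sec H.hy.sc (L := Z A h t ⊔ N) (M := Z A h t ⊓ Ω) (t1 := t) (t2 := h * t * h⁻¹)
    (fun a ha => norm_of_comm fun m hm => H.ab a (A2le H co ha).1 m hm.1.1.1)
    (norm_of_comm fun m hm => zt m hm.1) (norm_of_comm fun m hm => z2 m hm.1)
    (fun a ha => DM ((sqD H co (A2le H co ha).1).2 (A2le H co ha).2)) uM
    (by rw [conj_mul, hu, mul_inv_cancel_right]; exact uM)
    (fun a ha b hb => H.ab a (A2le H co ha).1 b (A2le H co hb).1)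
    (fun a ha => DM (tA2 H co co.tv' zt ha)) (fun a ha => DM (tA2 H co (tv2 H co) z2 ha))
    ⟨k1, sq _ T.2.2 k4⟩
  have a2 := H.toFr.card4 co (L := Z A h t ⊔ N) fun x hx => H.AQ (A2le H co hx).1
  have a3 := cardA2 H co h3 T
  have a4 := H12.SR.card_le_idx (Z A h t ⊓ Ω) (T := N) inf_le_right le_rfl
  have a5 : Nat.card ↥(N ⊓ (Z A h t ⊓ Ω)) ≤ 2 :=
    (card_le_of_le (show N ⊓ (Z A h t ⊓ Ω) ≤ D N h from fun x hx => ⟨hx.1, hx.2.1.1.2⟩)).trans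
      (cardD H co)
  have a6 : Nat.card N * N.relIndex Ω = Nat.card Ω := by
    rw [relIndex, ← Nat.card_congr (subgroupOfEquivOfLe H.NΩ).toEquiv, card_mul_index]
  have a7 : 0 < Nat.card Ω := Nat.card_pos
  have a8 := Nat.mul_le_mul_right (N.relIndex Ω) a5
  rw [H.cN] at a6
  omega

theorem p4 : False := by
  have zt : ∀ z ∈ Z A h t, t * z = z * t := fun z hz => (mZ.1 hz).2.2
  have zh : ∀ z ∈ Z A h t, h * z = z * h := fun z hz => (mZ.1 hz).2.1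
  have fx : ∀ x, t * x = x * t → ∀ z ∈ Z A h t, ∀ b ∈ A, z * (b * b) = x → ρ t (ψ b) = ψ b :=
    fun x hx z hz b hb e => (sqc H hb).1 (by
      rw [← e, ← mul_assoc, zt z hz, mul_assoc, mul_assoc] at hx
      exact mul_left_cancel hx)
  obtain ⟨z, hz, m, hm, eu⟩ := mem_sup_of_normal_right.1 (uA2 H co h3 T)
  obtain ⟨b, hb, rfl⟩ := H.sur m hm
  have b1 := fx _ (mul_assoc _ _ _).symm z hz b hb eu
  have b2 : ¬ (ψ b = 1 ∨ ψ b = w) := fun e =>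
    lemF H co h3 T (eu ▸ zh _ (mul_mem hz (DZ' H co ((sqD H co hb).2 e))))
  have key : ∀ a ∈ A, a * (t * a * t⁻¹) ∈ Z A h t := fun a ha => by
    obtain ⟨z', hz', m', hm', e'⟩ := mem_sup_of_normal_right.1
      (all H co h3 T (mul_mem ha (cj t ha)) (by
        rw [H.mul a ha _ (cj t ha), H.cj t a ha, mul_comm]; exact co.tv' _))
    obtain ⟨b', hb', rfl⟩ := H.sur m' hm'
    have c1 := fx _ (comm_of_conj (by
      calc t * (a * (t * a * t⁻¹)) * t⁻¹ = t * a * t⁻¹ * (t * t * a * (t * t)⁻¹) := by group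
        _ = _ := by rw [H.ab _ T.1 a ha, mul_inv_cancel_right, H.ab _ (cj t ha) a ha])) z' hz' b' hb' e'
    by_cases c2 : ψ b' = 1 ∨ ψ b' = w
    · exact e' ▸ mul_mem hz' (DZ' H co ((sqD H co hb').2 c2))
    exfalso
    have c3 : ψ (b * b') = 1 ∨ ψ (b * b') = w := by
      rw [H.mul b hb b' hb']
      have := co.fx _ _ b1 c1
      tauto
    have c4 := mul_mem (mul_mem hz' hz) (DZ' H co ((sqD H co (mul_mem hb hb')).2 c3))
    have et : ρ (a * t) = ρ t := by rw [map_mul, (H.rk a).2 (H.AQ ha), one_mul]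
    refine lemF H (t := a * t) (et ▸ co) h3 (T.mul ha) ?_
    have c5 : a * t * (a * t) = z' * z * (b * b' * (b * b')) := by
      calc _ = a * (t * a * t⁻¹) * (t * t) := by group
        _ = z' * (b' * b' * z) * (b * b) := by rw [← e', ← eu]; group
        _ = z' * z * (b' * b' * (b * b)) := by rw [H.ab _ (mul_mem hb' hb') z hz.1.1]; group
        _ = _ := by
          rw [(show Commute b' b from H.ab b' hb' b hb).mul_mul_mul_comm, H.ab b' hb' b hb]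
    rw [c5]; exact zh _ c4
  have st : ∀ s, (∀ a ∈ A, a * (s * a * s⁻¹) ∈ Z A h t) →
      ∀ a ∈ A, a * (h * s * h⁻¹ * a * (h * s * h⁻¹)⁻¹) ∈ Z A h t := fun s hs a ha => by
    have h1 := hs _ (cj h⁻¹ ha)
    rwa [show a * (h * s * h⁻¹ * a * (h * s * h⁻¹)⁻¹) =
      h * (h⁻¹ * a * h⁻¹⁻¹ * (s * (h⁻¹ * a * h⁻¹⁻¹) * s⁻¹)) * h⁻¹ by group, zh _ h1,
      mul_inv_cancel_right]
  obtain ⟨a, ha, ea⟩ := H.surj k
  have y1 := key a ha
  have y2 := st _ key a ha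
  have y3 := st _ (st _ key) a ha
  have w2 := z2 _ y3
  have pc := H.ab _ T.2.1 a ha
  generalize h * (h * t * h⁻¹) * h⁻¹ = t3 at y3 w2 pc
  generalize h * t * h⁻¹ = t2 at y2 w2 pc
  have e1 : t * (t2 * (a * (t3 * a * t3⁻¹)) * t2⁻¹) * t⁻¹ = t * (t2 * a * t2⁻¹) * t⁻¹ * a := by
    calc _ = t * (t2 * a * t2⁻¹) * t⁻¹ * (t * t2 * t3 * a * (t * t2 * t3)⁻¹) := by group
      _ = _ := by rw [pc, mul_inv_cancel_right]
  rw [w2, mul_inv_cancel_right, zt _ y3, mul_inv_cancel_right] at e1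
  have e2 : t * (a * (t2 * a * t2⁻¹)) * t⁻¹ = a * (t2 * a * t2⁻¹) := by
    rw [zt _ y2, mul_inv_cancel_right]
  have e3 : a * a = a * (t * a * t⁻¹) * (a * (t2 * a * t2⁻¹))⁻¹ * (a * (t3 * a * t3⁻¹)) := by
    rw [e1, ← e2]
    calc a * a = a * (t * a * t⁻¹) * (t * a * t⁻¹)⁻¹ * a := by group
      _ = a * (t * a * t⁻¹) * ((t * (t2 * a * t2⁻¹) * t⁻¹)⁻¹ * (t * (t2 * a * t2⁻¹) * t⁻¹ *
        (t * a * t⁻¹)⁻¹)) * a := by group
      _ = _ := by rw [H.ab _ (cj t (cj t2 ha)) _ (inv_mem (cj t ha))]; group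
  have e4 : a * a ∈ D N h := mD.2 ⟨H.sqA a ha, zh _ (e3 ▸ mul_mem (mul_mem y1 (inv_mem y2)) y3)⟩
  rcases (sqD H co ha).1 e4 with e | e
  exacts [co.k1 (ea ▸ e), co.k2 (ea ▸ e)]

end H13P4
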