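import Cfsg.Agent.H13.Syl
import Cfsg.Agent.H10.TT

/-! Two shapes of a Sylow 2-subgroup of order 64 excluded in a simple group of order 95040. -/

set_option autoImplicit false

namespace H13PF

open Subgroup

theorem ext2 {G : Type*} [Group G] {B : Subgroup G} {x : G} (hn : ∀ b ∈ B, x * b * x⁻¹ ∈ B)
    (h2 : x * x ∈ B) (hx : x ∉ B) :
    ∃ B' : Subgroup G, (∀ y, y ∈ B' ↔ y ∈ B ∨ y * x⁻¹ ∈ B) ∧ Nat.card B' = Nat.card B * 2 := by
  let B' : Subgroup G :=
    { carrier := {y | y ∈ B ∨ y * x⁻¹ ∈ B}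
      one_mem' := Or.inl B.one_mem
      mul_mem' := by
        rintro a b (ha | ha) (hb | hb)
        · exact Or.inl (B.mul_mem ha hb)
        · exact Or.inr (by rw [mul_assoc]; exact B.mul_mem ha hb)
        · refine Or.inr ?_
          have := B.mul_mem ha (hn b hb)
          rwa [show a * x⁻¹ * (x * b * x⁻¹) = a * b * x⁻¹ by group] at this
        · refine Or.inl ?_
          have := B.mul_mem (B.mul_mem ha (hn _ hb)) h2
          rwa [show a * x⁻¹ * (x * (b * x⁻¹) * x⁻¹) * (x * x) = a * b by group] at this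
      inv_mem' := by
        rintro a (ha | ha)
        · exact Or.inl (B.inv_mem ha)
        · refine Or.inr ?_
          have := B.mul_mem (B.inv_mem h2) (hn _ (B.inv_mem ha))
          have h3 := B.mul_mem (B.mul_mem (B.inv_mem h2) (hn _ (B.inv_mem ha))) B.one_mem
          rwa [show (x * x)⁻¹ * (x * (a * x⁻¹)⁻¹ * x⁻¹) * 1 = a⁻¹ * x⁻¹ by group] at h3 }
  have hle : B ≤ B' := fun y hy => Or.inl hy
  refine ⟨B', fun _ => Iff.rfl, ?_⟩
  rw [← H13.card_mul_relIndex hle]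
  congr 1
  rw [relIndex, index_eq_two_iff]
  refine ⟨⟨x⁻¹, B'.inv_mem (Or.inr (by simp))⟩, fun b => ?_⟩
  by_cases hb : (b : G) ∈ B
  · refine Or.inr ⟨hb, fun h => hx ?_⟩
    have h' : (b : G) * x⁻¹ ∈ B := h
    have := B.mul_mem (B.inv_mem h') hb
    rwa [show ((b : G) * x⁻¹)⁻¹ * b = x by group] at this
  · exact Or.inl ⟨b.2.resolve_left hb, hb⟩

theorem partF {G : Type*} [Group G] [Finite G] [IsSimpleGroup G] (hG : Nat.card G = 95040)
    (e8 : ∃ y : G, orderOf y = 8) {g h z s t r : G} (zz : z*z = 1) (ss : s*s = 1) (tt : t*t = 1)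
    (z1 : z ≠ 1) (s1 : s ≠ 1) (zs1 : z ≠ s) (zs : z*s = s*z) (tz : t*z = z*t) (ts : t*s = s*t)
    (gz : g*z = z*g) (gs : g*s = s*g) (hz : h*z = z*h) (hs : h*s = s*h) (gh : g*h = h*g)
    (tg : t*g*t = g*z) (th : t*h*t = h*s) (rt : r*t = t*r) (rz : r*z = z*r) (rs : r*s*r⁻¹ = s*z)
    (rg : r*g*r⁻¹ ∈ closure ({g,h,z,s} : Set G)) (rh : r*h*r⁻¹ ∈ closure ({g,h,z,s} : Set G))
    (g2 : g*g ∈ closure ({z,s} : Set G)) (h2 : h*h ∈ closure ({z,s} : Set G))
    (nab : ∀ H : Subgroup G, H ≤ centralizer ({t} : Set G) → Nat.card H = 16 →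
      ∃ a ∈ H, ∃ b ∈ H, a*b ≠ b*a)
    (bad : r*r = t ∨ (r*r = 1 ∧ g*g = 1 ∧ h*h = 1)) : False := by
  haveI : Fact (Nat.Prime 2) := ⟨Nat.prime_two⟩
  have ti : t⁻¹ = t := inv_eq_of_mul_eq_one_right tt
  set K := closure ({g,h,z,s} : Set G) with hK
  have gK : g ∈ K := subset_closure (by simp)
  have hK' : h ∈ K := subset_closure (by simp)
  have zK : z ∈ K := subset_closure (by simp)
  have sK : s ∈ K := subset_closure (by simp)
  have hgen : ∀ {P : Subgroup G}, g ∈ P → h ∈ P → z ∈ P → s ∈ P → K ≤ P := by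
    intro P a b c d
    rw [hK, closure_le]
    rintro _ (rfl | rfl | rfl | rfl) <;> assumption
  have mc : ∀ {a b : G}, a ∈ centralizer ({b} : Set G) ↔ a * b = b * a :=
    mem_centralizer_singleton_iff
  have hcomm : ∀ a ∈ K, ∀ b ∈ K, a * b = b * a := by
    intro a ha b hb
    refine mc.1 (hgen (P := centralizer {b}) ?_ ?_ ?_ ?_ ha) <;> refine mc.2 (mc.1 ?_).symm
    · exact hgen (mc.2 rfl) (mc.2 gh.symm) (mc.2 gz.symm) (mc.2 gs.symm) hb
    · exact hgen (mc.2 gh) (mc.2 rfl) (mc.2 hz.symm) (mc.2 hs.symm) hb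
    · exact hgen (mc.2 gz) (mc.2 hz) (mc.2 rfl) (mc.2 zs.symm) hb
    · exact hgen (mc.2 gs) (mc.2 hs) (mc.2 zs) (mc.2 rfl) hb
  have hfix : ∀ {B : Subgroup G} {x : G}, B ≤ K → x ∈ K → ∀ b ∈ B, x * b * x⁻¹ ∈ B := by
    intro B x hB hx b hb
    rw [hcomm x hx b (hB hb), mul_inv_cancel_right]; exact hb
  have hup : ∀ {B B' : Subgroup G} {x : G} {P : Subgroup G},
      (∀ y, y ∈ B' ↔ y ∈ B ∨ y * x⁻¹ ∈ B) → B ≤ P → x ∈ P → B' ≤ P := by
    intro B B' x P hm hB hx y hy
    rcases (hm y).1 hy with h | h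
    · exact hB h
    · simpa using P.mul_mem (hB h) hx
  obtain ⟨B1, m1, c1⟩ := ext2 (B := ⊥) (x := z) (hfix bot_le zK) (by rw [zz]; exact one_mem _)
    (by simpa using z1)
  have l1 : B1 ≤ K := hup m1 bot_le zK
  obtain ⟨B2, m2, c2⟩ := ext2 (B := B1) (x := s) (hfix l1 sK) (by rw [ss]; exact one_mem _)
    (by
      rw [m1, mem_bot, mem_bot, mul_inv_eq_one]
      rintro (h | h)
      · exact s1 h
      · exact zs1 h.symm)
  have l2 : B2 ≤ K := hup m2 l1 sK
  have zB2 : z ∈ B2 := (m2 z).2 (Or.inl ((m1 z).2 (Or.inr (by simp))))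
  have sB2 : s ∈ B2 := (m2 s).2 (Or.inr (by simp))
  have cl2 : closure ({z, s} : Set G) ≤ B2 := by
    rw [closure_le]
    rintro _ (rfl | rfl) <;> assumption
  have t2 : B2 ≤ centralizer ({t} : Set G) :=
    hup m2 (hup m1 bot_le (mc.2 tz.symm)) (mc.2 ts.symm)
  have ngt : g * t ≠ t * g := fun e => z1 (by
    rw [← e, mul_assoc, tt, mul_one] at tg
    simpa using tg.symm)
  obtain ⟨B3, m3, c3⟩ := ext2 (B := B2) (x := g) (hfix l2 gK) (cl2 g2) (fun h => ngt (mc.1 (t2 h)))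
  have l3 : B3 ≤ K := hup m3 l2 gK
  have le23 : B2 ≤ B3 := fun y hy => (m3 y).2 (Or.inl hy)
  obtain ⟨B4, m4, c4⟩ := ext2 (B := B3) (x := h) (hfix l3 hK') (le23 (cl2 h2)) (by
    rw [m3]
    rintro (e | e)
    · have e1 := mc.1 (t2 e)
      rw [← e1, mul_assoc, tt, mul_one] at th
      exact s1 (by simpa using th.symm)
    · have e1 := mc.1 (t2 e)
      have e2 : t * h * t = h * g⁻¹ * (t * g * t) := by
        calc t * h * t = t * (h * g⁻¹) * g * t := by group
          _ = _ := by rw [← e1]; group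
      rw [th, tg] at e2
      exact zs1 (by simpa [mul_assoc] using e2.symm))
  have le34 : B3 ≤ B4 := fun y hy => (m4 y).2 (Or.inl hy)
  have e4 : B4 = K := le_antisymm (hup m4 l3 hK')
    (hgen (le34 ((m3 g).2 (Or.inr (by simp)))) ((m4 h).2 (Or.inr (by simp))) (le34 (le23 zB2))
      (le34 (le23 sB2)))
  have cK : Nat.card K = 16 := by rw [← e4, c4, c3, c2, c1, card_bot]
  have hnorm : ∀ x : G, x * g * x⁻¹ ∈ K → x * h * x⁻¹ ∈ K → x * z * x⁻¹ ∈ K → x * s * x⁻¹ ∈ K →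
      ∀ b ∈ K, x * b * x⁻¹ ∈ K := fun x a b c d =>
    hgen (P := K.comap (MulAut.conj x).toMonoidHom) a b c d
  have tK : ∀ b ∈ K, t * b * t⁻¹ ∈ K := hnorm t (by rw [ti, tg]; exact K.mul_mem gK zK)
    (by rw [ti, th]; exact K.mul_mem hK' sK) (by rw [tz]; simpa using zK) (by rw [ts]; simpa using sK)
  have rK : ∀ b ∈ K, r * b * r⁻¹ ∈ K := hnorm r rg rh (by rw [rz]; simpa using zK)
    (by rw [rs]; exact K.mul_mem sK zK)
  have ntK : t ∉ K := fun e => ngt (hcomm g gK t e)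
  obtain ⟨B5, m5, c5⟩ := ext2 (B := K) (x := t) tK (by rw [tt]; exact one_mem _) ntK
  have tB5 : t ∈ B5 := (m5 t).2 (Or.inr (by simp))
  have s5 : B5 ≤ centralizer ({s} : Set G) :=
    hup m5 (fun b hb => mc.2 (hcomm b hb s sK)) (mc.2 ts)
  obtain ⟨S, m6, c6⟩ := ext2 (B := B5) (x := r) (by
      intro b hb
      rcases (m5 b).1 hb with e | e
      · exact (m5 _).2 (Or.inl (rK b e))
      · refine (m5 _).2 (Or.inr ?_)
        have := rK _ e
        have c : Commute r t := rt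
        rwa [mul_assoc, mul_assoc, c.inv_inv.symm.eq, ← mul_assoc, ← mul_assoc] at this)
    (by
      rcases bad with e | e
      · rw [e]; exact tB5
      · rw [e.1]; exact one_mem _)
    (fun e => z1 (by
      rw [mc.1 (s5 e), mul_inv_cancel_right] at rs
      simpa using rs.symm))
  have cS : Nat.card S = 64 := by rw [c6, c5, cK]
  have KS : K ≤ S := fun y hy => (m6 y).2 (Or.inl ((m5 y).2 (Or.inl hy)))
  have tS : t ∈ S := (m6 t).2 (Or.inl tB5)
  have rS : r ∈ S := (m6 r).2 (Or.inr (by simp))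
  have SN : S ≤ normalizer (K : Set G) :=
    hup m6 (hup m5 le_normalizer (H13.normalizer_of_finite tK)) (H13.normalizer_of_finite rK)
  haveI hn : (K.subgroupOf S).Normal := (H13.normal_subgroupOf_iff KS).2 SN
  let φ := QuotientGroup.mk' (K.subgroupOf S)
  have hφ : ∀ a : S, φ a = 1 ↔ (a : G) ∈ K := fun a => QuotientGroup.eq_one_iff a
  set τ := φ ⟨t, tS⟩ with hτ
  set ρ := φ ⟨r, rS⟩ with hρ
  have hc : Commute τ ρ := by
    have : (⟨t, tS⟩ : S) * ⟨r, rS⟩ = ⟨r, rS⟩ * ⟨t, tS⟩ := Subtype.ext rt.symm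
    rw [Commute, SemiconjBy, hτ, hρ, ← map_mul, ← map_mul, this]
  have hττ : τ * τ = 1 := by
    rw [hτ, ← map_mul, show (⟨t, tS⟩ : S) * ⟨t, tS⟩ = 1 from Subtype.ext tt, map_one]
  have hall : ∀ a : S, φ a = 1 ∨ φ a = τ ∨ φ a = ρ ∨ φ a = τ * ρ := by
    intro a
    rcases (m6 a).1 a.2 with e | e <;> rcases (m5 _).1 e with e | e
    · exact Or.inl ((hφ a).2 e)
    · have := (hφ (a * (⟨t, tS⟩ : S)⁻¹)).2 e
      rw [map_mul, map_inv, mul_inv_eq_one] at this
      exact Or.inr (Or.inl this)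
    · have := (hφ (a * (⟨r, rS⟩ : S)⁻¹)).2 e
      rw [map_mul, map_inv, mul_inv_eq_one] at this
      exact Or.inr (Or.inr (Or.inl this))
    · have := (hφ (a * (⟨r, rS⟩ : S)⁻¹ * (⟨t, tS⟩ : S)⁻¹)).2 e
      rw [map_mul, map_mul, map_inv, map_inv, mul_inv_eq_one, mul_inv_eq_iff_eq_mul] at this
      exact Or.inr (Or.inr (Or.inr this))
  have hsyl : H13.SylIn 2 S ⊤ := H13.sylIn_of_card_mul le_top
    (IsPGroup.of_card (n := 6) (by rw [cS]; norm_num)) (m := 1485) (by norm_num)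
    (by rw [card_top, hG, cS])
  rcases bad with e | ⟨e, eg, eh⟩
  · have hρρ : ρ * ρ = τ := by
      rw [hρ, ← map_mul, show (⟨r, rS⟩ : S) * ⟨r, rS⟩ = ⟨t, tS⟩ from Subtype.ext e]
    have hτ1 : τ ≠ 1 := fun e => ntK ((hφ _).1 e)
    have hq : ∀ q : S ⧸ K.subgroupOf S, q = 1 ∨ q = τ ∨ q = ρ ∨ q = τ * ρ := fun q => by
      obtain ⟨a, rfl⟩ := QuotientGroup.mk'_surjective _ q
      exact hall a
    have hq2 : ∀ q : S ⧸ K.subgroupOf S, Commute τ q ∧ Commute ρ q := fun q => by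
      rcases hq q with rfl | rfl | rfl | rfl
      · exact ⟨Commute.one_right _, Commute.one_right _⟩
      · exact ⟨Commute.refl _, hc.symm⟩
      · exact ⟨hc, Commute.refl _⟩
      · exact ⟨(Commute.refl _).mul_right hc, hc.symm.mul_right (Commute.refl _)⟩
    letI : CommGroup (S ⧸ K.subgroupOf S) := { (inferInstance : Group (S ⧸ K.subgroupOf S)) with
      mul_comm := fun p q => by
        rcases hq p with rfl | rfl | rfl | rfl
        · exact (Commute.one_left _).eq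
        · exact (hq2 q).1.eq
        · exact (hq2 q).2.eq
        · exact ((hq2 q).1.mul_left (hq2 q).2).eq }
    obtain ⟨c, hc1, hc2, -⟩ := H10.thompson_transfer_ext (S := S)
      ⟨le_top, hsyl.isPGroup, fun Q hQ h1 h2 => hsyl.eq_of_le hQ h2 h1⟩ φ tS tt hτ1
      (fun a ha => by
        have h3 : φ a * φ a = 1 := by rw [← map_mul, ha, map_one]
        rcases hall a with e | e | e | e
        · exact Or.inl e
        · exact Or.inr e
        · rw [e, hρρ] at h3; exact absurd h3 hτ1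
        · rw [e, mul_mul_mul_comm, hττ, hρρ, one_mul] at h3; exact absurd h3 hτ1)
      (by
        have : (MonoidHom.transfer φ).ker = ⊤ := by
          refine eq_top_iff.2 (le_trans ?_ (Abelianization.commutator_subset_ker _))
          refine ((IsSimpleGroup.eq_bot_or_eq_top_of_normal (commutator G) inferInstance).resolve_left
            fun h => ngt (((commutator_eq_bot_iff G).1 h).is_comm.comm g t)).ge
        exact this.ge (mem_top t)) (R := ⊥) IsPGroup.of_bot bot_le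
    have h3 : c⁻¹ * t * c ∈ K := (hφ _).1 hc2
    obtain ⟨a, ha, b, hb, hab⟩ := nab (K.map (MulAut.conj c).toMonoidHom) (by
      rintro _ ⟨k, hk, rfl⟩
      refine mc.2 ?_
      have h4 := hcomm k hk _ h3
      show c * k * c⁻¹ * t = t * (c * k * c⁻¹)
      calc c * k * c⁻¹ * t = c * (k * (c⁻¹ * t * c)) * c⁻¹ := by group
        _ = _ := by rw [h4]; group)
      (by rw [card_map_of_injective (MulAut.conj c).injective, cK])
    obtain ⟨a, ha, rfl⟩ := ha
    obtain ⟨b, hb, rfl⟩ := hb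
    exact hab (by rw [← map_mul, ← map_mul, hcomm a ha b hb])
  · have hρρ : ρ * ρ = 1 := by
      rw [hρ, ← map_mul, show (⟨r, rS⟩ : S) * ⟨r, rS⟩ = 1 from Subtype.ext e, map_one]
    have hKe : ∀ k ∈ K, k * k = 1 := by
      intro k hk
      induction hk using closure_induction with
      | mem x hx => rcases hx with rfl | rfl | rfl | rfl <;> assumption
      | one => simp
      | mul a b ha hb ia ib =>
        calc a * b * (a * b) = a * (b * a) * b := by group
          _ = a * a * (b * b) := by rw [← hcomm a ha b hb]; group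
          _ = 1 := by rw [ia, ib, mul_one]
      | inv a _ ia => rw [← mul_inv_rev, ia, inv_one]
    obtain ⟨y, hy⟩ := e8
    obtain ⟨c, -, hc1⟩ := hsyl.exists_conj_mem (mem_top y) (k := 3)
      (by rw [show 2 ^ 3 = 8 from rfl, ← hy, pow_orderOf_eq_one])
    have h3 : φ (⟨_, hc1⟩ * ⟨_, hc1⟩) = 1 := by
      rw [map_mul]
      rcases hall ⟨_, hc1⟩ with e | e | e | e <;> rw [e]
      · simp
      · exact hττ
      · exact hρρ
      · rw [hc.symm.mul_mul_mul_comm, hττ, hρρ, one_mul]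
    have h4 := hKe _ ((hφ _).1 h3)
    have h5 : y ^ 4 = 1 := by
      have h6 : c * y * c⁻¹ * (c * y * c⁻¹) * (c * y * c⁻¹ * (c * y * c⁻¹)) = 1 := h4
      calc y ^ 4 = c⁻¹ * (c * y * c⁻¹ * (c * y * c⁻¹) * (c * y * c⁻¹ * (c * y * c⁻¹))) * c := by
            simp [pow_succ, mul_assoc]
        _ = 1 := by rw [h6]; simp
    have := orderOf_dvd_of_pow_eq_one h5
    rw [hy] at this
    omega

end H13PF
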