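import Cfsg.Agent.H21.Bq1
import Cfsg.Agent.H13.PmA

/-! The normalizer of a block of symmetric type acts on its module through a symmetric group. -/

set_option autoImplicit false
set_option linter.unusedSectionVars false

open Cfsg Subgroup H10 H12 H16.BB Matrix
open scoped MatrixGroups commutatorElement

namespace H13.Pm

variable {G : Type*} [Group G] [Finite G] {p : ℕ} [hp : Fact p.Prime] {E F : Subgroup G} {T : Sylow p G}

theorem innP (hE : Bk p E) {n : ℕ} (hn : Odd n) (i : E ⧸ pCore p E ≃* alternatingGroup (Fin n)) (h : ActsAsOddPermModuleOnSection n (alternatingGroup (Fin n)) E (W0 p E) (ZZ p E)) : ⁅NN(E), NN(E)⁆ ≤ E ⊔ CC(WW p E) := by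
  classical
  obtain ⟨ρ, ψ, hr, hm, hz, him, he, -, -⟩ := perm_data hn i h
  have nW : ∀ g ∈ NN(E), ∀ x ∈ W0 p E, g * x * g⁻¹ ∈ W0 p E := fun g hg x hx =>
    conj_mem_of_mem_NN (W0_NN le_rfl hg) hx
  have nZ : ∀ g ∈ NN(E), ∀ x ∈ ZZ p E, g * x * g⁻¹ ∈ ZZ p E := fun g hg x hx =>
    conj_mem_of_mem_NN (ZZ_NN le_rfl hg) hx
  have two : ∀ v : Fin n → ZMod 2, v + v = 0 := fun v => funext fun j => by
    rcases z2 (v j) with e | e <;> simp [e]; decide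
  have cancel : ∀ v w : Fin n → ZMod 2, v + w = 0 → v = w := fun v w e => by
    rw [← add_zero v, ← two w, ← add_assoc, e, zero_add]
  have hi : ∀ x ∈ W0 p E, ψ x⁻¹ = ψ x := fun x hx => cancel _ _ (by
    rw [← hm _ (inv_mem hx) _ hx, inv_mul_cancel]; exact (hz 1 (one_mem _)).2 (one_mem _))
  have eqv : ∀ x ∈ W0 p E, ∀ y ∈ W0 p E, ψ x = ψ y ↔ x * y⁻¹ ∈ ZZ p E := fun x hx y hy => by
    rw [← hz _ (mul_mem hx (inv_mem hy)), hm _ hx _ (inv_mem hy), hi y hy]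
    exact ⟨fun e => by rw [e, two], cancel _ _⟩
  have wd : ∀ g ∈ NN(E), ∀ x ∈ W0 p E, ∀ y ∈ W0 p E, ψ x = ψ y → ψ (g * x * g⁻¹) = ψ (g * y * g⁻¹) :=
    fun g hg x hx y hy e => by
      rw [eqv _ (nW g hg x hx) _ (nW g hg y hy)]
      have := nZ g hg _ ((eqv x hx y hy).1 e)
      rwa [show g * (x * y⁻¹) * g⁻¹ = g * x * g⁻¹ * (g * y * g⁻¹)⁻¹ by group] at this
  have sur : ∀ v : Fin n → ZMod 2, ∑ j, v j = 0 → ∃ x ∈ W0 p E, ψ x = v := fun v hv =>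
    show v ∈ ψ '' (W0 p E) by rw [him]; exact hv
  have ev : ∀ x ∈ W0 p E, ∑ j, ψ x j = 0 := fun x hx =>
    show ψ x ∈ {v : Fin n → ZMod 2 | ∑ i, v i = 0} by rw [← him]; exact ⟨x, hx, rfl⟩
  let Act : G → Equiv.Perm (Fin n) → Prop := fun g σ =>
    ∀ x ∈ W0 p E, ψ (g * x * g⁻¹) = fun j => ψ x (σ⁻¹ j)
  have ex : ∀ g ∈ NN(E), ∃ σ, Act g σ := fun g hg => by
    let a : (Fin n → ZMod 2) → Fin n → ZMod 2 := fun v =>
      ψ (g * Function.invFunOn ψ (W0 p E : Set G) v * g⁻¹)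
    have ha : ∀ x ∈ W0 p E, a (ψ x) = ψ (g * x * g⁻¹) := fun x hx =>
      wd g hg _ (Function.invFunOn_mem ⟨x, hx, rfl⟩) x hx (Function.invFunOn_eq ⟨x, hx, rfl⟩)
    obtain ⟨σ, hσ⟩ := key hn a
      (fun v hv => by
        obtain ⟨x, hx, rfl⟩ := sur v hv
        rw [ha x hx]; exact ev _ (nW g hg x hx))
      (fun v w hv hw => by
        obtain ⟨x, hx, rfl⟩ := sur v hv
        obtain ⟨y, hy, rfl⟩ := sur w hw
        rw [← hm x hx y hy, ha x hx, ha y hy, ha _ (mul_mem hx hy), ← hm _ (nW g hg x hx) _ (nW g hg y hy)]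
        congr 1; group)
      (fun v w hv hw e => by
        obtain ⟨x, hx, rfl⟩ := sur v hv
        obtain ⟨y, hy, rfl⟩ := sur w hw
        rw [ha x hx, ha y hy] at e
        have := wd g⁻¹ (inv_mem hg) _ (nW g hg x hx) _ (nW g hg y hy) e
        simpa [mul_assoc] using this)
      (fun τ hτ => by
        rw [← hr] at hτ
        obtain ⟨e, rfl⟩ := hτ
        let e' : E := ⟨g⁻¹ * e * g, conj_mem_of_mem_NN' hg e.2⟩
        refine ⟨ρ e', hr ▸ ⟨e', rfl⟩, fun v hv => ?_⟩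
        obtain ⟨x, hx, rfl⟩ := sur v hv
        rw [← he e' x hx, ha x hx, ← he e _ (nW g hg x hx), ha _ (nW _ (le_normalizer e'.2) x hx)]
        congr 1
        show (e : G) * (g * x * g⁻¹) * (e : G)⁻¹ = g * (g⁻¹ * e * g * x * (g⁻¹ * e * g)⁻¹) * g⁻¹
        group)
    exact ⟨σ, fun x hx => by rw [← ha x hx, hσ _ (ev x hx)]⟩
  have mul : ∀ g k σ τ, k ∈ NN(E) → Act g σ → Act k τ → Act (g * k) (σ * τ) :=
    fun g k σ τ hk h1 h2 x hx => by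
      rw [show g * k * x * (g * k)⁻¹ = g * (k * x * k⁻¹) * g⁻¹ by group, h1 _ (nW k hk x hx), h2 x hx]
      rfl
  have inv : ∀ g σ, g ∈ NN(E) → Act g σ → Act g⁻¹ σ⁻¹ := fun g σ hg h1 x hx => by
    have := h1 _ (nW g⁻¹ (inv_mem hg) x hx)
    rw [show g * (g⁻¹ * x * g⁻¹⁻¹) * g⁻¹ = x by group] at this
    rw [this]; ext j; simp
  rw [commutator_le]
  intro g hg k hk
  obtain ⟨σ, hσ⟩ := ex g hg
  obtain ⟨τ, hτ⟩ := ex k hk
  have a1 : Act ⁅g, k⁆ (σ * τ * σ⁻¹ * τ⁻¹) :=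
    mul _ _ _ _ (inv_mem hk) (mul _ _ _ _ (inv_mem hg) (mul _ _ _ _ hk hσ hτ) (inv _ _ hg hσ)) (inv _ _ hk hτ)
  have a2 : σ * τ * σ⁻¹ * τ⁻¹ ∈ ρ.range := by
    rw [hr, Equiv.Perm.mem_alternatingGroup]
    simp only [map_mul, Equiv.Perm.sign_inv]
    rw [mul_assoc, Int.units_mul_self]
  obtain ⟨e, he'⟩ := a2
  have n1 : ⁅g, k⁆ ∈ NN(E) := mul_mem (mul_mem (mul_mem hg hk) (inv_mem hg)) (inv_mem hk)
  have a3 := mul _ _ _ _ n1 (inv _ _ (le_normalizer e.2) (he e)) a1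
  rw [he', inv_mul_cancel] at a3
  have n2 : (e : G)⁻¹ * ⁅g, k⁆ ∈ NN(E) := mul_mem (inv_mem (le_normalizer e.2)) n1
  have a4 := H21.Bq.cen_of hE n2 fun x hx => (eqv _ (nW _ n2 x hx) x hx).1 (a3 x hx)
  rw [← mul_inv_cancel_left (e : G) ⁅g, k⁆]
  exact mul_mem (mem_sup_left e.2) (mem_sup_right a4)

end H13.Pm
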