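import Cfsg.Agent.H13.Pearl

/-! Groups of rank two for `p ≥ 5` are resistant. -/

set_option autoImplicit false

namespace H13

open Equiv Cfsg Cfsg.FusionSystem Matrix
open scoped commutatorElement MatrixGroups

variable {G : Type*} [Group G] [Finite G] {p : ℕ} [hp : Fact p.Prime]
variable {F : FusionSystem (⊤ : Subgroup G)} {E : Subgroup G}

theorem natCast_ne_zero_of_lt {n : ℕ} (h0 : 0 < n) (h : n < p) : (n : ZMod p) ≠ 0 := fun e =>
  absurd (Nat.le_of_dvd h0 ((ZMod.natCast_eq_zero_iff n p).1 e)) (by omega)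

theorem exists_unit_sq_ne (h5 : 5 ≤ p) : ∃ l : (ZMod p)ˣ, (l : ZMod p) ^ 2 ≠ 1 := by
  refine ⟨Units.mk0 _ (natCast_ne_zero_of_lt two_pos (by omega)), fun e => ?_⟩
  refine natCast_ne_zero_of_lt (p := p) three_pos (by omega) ?_
  simp only [Units.val_mk0] at e
  push_cast at e ⊢
  linear_combination e

theorem index_frattini_le_of_comm {H : Type*} [CommGroup H] [Finite H] (hH : IsPGroup p H) :
    (frattini H).index ≤ Nat.card (powMonoidHom p : H →* H).ker := by
  rw [← Subgroup.index_range]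
  exact Subgroup.index_antitone (by rintro _ ⟨x, rfl⟩; exact H3.pow_mem_frattini hH x)

namespace APearl

variable {χ : G → Fin 2 → ZMod p} {ψ : G → ZMod p} (h : APearl p F E χ ψ)
include h

theorem center_eq : centralizerIn (normalizerIn ⊤ E) (normalizerIn ⊤ E) = Subgroup.center G := by
  have hle := le_normalizerIn (K := ⊤) (P := E) le_top
  refine le_antisymm (fun x hx => ?_) fun x hx =>
    mem_centralizerIn.2 ⟨hle (h.center_le hx), Subgroup.center_le_centralizer _ hx⟩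
  obtain ⟨g, hg, eg⟩ := h.psi.surj 1
  have h1 := (mem_centralizerIn.1 hx).2
  have h2 := h.cent (Subgroup.centralizer_le (SetLike.coe_subset_coe.2 hle) h1)
  exact h.mem_center.2 ⟨h2, h.psi.snd_eq_zero hg (eg ▸ one_ne_zero) h2 (by rw [h1 g hg, mul_inv_cancel_right])⟩

theorem not_rad (hN : normalizerIn ⊤ E ≠ ⊤) {U : Subgroup (Perm G)} :
    ¬ RadD p (normalizerIn ⊤ E) (AutF F (normalizerIn ⊤ E)) U := fun D => by
  have hle := le_normalizerIn (K := ⊤) (P := E) le_top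
  have hZ : ∀ α ∈ AutF F (normalizerIn ⊤ E), Maps (Subgroup.center G) (Subgroup.center G) α := fun α hα =>
    h.center_eq ▸ (D.hom hα).maps_centralizerIn (D.maps hα) le_rfl (D.maps hα)
  have hZN := h.center_le.trans hle
  obtain ⟨-, χ', D'⟩ := D.sl2_of_card hZN le_rfl (fun α hα => D.maps hα) hZ
    (by rw [h.cardN, h.card_center]; exact le_of_eq (by ring)) fun β hβ hc h1 =>
      fix_step D.pg hZN le_rfl (D.hom (oUp'_le p _ hβ)) hc (fun x hx => (inv_mul_eq_one.1
        (D.triv_of_card bot_le hZN hZ (fun α hα => (D.hom hα).maps_bot) (by simp [h.card_center]) β hβ x hx)).symm) h1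
  obtain ⟨a, ha, ea⟩ := h.sl.sec.surj ![0, 1]
  have ha' : χ a 1 ≠ 0 := by simp [ea]
  obtain ⟨y, -, hy, -, hy'⟩ := H9.exists_central_step h.pg (M := ⊤) (N := Subgroup.center G)
    fun e => h.ne_top (eq_top_iff.2 (e.trans h.center_le))
  have hyN : y ∈ normalizerIn ⊤ E := h.mem_norm ha ha' (by
    simpa [commutatorElement_def] using E.mul_mem (h.center_le (hy' a)) ha)
  obtain ⟨α, hα, e⟩ := D'.trans (hle ha) (fun h1 => ha' (h.mem_center.1 h1).2) hyN hy
  have hα' := oUp'_le p _ hα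
  have h1 := (iso_of_mem_autF le_top hα').mor.iso_of_le hle
  have h2 : Subgroup.centralizer {y} ≤ img α E := fun g hg => h.centric h1 fun x hx => by
    obtain ⟨x, hx', rfl⟩ := h1.hom.mem_img.1 hx
    have := h.le_of (K := pre E α (Subgroup.centralizer {g})) (fun z hz => h1.hom.mem_pre.2 ⟨h.center_le hz,
      Subgroup.center_le_centralizer _ ((hZ α hα').mem hz)⟩) ha ha' (h1.hom.mem_pre.2 ⟨ha, by
        rw [show α a = y * ((α a)⁻¹ * y)⁻¹ by group]
        exact Subgroup.mul_mem _ (Subgroup.mem_centralizer_singleton_iff.2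
          (Subgroup.mem_centralizer_singleton_iff.1 hg).symm)
          (Subgroup.center_le_centralizer _ (Subgroup.inv_mem _ e))⟩) hx'
    exact Subgroup.mem_centralizer_singleton_iff.1 (h1.hom.mem_pre.1 this).2
  have h3 := Subgroup.card_le_of_le h2
  have h4 := H9.card_le_mul_card_centralizer (H := ⊤) (N := Subgroup.center G) (x := y) fun g _ => by
    rw [← commutatorElement_inv]; exact Subgroup.inv_mem _ (hy' g)
  have h5 := mul_card_le_of_lt (pg_top h.pg) (lt_top_iff_ne_top.2 hN)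
  rw [← h1.card_eq, h.card] at h3
  rw [h.card_center, top_inf_eq] at h4
  rw [h.cardN] at h5
  have h6 := Nat.le_of_mul_le_mul_left (h5.trans (h4.trans (Nat.mul_le_mul_left _ h3))) hp.out.pos
  exact absurd ((Nat.pow_le_pow_iff_right hp.out.one_lt).1 h6) (by omega)

/-- order `p⁴` with all elements of order `p` in the normalizer of the pearl -/
theorem not_four (h5 : 5 ≤ p) (hc : Nat.card G = p ^ 4) (hO : ∀ x : G, x ^ p = 1 → x ∈ normalizerIn ⊤ E) :
    False := by
  set N := normalizerIn ⊤ E with hNdef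
  have hle : E ≤ N := le_normalizerIn le_top
  have hi : N.index = p := Nat.eq_of_mul_eq_mul_right (pow_pos hp.out.pos 3) (by
    rw [← h.cardN, N.index_mul_card, hc, h.cardN]; ring)
  haveI hn := H9.normal_of_index_eq_prime h.pg hi
  have hmax := H9.isCoatom_of_index_eq_prime hi
  haveI := h.pg.isNilpotent
  have hNN : normalizerIn ⊤ N = ⊤ := by rw [nt_eq, Subgroup.normalizer_eq_top]
  rcases radD_or_extend (pg_top h.pg) h.sat (fullyNormalized_of_normal (F := F) (P := N) le_top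
    (Subgroup.normalizer_eq_top _).ge) ((ct_eq N).le.trans ((Subgroup.centralizer_le
      (SetLike.coe_subset_coe.2 hle)).trans (h.cent.trans hle)))
    (by rw [hNN, Subgroup.card_top, hc, h.cardN]; ring) with D | hx
  · exact h.not_rad hmax.1 D
  obtain ⟨l, hl⟩ := exists_unit_sq_ne h5
  obtain ⟨τ, hτ, -, hτE, -, h1, h2⟩ := h.sl.exists_tau h.rec' h.psi l
  obtain ⟨σ, hσ, e⟩ := hx τ hτ
  rw [hNN] at hσ
  have hW := H9.wreg_of_card_le h.pg (n := 2) (by omega) hc.le
  have hexp : ∀ x ∈ N, x ^ p = 1 := fun x hx => h.pow_eq_one (by omega) hx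
  obtain ⟨s, hs⟩ : ∃ s, s ∉ N := by simpa [Subgroup.eq_top_iff'] using hmax.1
  obtain ⟨n, hn', m, hm⟩ := (H9.mem_sup_zpowers_nat (N := N) (x := s) (g := σ s)
    ((Subgroup.normalizer_eq_top _).ge trivial)).1 ((H9.sup_zpowers_eq_top_of_isCoatom hmax hs).ge trivial)
  have hG' : commutator G ≤ N := H9.commutator_le_coatom hmax
  have hz : s ^ p ∈ Subgroup.center G := Subgroup.mem_center_iff.2 fun g => by
    have := (hW.pow_eq_iff_one h.pg s (g * s * g⁻¹)).2 (hexp _ (hG' (by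
      rw [show s⁻¹ * (g * s * g⁻¹) = ⁅s⁻¹, g⁆ by group]
      exact Subgroup.commutator_mem_commutator trivial trivial)))
    rw [conj_pow, eq_mul_inv_iff_mul_eq] at this
    exact this.symm
  obtain ⟨hzE, hz1⟩ := h.mem_center.1 hz
  have hz0 : χ (s ^ p) 0 ≠ 0 := fun e0 => hs (hO s (h.inj hzE E.one_mem (by
    rw [h.sl.sec.one]; exact fin2_ext e0 hz1)))
  have hml : (m : ZMod p) = l := by
    have h3 := (hW.pow_eq_iff_one h.pg (s ^ m) (σ s)).2 (hexp _ (by
      rw [hm, ← mul_assoc]; exact hn.conj_mem' _ hn' _))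
    rw [← hσ.hom.map_pow trivial, e _ (hle hzE), ← pow_mul, mul_comm, pow_mul] at h3
    have h4 := congrFun (h1 _ hzE) 0
    rw [← h3, h.sl.sec.pow hzE] at h4
    exact mul_right_cancel₀ hz0 h4
  obtain ⟨a, ha, ea⟩ := h.sl.sec.surj ![0, 1]
  have ha' : χ a 1 ≠ 0 := by simp [ea]
  have hcj : ∀ g x, x ∈ N → g * x * g⁻¹ ∈ N := fun g x hx => hn.conj_mem _ hx g
  have hκ : ψ (s * a * s⁻¹) ≠ 0 := fun e0 => hs (h.mem_norm ha ha' ((h.psi.ker _ (hcj _ _ (hle ha))).1 e0))
  have h3 : ∀ c ∈ commutator G, ∀ g, ψ (g * c * g⁻¹) = ψ c := fun c hc' g => by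
    symm
    refine (h.psi.eq_iff (hG' hc') (hcj _ _ (hG' hc'))).2 (h.center_le ?_)
    have h4 := H9.lcs_eq_bot_of_card_le 2 h.pg hc.le
    rw [Subgroup.lowerCentralSeries_succ, Subgroup.commutator_eq_bot_iff_le_centralizer, Subgroup.coe_top,
      Subgroup.centralizer_univ] at h4
    rw [show c⁻¹ * (g * c * g⁻¹) = ⁅c⁻¹, g⁆ by group]
    exact h4 (Subgroup.commutator_mem_commutator (Subgroup.inv_mem _ hc') trivial)
  have h4 : ∀ x ∈ N, ∀ k : ℕ, ψ (s ^ k * x * (s ^ k)⁻¹) = ψ x + k * ψ (x⁻¹ * (s * x * s⁻¹)) := fun x hx k => by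
    induction k with
    | zero => simp
    | succ k ih =>
      have h5 : x⁻¹ * (s * x * s⁻¹) ∈ commutator G := by
        rw [show x⁻¹ * (s * x * s⁻¹) = ⁅x⁻¹, s⁆ by group]
        exact Subgroup.commutator_mem_commutator trivial trivial
      rw [show s ^ (k + 1) * x * (s ^ (k + 1))⁻¹ = (s ^ k * x * (s ^ k)⁻¹) *
        (s ^ k * (x⁻¹ * (s * x * s⁻¹)) * (s ^ k)⁻¹) by rw [pow_succ]; group,
        h.psi.mul _ (hcj _ _ hx) _ (hcj _ _ (hG' h5)), ih, h3 _ h5]
      push_cast; ring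
  have h6 : ∀ x ∈ E, ψ (s * x * s⁻¹) = χ x 1 * ψ (s * a * s⁻¹) := fun x hx => by
    have h7 := E.pow_mem ha (χ x 1).val
    have h8 : (a ^ (χ x 1).val)⁻¹ * x ∈ Subgroup.center G := h.mem_center.2 ⟨E.mul_mem (E.inv_mem h7) hx, by
      rw [h.sl.sec.mul _ (E.inv_mem h7) _ hx, h.sl.sec.inv h7, h.sl.sec.pow ha, ZMod.natCast_zmod_val, ea]
      simp⟩
    rw [show s * x * s⁻¹ = (s * a * s⁻¹) ^ (χ x 1).val * (s * ((a ^ (χ x 1).val)⁻¹ * x) * s⁻¹) by
      rw [conj_pow]; group, Subgroup.mem_center_iff.1 h8 s, mul_inv_cancel_right,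
      h.psi.mul _ (N.pow_mem (hcj _ _ (hle ha)) _) _ (hle (h.center_le h8)), h.psi.pow le_top (hcj _ _ (hle ha)),
      h.psi.of_mem le_top (h.center_le h8), ZMod.natCast_zmod_val, add_zero]
  have h7 := h2 _ (hcj s _ (hle ha))
  have h8 := hτE.mem ha
  rw [← e _ (hcj s _ (hle ha)), hσ.hom.map_conj trivial trivial, e _ (hle ha), hm,
    show n * s ^ m * τ a * (n * s ^ m)⁻¹ = n * (s ^ m * τ a * (s ^ m)⁻¹) * n⁻¹ by group,
    h.psi.mul _ (N.mul_mem hn' (hcj _ _ (hle h8))) _ (N.inv_mem hn'), h.psi.mul _ hn' _ (hcj _ _ (hle h8)),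
    h.psi.inv hn', h4 _ (hle h8), h.psi.mul _ (N.inv_mem (hle h8)) _ (hcj _ _ (hle h8)), h.psi.inv (hle h8),
    h.psi.of_mem le_top h8, h6 _ h8, h1 a ha, ea, hml] at h7
  refine hl (mul_right_cancel₀ hκ ?_)
  simp only [cons_val_one, cons_val_zero, mul_one, neg_zero, zero_add, ne_eq, Units.ne_zero, not_false_eq_true,
    mul_inv_cancel_left₀] at h7
  linear_combination -h7

end APearl

theorem no_essential_rank_two (h5 : 5 ≤ p) (hr : PRankLE p 2 G) (hn : ¬ (Nat.card G = p ^ 3 ∧ ∀ x : G, x ^ p = 1))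
    (h : EssD p F E) : False := by
  have D := h.rad
  have hp2 : p ≠ 2 := by omega
  set O := omegaOne p (⊤ : Subgroup G) with hOdef
  have hO : ∀ x, x ∈ O ↔ x ^ p = 1 := fun x => ⟨H9.pow_eq_one_of_mem_omegaOne_rank_two (by omega) (pg_top h.pg)
    (H9.prank_top.2 hr), fun hx => Subgroup.subset_closure ⟨trivial, hx⟩⟩
  have hO3 : Nat.card O ≤ p ^ 3 := H9.card_le_cube_of_exponent' (H9.prank_subgroup hr O) fun x hx => (hO x).1 hx
  haveI hOn : O.Normal := ⟨fun x hx g => (hO _).2 (by rw [conj_pow, (hO x).1 hx]; group)⟩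
  have hW : ∀ α ∈ AutF F E, Maps (E ⊓ O) (E ⊓ O) α := fun α hα =>
    ((D.hom hα).mono inf_le_left).maps_of_mem fun x hx =>
      ⟨(D.maps hα).mem hx.1, (hO _).2 (((D.hom hα).pow_eq_one_iff hx.1 p).2 ((hO x).1 hx.2))⟩
  haveI := h.pg.isNilpotent
  by_cases hc : Nat.card (E ⊓ O : Subgroup G) ≤ p ^ 2
  · obtain ⟨-, χ, hχ⟩ := D.sl2_of_card bot_le inf_le_left hW (fun α hα => (D.hom hα).maps_bot) (by simpa using hc)
      fun β hβ h1 h2 => fix_of_fix_omega hp2 D.pg (D.hom (oUp'_le p _ hβ)) (D.maps (oUp'_le p _ hβ)) h1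
        fun x hx h3 => (inv_mul_eq_one.1 (h2 x ⟨hx, (hO x).2 h3⟩)).symm
    obtain ⟨α, hα, h1, -, h2⟩ := hχ.torus (-1)
    have hα' := oUp'_le p _ hα
    have h3 : ∀ x ∈ E ⊓ O, χ (α x) = - χ x := fun x hx => by
      rw [h2 x hx, dgl_mulVec]; exact fin2_ext (by simp) (by simp [← neg_inv])
    have hinj : ∀ x ∈ E ⊓ O, ∀ y ∈ E ⊓ O, χ x = χ y → x = y := fun x hx y hy e =>
      inv_mul_eq_one.1 ((hχ.sec.eq_iff hx hy).1 e)
    have h4 := comm_of_fpf (D.hom hα') (D.maps hα') (fix_of_fix_omega hp2 D.pg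
      (D.hom (Subgroup.mul_mem _ hα' hα')) (D.maps (Subgroup.mul_mem _ hα' hα'))
      (h1.coprime_dvd_left (by rw [← pow_two]; exact orderOf_pow_dvd 2)) fun x hx h5 => by
        have h6 : x ∈ E ⊓ O := ⟨hx, (hO x).2 h5⟩
        have h7 := (hW α hα').mem h6
        exact hinj _ ((hW α hα').mem h7) _ h6 (by rw [h3 _ h7, h3 _ h6, neg_neg])) fun x hx e => by
      by_contra h5
      obtain ⟨j, h6, h7⟩ := H9.exists_pow_not_mem_pow_mem h.pg (N := ⊥) h5
      have h8 : x ^ p ^ j ∈ E ⊓ O := ⟨E.pow_mem hx _, (hO _).2 h7⟩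
      have h9 := h3 _ h8
      rw [(D.hom hα').map_pow hx, e] at h9
      have h10 := natCast_ne_zero_of_lt (p := p) two_pos (by omega)
      refine h6 ((hχ.sec.ker _ h8).1 ((smul_eq_zero.1 (?_ : ((2 : ℕ) : ZMod p) • χ (x ^ p ^ j) = 0)).resolve_left h10))
      rw [Nat.cast_smul_eq_nsmul, two_nsmul]
      exact eq_neg_iff_add_eq_zero.1 h9
    obtain ⟨A', U', D'⟩ := D.top
    have h6 : IsMulCommutative E := ⟨⟨fun x y => Subtype.ext (h4 x x.2 y y.2)⟩⟩
    obtain ⟨k, -, h7⟩ := D'.homocyclic' h6 ((@index_frattini_le_of_comm p _ E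
      { (inferInstance : Group E) with mul_comm := h6.1.1 } _ D.pg).trans (le_trans (Nat.card_le_card_of_injective
        (fun x => (⟨x.1.1, x.1.2, (hO _).2 (congrArg Subtype.val x.2)⟩ : (E ⊓ O : Subgroup G)))
        fun x y e => Subtype.ext (Subtype.ext (Subtype.mk.inj e))) hc))
    have h8 : E ≤ O := fun x hx => (hO x).2 (congrArg Subtype.val (h7 (by omega) ⟨x, hx⟩))
    rw [inf_of_le_left h8] at hc
    obtain ⟨χ, ψ, hP⟩ := h.aPearl hc
    have h9 : normalizerIn ⊤ E = O := eq_of_le_of_card_le (fun x hx => (hO x).2 (hP.pow_eq_one hp2 hx))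
      (hP.cardN ▸ hO3)
    have h10 : O ≠ ⊤ := fun e => hn ⟨by rw [← hP.cardN, h9, e, Subgroup.card_top], fun x => (hO x).1 (e.ge trivial)⟩
    refine hP.not_four h5 (le_antisymm ?_ ?_) fun x hx => h9.ge ((hO x).2 hx)
    · obtain ⟨a, ha, ea⟩ := hP.sl.sec.surj ![0, 1]
      have h11 := H9.card_le_mul_card_centralizer (H := ⊤) (N := ⁅O, ⊤⁆) (x := a) fun g _ => by
        rw [Subgroup.commutator_comm]; exact Subgroup.commutator_mem_commutator trivial (h8 ha)
      have h12 := mul_card_le_of_lt (h.pg.to_subgroup O) (H9.commutator_lt (M := O) (H := ⊤)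
        (Subgroup.normalizer_eq_top _).ge fun e => by
          have := hP.cardN
          rw [h9, e, Subgroup.card_bot] at this
          exact (Nat.one_lt_pow three_ne_zero hp.out.one_lt).ne this)
      rw [top_inf_eq, hP.cent_eq ha (by simp [ea]), hP.card, Subgroup.card_top] at h11
      have h13 := Nat.le_of_mul_le_mul_left (h12.trans (hO3.trans_eq (pow_succ' p 2))) hp.out.pos
      exact h11.trans ((Nat.mul_le_mul_right _ h13).trans_eq (by ring))
    · have h11 := mul_card_le_of_lt (pg_top h.pg) (lt_top_iff_ne_top.2 h10)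
      rw [← h9, hP.cardN, Subgroup.card_top] at h11
      exact (pow_succ' p 3).le.trans h11
  have h1 : p ^ 3 ≤ Nat.card (E ⊓ O : Subgroup G) := H9.pow_lt_of_not_le (h.pg.to_subgroup _) hc
  have h2 : E ⊓ O = O := eq_of_le_of_card_le inf_le_right (hO3.trans h1)
  rw [h2] at h1 hW
  have hOE : O ≤ E := inf_eq_right.1 h2
  have hO3' := le_antisymm hO3 h1
  have hnc : ¬ IsMulCommutative O := fun h3 => absurd ((Nat.pow_le_pow_iff_right hp.out.one_lt).1
    (h1.trans (hr O h3 fun x hx => (hO x).1 hx))) (by omega)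
  obtain ⟨h3, -⟩ := H9.center_of_card_cube hO3' hnc
  set Y := O ⊓ Subgroup.centralizer (O : Set G) with hYdef
  have hY : ∀ α ∈ AutF F E, Maps Y Y α := fun α hα =>
    ((D.hom hα).mono hOE).maps_centralizerIn (hW α hα) le_rfl (hW α hα)
  have hYE : Y ≤ E := inf_le_left.trans hOE
  have hY' : ∀ β ∈ OUp' p (AutF F E), ∀ x ∈ Y, β x = x := fun β hβ x hx => (inv_mul_eq_one.1
    (D.triv_of_card bot_le hYE hY (fun α hα => (D.hom hα).maps_bot) (by simp [h3]) β hβ x hx)).symm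
  obtain ⟨-, χ, hχ⟩ := D.sl2_of_card inf_le_left hOE hW hY (by rw [hO3', h3]; exact le_of_eq (by ring))
    fun β hβ h4 h5 => fix_of_fix_omega hp2 D.pg (D.hom (oUp'_le p _ hβ)) (D.maps (oUp'_le p _ hβ)) h4
      fun x hx h6 => fix_step D.pg inf_le_left hOE (D.hom (oUp'_le p _ hβ)) h4 (hY' β hβ) h5 x ((hO x).2 h6)
  obtain ⟨ψ, hψ⟩ := h.exists_psi hχ
  have hYZ : Y ≤ Subgroup.center G := H9.le_center_of_card_le_prime h.pg h3.le
  let K := H9.centMod Y (O : Set G)
  have hKE : ∀ g ∈ normalizerIn ⊤ E, g ∈ K ↔ g ∈ E := fun g hg => by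
    rw [← hψ.ker g hg, H9.mem_centMod]
    have h4 : ∀ x ∈ O, ⁅g, x⁆ ∈ Y ↔ χ (g * x * g⁻¹) = χ x := fun x hx => by
      rw [eq_comm, hχ.sec.eq_iff hx (hOn.conj_mem _ hx g), commutatorElement_def]
      exact (Subgroup.Normal.mem_comm_iff inferInstance)
    obtain ⟨a, ha, ea⟩ := hχ.sec.surj ![0, 1]
    refine ⟨fun h5 => hψ.eq_zero hg ha (by simp [ea]) ((h4 a ha).1 (h5 a ha)), fun h5 x hx => (h4 x hx).2 ?_⟩
    rw [hψ.act g hg x hx, h5]
    exact fin2_ext (by simp) rfl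
  have hEK : E ≤ K := fun g hg => (hKE g (le_normalizerIn le_top hg)).2 hg
  have hKE' : K = E := by
    by_contra h4
    obtain ⟨g, hg, hg'⟩ := SetLike.exists_of_lt (lt_inf_normalizer (h.pg.to_subgroup K)
      (lt_of_le_of_ne hEK (Ne.symm h4)))
    exact hg' ((hKE g (mem_nt.2 hg.2)).1 hg.1)
  haveI hEn : E.Normal := hKE' ▸ ⟨fun x hx g => H9.mem_centMod.2 fun y hy => by
    have := (inferInstance : Y.Normal).conj_mem _ (H9.mem_centMod.1 hx _ (hOn.conj_mem' _ hy g)) g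
    convert this using 1
    group⟩
  have hN : ∀ g, g ∈ normalizerIn ⊤ E := fun g => mem_nt.2 ((Subgroup.normalizer_eq_top _).ge trivial)
  obtain ⟨l, hl⟩ := exists_unit_sq_ne h5
  obtain ⟨τ, hτ, hτc, hτE, hτO, -, h4⟩ := hχ.exists_tau h.rec' hψ l
  have hτh : HomOn ⊤ τ := (homOn_of_mem_autF hτ).mono fun g _ => hN g
  set C := Subgroup.centralizer (O : Set G) with hCdef
  have hCE : C ≤ E := hKE' ▸ fun c hc => H9.mem_centMod.2 fun y hy => by
    rw [commutatorElement_eq_one_iff_mul_comm.2 (hc y hy).symm]; exact Y.one_mem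
  have hτO' : Maps O O τ := (hW _ (oUp'_le p _ hτO)).congr fun x hx => rs_apply hτE (hOE hx)
  have hτC : ∀ x ∈ C, τ x = x := fix_of_fix_omega hp2 (h.pg.to_subgroup C) (hτh.mono le_top)
    ((hτh.mono le_top).maps_of_mem fun x hx => hτh.mem_centralizer le_top hτO' trivial hx) hτc fun x hx h6 =>
      (rs_apply hτE (hCE hx)).symm.trans (hY' _ hτO x ⟨(hO x).2 h6, hx⟩)
  have hEOC : O ⊔ C = E := by
    have := H9.sup_inf_centralizer_eq_of_center hOE (isCyclic_of_prime_card h3)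
      (H9.commutator_le_iff_le_centMod.2 hEK) fun g _ y hy => (Subgroup.mem_center_iff.1 (hYZ hy) g).symm
    rwa [inf_of_le_right hCE] at this
  obtain ⟨s, -, es⟩ := hψ.surj 1
  have h6 : s⁻¹ * τ s ∉ E := fun h7 => hl (by
    have := (hψ.eq_iff (hN _) (hN _)).2 h7
    rw [h4 s (hN s), es, mul_one] at this
    exact this.symm)
  have hCc : IsCyclic C := H9.isCyclic_of_omega_le hp2 (h.pg.to_subgroup C) h3.le fun x hx h7 => ⟨(hO x).2 h7, hx⟩
  have hCZ : C ≤ Subgroup.center G := by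
    have h7 : E ≤ Subgroup.centralizer (C : Set G) := by
      rw [← hEOC]
      exact sup_le (fun x hx c hc => (hc x hx).symm) (Subgroup.le_centralizer C)
    have h8 := (eq_or_eq_of_card h7 (fun g _ => hN g) (hψ.card le_top)).resolve_left fun e => h6 (e.le fun c hc => by
      have h9 := hτC _ ((inferInstance : C.Normal).conj_mem _ hc s)
      rw [hτh.map_conj trivial trivial, hτC c hc] at h9
      calc c * (s⁻¹ * τ s) = s⁻¹ * (s * c * s⁻¹) * τ s := by group
        _ = _ := by rw [← h9]; group)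
    exact fun c hc => Subgroup.mem_center_iff.2 fun g => (h8.ge (hN g) c hc).symm
  have hG' : commutator G ≤ O := by
    have h7 : E ≤ H9.centMod O ((⊤ : Subgroup G) : Set G) := by
      rw [← hEOC]
      refine sup_le (H9.le_centMod _ _) fun c hc => H9.mem_centMod.2 fun g _ => ?_
      rw [commutatorElement_eq_one_iff_mul_comm.2 (Subgroup.mem_center_iff.1 (hCZ hc) g).symm]; exact O.one_mem
    have hs : s ∉ E := fun h8 => by simpa [es] using hψ.of_mem le_top h8
    have h8 := (eq_or_eq_of_card (K := H9.centMod O {s}) (fun g hg => H9.mem_centMod.2 fun y _ =>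
      H9.mem_centMod.1 (h7 hg) y trivial) (fun g _ => hN g) (hψ.card le_top)).resolve_left fun e =>
        hs (e.le (H9.mem_centMod.2 (by rintro _ rfl; simp)))
    have h9 := (eq_or_eq_of_card h7 (fun g _ => hN g) (hψ.card le_top)).resolve_left fun e =>
      hs (e.le (H9.mem_centMod.2 fun g _ => by
        rw [← commutatorElement_inv]; exact O.inv_mem (H9.mem_centMod.1 (h8.ge (hN g)) s rfl)))
    exact H9.commutator_le_iff_le_centMod.2 fun g _ => h9.ge (hN g)
  have hR := H9.wreg_of_class_lt h.pg (eq_bot_iff.2 ((Subgroup.lowerCentralSeries_antitone _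
    (show 1 + 3 ≤ p - 1 by omega)).trans (lcs_eq_bot_of_card h.pg 3 1 ((Subgroup.card_le_of_le hG').trans hO3)).le))
  have h7 : s ^ p ∈ C := fun x hx => by
    have := (hR.pow_eq_iff_one h.pg s (x * s * x⁻¹)).2 ((hO _).1 (by
      rw [show s⁻¹ * (x * s * x⁻¹) = s⁻¹ * x * s * x⁻¹ by group]
      exact O.mul_mem (hOn.conj_mem' _ hx s) (O.inv_mem hx)))
    rw [conj_pow, eq_mul_inv_iff_mul_eq] at this
    exact this.symm
  exact h6 (hOE ((hO _).2 ((hR.pow_eq_iff_one h.pg _ _).1 (by rw [← hτh.map_pow trivial, hτC _ h7]))))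

end H13
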