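import Cfsg.Agent.S5569
import Cfsg.Agent.H13.JG

/-! Groups of Janko-four type have two classes of involutions. -/

set_option autoImplicit false

namespace H13.Tc
open Cfsg Subgroup H27
open scoped Pointwise

theorem two {G : Type*} [Group G] [Finite G] [IsSimpleGroup G] (hG : ¬ IsMulCommutative G)
    (hJ : IsOfJankoFourType G) : ∃ x y : G, orderOf x = 2 ∧ orderOf y = 2 ∧ ¬ IsConj x y ∧
      ∀ z : G, orderOf z = 2 → IsConj z x ∨ IsConj z y := by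
  obtain ⟨z, Q, hJ⟩ := hJ
  obtain ⟨π, P, h, -⟩ := H13.exists_jt0 hJ
  obtain ⟨t, φ, j⟩ := h.exP hG
  obtain ⟨t1, t0, nt⟩ := (j.ty _).2 ⟨0, by norm_num, rfl⟩
  have : Fact (Nat.Prime 2) := ⟨Nat.prime_two⟩
  refine ⟨z, t 0, hJ.1, orderOf_eq_prime (by rw [sq]; exact h.A_sq t1) t0, nt, fun w hw => ?_⟩
  by_cases c : IsConj z w
  · exact .inl c.symm
  refine .inr ?_
  obtain ⟨V, K, v1, -, -, ea, cV, -⟩ := Cfsg.Agent.S5569.result hG z ⟨Q, hJ⟩ w hw c
  have wV : w ∈ V := by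
    obtain ⟨y, -, R, π, P, h', rfl⟩ := h.EA_cj ea cV.ge
    exact h'.cen_A.le fun v hv => mem_centralizer_singleton_iff.1 (v1 hv)
  obtain ⟨k, -, S, p, l, m⟩ := exists_cj_pg (K := ⊤) le_top le_top h.A_pg (IsPGroup.of_card cV)
  have e := h.eq_of_pg (W := MulAut.conj k • V) p l (fun y c => by
    simpa [mul_assoc] using m _ (mem_cj.1 c)) (ea_cj ea k) (by rw [H1.card_conj_smul, cV])
  have m1 : k * w * k⁻¹ ∈ h.A := e.le (mem_cj.2 (by simpa [mul_assoc] using wV))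
  obtain ⟨i, hi, ei⟩ := (j.ty _).1 ⟨m1, by
    rw [Ne, conj_eq_one_iff]; rintro rfl; simp at hw, fun d => c (d.trans (isConj_cj _ _).symm)⟩
  obtain ⟨n, -, en⟩ := j.tr i hi 0 (by norm_num)
  rw [← en, ei]
  exact (isConj_cj k w).trans (isConj_cj n _)

end H13.Tc
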