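import Cfsg.Agent.H13.GL2Syl
import Cfsg.Agent.H22.IsoE
import Cfsg.Agent.H27.Br
/-! `PSU(4,3)` as a permutation group on pairs of alternating matrices. -/
set_option autoImplicit false
namespace H13
noncomputable section
open MulAction Cfsg H27 Matrix
open scoped Pointwise

instance fact_f9 : Fact (∀ r : ZMod 3, r ^ 2 ≠ 2 + 0 * r) := ⟨by decide⟩
abbrev F9 : Type := QuadraticAlgebra (ZMod 3) 2 0
instance fintype_f9 : Fintype F9 := Fintype.ofEquiv _ (QuadraticAlgebra.equivProd 2 0).symm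
theorem card_F9 : Fintype.card F9 = 3 ^ 2 := rfl

def mk4 (f g : Nat → Nat → Nat) : Matrix (Fin 4) (Fin 4) F9 := Matrix.of fun i j => ⟨f i j, g i j⟩
def rr (c i j : Nat) : Nat := ent 2 c (Nat.add (Nat.mul 8 i) (Nat.mul 2 j))
def ii (c i j : Nat) : Nat := ent 2 c (Nat.succ (Nat.add (Nat.mul 8 i) (Nat.mul 2 j)))
def fM (c : Nat) : Matrix (Fin 4) (Fin 4) F9 := mk4 (rr c) (ii c)
def dot4 (f g : Nat → Nat → Nat) (i j : Nat) : Nat := Nat.add (Nat.add (Nat.add (Nat.mul (f i 0) (g 0 j))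
  (Nat.mul (f i 1) (g 1 j))) (Nat.mul (f i 2) (g 2 j))) (Nat.mul (f i 3) (g 3 j))
def mr (X Y i j : Nat) : Nat := Nat.add (dot4 (rr X) (rr Y) i j) (Nat.mul 2 (dot4 (ii X) (ii Y) i j))
def mi (X Y i j : Nat) : Nat := Nat.add (dot4 (rr X) (ii Y) i j) (dot4 (ii X) (rr Y) i j)
theorem fM_mul (X Y : Nat) : fM X * fM Y = mk4 (mr X Y) (mi X Y) := by
  ext i j <;> simp [fM, mk4, mr, mi, dot4, mul_apply, Fin.sum_univ_four] <;> ring
def eqv (s : Nat) (f g f' g' : Nat → Nat → Nat) : Bool := allN 4 fun i => allN 4 fun j =>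
  and' (Nat.beq (Nat.mod (f i j) 3) (Nat.mod (Nat.mul s (f' i j)) 3)) (Nat.beq (Nat.mod (g i j) 3) (Nat.mod (Nat.mul s (g' i j)) 3))
theorem eqv_iff {s : Nat} {f g f' g' : Nat → Nat → Nat} : eqv s f g f' g' = true ↔ mk4 f g = (s : ZMod 3) • mk4 f' g' := by
  simp only [eqv, allN_iff, and'_eq, Bool.and_eq_true, beq_iff, ← Matrix.ext_iff, mk4, Matrix.smul_apply, of_apply,
    QuadraticAlgebra.ext_iff, QuadraticAlgebra.re_smul, QuadraticAlgebra.im_smul, smul_eq_mul, ← Nat.cast_mul,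
    ZMod.natCast_eq_natCast_iff']
  exact ⟨fun h i j => h i i.2 j j.2, fun h i a j b => h ⟨i, a⟩ ⟨j, b⟩⟩
def pmv (f g f' g' : Nat → Nat → Nat) : Bool := or' (eqv 1 f g f' g') (eqv 2 f g f' g')
theorem pmv_iff {f g f' g' : Nat → Nat → Nat} : pmv f g f' g' = true ↔ mk4 f g = mk4 f' g' ∨ mk4 f g = -mk4 f' g' := by
  rw [pmv, or'_eq, Bool.or_eq_true, eqv_iff, eqv_iff, Nat.cast_one, one_smul, show ((2 : Nat) : ZMod 3) = -1 from rfl,
    neg_one_smul]

def TW : Type := Matrix (Fin 4) (Fin 4) F9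
instance twAct : MulAction (SU 4 F9 3) TW where
  smul g A := (g.1.1 * (show Matrix (Fin 4) (Fin 4) F9 from A) * g.1.1ᵀ : Matrix (Fin 4) (Fin 4) F9)
  one_smul A := (by simp : ∀ A : Matrix (Fin 4) (Fin 4) F9, 1 * A * 1ᵀ = A) A
  mul_smul a b A := (by simp [Matrix.mul_assoc] : ∀ a b A : Matrix (Fin 4) (Fin 4) F9,
    (a * b) * A * (a * b)ᵀ = a * (b * A * bᵀ) * aᵀ) _ _ A
def prA (A : Matrix (Fin 4) (Fin 4) F9) : Set TW := {A, -A}
theorem smul_prA (g : SU 4 F9 3) {A B : Matrix (Fin 4) (Fin 4) F9} (h : g.1.1 * A * g.1.1ᵀ = B ∨ g.1.1 * A * g.1.1ᵀ = -B) :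
    g • prA A = prA B := by
  refine (Set.image_pair _ _ _).trans ?_
  change ({g.1.1 * A * g.1.1ᵀ, g.1.1 * -A * g.1.1ᵀ} : Set (Matrix _ _ F9)) = {B, -B}
  rw [Matrix.mul_neg, Matrix.neg_mul]
  rcases h with h | h <;> rw [h]
  rw [neg_neg, Set.pair_comm]
def SuP (X Y : Nat) : Prop := (fM X).det = 1 ∧ fM Y = (fM X).map (· ^ 3) ∧ (fM X)ᵀ * fM Y = 1
instance (X Y : Nat) : Decidable (SuP X Y) := inferInstanceAs (Decidable (_ ∧ _))
def su (X : Nat × Nat) : SU 4 F9 3 :=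
  if h : SuP X.1 X.2 then ⟨⟨fM X.1, h.1⟩, (mem_SU_iff_mat card_F9).2 ((congrArg _ h.2.1).symm.trans h.2.2)⟩ else 1
def eU (T i : Nat) : Set TW := prA (fM (ent 64 T i))
def suChk (m T : Nat) (X : Nat × Nat) (N : Net) : Bool := and' (and' (decide (SuP X.1 X.2)) (N.valid m)) (allN m fun i =>
  force (ent 64 T i) fun A => force (ent 64 T (N.fn i)) fun B => pmv (mr X.1 A) (mi X.1 A) (mr B X.2) (mi B X.2))
theorem actsL_su {m T : Nat} {Xs : List (Nat × Nat)} {Ns : List Net} (h : all2 (suChk m T) Xs Ns = true) :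
    ActsL m (eU T) (Xs.map su) Ns := by
  rw [all2_iff] at h
  induction h with
  | nil => exact .nil
  | @cons X N _ _ c _ ih =>
    simp only [suChk, and'_eq, Bool.and_eq_true, allN_iff, force_eq, decide_eq_true_eq, pmv_iff, ← fM_mul] at c
    refine .cons ⟨Net.ok_of_valid c.1.2, fun i hi => smul_prA _ ?_⟩ ih
    have u := mul_eq_one_comm.1 c.1.1.2.2
    rw [su, dif_pos c.1.1]
    refine (c.2 i hi).imp (fun e => ?_) fun e => ?_ <;> simp only [e, Matrix.neg_mul, Matrix.mul_assoc, u, Matrix.mul_one]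
theorem center_fix {g : SU 4 F9 3} (h : g ∈ Subgroup.center _) (A : Matrix (Fin 4) (Fin 4) F9) : g • prA A = prA A := by
  have p : SuP 0x4000040000400004 0x8000080000800008 := by decide +kernel
  have v : (su (0x4000040000400004, 0x8000080000800008)).1.1 = (⟨0, 1⟩ : F9) • 1 := by
    rw [su, dif_pos p]; change fM _ = _; decide +kernel
  generalize su _ = z at v
  have o : orderOf z = 2 ^ (1 + 1) := orderOf_eq_prime_pow (fun e => by
      have : z.1.1 ^ 2 = 1 := congrArg (fun x : SU 4 F9 3 => x.1.1) e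
      rw [v] at this
      revert this; decide +kernel) (Subtype.ext (Subtype.ext (by
      change z.1.1 ^ 4 = 1
      rw [v]; decide +kernel)))
  rw [← Subgroup.eq_of_le_of_card_ge (Subgroup.zpowers_le.2 (Subgroup.mem_center_iff.2 fun x => Subtype.ext (Subtype.ext
    (by simp [v]))) : Subgroup.zpowers z ≤ _) (by rw [H22.card_center_SU card_F9 4 (by norm_num), Nat.card_zpowers, o]; rfl)] at h
  refine (Subgroup.zpowers_le (H := stabilizer _ (prA A))).2 (smul_prA z (Or.inr ?_)) h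
  rw [v, transpose_smul, transpose_one, Matrix.smul_mul, Matrix.mul_smul, Matrix.one_mul, Matrix.mul_one, smul_smul,
    show (⟨0, 1⟩ * ⟨0, 1⟩ : F9) = -1 by decide, neg_one_smul]
theorem card_U43 : Nat.card (PSU 4 F9 3) = 3265920 := by
  have a := H22.card_SU card_F9 4 (by norm_num)
  rw [Subgroup.card_eq_card_quotient_mul_card_subgroup (Subgroup.center _), H22.card_center_SU card_F9 4 (by norm_num)] at a
  norm_num [Finset.prod_range_succ] at a
  exact Nat.eq_of_mul_eq_mul_right (by norm_num : 0 < 4) (Nat.eq_of_mul_eq_mul_left (by norm_num : 0 < 4) a)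
theorem u43_iso {m : Nat} [NeZero m] (T k : Nat) (Xs : List (Nat × Nat)) {Ns : List Net}
    (h : and' (all2 (suChk m T) Xs Ns) (and' (transChk m Ns k) (allN m fun j => or' (Nat.beq j 0)
      (not' (pmv (rr (ent 64 T j)) (ii (ent 64 T j)) (rr (ent 64 T 0)) (ii (ent 64 T 0)))))) = true)
    (hl : 3265920 ≤ Nat.card (netGrp m Ns)) (F : Type*) [Field F] [Fintype F] (hF : Fintype.card F = 9) :
    Nonempty (netGrp m Ns ≃* PSU 4 F 3) := by
  simp only [and'_eq, Bool.and_eq_true, allN_iff, or'_eq, Bool.or_eq_true, beq_iff, not'_eq, Bool.not_eq_true',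
    ← Bool.not_eq_true, pmv_iff] at h
  have a := actsL_su h.1
  obtain ⟨i⟩ := a.iso_of_hom (a.injOn h.2.1 fun j hj e => (h.2.2 j hj).resolve_right fun u =>
    u (e.le (Set.mem_insert _ _))) (QuotientGroup.mk' (Subgroup.center _))
    (fun g hg i _ => center_fix ((QuotientGroup.eq_one_iff g).1 hg) _) card_U43.le hl
  exact ⟨i.symm.trans (H22.quotCenterCongr (H22.suCongr (FiniteField.ringEquivOfCardEq (card_F9.trans hF.symm)) 4 3))⟩

theorem netGrp_le {m : Nat} [NeZero m] {Ms Us : List Net} (K : Nat) (ws : List (List Nat)) (hM : ∀ N ∈ Ms, N.Ok m)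
    (h : all2 (fun w U => and' (U.valid m) (eqL K m (wordN (symN Ms) w) [U])) ws Us = true) : netGrp m Us ≤ netGrp m Ms := by
  refine cl_le (List.forall_mem_map.2 fun U hU => ?_)
  rw [all2_iff] at h
  obtain ⟨i, hi, rfl⟩ := List.getElem_of_mem hU
  have := h.get (h.length_eq ▸ hi) hi
  rw [and'_eq, Bool.and_eq_true] at this
  exact (actsL_fin hM).mem_of_word ((finEnum m).acts_perm (Net.ok_of_valid this.1)) (A := ⊤)
    (fun x _ u => Equiv.ext ((finEnum m).forall_iff.2 u)) (fun _ => mem_cl) le_top trivial _ this.2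

theorem ActsL.le_card_ker {G Ω : Type*} [Group G] [MulAction G Ω] {m c k : Nat} [NeZero m] {e : Nat → Ω}
    (he : Set.InjOn e {j | j < m}) {gs : List G} {Ms : List Net} (h : ActsL m e gs Ms) [Finite (cl gs)] {K : Subgroup G}
    (hK : K ≤ cl gs) (hf : ∀ g ∈ K, ∀ i < m, g • e i = e i) (hk : k ≤ Nat.card K) (hc : c ≤ Nat.card (netGrp m Ms)) :
    k * c ≤ Nat.card (cl gs) := by
  obtain ⟨φ, b, d⟩ := h.exists_hom he rfl
  rw [← φ.ker.card_mul_index, Subgroup.index_ker, d]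
  exact Nat.mul_le_mul (hk.trans ((Nat.card_congr (Subgroup.subgroupOfEquivOfLe hK).toEquiv).ge.trans (Subgroup.card_le_of_le
    fun g hg => Equiv.ext fun i => Fin.ext (he (φ g i).2 i.2 ((b g i).symm.trans (hf g hg i i.2)))))) hc

end
end H13
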