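import Cfsg.Agent.H13.BE
import Cfsg.Agent.H22.IsoE
/-! Weight vectors of an elementary abelian 3-group acting on a quadratic space over the field with two elements. -/
set_option autoImplicit false
namespace H13
noncomputable section
open MulAction Cfsg Subgroup H22

variable {V : Type*} [AddCommGroup V]
/-- the polar form -/
def pol (q : V → ZMod 2) (u v : V) : ZMod 2 := q (u + v) + q u + q v
structure QF (q : V → ZMod 2) : Prop where
  two : ∀ v : V, v + v = 0
  add : ∀ u v w, pol q (u + v) w = pol q u w + pol q v w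
  nd : ∀ v, (∀ w, pol q v w = 0) → v = 0
theorem z2_two (a : ZMod 2) : a + a = 0 := by revert a; decide
theorem z2_cases (a : ZMod 2) : a = 0 ∨ a = 1 := by revert a; decide
theorem pol_comm (q : V → ZMod 2) (u v : V) : pol q u v = pol q v u := by rw [pol, pol, add_comm u]; ring
theorem q_add (q : V → ZMod 2) (u v : V) : q (u + v) = q u + q v + pol q u v := by
  rw [pol]; linear_combination - z2_two (q u) - z2_two (q v)
namespace QF
variable {q : V → ZMod 2} (h : QF q)
include h
theorem add' (u v w : V) : pol q u (v + w) = pol q u v + pol q u w := by rw [pol_comm, h.add, pol_comm, pol_comm q w]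
theorem zero (w : V) : pol q 0 w = 0 := by have := h.add 0 0 w; rwa [add_zero, left_eq_add] at this
theorem zero' (w : V) : pol q w 0 = 0 := by rw [pol_comm, h.zero]
theorem q0 : q 0 = 0 := by have := h.zero 0; rwa [pol, add_zero, z2_two, zero_add] at this
theorem self (v : V) : pol q v v = 0 := by rw [pol, h.two, h.q0, zero_add, z2_two]
theorem neg (v : V) : -v = v := neg_eq_of_add_eq_zero_left (h.two v)
theorem eq_of {u v : V} (a : u + v = 0) : u = v := by rw [← h.neg v]; exact eq_neg_of_add_eq_zero_left a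
/-- the vectors orthogonal to `v` -/
def perp (v : V) : AddSubgroup V where
  carrier := {w | pol q v w = 0}
  zero_mem' := h.zero' v
  add_mem' := fun a b => by rw [Set.mem_ofPred_eq, h.add', a, b, add_zero]
  neg_mem' := fun a => by rwa [h.neg]
theorem sum {ι : Type*} (s : Finset ι) (t : ι → V) (w : V) : pol q (∑ i ∈ s, t i) w = ∑ i ∈ s, pol q (t i) w := by
  classical
  induction s using Finset.induction_on with
  | empty => exact h.zero w
  | insert i s a ih => rw [Finset.sum_insert a, Finset.sum_insert a, h.add, ih]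
theorem q_sum {ι : Type*} (s : Finset ι) {t : ι → V} (a : ∀ i j, i ≠ j → pol q (t i) (t j) = 0) :
    q (∑ i ∈ s, t i) = ∑ i ∈ s, q (t i) := by
  classical
  induction s using Finset.induction_on with
  | empty => exact h.q0
  | insert i s b ih =>
    rw [Finset.sum_insert b, Finset.sum_insert b, q_add q, ih, pol_comm, h.sum,
      Finset.sum_eq_zero fun j hj => a j i fun e => b (e ▸ hj), add_zero]
end QF

variable {M : Type*} [Group M] [DistribMulAction M V]
theorem pol_smul {q : V → ZMod 2} {g : M} (a : ∀ v, q (g • v) = q v) (u v : V) : pol q (g • u) (g • v) = pol q u v := by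
  rw [pol, ← smul_add, a, a, a, pol]
def nv (x : M) (v : V) : V := v + x • v + x • x • v
theorem QF.orth {q : V → ZMod 2} (h : QF q) {x : M} (a : ∀ v, q (x • v) = q v) {v w : V} (hv : x • v = v)
    (hw : nv x w = 0) : pol q v w = 0 := by
  have b := pol_smul a v w
  have c := pol_smul a v (x • w)
  have d := h.zero' v
  rw [hv] at b c
  rwa [← hw, nv, h.add', h.add', c, b, z2_two, zero_add] at d

/-- weight vectors -/
def WtV (E : Subgroup M) (v : V) : Prop := (∃ x ∈ E, x • v ≠ v) ∧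
  ∀ x ∈ E, x • v ≠ v → nv x v = 0 ∧ ∀ y ∈ E, y • v = v ∨ y • v = x • v ∨ y • v = x • x • v
/-- equal stabilisers -/
def SameW (E : Subgroup M) (v w : V) : Prop := ∀ y ∈ E, y • v = v ↔ y • w = w
theorem WtV.ne {E : Subgroup M} {v : V} (h : WtV E v) : v ≠ 0 := by
  rintro rfl; obtain ⟨x, -, a⟩ := h.1; exact a (smul_zero x)
theorem conj_smul_eq {p y : M} {v w : V} : y • p • v = p • w ↔ (p⁻¹ * y * p) • v = w := by
  rw [mul_smul, mul_smul, inv_smul_eq_iff]
theorem WtV.smul {E : Subgroup M} {v : V} (h : WtV E v) {p : M} (hp : p ∈ normalizer (E : Set M)) : WtV E (p • v) := by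
  have n := fun y (hy : y ∈ E) => (mem_normalizer_iff''.1 hp y).1 hy
  have k : ∀ y : M, y • p • v = p • (p⁻¹ * y * p) • v := fun y => by simp [mul_smul]
  obtain ⟨x, hx, a⟩ := h.1
  refine ⟨⟨p * x * p⁻¹, (mem_normalizer_iff.1 hp x).1 hx, by simpa [mul_smul] using a⟩, fun x hx a => ?_⟩
  obtain ⟨b, c⟩ := h.2 _ (n x hx) (mt conj_smul_eq.2 a)
  have k2 : x • x • p • v = p • (p⁻¹ * x * p) • (p⁻¹ * x * p) • v := by simp [mul_smul]
  refine ⟨by rw [nv, k2, k, ← smul_add, ← smul_add, ← nv, b, smul_zero], fun y hy => ?_⟩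
  rw [k2, k x, k y]; simpa using c _ (n y hy)
theorem SameW.smul {E : Subgroup M} {v w : V} (h : SameW E v w) {p : M} (hp : p ∈ normalizer (E : Set M)) :
    SameW E (p • v) (p • w) := fun y hy => by
  rw [conj_smul_eq, conj_smul_eq]; exact h _ ((mem_normalizer_iff''.1 hp y).1 hy)
theorem WtV.sep {E : Subgroup M} {v w : V} (a : WtV E v) (b : WtV E w) (c : ¬ SameW E v w) :
    ∃ x ∈ E, x • v = v ∧ nv x w = 0 := by
  by_contra! d
  have k : ∀ x ∈ E, x • v = v → x • w = w := fun x hx e => by_contra fun f => d x hx e (b.2 x hx f).1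
  refine c fun y hy => ⟨k y hy, fun e => by_contra fun f => ?_⟩
  obtain ⟨x, hx, u⟩ := b.1
  rcases (a.2 y hy f).2 x hx with t | t | t
  · exact u (k x hx t)
  · have := k _ (mul_mem (inv_mem hy) hx) (by rw [mul_smul, t, inv_smul_smul])
    rw [mul_smul, inv_smul_eq_iff, e] at this; exact u this
  · have := k _ (mul_mem (inv_mem hy) (mul_mem (inv_mem hy) hx)) (by rw [mul_smul, mul_smul, t, inv_smul_smul, inv_smul_smul])
    rw [mul_smul, mul_smul, inv_smul_eq_iff, e, inv_smul_eq_iff, e] at this; exact u this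

structure EA (E : Subgroup M) : Prop where
  comm : ∀ x ∈ E, ∀ y ∈ E, x * y = y * x
  cube : ∀ x ∈ E, x * x * x = 1
theorem EA.of_gens {gs : List M} (a : ∀ x ∈ gs, ∀ y ∈ gs, x * y = y * x) (b : ∀ x ∈ gs, x * x * x = 1) : EA (H27.cl gs) := by
  have c : ∀ x ∈ H27.cl gs, ∀ y ∈ H27.cl gs, x * y = y * x := fun x hx y hy =>
    H27.cl_le (H := centralizer {x}) (fun y hy => mem_centralizer_singleton_iff.2 (H27.cl_le (H := centralizer {y})
      (fun x hx => mem_centralizer_singleton_iff.2 (a x hx y hy)) hx y rfl)) hy x rfl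
  refine ⟨c, fun x hx => ?_⟩
  induction hx using closure_induction with
  | mem x hx => exact b x hx
  | one => simp
  | mul x y hx hy u v => rw [← pow_three', Commute.mul_pow (c x hx y hy), pow_three', pow_three', u, v, one_mul]
  | inv x hx u => rw [← mul_inv_rev, ← mul_inv_rev, ← mul_assoc, u, inv_one]
namespace EA
variable {E : Subgroup M} (h : EA E)
include h
theorem sc {x y : M} (hx : x ∈ E) (hy : y ∈ E) (v : V) : x • y • v = y • x • v := by
  rw [← mul_smul, h.comm x hx y hy, mul_smul]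
theorem s3 {x : M} (hx : x ∈ E) (v : V) : x • x • x • v = v := by rw [← mul_smul, ← mul_smul, h.cube x hx, one_smul]
theorem le_norm : E ≤ normalizer (E : Set M) := le_normalizer
theorem same {x : M} (hx : x ∈ E) (v : V) : SameW E (x • v) v := fun y hy => by rw [h.sc hy hx, smul_left_cancel_iff]
theorem nv_fix {x : M} (hx : x ∈ E) (v : V) : x • nv x v = nv x v := by rw [nv, smul_add, smul_add, h.s3 hx]; abel
theorem nv_fix' {x y : M} (hx : x ∈ E) (hy : y ∈ E) {v : V} (a : y • v = v) : y • nv x v = nv x v := by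
  rw [nv, smul_add, smul_add, h.sc hy hx, h.sc hy hx, h.sc hy hx, a]
theorem gen [Finite M] (h2 : ∀ v : V, v + v = 0) {K : AddSubgroup V} (h0 : ∀ v, (∀ x ∈ E, x • v = v) → v ∈ K)
    (h1 : ∀ v, WtV E v → v ∈ K) (v : V) : v ∈ K := by
  suffices a : ∀ S : Subgroup M, ∀ v : V, E ⊓ stabilizer M v = S → v ∈ K from a _ v rfl
  intro S
  induction S using WellFoundedGT.induction with
  | ind S ih =>
    rintro v rfl
    have big : ∀ u : V, ∀ x ∈ E, x • v ≠ v → x • u = u → (∀ y ∈ E, y • v = v → y • u = u) → u ∈ K :=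
      fun u x hx a b c => ih (E ⊓ stabilizer M u) (lt_of_le_not_ge (fun y hy => mem_inf.2 ⟨hy.1, c y hy.1 hy.2⟩)
        fun e => a (e (mem_inf.2 ⟨hx, b⟩)).2) u rfl
    by_cases a : ∃ x ∈ E, x • v ≠ v
    swap
    · exact h0 v (by simpa using a)
    obtain ⟨x, hx, a⟩ := a
    refine (K.add_mem_cancel_right (big _ x hx a (h.nv_fix hx v) fun y hy => h.nv_fix' hx hy)).1 ?_
    have f : ∀ t ∈ E, t • v = v → t • (v + nv x v) = v + nv x v := fun t ht e => by rw [smul_add, e, h.nv_fix' hx ht e]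
    have e0 : nv x (v + nv x v) = 0 := by
      rw [nv, smul_add, smul_add, h.nv_fix hx, h.nv_fix hx, nv]
      linear_combination (norm := abel) h2 v + h2 v + h2 (x • v) + h2 (x • v) + h2 (x • x • v) + h2 (x • x • v)
    generalize v + nv x v = u at f e0
    by_contra hu
    have bn : ∀ y ∈ E, y • u ≠ u → nv y u ∈ K := fun y hy b =>
      big _ y hy (mt (f y hy) b) (h.nv_fix hy u) fun t ht e => h.nv_fix' hy ht (f t ht e)
    have c : ∀ y ∈ E, y • u = u ∨ y • u = x • u ∨ y • u = x • x • u := fun y hy => by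
      by_contra! c
      have m := add_mem (add_mem (bn y hy c.1) (bn _ (mul_mem hx hy) fun e => c.2.2 (by
        rw [← h.s3 hx (y • u), ← mul_smul x y, e]))) (bn _ (mul_mem hx (mul_mem hx hy)) fun e => c.2.1 (by
        rw [← h.s3 hx (y • u), ← mul_smul x y, ← mul_smul x (x * y), e]))
      refine hu (by
        convert m using 1
        have e1 := congrArg (y • ·) e0
        have e2 := congrArg (y • y • ·) e0
        simp only [nv, mul_smul, smul_add, smul_zero, h.sc hy hx, h.s3 hx] at e1 e2 ⊢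
        linear_combination (norm := abel) - e1 - e2 - h2 u)
    refine hu (h1 u ⟨⟨x, hx, fun e => hu (big u x hx a e f)⟩, fun y hy b => ?_⟩)
    rcases (c y hy).resolve_left b with d | d
    · rw [nv, d, h.sc hy hx, d]; exact ⟨e0, c⟩
    · rw [nv, d, h.sc hy hx, h.sc hy hx, d, h.s3 hx]
      exact ⟨by rw [← e0, nv]; abel, fun t ht => (c t ht).imp_right Or.symm⟩
theorem eq_one [Finite M] (h2 : ∀ v : V, v + v = 0) (hf : ∀ g : M, (∀ v : V, g • v = v) → g = 1) {g : M} (hg : g ∈ E)
    (a : ∀ v : V, WtV E v → g • v = v) : g = 1 :=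
  hf g (h.gen h2 (K := (DistribSMul.toAddMonoidHom V g).eqLocus (AddMonoidHom.id V)) (fun _ b => b g hg) a)
theorem sq_fix {p y : M} (hp : p ∈ normalizer (E : Set M)) (hy : y ∈ E) {v : V} (a : WtV E v) (b : SameW E (p • v) v) :
    ((p * p)⁻¹ * y * (p * p) * y⁻¹) • v = v := by
  have n := fun y (hy : y ∈ E) => (mem_normalizer_iff''.1 hp y).1 hy
  have k : ∀ y ∈ E, y • v = v → (p⁻¹ * y * p) • v = v := fun y hy e => conj_smul_eq.1 ((b y hy).2 e)
  rw [mul_smul, ← h.s3 (inv_mem hy) v, show (p * p)⁻¹ * y * (p * p) = p⁻¹ * (p⁻¹ * y * p) * p by group,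
    h.sc (n _ (n y hy)) (inv_mem hy), h.s3 (inv_mem hy), inv_smul_eq_iff]
  by_cases c : y • v = v
  · rw [k _ (n y hy) (k y hy c), c]
  have d : (p⁻¹ * y * p) • v ≠ v := fun e => c ((b y hy).1 (conj_smul_eq.2 e))
  rcases ((a.2 y hy c).2 _ (n y hy)).resolve_left d with e | e
  · have := k _ (mul_mem (inv_mem hy) (n y hy)) (by rw [mul_smul, e, inv_smul_smul])
    rwa [show p⁻¹ * (y⁻¹ * (p⁻¹ * y * p)) * p = (p⁻¹ * y * p)⁻¹ * (p⁻¹ * (p⁻¹ * y * p) * p) by group, mul_smul,
      inv_smul_eq_iff, e] at this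
  · have := k _ (mul_mem hy (n y hy)) (by rw [mul_smul, e, h.s3 hy])
    rw [show p⁻¹ * (y * (p⁻¹ * y * p)) * p = (p⁻¹ * y * p) * (p⁻¹ * (p⁻¹ * y * p) * p) by group, mul_smul,
      h.sc (n y hy) (n _ (n y hy)), e, h.sc (n _ (n y hy)) hy, h.sc (n _ (n y hy)) hy] at this
    rw [← h.s3 hy (_ • v), this]
end EA
theorem WtV.orth {q : V → ZMod 2} (h : QF q) (hq : ∀ (g : M) v, q (g • v) = q v) {E : Subgroup M} {v w : V} (a : WtV E v)
    (b : WtV E w) (c : ¬ SameW E v w) : pol q v w = 0 := by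
  obtain ⟨x, -, d, e⟩ := a.sep b c; exact h.orth (hq x) d e

abbrev V6 : Type := Fin 6 → GF4
def th : GF4 := ⟨0, 1⟩
theorem f4_cases (c : GF4) : c = 0 ∨ c = 1 ∨ c = th ∨ c = th * th := by revert c; decide
def nm4 (c : GF4) : ZMod 2 := c.re + c.im + c.re * c.im
def q6 (v : V6) : ZMod 2 := ∑ i, nm4 (v i)
def sc4 (x : M) (w : V) (c : GF4) : V := c.re.val • w + c.im.val • x • w
theorem sc4_zero (x : M) (w : V) : sc4 x w 0 = 0 := by simp [sc4]
theorem sc4_one (x : M) (w : V) : sc4 x w 1 = w := by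
  rw [sc4, show (1 : GF4).re.val = 1 from rfl, show (1 : GF4).im.val = 0 from rfl]; simp
theorem sc4_th (x : M) (w : V) : sc4 x w th = x • w := by
  rw [sc4, show th.re.val = 0 from rfl, show th.im.val = 1 from rfl]; simp
theorem sc4_th2 (x : M) (w : V) : sc4 x w (th * th) = w + x • w := by
  rw [sc4, show (th * th).re.val = 1 from rfl, show (th * th).im.val = 1 from rfl]; simp
theorem val_add_smul (h2 : ∀ v : V, v + v = 0) (a b : ZMod 2) (v : V) : (a + b).val • v = a.val • v + b.val • v := by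
  rcases z2_cases a with rfl | rfl <;> rcases z2_cases b with rfl | rfl <;> simp [z2_two, ZMod.val_one, h2]
theorem sc4_add (h2 : ∀ v : V, v + v = 0) (x : M) (w : V) (c d : GF4) : sc4 x w (c + d) = sc4 x w c + sc4 x w d := by
  rw [sc4, sc4, sc4, QuadraticAlgebra.re_add, QuadraticAlgebra.im_add, val_add_smul h2, val_add_smul h2]; abel
theorem nv_eq (h2 : ∀ v : V, v + v = 0) {x : M} {w : V} (a : nv x w = 0) : x • x • w = w + x • w := by
  rw [nv] at a; linear_combination (norm := abel) a - h2 w - h2 (x • w)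
theorem sc4_eq (h2 : ∀ v : V, v + v = 0) {E : Subgroup M} {x : M} (hx : x ∈ E) {w : V} (a : nv x w = 0) {c : GF4}
    (hc : c ≠ 0) : ∃ y ∈ E, sc4 x w c = y • w := by
  rcases (f4_cases c).resolve_left hc with rfl | rfl | rfl
  exacts [⟨1, one_mem _, by rw [sc4_one, one_smul]⟩, ⟨x, hx, sc4_th x w⟩,
    ⟨x * x, mul_mem hx hx, by rw [sc4_th2, mul_smul, nv_eq h2 a]⟩]
theorem sc4_mul (h2 : ∀ v : V, v + v = 0) {x : M} {w : V} (a : nv x w = 0) (c : GF4) : sc4 x w (th * c) = x • sc4 x w c := by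
  rcases f4_cases c with rfl | rfl | rfl | rfl
  · rw [mul_zero, sc4_zero, smul_zero]
  · rw [mul_one, sc4_one, sc4_th]
  · rw [sc4_th2, sc4_th, nv_eq h2 a]
  · rw [show th * (th * th) = 1 by decide, sc4_one, sc4_th2, smul_add, nv_eq h2 a]
    linear_combination (norm := abel) - h2 (x • w)
def phi4 {ι : Type*} [Fintype ι] (h2 : ∀ v : V, v + v = 0) (x : ι → M) (w : ι → V) : (ι → GF4) →+ V :=
  AddMonoidHom.mk' (fun c => ∑ i, sc4 (x i) (w i) (c i)) fun c d => by
    rw [← Finset.sum_add_distrib]; exact Finset.sum_congr rfl fun i _ => sc4_add h2 _ _ _ _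
theorem phi4_single {ι : Type*} [Fintype ι] [DecidableEq ι] (h2 : ∀ v : V, v + v = 0) (x : ι → M) (w : ι → V) (i : ι)
    (c : GF4) : phi4 h2 x w (Pi.single i c) = sc4 (x i) (w i) c := by
  change ∑ j, _ = _
  rw [Finset.sum_eq_single i (fun j _ a => by rw [Pi.single_eq_of_ne a, sc4_zero]) (by simp), Pi.single_eq_same]

section
variable [Finite M] {q : V → ZMod 2} (h : QF q) (hq : ∀ (g : M) v, q (g • v) = q v) {E : Subgroup M} (hE : EA E)
  {ι : Type*} {x : ι → M} {w : ι → V} (hw : ∀ i, WtV E (w i)) (hx : ∀ i, x i ∈ E)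
  (hm : ∀ i, x i • w i ≠ w i)
include h hq hE hw hx hm
omit [Finite M] in
theorem sc4_orth {u : V} (hu : WtV E u) {i : ι} (a : ¬ SameW E (w i) u) (c : GF4) : pol q (sc4 (x i) (w i) c) u = 0 := by
  by_cases hc : c = 0
  · rw [hc, sc4_zero, h.zero]
  obtain ⟨y, hy, b⟩ := sc4_eq h.two (hx i) ((hw i).2 _ (hx i) (hm i)).1 hc
  rw [b]
  exact ((hw i).smul (hE.le_norm hy)).orth h hq hu fun e => a fun t ht => (hE.same hy _ t ht).symm.trans (e t ht)
theorem phi4_inj [Fintype ι] (hs : ∀ i j, SameW E (w i) (w j) → i = j) : Function.Injective (phi4 h.two x w) := by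
  refine (injective_iff_map_eq_zero _).2 fun c hc => funext fun i => by_contra fun hi => ?_
  have n := ((hw i).2 _ (hx i) (hm i)).1
  obtain ⟨y, hy, b⟩ := sc4_eq h.two (hx i) n hi
  refine ((hw i).smul (hE.le_norm hy)).ne (b ▸ h.nd _ (hE.gen h.two (K := h.perp _) (fun u a => ?_) fun u a => ?_))
  · change pol _ _ _ = 0
    rw [pol_comm]
    refine h.orth (hq (x i)) (a _ (hx i)) ?_
    rw [b, nv, hE.sc (hx i) hy, hE.sc (hx i) hy, ← smul_add, ← smul_add, ← nv, n, smul_zero]
  by_cases e : SameW E (w i) u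
  swap
  · exact sc4_orth h hq hE hw hx hm a e _
  have := h.sum Finset.univ (fun i => sc4 (x i) (w i) (c i)) u
  rw [show ∑ i, sc4 (x i) (w i) (c i) = 0 from hc, h.zero, Finset.sum_eq_single i (fun j _ k =>
    sc4_orth h hq hE hw hx hm a (fun f => k (hs j i fun t ht => (f t ht).trans (e t ht).symm)) _) (by simp)] at this
  exact this.symm
end

def wS (E : Subgroup M) (V : Type*) [AddCommGroup V] [DistribMulAction M V] : Setoid {v : V // WtV E v} :=
  ⟨fun v w => SameW E v.1 w.1, fun _ _ _ => Iff.rfl, fun a y hy => (a y hy).symm, fun a b y hy => (a y hy).trans (b y hy)⟩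
instance wAct (E : Subgroup M) : MulAction (normalizer (E : Set M)) (Quotient (wS E V)) where
  smul p := Quotient.map (fun v => ⟨(p : M) • v.1, v.2.smul p.2⟩) fun _ _ a => SameW.smul a p.2
  one_smul := Quotient.ind fun v => congrArg (Quotient.mk _) (Subtype.ext (one_smul M v.1))
  mul_smul a b := Quotient.ind fun v => congrArg (Quotient.mk _) (Subtype.ext (mul_smul (a : M) (b : M) v.1))

theorem frame [Finite M] {q : V → ZMod 2} (h : QF q) (hq : ∀ (g : M) v, q (g • v) = q v)
    (hf : ∀ g : M, (∀ v : V, g • v = v) → g = 1) (hV : Nat.card V = 4096) {E P : Subgroup M} (hE : EA E)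
    (hP : P ≤ normalizer (E : Set M)) (φ : P →* alternatingGroup (Fin 6)) (hφ : Function.Surjective φ)
    (hk : ∀ p, φ p = 1 ↔ p.1 ∈ E) (hn : ∃ p ∈ P, ∃ y ∈ E, y * (p * p) ≠ p * p * y) {ω : M} (hω : ω ∈ E) (h1 : ω ≠ 1)
    (hc : ∀ p ∈ P, p * ω = ω * p) : ∃ ψ : V6 ≃+ V, (∀ v, ψ (th • v) = ω • ψ v) ∧ (∀ v, q (ψ v) = q6 v) ∧
      ∃ σ : P →* Equiv.Perm (Fin 6), σ.range = alternatingGroup (Fin 6) ∧ (∀ p, σ p = 1 → p.1 ∈ E) ∧
        (∀ p, p.1 ∈ E → σ p = 1) ∧ ∀ (p : P) i, ∃ c ≠ 0, p.1 • ψ (Pi.single i 1) = ψ (Pi.single (σ p i) c) := by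
  classical
  have : Finite V := Nat.finite_of_card_ne_zero (by omega)
  let Ω := Quotient (wS E V)
  have := Fintype.ofFinite Ω
  have hw : ∀ B : Ω, WtV E B.out.1 := fun B => B.out.2
  have hs : ∀ B C : Ω, SameW E B.out.1 C.out.1 → B = C := fun B C a => Quotient.out_equiv_out.1 a
  have le : Fintype.card Ω ≤ 6 := by
    choose x hx hm using fun B => (hw B).1
    have := Nat.card_le_card_of_injective _ (phi4_inj h hq hE hw hx hm hs)
    rw [hV, Nat.card_fun, Nat.card_eq_fintype_card, card_GF4, Nat.card_eq_fintype_card] at this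
    exact (Nat.pow_le_pow_iff_right (by norm_num : 1 < 4)).1 this
  let ρ : P →* Equiv.Perm Ω := (toPermHom _ Ω).comp (inclusion hP)
  have hρ : ∀ (p : P) (B : Ω), SameW E (p.1 • B.out.1) (ρ p B).out.1 := fun p B =>
    Quotient.exact (s := wS E V) (a := ⟨_, (hw B).smul (hP p.2)⟩) (by
      rw [Quotient.out_eq]; conv_rhs => rw [← Quotient.out_eq B]
      rfl)
  have k1 : ∀ p : P, p.1 ∈ E → ρ p = 1 := fun p hp => Equiv.ext fun B =>
    hs _ _ fun t ht => (hρ p B t ht).symm.trans (hE.same hp _ t ht)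
  have := alternatingGroup.isSimpleGroup (α := Fin 6) (by simp)
  have k2 : ∀ p : P, ρ p = 1 → p.1 ∈ E := by
    rcases ((inferInstance : ρ.ker.Normal).map φ hφ).eq_bot_or_eq_top with a | a
    · exact fun p hp => (hk p).1 ((Subgroup.map_eq_bot_iff _).1 a hp)
    obtain ⟨p, hp, y, hy, b⟩ := hn
    obtain ⟨p', c, d⟩ : φ ⟨p, hp⟩ ∈ ρ.ker.map φ := a ▸ trivial
    have e : ρ ⟨p, hp⟩ = 1 := by
      have := k1 (p'⁻¹ * ⟨p, hp⟩) ((hk _).1 (by rw [map_mul, map_inv, d, inv_mul_cancel]))
      rwa [map_mul, map_inv, show ρ p' = 1 from c, inv_one, one_mul] at this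
    have n := fun y (hy : y ∈ E) => (mem_normalizer_iff''.1 (hP (mul_mem hp hp)) y).1 hy
    have := hE.eq_one h.two hf (mul_mem (n y hy) (inv_mem hy)) fun v hv => hE.sq_fix (hP hp) hy hv (Quotient.exact
      (s := wS E V) (a := ⟨_, hv.smul (hP hp)⟩) (b := ⟨v, hv⟩) (by exact DFunLike.congr_fun e (Quotient.mk (wS E V) ⟨v, hv⟩)))
    rw [mul_inv_eq_one, mul_assoc, inv_mul_eq_iff_eq_mul] at this
    exact absurd this b
  have cr : Nat.card ρ.range = 360 := by
    rw [← index_ker, show ρ.ker = φ.ker from Subgroup.ext fun p => ⟨fun a => (hk p).2 (k2 p a), fun a => k1 p ((hk p).1 a)⟩,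
      index_ker, MonoidHom.range_eq_top.2 hφ, card_top, nat_card_alternatingGroup]; simp [Nat.factorial]
  have c6 : Fintype.card Ω = 6 := by
    have := card_subgroup_dvd_card ρ.range
    rw [cr, Nat.card_eq_fintype_card, Fintype.card_perm] at this
    generalize Fintype.card Ω = n at le this
    interval_cases n <;> simp [Nat.factorial] at this ⊢
  let e : Ω ≃ Fin 6 := Fintype.equivFinOfCardEq c6
  let σ : P →* Equiv.Perm (Fin 6) := e.permCongrHom.toMonoidHom.comp ρ
  have hσ : ∀ p i, e.symm (σ p i) = ρ p (e.symm i) := fun p i => e.symm_apply_apply _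
  have cs : σ.range = alternatingGroup (Fin 6) := Equiv.Perm.eq_alternatingGroup_of_index_eq_two (by
    have a := σ.range.card_mul_index
    rw [show Nat.card σ.range = 360 by rw [MonoidHom.range_comp, card_map_of_injective e.permCongrHom.injective, cr],
      Nat.card_eq_fintype_card, Fintype.card_perm, show (Fintype.card (Fin 6)).factorial = 720 from rfl] at a
    omega)
  let w : Fin 6 → V := fun i => (e.symm i).out.1
  have hw' : ∀ i, WtV E (w i) := fun i => hw _
  have hs' : ∀ i j, SameW E (w i) (w j) → i = j := fun i j a => e.symm.injective (hs _ _ a)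
  have hρ' : ∀ (p : P) i, SameW E (p.1 • w i) (w (σ p i)) := fun p i => by
    change SameW E _ (e.symm (σ p i)).out.1; rw [hσ]; exact hρ p _
  have hm : ∀ i, ω • w i ≠ w i := fun i a => h1 (hE.eq_one h.two hf hω fun v hv => by
    obtain ⟨j, b⟩ := e.symm.surjective (Quotient.mk _ ⟨v, hv⟩)
    have c : SameW E (w j) v := Quotient.exact (s := wS E V) (b := ⟨v, hv⟩) (b ▸ Quotient.out_eq _)
    obtain ⟨⟨_, p, rfl⟩, d⟩ := (cs ▸ alternatingGroup.isPretransitive_of_three_le_card _ (by simp) :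
      IsPretransitive σ.range (Fin 6)).exists_smul_eq i j
    rw [← c ω hω, ← show σ p i = j from d, ← hρ' p i ω hω, ← mul_smul, ← hc p p.2, mul_smul, a])
  have inj := phi4_inj h hq hE hw' (fun _ => hω) hm hs'
  let ψ := AddEquiv.ofBijective _ ((Nat.bijective_iff_injective_and_card _).2 ⟨inj, by
    rw [hV, Nat.card_fun, Nat.card_eq_fintype_card, card_GF4]; simp⟩)
  have n := fun i => ((hw' i).2 ω hω (hm i)).1
  have hψ : ∀ c, ψ c = ∑ i, sc4 ω (w i) (c i) := fun _ => rfl
  have hψ1 : ∀ i c, ψ (Pi.single i c) = sc4 ω (w i) c := phi4_single h.two (fun _ => ω) w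
  have orth : ∀ i j c d, i ≠ j → pol q (sc4 ω (w i) c) (sc4 ω (w j) d) = 0 := fun i j c d a => by
    by_cases hd : d = 0
    · rw [hd, sc4_zero, h.zero']
    obtain ⟨y, hy, b⟩ := sc4_eq h.two hω (n j) hd
    rw [b]
    exact sc4_orth h hq hE hw' (fun _ => hω) hm ((hw' j).smul (hE.le_norm hy))
      (fun e => a (hs' i j fun t ht => (e t ht).trans (hE.same hy _ t ht))) _
  have q1 : ∀ i, q (w i) = 1 := fun i => (z2_cases _).resolve_left fun a => (hw' i).ne (h.nd _ fun u => by
    obtain ⟨c, rfl⟩ := ψ.surjective u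
    rw [pol_comm, hψ, h.sum, Finset.sum_eq_single i (fun j _ b => sc4_one ω (w i) ▸ orth j i _ 1 b) (by simp)]
    have b : pol q (ω • w i) (w i) = 0 := by rw [pol, add_comm (ω • _), ← nv_eq h.two (n i), hq, hq, a]; rfl
    rcases f4_cases (c i) with d | d | d | d <;> rw [d]
    exacts [by rw [sc4_zero, h.zero], by rw [sc4_one, h.self], by rw [sc4_th, b], by rw [sc4_th2, h.add, h.self, b, add_zero]])
  refine ⟨ψ, fun v => ?_, fun v => ?_, σ, cs, fun p a => k2 p (e.permCongrHom.injective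
    (a.trans (map_one _).symm)), fun p a => by change e.permCongrHom (ρ p) = 1; rw [k1 p a, map_one], fun p i => ?_⟩
  · rw [hψ, hψ, Finset.smul_sum]; exact Finset.sum_congr rfl fun i _ => sc4_mul h.two (n i) _
  · rw [hψ, h.q_sum _ fun i j => orth i j _ _]
    refine Finset.sum_congr rfl fun i _ => ?_
    rcases f4_cases (v i) with d | d | d | d <;> rw [d]
    exacts [by rw [sc4_zero, h.q0]; rfl, by rw [sc4_one, q1]; rfl, by rw [sc4_th, hq, q1]; rfl,
      by rw [sc4_th2, ← nv_eq h.two (n i), hq, hq, q1]; rfl]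
  rw [hψ1, sc4_one]
  obtain ⟨c, a⟩ := ψ.surjective (p.1 • w i)
  have u := (hw' i).smul (hP p.2)
  have b : c = Pi.single (σ p i) (c (σ p i)) := funext fun j => by
    rcases eq_or_ne j (σ p i) with rfl | b
    · simp
    rw [Pi.single_eq_of_ne b]
    have k : ∀ d, pol q (sc4 ω (w j) (c j)) (sc4 ω (w j) d) = 0 := fun d => by
      have := sc4_orth h hq hE hw' (fun _ => hω) hm u (i := j) (fun e => b (hs' _ _ fun t ht =>
        (e t ht).trans (hρ' p i t ht))) d
      rwa [pol_comm, ← a, hψ, h.sum, Finset.sum_eq_single j (fun k _ b => orth k j _ _ b) (by simp)] at this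
    have b : pol q (ω • w j) (w j) = 1 := by rw [pol, add_comm (ω • _), ← nv_eq h.two (n j), hq, hq, q1]; rfl
    have k1 := k 1
    have k2 := k th
    rcases f4_cases (c j) with d | d | d | d <;> rw [d] at k1 k2
    · exact d
    · rw [sc4_one, sc4_th, pol_comm, b] at k2; cases k2
    · rw [sc4_one, sc4_th, b] at k1; cases k1
    · rw [sc4_one, sc4_th2, h.add, h.self, b] at k1; cases k1
  refine ⟨c (σ p i), fun e => u.ne ?_, by rw [← b, a]⟩
  rw [← a, b, e, Pi.single_zero, map_zero]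

end
end H13
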