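import Cfsg.Agent.H13.Wt
import Cfsg.Agent.H13.LX
/-! The quotient of a large extraspecial 2-group by its centre as a quadratic space. -/
set_option autoImplicit false
namespace H13
noncomputable section
open Cfsg Subgroup MulAction
open scoped Pointwise

universe u
variable {G : Type u} [Group G]

open Classical in
theorem XS.quad [Finite G] {z : G} {R : Subgroup G} {w : ℕ} (h : XS z R w) : ∃ q : G → ZMod 2, ∃ b : G → G → ZMod 2,
    (∀ x, q x = 0 ↔ x * x = 1) ∧ (∀ x y, b x y = 0 ↔ x * y = y * x) ∧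
    (∀ x ∈ R, ∀ y ∈ R, q (x * y) = q x + q y + b x y) ∧ ∀ x ∈ R, ∀ y ∈ R, ∀ u ∈ R, b (x * y) u = b x u + b y u := by
  refine ⟨fun x => if x * x = 1 then 0 else 1, fun x y => if x * y = y * x then 0 else 1, fun x => by simp,
    fun x y => by simp, fun x hx y hy => ?_, fun x hx y hy u hu => ?_⟩
  · have e : x * y * (x * y) = x * (y * x) * y := by group
    have zz := h.zz
    have z1 := h.z_ne
    rcases h.com hy hx with a | a
    · rw [a, show x * (x * y) * y = x * x * (y * y) by group] at e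
      rcases h.sq hx with b | b <;> rcases h.sq hy with c | c <;> simp [e, a, b, c, zz, z1] <;> rfl
    · have a' : x * y ≠ y * x := fun t => h.ne_mul (x * y) (a.symm.trans t.symm)
      rw [a, show x * (x * y * z) * y = x * x * (y * (z * y)) by group, ← h.comm hy, ← mul_assoc y] at e
      rcases h.sq hx with b | b <;> rcases h.sq hy with c | c <;> simp [e, a', b, c, zz, z1] <;> rfl
  · have n := h.ne_mul
    rcases h.com hx hu with a | a <;> rcases h.com hy hu with b | b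
    · have : x * y * u = u * (x * y) := by rw [mul_assoc, b, ← mul_assoc, a, mul_assoc]
      simp [this, a, b]
    · have : x * y * u = u * (x * y) * z := by rw [mul_assoc, b, ← mul_assoc, ← mul_assoc, a]; group
      simp [this, a, b, h.z_ne]
    · have : x * y * u = u * (x * y) * z := by
        rw [mul_assoc, b, ← mul_assoc, a, mul_assoc _ z, ← h.comm hy]; group
      simp [this, a, b, h.z_ne]
    · have : x * y * u = u * (x * y) := by
        rw [mul_assoc, b, ← mul_assoc, ← mul_assoc, a, mul_assoc _ z, ← h.comm hy, mul_assoc, mul_assoc y, h.zz]; group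
      simp [this, a, b, h.z_ne]; rfl
theorem XS.sq_mulz {z : G} {R : Subgroup G} {w : ℕ} (h : XS z R w) {x : G} (hx : x ∈ R) : x * z * (x * z) = x * x := by
  rw [mul_assoc, ← mul_assoc z, ← h.comm hx, mul_assoc x z, h.zz, mul_one]

/-- `P v x` says that `x ∈ R` has the image `v` -/
structure XQ (z : G) (R : Subgroup G) (w : ℕ) {V : Type*} [AddCommGroup V] (q : V → ZMod 2) (π : Cz z →* AL V)
    (P : V → G → Prop) : Prop extends XS z R w where
  ker : ∀ h : Cz z, π h = 1 ↔ (h : G) ∈ R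
  mem : ∀ {v x}, P v x → x ∈ R
  ex : ∀ v, ∃ x, P v x
  ex' : ∀ x ∈ R, ∃ v, P v x
  mul : ∀ {v w x y}, P v x → P w y → P (v + w) (x * y)
  zero : P 0 1 ∧ P 0 z
  iff : ∀ {v x}, P v x → (x = 1 ∨ x = z ↔ v = 0)
  act : ∀ (h : Cz z) {v x}, P v x → P (π h v) (h * x * h⁻¹)
  sq' : ∀ {v x}, P v x → (x * x = 1 ↔ q v = 0)
  qf : QF q

theorem z2_ext {s t : ZMod 2} (h : s = 0 ↔ t = 0) : s = t := by revert s t; decide
theorem XS.exists_xq [Finite G] {z : G} {R : Subgroup G} {w : ℕ} (h : XS z R w) :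
    ∃ (V : Type u) (_ : AddCommGroup V) (q : V → ZMod 2) (π : Cz z →* AL V) (P : V → G → Prop),
      XQ z R w q π P ∧ Nat.card V = 2 ^ (2 * w) := by
  let Z : Subgroup R := (zpowers z).subgroupOf R
  have mZ : ∀ x : R, x ∈ Z ↔ x.1 = 1 ∨ x.1 = z := fun x => mem_zpowers_two h.z2
  have : Z.Normal := ⟨fun x hx g => (mZ _).2 (by
    rcases (mZ x).1 hx with a | a <;> simp [a, h.comm g.2])⟩
  have eq : ∀ x y : R, (x : R ⧸ Z) = y ↔ y.1 = x ∨ y.1 = x * z := fun x y => by
    rw [QuotientGroup.eq, mZ, coe_mul, coe_inv, inv_mul_eq_one, inv_mul_eq_iff_eq_mul, eq_comm]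
  let _ : CommGroup (R ⧸ Z) := { (inferInstance : Group (R ⧸ Z)) with
    mul_comm := fun a b => QuotientGroup.induction_on a fun x => QuotientGroup.induction_on b fun y =>
      (eq (x * y) (y * x)).2 (h.com y.2 x.2) }
  let c : Cz z → R →* R := fun k => ((MulAut.conj k.1).toMonoidHom.comp R.subtype).codRestrict R fun x => h.nrm _ k.2 _ x.2
  have hc : ∀ k, Z ≤ Z.comap (c k) := fun k x hx => (mZ _).2 (by
    change k.1 * x * k.1⁻¹ = 1 ∨ k.1 * x * k.1⁻¹ = z
    rcases (mZ x).1 hx with a | a <;> simp [a, mem_Cz'.1 k.2])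
  let _ : DistribMulAction (Cz z) (Additive (R ⧸ Z)) :=
    { smul := fun k v => Additive.ofMul (QuotientGroup.map Z Z (c k) (hc k) v.toMul)
      one_smul := fun v => QuotientGroup.induction_on v fun x => (eq _ _).2 (Or.inl (by simp [c]))
      mul_smul := fun k l v => QuotientGroup.induction_on v fun x => (eq _ _).2 (Or.inl (by simp [c, mul_assoc]))
      smul_zero := fun k => map_one (QuotientGroup.map Z Z (c k) (hc k))
      smul_add := fun k => map_mul (QuotientGroup.map Z Z (c k) (hc k)) }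
  obtain ⟨q, b, hq, hb, h1, h2⟩ := h.quad
  let q' : Additive (R ⧸ Z) → ZMod 2 := fun v => q (Quotient.out (s := QuotientGroup.leftRel Z) v.toMul).1
  have e1 : ∀ x : R, q' (Additive.ofMul (x : R ⧸ Z)) = q x := fun x => z2_ext (by
    rw [hq, hq]
    rcases (eq _ _).1 (QuotientGroup.out_eq' (x : R ⧸ Z)).symm with a | a
    · exact a ▸ Iff.rfl
    · change (Quotient.out (x : R ⧸ Z)).1 * (Quotient.out (x : R ⧸ Z)).1 = 1 ↔ _
      rw [a, h.sq_mulz x.2])
  have e2 : ∀ x y : R, pol q' (Additive.ofMul (x : R ⧸ Z)) (Additive.ofMul (y : R ⧸ Z)) = b x y := fun x y => by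
    rw [pol, ← ofMul_mul, ← QuotientGroup.mk_mul, e1, e1, e1, coe_mul, h1 _ x.2 _ y.2]
    linear_combination z2_two (q x) + z2_two (q y)
  have z0 : ∀ x : R, x.1 = 1 ∨ x.1 = z ↔ Additive.ofMul (x : R ⧸ Z) = 0 := fun x =>
    (mZ x).symm.trans (QuotientGroup.eq_one_iff x).symm
  refine ⟨Additive (R ⧸ Z), inferInstance, q', DistribMulAction.toModuleAut ℤ _,
    fun v x => ∃ hx : x ∈ R, v = Additive.ofMul ((⟨x, hx⟩ : R) : R ⧸ Z), { h with
      ker := fun k => ⟨fun a => h.mem_of_triv k.2 fun x hx =>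
          (eq ⟨x, hx⟩ (c k ⟨x, hx⟩)).1 (LinearEquiv.ext_iff.1 a (Additive.ofMul ((⟨x, hx⟩ : R) : R ⧸ Z))).symm,
        fun a => LinearEquiv.ext fun v => QuotientGroup.induction_on v fun x => ((eq x (c k x)).2 (h.conj a x.2)).symm⟩
      mem := fun a => a.1
      ex := fun v => QuotientGroup.induction_on v fun x => ⟨x, x.2, rfl⟩
      ex' := fun x hx => ⟨_, hx, rfl⟩
      mul := by rintro _ _ x y ⟨a, rfl⟩ ⟨b, rfl⟩; exact ⟨mul_mem a b, rfl⟩
      zero := ⟨⟨one_mem _, rfl⟩, h.zm, ((z0 ⟨z, h.zm⟩).1 (Or.inr rfl)).symm⟩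
      iff := by rintro _ x ⟨a, rfl⟩; exact z0 ⟨x, a⟩
      act := by rintro k _ x ⟨a, rfl⟩; exact ⟨h.nrm _ k.2 _ a, rfl⟩
      sq' := by rintro _ x ⟨a, rfl⟩; rw [e1, hq]
      qf := ⟨fun v => QuotientGroup.induction_on v fun x => (z0 (x * x)).1 (h.sq x.2), fun u v t =>
        QuotientGroup.induction_on u fun x => QuotientGroup.induction_on v fun y => QuotientGroup.induction_on t fun s =>
          (e2 (x * y) s).trans ((h2 _ x.2 _ y.2 _ s.2).trans (congrArg₂ _ (e2 x s).symm (e2 y s).symm)),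
        fun v => QuotientGroup.induction_on v fun x a => (z0 x).1 (h.cen' x.2 fun y hy =>
          (hb _ _).1 ((e2 x ⟨y, hy⟩).symm.trans (a _)))⟩ }, ?_⟩
  have := card_eq_card_quotient_mul_card_subgroup Z
  rw [H1.card_subgroupOf_of_le (zpowers_le.2 h.zm), Nat.card_zpowers, h.z2, h.card, pow_succ] at this
  exact (Nat.eq_of_mul_eq_mul_right two_pos this).symm

namespace XQ
variable {z : G} {R : Subgroup G} {w : ℕ} {V : Type*} [AddCommGroup V] {q : V → ZMod 2} {π : Cz z →* AL V}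
  {P : V → G → Prop} (h : XQ z R w q π P)
include h
theorem twist {W : Type*} [AddCommGroup W] (ψ : W ≃+ V) {π' : Cz z →* AL W} (a : ∀ k v, ψ (π' k v) = π k (ψ v))
    {q' : W → ZMod 2} (b : ∀ v, q (ψ v) = q' v) (c : QF q') : XQ z R w q' π' fun v x => P (ψ v) x :=
  { h.toXS with
    ker := fun k => by
      rw [← h.ker, LinearEquiv.ext_iff, LinearEquiv.ext_iff, ψ.surjective.forall]
      exact forall_congr' fun v => by rw [← a]; exact ψ.apply_eq_iff_eq.symm
    mem := h.mem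
    ex := fun v => h.ex _
    ex' := fun x hx => by obtain ⟨v, a⟩ := h.ex' x hx; exact ⟨ψ.symm v, by simpa using a⟩
    mul := fun a b => by simpa using h.mul a b
    zero := by simpa using h.zero
    iff := fun a => by rw [h.iff a, ψ.map_eq_zero_iff]
    act := fun k _ _ d => a _ _ ▸ h.act k d
    sq' := fun a => b _ ▸ h.sq' a
    qf := c }
theorem mulz {v : V} {x : G} (a : P v x) : P v (x * z) := by simpa using h.mul a h.zero.2
theorem iso (k : Cz z) (v : V) : q (π k v) = q v := by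
  obtain ⟨x, a⟩ := h.ex v
  refine z2_ext ?_
  rw [← h.sq' a, ← h.sq' (h.act k a), coe_inv, conj_mul, conj_eq_one_iff]
theorem act' {k : G} (hk : k ∈ Cz z) {v : V} {x : G} (a : P v x) : P (π ⟨k, hk⟩ v) (k * x * k⁻¹) := h.act ⟨k, hk⟩ a
theorem conj_ne_one (g : G) : g * z * g⁻¹ ≠ 1 := by rw [Ne, conj_eq_one_iff]; exact h.z_ne
theorem conj_sq (g : G) : g * z * g⁻¹ * (g * z * g⁻¹) = 1 := by rw [conj_mul, h.zz]; simp
/-- image of a subgroup of `G` -/
abbrev im (π : Cz z →* AL V) (A : Subgroup G) : Subgroup (AL V) := (A.subgroupOf (Cz z)).map π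
theorem card_im {A : Subgroup G} (hA : A ≤ Cz z) : Nat.card (im π A) * Nat.card (A ⊓ R : Subgroup G) = Nat.card A := by
  have := H1.card_map_mul_card_inf_ker (A.subgroupOf (Cz z)) π
  rw [H1.card_subgroupOf_of_le hA, show A.subgroupOf (Cz z) ⊓ π.ker = (A ⊓ R).subgroupOf (Cz z) from
    Subgroup.ext fun x => and_congr_right fun _ => h.ker x, H1.card_subgroupOf_of_le (inf_le_left.trans hA)] at this
  exact this

variable [Finite G]
theorem inv' {v : V} {x : G} (a : P v x) : P v x⁻¹ := by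
  rcases h.toXS.inv (h.mem a) with b | b <;> rw [b]
  exacts [a, h.mulz a]
theorem uniq {v u : V} {x y : G} (a : P v x) (b : P u y) : y = x ∨ y = x * z ↔ v = u := by
  rw [← (show v + u = 0 ↔ v = u from ⟨h.qf.eq_of, fun e => e ▸ h.qf.two v⟩), ← h.iff (h.mul (h.inv' a) b),
    inv_mul_eq_one, inv_mul_eq_iff_eq_mul, eq_comm]
theorem comm_iff {v u : V} {x y : G} (a : P v x) (b : P u y) : x * y = y * x ↔ pol q v u = 0 := by
  obtain ⟨r, c, hq, hb, h1, -⟩ := h.toXS.quad
  have k : ∀ {v x}, P v x → q v = r x := fun a => z2_ext ((h.sq' a).symm.trans (hq _).symm)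
  rw [← hb, pol, k (h.mul a b), k a, k b, h1 _ (h.mem a) _ (h.mem b), show r x + r y + c x y + r x + r y = c x y by
    linear_combination z2_two (r x) + z2_two (r y)]
theorem conj_of_P {v : V} {x y : G} (a : P v x) (b : P v y) (hv : v ≠ 0) : ∃ r ∈ R, r * x * r⁻¹ = y := by
  rcases (h.uniq a b).2 rfl with rfl | rfl
  · exact ⟨1, one_mem _, by simp⟩
  · rw [Ne, ← h.iff a, not_or] at hv
    exact h.exists_nc (h.mem a) hv.1 hv.2
theorem trans {v : V} {x y : G} (k : Cz z) (a : P v x) (b : P (π k v) y) (hv : v ≠ 0) : ∃ k : Cz z, k * x * k⁻¹ = y := by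
  obtain ⟨r, hr, d⟩ := h.conj_of_P (h.act k a) b (by simpa using hv)
  exact ⟨⟨r, h.le hr⟩ * k, by rw [← d]; simp [mul_assoc]⟩
theorem mem_X {v : V} {s : G} (a : P v s) (hv : v ≠ 0) : im π (Cz s) = π.range ⊓ stabilizer (AL V) v := by
  refine le_antisymm ?_ ?_
  · rintro _ ⟨x, hx, rfl⟩
    have := h.act x a
    rw [show (x : G) * s * (x⁻¹ : Cz z) = s from mem_Cz'.1 hx] at this
    exact ⟨⟨x, rfl⟩, (h.uniq this a).1 (Or.inl rfl)⟩
  · rintro _ ⟨⟨x, rfl⟩, b⟩
    replace b : π x v = v := b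
    have c := h.act x a
    rw [b] at c
    obtain ⟨r, hr, d⟩ := h.conj_of_P c a hv
    refine ⟨⟨r, h.le hr⟩ * x, mem_Cz'.2 ?_, by rw [map_mul, (h.ker _).2 hr, one_mul]⟩
    conv_rhs => rw [← d]
    simp [mul_assoc]
theorem E_le (g : G) : im π (MulAut.conj g • R) ≤ im π (Cz (g * z * g⁻¹)) :=
  map_mono (subgroupOf_mono _ (h.toXS.smul g).le)
theorem E_conj (g : G) {x y : AL V} (hx : x ∈ im π (Cz (g * z * g⁻¹))) (hy : y ∈ im π (MulAut.conj g • R)) :
    x * y * x⁻¹ ∈ im π (MulAut.conj g • R) := by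
  obtain ⟨x, hx, rfl⟩ := hx
  obtain ⟨y, hy, rfl⟩ := hy
  exact ⟨x * y * x⁻¹, (h.toXS.smul g).nrm x hx y hy, by simp⟩
theorem E_pg (g : G) : IsPGroup 2 (im π (MulAut.conj g • R)) := ((h.toXS.smul g).pg.comap_subtype).map π
variable {g : G} (hz : z ∈ MulAut.conj g • R) (hne : g * z * g⁻¹ ≠ z)
include hz hne
theorem card_E_mul :
    Nat.card (im π (MulAut.conj g • R)) * Nat.card (R ⊓ MulAut.conj g • R : Subgroup G) = 2 ^ (2 * w) := by
  have a := h.card_im (A := MulAut.conj g • R ⊓ Cz z) inf_le_right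
  rw [(h.toXS.smul g).card_cent hz h.z_ne hne.symm, im, inf_subgroupOf_right, inf_assoc,
    inf_eq_right.2 h.le, inf_comm] at a
  exact a
theorem card_D_le : Nat.card (R ⊓ MulAut.conj g • R : Subgroup G) ≤ 2 ^ (w + 1) :=
  h.card_le_of_comm inf_le_left ⟨h.zm, hz⟩ fun _ hx _ hy => h.inf_comm' (h.toXS.smul g) hne hx hy
end XQ

theorem fix_odd {Γ Ω : Type*} [Group Γ] [MulAction Γ Ω] {F T : Subgroup Γ} (hF : IsPGroup 2 F) {S : Set Ω} (ho : Odd S.ncard)
    (hS : ∀ f ∈ F, ∀ y ∈ S, f • y ∈ S) (hT : ∀ t ∈ T, ∀ f ∈ F, t * f * t⁻¹ ∈ F) {x : Ω} (tr : S ⊆ orbit T x) :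
    ∀ f ∈ F, ∀ y ∈ S, f • y = y := by
  let _ : MulAction F S :=
    { smul := fun f y => ⟨f.1 • y.1, hS _ f.2 _ y.2⟩
      one_smul := fun y => Subtype.ext (one_smul Γ y.1)
      mul_smul := fun a b y => Subtype.ext (mul_smul a.1 b.1 y.1) }
  have : Finite S := Set.finite_of_ncard_ne_zero ho.pos.ne'
  obtain ⟨y, hy⟩ := hF.nonempty_fixed_point_of_prime_not_dvd_card S (by rw [Nat.card_coe_set_eq]; exact ho.not_two_dvd_nat)
  intro f hf u hu
  obtain ⟨a, ha⟩ := tr y.2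
  obtain ⟨b, rfl⟩ := tr hu
  have : (a.1 * b.1⁻¹ * f * (a.1 * b.1⁻¹)⁻¹) • y.1 = y.1 :=
    congrArg Subtype.val (hy ⟨_, hT _ (mul_mem a.2 (inv_mem b.2)) f hf⟩)
  rw [← ha] at this
  change _ • a.1 • x = a.1 • x at this
  change f • b.1 • x = b.1 • x
  simpa [mul_smul, inv_smul_eq_iff] using this

end
end H13
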